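import Mathlib

namespace Groth.Agent.H3Ac

universe u

variable {A : Type u} [CommRing A] (I : Ideal A)

theorem mem_smul_top_pi {m : ℕ} (J : Ideal A) (x : Fin m → A) :
    x ∈ (J • ⊤ : Submodule A (Fin m → A)) ↔ ∀ i, x i ∈ J := by
  constructor
  · intro hx
    refine Submodule.smul_induction_on hx (fun r hr y _ i => ?_) (fun y z hy hz i => ?_)
    · exact J.mul_mem_right _ hr
    · exact J.add_mem (hy i) (hz i)
  · intro hx
    have h1 : x = ∑ i, x i • (Pi.single i 1 : Fin m → A) := by
      ext j
      simp [Finset.sum_apply, Pi.single_apply]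
    rw [h1]
    exact Submodule.sum_mem _ fun i _ => Submodule.smul_mem_smul (hx i) Submodule.mem_top

theorem pi_hausdorff [IsHausdorff I A] (m : ℕ) : IsHausdorff I (Fin m → A) := by
  refine ⟨fun x hx => ?_⟩
  ext i
  apply IsHausdorff.haus' (I := I) (x i)
  intro n
  have h1 := hx n
  rw [SModEq.zero, mem_smul_top_pi] at h1
  rw [SModEq.zero]
  simpa using h1 i

theorem pi_precomplete [IsPrecomplete I A] (m : ℕ) : IsPrecomplete I (Fin m → A) := by
  refine ⟨fun f hf => ?_⟩
  have hcoord : ∀ i : Fin m, ∃ L : A, ∀ n, f n i ≡ L [SMOD (I ^ n • ⊤ : Submodule A A)] := by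
    intro i
    apply IsPrecomplete.prec' (I := I) (fun n => f n i)
    intro a b hab
    have h1 := hf hab
    rw [SModEq.sub_mem, mem_smul_top_pi] at h1
    rw [SModEq.sub_mem]
    simpa using h1 i
  choose L hL using hcoord
  refine ⟨L, fun n => ?_⟩
  rw [SModEq.sub_mem, mem_smul_top_pi]
  intro i
  have h2 := hL i n
  rw [SModEq.sub_mem] at h2
  simpa using h2

theorem summand_complete {M Q : Type*} [AddCommGroup M] [Module A M] [AddCommGroup Q]
    [Module A Q] [IsAdicComplete I M]
    (s : Q →ₗ[A] M) (p : M →ₗ[A] Q) (hps : p ∘ₗ s = LinearMap.id) : IsAdicComplete I Q := by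
  have hid : ∀ x, p (s x) = x := fun x => LinearMap.congr_fun hps x
  have hH : IsHausdorff I Q := by
    refine ⟨fun x hx => ?_⟩
    have h1 : s x = 0 := by
      apply IsHausdorff.haus' (I := I) (s x)
      intro n
      rw [SModEq.zero]
      exact Submodule.smul_top_le_comap_smul_top (I ^ n) s (SModEq.zero.mp (hx n))
    rw [← hid x, h1, map_zero]
  have hP : IsPrecomplete I Q := by
    refine ⟨fun f hf => ?_⟩
    obtain ⟨L, hL⟩ := IsPrecomplete.prec' (I := I) (fun n => s (f n)) (by
      intro a b hab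
      rw [SModEq.sub_mem, ← map_sub]
      exact Submodule.smul_top_le_comap_smul_top (I ^ a) s (SModEq.sub_mem.mp (hf hab)))
    refine ⟨p L, fun n => ?_⟩
    rw [SModEq.sub_mem]
    have h2 : f n - p L = p (s (f n) - L) := by
      rw [map_sub, hid]
    rw [h2]
    exact Submodule.smul_top_le_comap_smul_top (I ^ n) p (SModEq.sub_mem.mp (hL n))
  exact (isAdicComplete_iff I Q).mpr ⟨hH, hP⟩

theorem proj_complete [IsAdicComplete I A] (Q : Type u) [AddCommGroup Q] [Module A Q]
    [Module.Finite A Q] [Module.Projective A Q] : IsAdicComplete I Q := by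
  obtain ⟨m, p, hp⟩ := Module.Finite.exists_fin' A Q
  obtain ⟨s, hs⟩ := Module.projective_lifting_property p LinearMap.id hp
  haveI : IsAdicComplete I (Fin m → A) :=
    (isAdicComplete_iff I _).mpr ⟨pi_hausdorff I m, pi_precomplete I m⟩
  exact summand_complete I s p hs

theorem main17864 (A : Type u) [CommRing A] (I : Ideal A)
    [IsAdicComplete I A] (P Q : Type u) [AddCommGroup P] [Module A P]
    [AddCommGroup Q] [Module A Q] [Module.Finite A Q] [Module.Projective A Q] :
    (∀ f f' : P →ₗ[A] Q, (∀ n : ℕ, f.reduceModIdeal (I ^ n) = f'.reduceModIdeal (I ^ n)) → f = f') ∧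
    (∀ g : ∀ n : ℕ, P ⧸ (I ^ n • ⊤ : Submodule A P) →ₗ[A] Q ⧸ (I ^ n • ⊤ : Submodule A Q),
      (∀ n : ℕ, AdicCompletion.transitionMap I Q (Nat.le_succ n) ∘ₗ g (n + 1) =
        g n ∘ₗ AdicCompletion.transitionMap I P (Nat.le_succ n)) →
      ∃ f : P →ₗ[A] Q, ∀ n : ℕ, f.reduceModIdeal (I ^ n) = g n) := by
  haveI := proj_complete I Q
  constructor
  · intro f f' h
    ext x
    rw [IsHausdorff.eq_iff_smodEq (I := I)]
    intro n
    have h1 := LinearMap.congr_fun (h n) (Submodule.Quotient.mk x)
    rw [LinearMap.reduceModIdeal_apply, LinearMap.reduceModIdeal_apply] at h1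
    exact h1
  · intro g hg
    have hstep : ∀ (n : ℕ) (x : P) (q : Q),
        g (n + 1) (Submodule.Quotient.mk x) = Submodule.Quotient.mk q →
        g n (Submodule.Quotient.mk x) = Submodule.Quotient.mk q := by
      intro n x q hq
      have h1 := LinearMap.congr_fun (hg n) (Submodule.Quotient.mk x)
      simp only [LinearMap.comp_apply] at h1
      rw [hq] at h1
      exact h1.symm
    have hcompat : ∀ {m n : ℕ} (hle : m ≤ n),
        Submodule.factorPow I Q hle ∘ₗ (g n ∘ₗ Submodule.mkQ (I ^ n • ⊤ : Submodule A P)) =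
          g m ∘ₗ Submodule.mkQ (I ^ m • ⊤ : Submodule A P) := by
      intro m n hle
      ext x
      simp only [LinearMap.comp_apply, Submodule.mkQ_apply]
      induction n, hle using Nat.le_induction with
      | base =>
        obtain ⟨q, hq⟩ := Submodule.Quotient.mk_surjective _ (g m (Submodule.Quotient.mk x))
        rw [← hq]
        rfl
      | succ n hmn ih =>
        obtain ⟨q, hq⟩ := Submodule.Quotient.mk_surjective _ (g (n + 1) (Submodule.Quotient.mk x))
        have h2 := hstep n x q hq.symm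
        rw [h2] at ih
        rw [← hq]
        exact ih
    refine ⟨IsAdicComplete.lift I (fun n => g n ∘ₗ Submodule.mkQ (I ^ n • ⊤ : Submodule A P))
      hcompat, fun n => ?_⟩
    apply LinearMap.ext
    intro y
    obtain ⟨x, rfl⟩ := Submodule.Quotient.mk_surjective _ y
    change (LinearMap.reduceModIdeal (I ^ n) _) (Submodule.Quotient.mk x) = _
    rw [LinearMap.reduceModIdeal_apply, IsAdicComplete.mk_lift]
    rfl

end Groth.Agent.H3Ac
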