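import Mathlib

set_option autoImplicit false
universe u v w

namespace Groth.Agent.H3Cpl

section
variable {R : Type u} [CommRing R] (I : Ideal R)

theorem precomplete_of_surjective {F : Type v} {M : Type w} [AddCommGroup F] [Module R F]
    [AddCommGroup M] [Module R M] (π : F →ₗ[R] M) (hπ : Function.Surjective π)
    [IsPrecomplete I F] : IsPrecomplete I M := by
  rw [← AdicCompletion.of_surjective_iff]
  intro y
  obtain ⟨z, rfl⟩ := AdicCompletion.map_surjective I hπ y
  obtain ⟨x, rfl⟩ := AdicCompletion.of_surjective I F z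
  exact ⟨π x, (AdicCompletion.map_of I π x).symm⟩

theorem mem_smul_top_pi {ι : Type v} [Fintype ι] [DecidableEq ι] {M : Type w} [AddCommGroup M]
    [Module R M] (n : ℕ) (v : ι → M)
    (hv : ∀ t, v t ∈ I ^ n • (⊤ : Submodule R M)) : v ∈ I ^ n • (⊤ : Submodule R (ι → M)) := by
  have h1 : v = ∑ t, LinearMap.single R (fun _ : ι => M) t (v t) := by
    funext s
    simp [Finset.sum_apply, Pi.single_apply]
  rw [h1]
  refine Submodule.sum_mem _ fun t _ => ?_
  have h2 : Submodule.map (LinearMap.single R (fun _ : ι => M) t) (I ^ n • (⊤ : Submodule R M)) ≤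
      I ^ n • (⊤ : Submodule R (ι → M)) := by
    rw [Submodule.map_smul'']
    exact Submodule.smul_mono (le_refl _) le_top
  exact h2 ⟨_, hv t, rfl⟩

theorem map_mem_smul_top {M : Type v} {N : Type w} [AddCommGroup M] [Module R M] [AddCommGroup N]
    [Module R N] (φ : M →ₗ[R] N) (n : ℕ) (x : M) (hx : x ∈ I ^ n • (⊤ : Submodule R M)) :
    φ x ∈ I ^ n • (⊤ : Submodule R N) := by
  have h2 : Submodule.map φ (I ^ n • (⊤ : Submodule R M)) ≤ I ^ n • (⊤ : Submodule R N) := by
    rw [Submodule.map_smul'']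
    exact Submodule.smul_mono (le_refl _) le_top
  exact h2 ⟨x, hx, rfl⟩

theorem precomplete_pi {ι : Type v} [Finite ι] {M : Type w} [AddCommGroup M]
    [Module R M] [IsPrecomplete I M] : IsPrecomplete I (ι → M) := by
  classical
  haveI := Fintype.ofFinite ι
  refine ⟨fun f hf => ?_⟩
  have h1 : ∀ t : ι, ∃ L : M, ∀ n, f n t ≡ L [SMOD (I ^ n • ⊤ : Submodule R M)] := by
    intro t
    apply IsPrecomplete.prec' (I := I)
    intro m n hmn
    have := hf hmn
    rw [SModEq.sub_mem] at this ⊢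
    exact map_mem_smul_top I (LinearMap.proj t) m _ this
  choose L hL using h1
  refine ⟨L, fun n => ?_⟩
  rw [SModEq.sub_mem]
  apply mem_smul_top_pi
  intro t
  have := hL t n
  rw [SModEq.sub_mem] at this
  exact this

end

section
variable {A : Type u} [CommRing A]

theorem precomplete_of_killed (I J : Ideal A) [IsPrecomplete J (A ⧸ I)] (N : Type v)
    [AddCommGroup N] [Module A N] [Module.Finite A N] (hN : ∀ a ∈ I, ∀ x : N, a • x = 0) :
    IsPrecomplete J N := by
  obtain ⟨r, π, hπ⟩ := Module.Finite.exists_fin' A N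
  let ψ : Fin r → (A ⧸ I) →ₗ[A] N := fun i =>
    Submodule.liftQ I (LinearMap.toSpanSingleton A N (π (Pi.single i 1))) (by
      intro a ha
      rw [LinearMap.mem_ker, LinearMap.toSpanSingleton_apply]
      exact hN a ha _)
  let φ : (Fin r → A ⧸ I) →ₗ[A] N := ∑ i, (ψ i) ∘ₗ (LinearMap.proj i)
  have hφ : Function.Surjective φ := by
    intro x
    obtain ⟨v, rfl⟩ := hπ x
    refine ⟨fun i => Ideal.Quotient.mk I (v i), ?_⟩
    have hv : v = ∑ j, v j • (Pi.single j 1 : Fin r → A) := by
      funext k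
      simp [Finset.sum_apply, Pi.single_apply]
    conv_rhs => rw [hv, map_sum]
    simp only [φ, LinearMap.sum_apply, LinearMap.comp_apply, LinearMap.proj_apply, map_smul]
    refine Finset.sum_congr rfl fun i _ => ?_
    show (ψ i) (Submodule.Quotient.mk (v i)) = _
    simp only [ψ, Submodule.liftQ_apply, LinearMap.toSpanSingleton_apply]
  haveI : IsPrecomplete J (Fin r → A ⧸ I) := precomplete_pi J
  exact precomplete_of_surjective J φ hφ

theorem le_jacobson_of_complete (I J : Ideal A) [IsAdicComplete I A]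
    [IsAdicComplete (Ideal.map (Ideal.Quotient.mk I) J) (A ⧸ I)] : J ≤ Ideal.jacobson ⊥ := by
  intro j hj
  rw [Ideal.mem_jacobson_bot]
  intro y
  have hI : I ≤ Ideal.jacobson ⊥ := IsAdicComplete.le_jacobson_bot I
  haveI := isLocalHom_of_le_jacobson_bot I hI
  apply isUnit_of_map_unit (Ideal.Quotient.mk I)
  have h1 : Ideal.Quotient.mk I j ∈ Ideal.jacobson (⊥ : Ideal (A ⧸ I)) :=
    IsAdicComplete.le_jacobson_bot (Ideal.map (Ideal.Quotient.mk I) J) (Ideal.mem_map_of_mem _ hj)
  rw [Ideal.mem_jacobson_bot] at h1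
  have := h1 (Ideal.Quotient.mk I y)
  rw [map_add, map_mul, map_one]
  exact this

theorem mem_of_forall_mem_sup [IsNoetherianRing A] (J K : Ideal A) (hJ : J ≤ Ideal.jacobson ⊥)
    (y : A) (h : ∀ n : ℕ, y ∈ J ^ n ⊔ K) : y ∈ K := by
  have h1 := Ideal.iInf_pow_smul_eq_bot_of_le_jacobson (M := A ⧸ K) J hJ
  have h2 : Submodule.Quotient.mk (p := K) y ∈ (⨅ i : ℕ, J ^ i • (⊤ : Submodule A (A ⧸ K))) := by
    rw [Submodule.mem_iInf]
    intro n
    obtain ⟨j, hj, k, hk, rfl⟩ := Submodule.mem_sup.mp (h n)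
    have : Submodule.Quotient.mk (p := K) (j + k) = K.mkQ j := by
      rw [Submodule.Quotient.mk_add, (Submodule.Quotient.mk_eq_zero K).mpr hk, add_zero]
      rfl
    rw [this]
    apply map_mem_smul_top J K.mkQ n j
    rw [smul_eq_mul, Ideal.mul_top]
    exact hj
  rw [h1, Submodule.mem_bot, Submodule.Quotient.mk_eq_zero] at h2
  exact h2

end

end Groth.Agent.H3Cpl
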