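import Mathlib
import Groth.Agent.Lib.helper3.AlB

set_option autoImplicit false
universe u v w w₁ w₂

namespace Groth.Agent.H3AdL

open Groth.Agent.H3Cpl

section
variable {A : Type u} [CommRing A] (I : Ideal A)

theorem hausdorff_pi {ι : Type v} [Finite ι] {M : Type w} [AddCommGroup M]
    [Module A M] [IsHausdorff I M] : IsHausdorff I (ι → M) := by
  refine ⟨fun x hx => ?_⟩
  funext t
  apply IsHausdorff.haus' (I := I)
  intro n
  have := hx n
  rw [SModEq.sub_mem] at this ⊢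
  rw [sub_zero] at this ⊢
  exact map_mem_smul_top I (LinearMap.proj t) n _ this

theorem lift_of_summand {n : ℕ} {Mn : Type v} [AddCommGroup Mn] [Module A Mn] {m : ℕ}
    (i : Mn →ₗ[A] (Fin m → A ⧸ I ^ (n + 1))) (r : (Fin m → A ⧸ I ^ (n + 1)) →ₗ[A] Mn)
    (hri : r ∘ₗ i = LinearMap.id)
    {X : Type w₁} {Y : Type w₂} [AddCommGroup X] [Module A X] [AddCommGroup Y] [Module A Y]
    (q : X →ₗ[A] Y) (hq : Function.Surjective q) (hX : ∀ a ∈ I ^ (n + 1), ∀ x : X, a • x = 0)
    (h : Mn →ₗ[A] Y) : ∃ h' : Mn →ₗ[A] X, q ∘ₗ h' = h := by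
  classical
  have hx : ∀ j : Fin m, ∃ x : X, q x = h (r (Pi.single j 1)) := fun j => hq _
  choose x hx using hx
  let ψ : Fin m → (A ⧸ I ^ (n + 1)) →ₗ[A] X := fun j =>
    Submodule.liftQ (I ^ (n + 1)) (LinearMap.toSpanSingleton A X (x j)) (by
      intro a ha
      rw [LinearMap.mem_ker, LinearMap.toSpanSingleton_apply]
      exact hX a ha _)
  let g : (Fin m → A ⧸ I ^ (n + 1)) →ₗ[A] X := ∑ j, (ψ j) ∘ₗ (LinearMap.proj j)
  have hg : q ∘ₗ g = h ∘ₗ r := by
    apply LinearMap.pi_ext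
    intro j c
    obtain ⟨a, rfl⟩ := Submodule.Quotient.mk_surjective _ c
    have h1 : g (Pi.single j (Submodule.Quotient.mk a)) = a • x j := by
      simp only [g, LinearMap.sum_apply, LinearMap.comp_apply, LinearMap.proj_apply]
      rw [Finset.sum_eq_single j]
      · rw [Pi.single_eq_same]
        simp only [ψ, Submodule.liftQ_apply, LinearMap.toSpanSingleton_apply]
      · intro b _ hb
        rw [Pi.single_eq_of_ne hb, map_zero]
      · intro hj
        exact absurd (Finset.mem_univ j) hj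
    have h2 : (Pi.single j (Submodule.Quotient.mk a) : Fin m → A ⧸ I ^ (n + 1)) =
        a • Pi.single j 1 := by
      rw [← Pi.single_smul]
      congr 1
      show Submodule.Quotient.mk a = a • Submodule.Quotient.mk (1 : A)
      rw [← Submodule.Quotient.mk_smul, smul_eq_mul, mul_one]
    rw [LinearMap.comp_apply, h1, map_smul, hx, LinearMap.comp_apply, h2, map_smul, map_smul]
  refine ⟨g ∘ₗ i, ?_⟩
  rw [← LinearMap.comp_assoc, hg, LinearMap.comp_assoc, hri, LinearMap.comp_id]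

theorem lift_through {L : Type w} [AddCommGroup L] [Module A L] {n : ℕ} {Mn : Type v}
    [AddCommGroup Mn] [Module A Mn] (πn : L →ₗ[A] Mn) (hsurj : Function.Surjective πn)
    (hker : LinearMap.ker πn = I ^ (n + 1) • (⊤ : Submodule A L)) {m : ℕ}
    (i : Mn →ₗ[A] (Fin m → A ⧸ I ^ (n + 1))) (r : (Fin m → A ⧸ I ^ (n + 1)) →ₗ[A] Mn)
    (hri : r ∘ₗ i = LinearMap.id)
    {X : Type w₁} {Y : Type w₂} [AddCommGroup X] [Module A X] [AddCommGroup Y] [Module A Y]
    (q : X →ₗ[A] Y) (hq : Function.Surjective q) (hX : ∀ a ∈ I ^ (n + 1), ∀ x : X, a • x = 0)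
    (h : L →ₗ[A] Y) : ∃ h' : L →ₗ[A] X, q ∘ₗ h' = h := by
  have hY : ∀ a ∈ I ^ (n + 1), ∀ y : Y, a • y = 0 := by
    intro a ha y
    obtain ⟨x, rfl⟩ := hq y
    rw [← map_smul, hX a ha, map_zero]
  have hle : LinearMap.ker πn ≤ LinearMap.ker h := by
    rw [hker]
    intro l hl
    rw [LinearMap.mem_ker]
    refine Submodule.smul_induction_on hl (fun a ha m _ => ?_) (fun u v hu hv => ?_)
    · rw [map_smul]
      exact hY a ha _
    · rw [map_add, hu, hv, add_zero]
  let h' : Mn →ₗ[A] Y :=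
    (LinearMap.ker πn).liftQ h hle ∘ₗ (πn.quotKerEquivOfSurjective hsurj).symm.toLinearMap
  have hh' : h' ∘ₗ πn = h := by
    refine LinearMap.ext fun l => ?_
    have h1 : (πn.quotKerEquivOfSurjective hsurj).symm (πn l) = (LinearMap.ker πn).mkQ l := by
      rw [LinearEquiv.symm_apply_eq]
      rfl
    simp only [h', LinearMap.comp_apply, LinearEquiv.coe_coe, h1, Submodule.mkQ_apply,
      Submodule.liftQ_apply]
  obtain ⟨g, hg⟩ := lift_of_summand I i r hri q hq hX h'
  exact ⟨g ∘ₗ πn, by rw [← LinearMap.comp_assoc, hg, hh']⟩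

end

end Groth.Agent.H3AdL
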