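import Mathlib
import Groth.Agent.Lib.helper3.AlC

set_option autoImplicit false
universe u v w w₁ w₂

namespace Groth.Agent.H3AdL

open Groth.Agent.H3Cpl

section
variable {A : Type u} [CommRing A] (I : Ideal A)
  {M : ℕ → Type v} [∀ n, AddCommGroup (M n)] [∀ n, Module A (M n)]
  (f : ∀ n, M (n + 1) →ₗ[A] M n)
  {L : Type w} [AddCommGroup L] [Module A L] (π : ∀ n, L →ₗ[A] M n)
  {F : Type u} [AddCommGroup F] [Module A F] (φ : F →ₗ[A] L)

theorem le_ker_of_killed (hk : ∀ n, I ^ (n + 1) • (⊤ : Submodule A (M n)) = ⊥) (n : ℕ) :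
    I ^ (n + 1) • (⊤ : Submodule A F) ≤ LinearMap.ker (π n ∘ₗ φ) := by
  intro z hz
  rw [LinearMap.mem_ker]
  have := map_mem_smul_top I (π n ∘ₗ φ) _ _ hz
  rw [hk, Submodule.mem_bot] at this
  exact this

/-- the induced map on the quotient -/
noncomputable def phib (hk : ∀ n, I ^ (n + 1) • (⊤ : Submodule A (M n)) = ⊥) (n : ℕ) :
    (F ⧸ (I ^ (n + 1) • ⊤ : Submodule A F)) →ₗ[A] M n :=
  Submodule.liftQ _ (π n ∘ₗ φ) (le_ker_of_killed I π φ hk n)

theorem phib_mk (hk : ∀ n, I ^ (n + 1) • (⊤ : Submodule A (M n)) = ⊥) (n : ℕ) (z : F) :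
    phib I π φ hk n (Submodule.Quotient.mk z) = π n (φ z) := rfl

theorem killed_quot (n : ℕ) : ∀ a ∈ I ^ (n + 1),
    ∀ x : F ⧸ (I ^ (n + 1) • ⊤ : Submodule A F), a • x = 0 := by
  intro a ha x
  obtain ⟨z, rfl⟩ := Submodule.Quotient.mk_surjective _ x
  rw [← Submodule.Quotient.mk_smul, Submodule.Quotient.mk_eq_zero]
  exact Submodule.smul_mem_smul ha trivial

include f in
theorem step_lemma (hk : ∀ n, I ^ (n + 1) • (⊤ : Submodule A (M n)) = ⊥)
    (hker : ∀ n, LinearMap.ker (f n) = I ^ (n + 1) • (⊤ : Submodule A (M (n + 1))))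
    (hπ : ∀ n, f n ∘ₗ π (n + 1) = π n)
    (hsurj : ∀ n, Function.Surjective (π n ∘ₗ φ))
    (hsurjπ : ∀ n, Function.Surjective (π n))
    (hkerπ : ∀ n, LinearMap.ker (π n) = I ^ (n + 1) • (⊤ : Submodule A L))
    (n : ℕ) {m : ℕ}
    (i : M (n + 1) →ₗ[A] (Fin m → A ⧸ I ^ (n + 1 + 1)))
    (r : (Fin m → A ⧸ I ^ (n + 1 + 1)) →ₗ[A] M (n + 1))
    (hri : r ∘ₗ i = LinearMap.id)
    (σ : L →ₗ[A] F ⧸ (I ^ (n + 1) • ⊤ : Submodule A F))
    (hσ : phib I π φ hk n ∘ₗ σ = π n) :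
    ∃ σ' : L →ₗ[A] F ⧸ (I ^ (n + 1 + 1) • ⊤ : Submodule A F),
      phib I π φ hk (n + 1) ∘ₗ σ' = π (n + 1) ∧
      Submodule.factorPow I F (Nat.le_succ (n + 1)) ∘ₗ σ' = σ := by
  have hπ' : ∀ n (l : L), f n (π (n + 1) l) = π n l := fun n l =>
    LinearMap.congr_fun (hπ n) l
  set ρ := Submodule.factorPow I F (Nat.le_succ (n + 1)) with hρ
  have hρsurj : Function.Surjective ρ := Submodule.factor_surjective _
  have hcomm : ∀ x, f n (phib I π φ hk (n + 1) x) = phib I π φ hk n (ρ x) := by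
    intro x
    obtain ⟨z, rfl⟩ := Submodule.Quotient.mk_surjective _ x
    rw [phib_mk, hπ']
    rfl
  obtain ⟨t, ht⟩ := lift_through I (π (n + 1)) (hsurjπ (n + 1)) (hkerπ (n + 1)) i r hri ρ hρsurj
    (killed_quot I (n + 1)) σ
  let δ : L →ₗ[A] M (n + 1) := phib I π φ hk (n + 1) ∘ₗ t - π (n + 1)
  have hδ : ∀ l, δ l ∈ LinearMap.ker (f n) := by
    intro l
    rw [LinearMap.mem_ker]
    simp only [δ, LinearMap.sub_apply, LinearMap.comp_apply, map_sub]
    rw [hcomm, hπ']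
    have h1 : ρ (t l) = σ l := LinearMap.congr_fun ht l
    rw [h1]
    have h2 : phib I π φ hk n (σ l) = π n l := LinearMap.congr_fun hσ l
    rw [h2, sub_self]
  let Kx : Submodule A (F ⧸ (I ^ (n + 1 + 1) • ⊤ : Submodule A F)) := LinearMap.ker ρ
  let Y : Submodule A (M (n + 1)) := LinearMap.ker (f n)
  have hKY : ∀ x ∈ Kx, phib I π φ hk (n + 1) x ∈ Y := by
    intro x hx
    rw [LinearMap.mem_ker, hcomm, LinearMap.mem_ker.mp hx, map_zero]
  let q : Kx →ₗ[A] Y := (phib I π φ hk (n + 1)).restrict hKY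
  have hq : Function.Surjective q := by
    rintro ⟨y, hy⟩
    have hy' : y ∈ I ^ (n + 1) • (⊤ : Submodule A (M (n + 1))) := by
      rw [← hker]
      exact hy
    have h2 : I ^ (n + 1) • (⊤ : Submodule A (M (n + 1))) =
        Submodule.map (π (n + 1) ∘ₗ φ) (I ^ (n + 1) • (⊤ : Submodule A F)) := by
      rw [Submodule.map_smul'', Submodule.map_top, LinearMap.range_eq_top.mpr (hsurj (n + 1))]
    rw [h2] at hy'
    obtain ⟨k, hk', hkeq⟩ := hy'
    have hmem : (Submodule.Quotient.mk k : F ⧸ (I ^ (n + 1 + 1) • ⊤ : Submodule A F)) ∈ Kx := by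
      rw [LinearMap.mem_ker]
      show Submodule.Quotient.mk k = (0 : F ⧸ (I ^ (n + 1) • ⊤ : Submodule A F))
      rw [Submodule.Quotient.mk_eq_zero]
      exact hk'
    refine ⟨⟨_, hmem⟩, ?_⟩
    apply Subtype.ext
    exact hkeq
  have hKx : ∀ a ∈ I ^ (n + 1 + 1), ∀ x : Kx, a • x = 0 := by
    intro a ha x
    apply Subtype.ext
    exact killed_quot I (n + 1) a ha x.1
  let δ' : L →ₗ[A] Y := LinearMap.codRestrict Y δ hδ
  obtain ⟨d, hd⟩ := lift_through I (π (n + 1)) (hsurjπ (n + 1)) (hkerπ (n + 1)) i r hri q hq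
    hKx δ'
  refine ⟨t - Kx.subtype ∘ₗ d, ?_, ?_⟩
  · refine LinearMap.ext fun l => ?_
    have h1 : phib I π φ hk (n + 1) ((d l : Kx) : F ⧸ (I ^ (n + 1 + 1) • ⊤ : Submodule A F)) =
        δ l := by
      have := LinearMap.congr_fun hd l
      exact congrArg Subtype.val this
    simp only [LinearMap.comp_apply, LinearMap.sub_apply, map_sub, Submodule.subtype_apply, h1]
    simp only [δ, LinearMap.sub_apply, LinearMap.comp_apply]
    abel
  · refine LinearMap.ext fun l => ?_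
    simp only [LinearMap.comp_apply, LinearMap.sub_apply, map_sub, Submodule.subtype_apply]
    have h1 : ρ ((d l : Kx) : F ⧸ (I ^ (n + 1 + 1) • ⊤ : Submodule A F)) = 0 :=
      LinearMap.mem_ker.mp (d l).2
    rw [h1, sub_zero]
    exact LinearMap.congr_fun ht l

end

end Groth.Agent.H3AdL
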