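import Mathlib
import Groth.Agent.Lib.helper3.AlD

set_option autoImplicit false
universe u v w

namespace Groth.Agent.H3AdL

open Groth.Agent.H3Cpl

theorem main7853 (A : Type u) [CommRing A] (I : Ideal A) [IsAdicComplete I A]
    (M : ℕ → Type v) [∀ n, AddCommGroup (M n)] [∀ n, Module A (M n)]
    (f : ∀ n, M (n + 1) →ₗ[A] M n) (hf : ∀ n, Function.Surjective (f n))
    (hk : ∀ n, I ^ (n + 1) • (⊤ : Submodule A (M n)) = ⊥)
    (hker : ∀ n, LinearMap.ker (f n) = I ^ (n + 1) • (⊤ : Submodule A (M (n + 1))))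
    (L : Type v) [AddCommGroup L] [Module A L] (π : ∀ n, L →ₗ[A] M n)
    (hπ : ∀ n, f n ∘ₗ π (n + 1) = π n)
    (hinj : ∀ x : L, (∀ n, π n x = 0) → x = 0)
    (hlift : ∀ y : (∀ n, M n), (∀ n, f n (y (n + 1)) = y n) → ∃ x : L, ∀ n, π n x = y n)
    (hproj : ∀ n, ∃ (m : ℕ) (i : M n →ₗ[A] (Fin m → A ⧸ I ^ (n + 1))) (r : (Fin m → A ⧸ I ^ (n + 1)) →ₗ[A] M n),
      r ∘ₗ i = LinearMap.id) :
    Module.Finite A L ∧ Module.Projective A L ∧
      ∀ n, Function.Surjective (π n) ∧ LinearMap.ker (π n) = I ^ (n + 1) • (⊤ : Submodule A L) := by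
  haveI : Module.Finite A (M 0) := by
    obtain ⟨m, i, r, hri⟩ := hproj 0
    have : Function.Surjective r := fun y => ⟨i y, LinearMap.congr_fun hri y⟩
    exact Module.Finite.of_surjective r this
  obtain ⟨r, φ, hφ, hsurj, hkerπ⟩ := adic_limit I f hf hk hker π hπ hinj hlift
  have hsurjπ : ∀ n, Function.Surjective (π n) := fun n y => by
    obtain ⟨z, hz⟩ := hsurj n y
    exact ⟨φ z, hz⟩
  refine ⟨Module.Finite.of_surjective φ hφ, ?_, fun n => ⟨hsurjπ n, hkerπ n⟩⟩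
  haveI : IsPrecomplete I (Fin r → A) := precomplete_pi I
  haveI : IsHausdorff I (Fin r → A) := hausdorff_pi I
  haveI : IsAdicComplete I (Fin r → A) := { }
  choose m i rr hri using hproj
  -- the first section
  have h0 : ∃ σ₀ : L →ₗ[A] (Fin r → A) ⧸ (I ^ (0 + 1) • ⊤ : Submodule A (Fin r → A)),
      phib I π φ hk 0 ∘ₗ σ₀ = π 0 := by
    refine lift_through I (π 0) (hsurjπ 0) (hkerπ 0) (i 0) (rr 0) (hri 0) (phib I π φ hk 0) ?_
      (killed_quot I 0) (π 0)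
    intro y
    obtain ⟨z, hz⟩ := hsurj 0 y
    exact ⟨Submodule.Quotient.mk z, hz⟩
  obtain ⟨σ₀, hσ₀⟩ := h0
  let S : ℕ → Type (max u v) := fun n =>
    {σ : L →ₗ[A] (Fin r → A) ⧸ (I ^ (n + 1) • ⊤ : Submodule A (Fin r → A)) //
      phib I π φ hk n ∘ₗ σ = π n}
  have hstep : ∀ n (s : S n), ∃ σ' : L →ₗ[A] (Fin r → A) ⧸ (I ^ (n + 1 + 1) • ⊤ : Submodule A (Fin r → A)),
      phib I π φ hk (n + 1) ∘ₗ σ' = π (n + 1) ∧
      Submodule.factorPow I (Fin r → A) (Nat.le_succ (n + 1)) ∘ₗ σ' = s.1 := fun n s =>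
    step_lemma I f π φ hk hker hπ hsurj hsurjπ hkerπ n (i (n + 1)) (rr (n + 1)) (hri (n + 1)) s.1 s.2
  let σs : ∀ n, S n := fun n => Nat.rec (motive := S) ⟨σ₀, hσ₀⟩
    (fun n s => ⟨Classical.choose (hstep n s), (Classical.choose_spec (hstep n s)).1⟩) n
  have hcompat : ∀ n, Submodule.factorPow I (Fin r → A) (Nat.le_succ (n + 1)) ∘ₗ (σs (n + 1)).1 =
      (σs n).1 := fun n => (Classical.choose_spec (hstep n (σs n))).2
  have ha : StrictMono (fun n : ℕ => n + 1) := fun a b h => Nat.succ_lt_succ h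
  let s : L →ₗ[A] (Fin r → A) := IsAdicComplete.StrictMono.lift I ha (fun n => (σs n).1)
    (fun {n} => hcompat n)
  have hs : φ ∘ₗ s = LinearMap.id := by
    refine LinearMap.ext fun x => ?_
    rw [LinearMap.id_apply, ← sub_eq_zero]
    apply hinj
    intro n
    rw [map_sub, sub_eq_zero, LinearMap.comp_apply, ← phib_mk I π φ hk n (s x)]
    have h1 : (Submodule.Quotient.mk (s x) : (Fin r → A) ⧸ (I ^ (n + 1) • ⊤ : Submodule A (Fin r → A))) =
        (σs n).1 x := IsAdicComplete.StrictMono.mk_lift I ha (fun n => (σs n).1) (fun {n} => hcompat n) x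
    rw [h1]
    exact LinearMap.congr_fun (σs n).2 x
  exact Module.Projective.of_split s φ hs

end Groth.Agent.H3AdL
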