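import Mathlib

set_option autoImplicit false
universe u v w

namespace Groth.Agent.H3AR

section
variable {A : Type u} [CommRing A] (I : Ideal A) {M N : Type u} [AddCommGroup M] [Module A M]
  [AddCommGroup N] [Module A N]

theorem map_mem_pow_add (δ : M →ₗ[A] N) (e : ℕ) (h : ∀ y, δ y ∈ I ^ e • (⊤ : Submodule A N))
    (k : ℕ) (y : M) (hy : y ∈ I ^ k • (⊤ : Submodule A M)) :
    δ y ∈ I ^ (k + e) • (⊤ : Submodule A N) := by
  refine Submodule.smul_induction_on hy (fun a ha m _ => ?_) (fun x z hx hz => ?_)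
  · rw [map_smul, pow_add, Submodule.mul_smul]
    exact Submodule.smul_mem_smul ha (h m)
  · rw [map_add]
    exact Submodule.add_mem _ hx hz

end

theorem main6909 {A : Type u} [CommRing A] [IsNoetherianRing A] (I : Ideal A)
    (hI : I ≤ Ideal.jacobson (⊥ : Ideal A)) {L M N : Type u} [AddCommGroup L] [Module A L]
    [AddCommGroup M] [Module A M] [Module.Finite A M] [AddCommGroup N] [Module A N]
    (f f' : L →ₗ[A] M) (g g' : M →ₗ[A] N) (c : ℕ) (hgf' : g'.comp f' = 0)
    (hf : (∀ n : ℕ, c ≤ n → LinearMap.range f ⊓ (I ^ n • (⊤ : Submodule A M)) ≤ Submodule.map f (I ^ (n - c) • (⊤ : Submodule A L))))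
    (hg : (∀ n : ℕ, c ≤ n → LinearMap.range g ⊓ (I ^ n • (⊤ : Submodule A N)) ≤ Submodule.map g (I ^ (n - c) • (⊤ : Submodule A M))))
    (hex : Function.Exact f g)
    (hff' : ∀ x : L, f x - f' x ∈ I ^ (c + 1) • (⊤ : Submodule A M))
    (hgg' : ∀ y : M, g y - g' y ∈ I ^ (c + 1) • (⊤ : Submodule A N)) :
    (∀ n : ℕ, c ≤ n → LinearMap.range g' ⊓ (I ^ n • (⊤ : Submodule A N)) ≤ Submodule.map g' (I ^ (n - c) • (⊤ : Submodule A M))) ∧
    Function.Exact f' g' := by
  have hdg : ∀ k y, y ∈ I ^ k • (⊤ : Submodule A M) →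
      g y - g' y ∈ I ^ (k + (c + 1)) • (⊤ : Submodule A N) := fun k y hy =>
    map_mem_pow_add I (g - g') (c + 1) (fun y => by simpa using hgg' y) k y hy
  have hdf : ∀ k x, x ∈ I ^ k • (⊤ : Submodule A L) →
      f x - f' x ∈ I ^ (k + (c + 1)) • (⊤ : Submodule A M) := fun k x hx =>
    map_mem_pow_add I (f - f') (c + 1) (fun y => by simpa using hff' y) k x hx
  have hg'f' : ∀ x, g' (f' x) = 0 := fun x => LinearMap.congr_fun hgf' x
  have hmono : ∀ {P : Type u} [AddCommGroup P] [Module A P] {a b : ℕ}, a ≤ b →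
      I ^ b • (⊤ : Submodule A P) ≤ I ^ a • (⊤ : Submodule A P) := fun h =>
    Submodule.smul_mono_left (Ideal.pow_le_pow_right h)
  -- the key step
  have key : ∀ m : ℕ, ∀ y ∈ I ^ m • (⊤ : Submodule A M), g y ∈ I ^ (m + c + 1) • (⊤ : Submodule A N) →
      ∃ x ∈ I ^ (m - c) • (⊤ : Submodule A L), y - f' x ∈ I ^ (m + 1) • (⊤ : Submodule A M) := by
    intro m y hy hgy
    have h1 : g y ∈ LinearMap.range g ⊓ I ^ (m + c + 1) • (⊤ : Submodule A N) := ⟨⟨y, rfl⟩, hgy⟩
    obtain ⟨y₁, hy₁, hgy₁⟩ := hg (m + c + 1) (by omega) h1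
    have hy₁' : y₁ ∈ I ^ (m + 1) • (⊤ : Submodule A M) := by
      have : m + c + 1 - c = m + 1 := by omega
      rwa [this] at hy₁
    have hker : g (y - y₁) = 0 := by rw [map_sub, hgy₁, sub_self]
    obtain ⟨x₀, hx₀⟩ := (hex (y - y₁)).mp hker
    have hyy : y - y₁ ∈ I ^ m • (⊤ : Submodule A M) :=
      Submodule.sub_mem _ hy (hmono (Nat.le_succ m) hy₁')
    obtain ⟨x, hx, hfx⟩ : ∃ x ∈ I ^ (m - c) • (⊤ : Submodule A L), f x = y - y₁ := by
      by_cases hmc : c ≤ m
      · have h2 : y - y₁ ∈ LinearMap.range f ⊓ I ^ m • (⊤ : Submodule A M) := ⟨⟨x₀, hx₀⟩, hyy⟩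
        obtain ⟨x, hx, hfx⟩ := hf m hmc h2
        exact ⟨x, hx, hfx⟩
      · refine ⟨x₀, ?_, hx₀⟩
        have : m - c = 0 := by omega
        rw [this, pow_zero, Ideal.one_eq_top, Submodule.top_smul]
        trivial
    refine ⟨x, hx, ?_⟩
    have h3 : y - f' x = y₁ + (f x - f' x) := by rw [hfx]; abel
    rw [h3]
    refine Submodule.add_mem _ hy₁' ?_
    exact hmono (by omega) (hdf (m - c) x hx)
  constructor
  · intro n hn
    induction n, hn using Nat.le_induction with
    | base =>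
      rintro z ⟨⟨y, rfl⟩, -⟩
      refine ⟨y, ?_, rfl⟩
      rw [Nat.sub_self, pow_zero, Ideal.one_eq_top, Submodule.top_smul]
      trivial
    | succ n hn ih =>
      rintro z ⟨⟨y, rfl⟩, hz⟩
      obtain ⟨y₁, hy₁, hgy₁⟩ := ih ⟨⟨y, rfl⟩, hmono (Nat.le_succ n) hz⟩
      have hgy₁' : g y₁ ∈ I ^ (n - c + c + 1) • (⊤ : Submodule A N) := by
        have h4 : g y₁ = g' y₁ + (g y₁ - g' y₁) := by abel
        rw [h4]
        refine Submodule.add_mem _ ?_ ?_
        · rw [hgy₁]
          have : n - c + c + 1 = n + 1 := by omega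
          rw [this]
          exact hz
        · exact hdg (n - c) y₁ hy₁
      obtain ⟨x, hx, hyx⟩ := key (n - c) y₁ hy₁ hgy₁'
      refine ⟨y₁ - f' x, ?_, ?_⟩
      · have : n + 1 - c = n - c + 1 := by omega
        rw [this]
        exact hyx
      · rw [map_sub, hg'f', sub_zero, hgy₁]
  · intro y
    constructor
    · intro hy
      -- `y ∈ ker g'`
      have hstep : ∀ m : ℕ, ∃ x : L, y - f' x ∈ I ^ m • (⊤ : Submodule A M) := by
        intro m
        induction m with
        | zero =>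
          refine ⟨0, ?_⟩
          rw [pow_zero, Ideal.one_eq_top, Submodule.top_smul]
          trivial
        | succ m ih =>
          obtain ⟨x₁, hx₁⟩ := ih
          have hk : g' (y - f' x₁) = 0 := by rw [map_sub, hy, hg'f', sub_zero]
          have hgk : g (y - f' x₁) ∈ I ^ (m + c + 1) • (⊤ : Submodule A N) := by
            have h5 : g (y - f' x₁) = g (y - f' x₁) - g' (y - f' x₁) := by rw [hk, sub_zero]
            rw [h5]
            have := hdg m (y - f' x₁) hx₁
            rwa [show m + (c + 1) = m + c + 1 by omega] at this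
          obtain ⟨x₂, -, hx₂⟩ := key m (y - f' x₁) hx₁ hgk
          refine ⟨x₁ + x₂, ?_⟩
          rw [map_add, ← sub_sub]
          exact hx₂
      have hq : (LinearMap.range f').mkQ y ∈ (⨅ i : ℕ, I ^ i • ⊤ : Submodule A (M ⧸ LinearMap.range f')) := by
        rw [Submodule.mem_iInf]
        intro m
        obtain ⟨x, hx⟩ := hstep m
        have h6 : (LinearMap.range f').mkQ y = (LinearMap.range f').mkQ (y - f' x) := by
          rw [map_sub]
          have : (LinearMap.range f').mkQ (f' x) = 0 := by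
            rw [Submodule.mkQ_apply, Submodule.Quotient.mk_eq_zero]
            exact ⟨x, rfl⟩
          rw [this, sub_zero]
        rw [h6]
        have h7 : Submodule.map (LinearMap.range f').mkQ (I ^ m • (⊤ : Submodule A M)) ≤
            I ^ m • (⊤ : Submodule A (M ⧸ LinearMap.range f')) := by
          rw [Submodule.map_smul'']
          exact Submodule.smul_mono (le_refl _) le_top
        exact h7 ⟨_, hx, rfl⟩
      rw [Ideal.iInf_pow_smul_eq_bot_of_le_jacobson I hI, Submodule.mem_bot, Submodule.mkQ_apply,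
        Submodule.Quotient.mk_eq_zero] at hq
      exact hq
    · rintro ⟨x, rfl⟩
      exact hg'f' x

end Groth.Agent.H3AR
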