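import Mathlib
import Groth.Agent.Lib.helper3.ArB

set_option autoImplicit false
universe u v w

namespace Groth.Agent.H3AR

section
variable {A : Type u} [CommRing A] (I : Ideal A) {N : Type u} [AddCommGroup N] [Module A N]

theorem val_mem_of_mem_smul_top {P : Type u} [AddCommGroup P] [Module A P] (n : ℕ) (l : P →ₗ[A] N)
    (hl : l ∈ I ^ n • (⊤ : Submodule A (P →ₗ[A] N))) (x : P) : l x ∈ I ^ n • (⊤ : Submodule A N) := by
  refine Submodule.smul_induction_on hl (fun a ha m _ => ?_) (fun u v hu hv => ?_)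
  · rw [LinearMap.smul_apply]
    exact Submodule.smul_mem_smul ha trivial
  · rw [LinearMap.add_apply]
    exact Submodule.add_mem _ hu hv

theorem pi_mem_smul_top {T : Type u} [Fintype T] [DecidableEq T] (n : ℕ) (v : T → N)
    (hv : ∀ t, v t ∈ I ^ n • (⊤ : Submodule A N)) : v ∈ I ^ n • (⊤ : Submodule A (T → N)) := by
  have h1 : v = ∑ t, LinearMap.single A (fun _ : T => N) t (v t) := by
    funext s
    simp [Finset.sum_apply, Pi.single_apply]
  rw [h1]
  refine Submodule.sum_mem _ fun t _ => ?_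
  have h2 : Submodule.map (LinearMap.single A (fun _ : T => N) t) (I ^ n • (⊤ : Submodule A N)) ≤
      I ^ n • (⊤ : Submodule A (T → N)) := by
    rw [Submodule.map_smul'']
    exact Submodule.smul_mono (le_refl _) le_top
  exact h2 ⟨_, hv t, rfl⟩

theorem hom_mem_smul_top {r : ℕ} (n : ℕ) (l : (Fin r → A) →ₗ[A] N)
    (hl : ∀ x, l x ∈ I ^ n • (⊤ : Submodule A N)) :
    l ∈ I ^ n • (⊤ : Submodule A ((Fin r → A) →ₗ[A] N)) := by
  have h1 : l = ∑ j, (LinearMap.smulRightₗ (LinearMap.proj j : (Fin r → A) →ₗ[A] A) :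
      N →ₗ[A] (Fin r → A) →ₗ[A] N) (l (Pi.single j 1)) := by
    refine LinearMap.ext fun x => ?_
    rw [LinearMap.sum_apply]
    simp only [LinearMap.smulRightₗ_apply, LinearMap.smulRight_apply, LinearMap.proj_apply]
    have hx : x = ∑ j, x j • (Pi.single j 1 : Fin r → A) := by
      funext k
      simp [Finset.sum_apply, Pi.single_apply]
    conv_lhs => rw [hx, map_sum]
    simp_rw [map_smul]
  rw [h1]
  refine Submodule.sum_mem _ fun j _ => ?_
  have h2 : Submodule.map (LinearMap.smulRightₗ (LinearMap.proj j : (Fin r → A) →ₗ[A] A) :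
      N →ₗ[A] (Fin r → A) →ₗ[A] N) (I ^ n • (⊤ : Submodule A N)) ≤
      I ^ n • (⊤ : Submodule A ((Fin r → A) →ₗ[A] N)) := by
    rw [Submodule.map_smul'']
    exact Submodule.smul_mono (le_refl _) le_top
  exact h2 ⟨_, hl _, rfl⟩

end

theorem main7136 (A : Type u) [CommRing A] [IsNoetherianRing A]
    (I : Ideal A) (M N : Type u) [AddCommGroup M] [Module A M] [Module.Finite A M] [AddCommGroup N] [Module A N]
    [Module.Finite A N] :
    let Nq : ℕ → Submodule A N := fun n => I ^ n • ⊤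
    let pr : ∀ n k : ℕ, n ≤ k → (N ⧸ Nq k) →ₗ[A] (N ⧸ Nq n) :=
      fun n k hnk => Submodule.mapQ (Nq k) (Nq n) (LinearMap.id : N →ₗ[A] N) (Submodule.smul_mono_left (Ideal.pow_le_pow_right hnk))
    let red : ∀ n : ℕ, (M →ₗ[A] N) → (M →ₗ[A] N ⧸ Nq n) := fun n φ => (Nq n).mkQ ∘ₗ φ
    (∀ n : ℕ, ∃ m : ℕ, n ≤ m ∧ ∀ (k : ℕ) (hmk : m ≤ k) (hnm : n ≤ m) (ψ : M →ₗ[A] N ⧸ Nq m),
        ∃ ψ' : M →ₗ[A] N ⧸ Nq k, pr n k (hnm.trans hmk) ∘ₗ ψ' = pr n m hnm ∘ₗ ψ) ∧
    ∃ c : ℕ, ∀ n : ℕ,
      (∀ φ : M →ₗ[A] N, red n φ = 0 → ∀ a ∈ I ^ c, a • φ ∈ (I ^ n • ⊤ : Submodule A (M →ₗ[A] N))) ∧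
      (∀ (ψ : M →ₗ[A] N ⧸ Nq n), ∀ a ∈ I ^ c, ∃ φ : M →ₗ[A] N, red n φ = a • ψ) := by
  intro Nq pr red
  classical
  obtain ⟨r, π, hπ⟩ := Module.Finite.exists_fin' A M
  obtain ⟨T, hT⟩ : (LinearMap.ker π).FG := IsNoetherian.noetherian _
  let E := (Fin r → A) →ₗ[A] N
  let β : E →ₗ[A] (T → N) :=
    LinearMap.pi fun t => (LinearMap.applyₗ (t : Fin r → A) : E →ₗ[A] N)
  have hβ : ∀ (l : E) (t : T), β l t = l t := fun l t => rfl
  -- descending
  have hdesc : ∀ l : E, β l = 0 → ∃ φ : M →ₗ[A] N, φ ∘ₗ π = l := by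
    intro l hl
    have hle : LinearMap.ker π ≤ LinearMap.ker l := by
      rw [← hT, Submodule.span_le]
      intro t ht
      have := congrFun hl ⟨t, ht⟩
      exact this
    refine ⟨(LinearMap.ker π).liftQ l hle ∘ₗ (π.quotKerEquivOfSurjective hπ).symm.toLinearMap, ?_⟩
    refine LinearMap.ext fun x => ?_
    have h1 : (π.quotKerEquivOfSurjective hπ).symm (π x) = (LinearMap.ker π).mkQ x := by
      rw [LinearEquiv.symm_apply_eq]
      rfl
    simp only [LinearMap.comp_apply, LinearEquiv.coe_coe, h1, Submodule.mkQ_apply,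
      Submodule.liftQ_apply]
  -- lifting
  have hlift : ∀ (n : ℕ) (ψ : M →ₗ[A] N ⧸ Nq n), ∃ l : E, (Nq n).mkQ ∘ₗ l = ψ ∘ₗ π := by
    intro n ψ
    exact Module.projective_lifting_property (Nq n).mkQ (ψ ∘ₗ π) (Submodule.mkQ_surjective _)
  have hmkQ0 : ∀ (n : ℕ) (l : E), l ∈ I ^ n • (⊤ : Submodule A E) → (Nq n).mkQ ∘ₗ l = 0 := by
    intro n l hl
    refine LinearMap.ext fun x => ?_
    rw [LinearMap.comp_apply, LinearMap.zero_apply, Submodule.mkQ_apply, Submodule.Quotient.mk_eq_zero]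
    exact val_mem_of_mem_smul_top I n l hl x
  have hβmem : ∀ (n : ℕ) (l : E), (∀ x ∈ LinearMap.ker π, l x ∈ Nq n) →
      β l ∈ I ^ n • (⊤ : Submodule A (T → N)) := by
    intro n l h
    apply pi_mem_smul_top
    intro t
    rw [hβ]
    apply h
    rw [← hT]
    exact Submodule.subset_span t.2
  have hkerl : ∀ (n : ℕ) (ψ : M →ₗ[A] N ⧸ Nq n) (l : E), (Nq n).mkQ ∘ₗ l = ψ ∘ₗ π →
      ∀ x ∈ LinearMap.ker π, l x ∈ Nq n := by
    intro n ψ l hl x hx
    have := LinearMap.congr_fun hl x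
    rw [LinearMap.comp_apply, LinearMap.comp_apply, LinearMap.mem_ker.mp hx, map_zero,
      Submodule.mkQ_apply, Submodule.Quotient.mk_eq_zero] at this
    exact this
  have hrange : ∀ n : ℕ, I ^ n • LinearMap.range β = Submodule.map β (I ^ n • (⊤ : Submodule A E)) := by
    intro n
    rw [Submodule.map_smul'', Submodule.map_top]
  obtain ⟨k₁, h1a, h1b⟩ := ar_both I (LinearMap.range β)
  obtain ⟨k₂, h2a, -⟩ := ar_both I (LinearMap.ker β)
  have hprmk : ∀ (n k : ℕ) (h : n ≤ k) (y : N), pr n k h ((Nq k).mkQ y) = (Nq n).mkQ y := by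
    intro n k h y
    rfl
  constructor
  · intro n
    refine ⟨n + k₁, by omega, fun k hmk hnm ψ => ?_⟩
    obtain ⟨l, hl⟩ := hlift (n + k₁) ψ
    have h3 := h1b k₁ (le_refl _) n ⟨hβmem (n + k₁) l (hkerl _ ψ l hl), ⟨l, rfl⟩⟩
    rw [hrange] at h3
    obtain ⟨l', hl', hβl'⟩ := h3
    obtain ⟨φ, hφ⟩ := hdesc (l - l') (by rw [map_sub, hβl', sub_self])
    refine ⟨(Nq k).mkQ ∘ₗ φ, ?_⟩
    refine LinearMap.ext fun m => ?_
    obtain ⟨x, rfl⟩ := hπ m
    have e1 : φ (π x) = l x - l' x := by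
      have := LinearMap.congr_fun hφ x
      rw [LinearMap.comp_apply, LinearMap.sub_apply] at this
      exact this
    have e2 : ψ (π x) = (Nq (n + k₁)).mkQ (l x) := by
      have := LinearMap.congr_fun hl x
      simpa using this.symm
    rw [LinearMap.comp_apply, LinearMap.comp_apply, LinearMap.comp_apply,
      hprmk n k (hnm.trans hmk), e2, hprmk n (n + k₁) hnm, e1, map_sub]
    have e3 : (Nq n).mkQ (l' x) = 0 := by
      rw [Submodule.mkQ_apply, Submodule.Quotient.mk_eq_zero]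
      exact val_mem_of_mem_smul_top I n l' hl' x
    rw [e3, sub_zero]
  · refine ⟨k₁ + k₂, fun n => ⟨?_, ?_⟩⟩
    · intro φ hφ a ha
      have hval : ∀ m, φ m ∈ Nq n := by
        intro m
        have := LinearMap.congr_fun hφ m
        simp only [red, LinearMap.comp_apply, LinearMap.zero_apply, Submodule.mkQ_apply,
          Submodule.Quotient.mk_eq_zero] at this
        exact this
      have h4 : φ ∘ₗ π ∈ I ^ n • (⊤ : Submodule A E) :=
        hom_mem_smul_top I n (φ ∘ₗ π) (fun x => hval (π x))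
      have h5 : φ ∘ₗ π ∈ LinearMap.ker β := by
        rw [LinearMap.mem_ker]
        funext t
        rw [hβ]
        have : (t : Fin r → A) ∈ LinearMap.ker π := by
          rw [← hT]
          exact Submodule.subset_span t.2
        show φ (π t) = 0
        rw [LinearMap.mem_ker.mp this, map_zero]
      have h6 := h2a (k₁ + k₂) (by omega) n a ha (φ ∘ₗ π) ⟨h4, h5⟩
      -- transport along precomposition with `π`
      let ι : (M →ₗ[A] N) →ₗ[A] E := LinearMap.lcomp A N π
      have hι : ∀ φ', ι φ' = φ' ∘ₗ π := fun φ' => rfl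
      have hιinj : Function.Injective ι := by
        intro φ₁ φ₂ h
        refine LinearMap.ext fun m => ?_
        obtain ⟨x, rfl⟩ := hπ m
        exact LinearMap.congr_fun h x
      have hιrange : LinearMap.ker β ≤ LinearMap.range ι := by
        intro l hl
        obtain ⟨φ', hφ'⟩ := hdesc l (LinearMap.mem_ker.mp hl)
        exact ⟨φ', hφ'⟩
      have h7 : I ^ n • LinearMap.ker β ≤ Submodule.map ι (I ^ n • (⊤ : Submodule A (M →ₗ[A] N))) := by
        rw [Submodule.map_smul'', Submodule.map_top]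
        exact Submodule.smul_mono (le_refl _) hιrange
      obtain ⟨φ'', hφ'', hφ''eq⟩ := h7 h6
      have : φ'' = a • φ := by
        apply hιinj
        rw [hφ''eq, hι, LinearMap.smul_comp]
      rw [← this]
      exact hφ''
    · intro ψ a ha
      obtain ⟨l, hl⟩ := hlift n ψ
      have h3 := h1a (k₁ + k₂) (by omega) n a ha (β l)
        ⟨hβmem n l (hkerl _ ψ l hl), ⟨l, rfl⟩⟩
      rw [hrange] at h3
      obtain ⟨l', hl', hβl'⟩ := h3
      obtain ⟨φ, hφ⟩ := hdesc (a • l - l') (by rw [map_sub, map_smul, hβl', sub_self])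
      refine ⟨φ, ?_⟩
      refine LinearMap.ext fun m => ?_
      obtain ⟨x, rfl⟩ := hπ m
      have e1 : φ (π x) = a • l x - l' x := by
        have := LinearMap.congr_fun hφ x
        rw [LinearMap.comp_apply, LinearMap.sub_apply, LinearMap.smul_apply] at this
        exact this
      have e2 : ψ (π x) = (Nq n).mkQ (l x) := by
        have := LinearMap.congr_fun hl x
        simpa using this.symm
      have e3 : (Nq n).mkQ (l' x) = 0 := by
        rw [Submodule.mkQ_apply, Submodule.Quotient.mk_eq_zero]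
        exact val_mem_of_mem_smul_top I n l' hl' x
      simp only [red, LinearMap.comp_apply, LinearMap.smul_apply]
      rw [e1, e2, map_sub, map_smul, e3, sub_zero]

end Groth.Agent.H3AR
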