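import Mathlib

set_option autoImplicit false
universe u v w

namespace Groth.Agent.H3Art

open TensorProduct

section nak

variable {R : Type u} [CommRing R] {M : Type v} [AddCommGroup M] [Module R M]

lemma nil_nakayama (I : Ideal R) (n : ℕ) (hI : I ^ n = ⊥) (N₀ : Submodule R M)
    (h : ⊤ ≤ N₀ ⊔ I • (⊤ : Submodule R M)) : N₀ = ⊤ := by
  have key : ∀ k : ℕ, (⊤ : Submodule R M) ≤ N₀ ⊔ (I ^ k) • (⊤ : Submodule R M) := by
    intro k
    induction k with
    | zero => simp
    | succ k ih =>
      calc (⊤ : Submodule R M) ≤ N₀ ⊔ I • (⊤ : Submodule R M) := h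
        _ ≤ N₀ ⊔ I • (N₀ ⊔ (I ^ k) • (⊤ : Submodule R M)) := by
            apply sup_le_sup_left
            exact Submodule.smul_mono le_rfl ih
        _ ≤ N₀ ⊔ (I ^ (k + 1)) • (⊤ : Submodule R M) := by
            rw [Submodule.smul_sup, ← Submodule.mul_smul, ← pow_succ']
            apply sup_le
            · exact le_sup_left
            · apply sup_le
              · exact le_trans Submodule.smul_le_right le_sup_left
              · exact le_sup_right
  have := key n
  rw [hI, Submodule.bot_smul, sup_bot_eq] at this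
  exact top_le_iff.mp this

end nak

section sside

variable {S : Type u} [CommRing S] {F' : Type v} {N : Type w} [AddCommGroup F'] [Module S F']
  [AddCommGroup N] [Module S N]

lemma inj_of_flat_nil (𝔞 : Ideal S) (n : ℕ) (h𝔞 : 𝔞 ^ n = ⊥) (φ' : F' →ₗ[S] N)
    (hsurj : Function.Surjective φ') [Module.Flat S N]
    (hker : LinearMap.ker φ' ≤ 𝔞 • (⊤ : Submodule S F')) : Function.Injective φ' := by
  have hinj := LinearMap.lTensor_injective_of_exact_of_flat φ' hsurj (LinearMap.ker φ').subtype
    (Submodule.subtype_injective _) (LinearMap.exact_subtype_ker_map φ') (S ⧸ 𝔞)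
  have h1 : ∀ y : LinearMap.ker φ', (1 : S ⧸ 𝔞) ⊗ₜ[S] y = 0 := by
    intro y
    apply hinj
    rw [map_zero, LinearMap.lTensor_tmul, Submodule.subtype_apply]
    have hy : (y : F') ∈ 𝔞 • (⊤ : Submodule S F') := hker y.2
    refine Submodule.smul_induction_on hy ?_ ?_
    · intro a ha f _
      rw [← TensorProduct.smul_tmul, Algebra.smul_def, mul_one]
      have : algebraMap S (S ⧸ 𝔞) a = 0 := Ideal.Quotient.eq_zero_iff_mem.mpr ha
      rw [this, zero_tmul]
    · intro a b ha hb
      rw [tmul_add, ha, hb, add_zero]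
  have h2 : (⊤ : Submodule S (LinearMap.ker φ')) ≤ ⊥ ⊔ 𝔞 • ⊤ := by
    intro y _
    have := congrArg (TensorProduct.quotTensorEquivQuotSMul (LinearMap.ker φ') 𝔞) (h1 y)
    rw [map_zero] at this
    have h3 : TensorProduct.quotTensorEquivQuotSMul (LinearMap.ker φ') 𝔞
        ((1 : S ⧸ 𝔞) ⊗ₜ[S] y) = Submodule.Quotient.mk y := by
      have := TensorProduct.quotTensorEquivQuotSMul_mk_tmul (M := LinearMap.ker φ') 𝔞 1 y
      rwa [one_smul] at this
    rw [h3, Submodule.Quotient.mk_eq_zero] at this
    exact Submodule.mem_sup_right this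
  have h4 := nil_nakayama 𝔞 n h𝔞 (⊥ : Submodule S (LinearMap.ker φ')) h2
  rw [← LinearMap.ker_eq_bot]
  rw [Submodule.eq_bot_iff]
  intro y hy
  have : (⟨y, hy⟩ : LinearMap.ker φ') ∈ (⊥ : Submodule S (LinearMap.ker φ')) := by
    rw [h4]; trivial
  rw [Submodule.mem_bot] at this
  exact congrArg Subtype.val this

end sside

end Groth.Agent.H3Art
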