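import Mathlib
import Groth.Agent.Lib.helper3.ArtA

set_option autoImplicit false
universe u v w

namespace Groth.Agent.H3Art

open TensorProduct IsLocalRing

variable {R : Type u} [CommRing R] [IsLocalRing R] {S : Type u} [CommRing S] [Algebra R S]
  {M : Type u} [AddCommGroup M] [Module R M] {N : Type u} [AddCommGroup N] [Module R N]
  [Module S N] [IsScalarTower R S N]

theorem free_of_local (n : ℕ) (hnil : (maximalIdeal R) ^ n = ⊥)
    (hinj : Function.Injective (algebraMap R S))
    (g : M →ₗ[R] N) (hg : IsBaseChange S g) [Module.Flat S N] : Module.Free R M := by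
  classical
  set m := maximalIdeal R with hm
  letI : Field (R ⧸ m) := Ideal.Quotient.field m
  set V := M ⧸ (m • (⊤ : Submodule R M)) with hV
  let B := Module.Basis.ofVectorSpace (R ⧸ m) V
  let I := Module.Basis.ofVectorSpaceIndex (R ⧸ m) V
  have hx : ∀ i : I, ∃ y : M, (m • (⊤ : Submodule R M)).mkQ y = B i := fun i =>
    Submodule.mkQ_surjective _ (B i)
  choose x hx using hx
  let φ : (I →₀ R) →ₗ[R] M := Finsupp.linearCombination R x
  -- surjectivity of φ
  have hφs : Function.Surjective φ := by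
    rw [← LinearMap.range_eq_top]
    apply nil_nakayama m n hnil
    have h1 : Submodule.map (m • (⊤ : Submodule R M)).mkQ (LinearMap.range φ) = ⊤ := by
      rw [Finsupp.range_linearCombination, Submodule.map_span, ← Set.range_comp]
      have : ((m • (⊤ : Submodule R M)).mkQ ∘ x) = B := funext hx
      rw [this]
      have h2 := Submodule.restrictScalars_span R (R ⧸ m) Ideal.Quotient.mk_surjective
        (Set.range B)
      rw [← h2, B.span_eq]
      rfl
    have h3 := Submodule.comap_map_eq (m • (⊤ : Submodule R M)).mkQ (LinearMap.range φ)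
    rw [h1, Submodule.comap_top, Submodule.ker_mkQ] at h3
    exact h3.le
  set 𝔞 : Ideal S := m.map (algebraMap R S) with h𝔞
  have h𝔞n : 𝔞 ^ n = ⊥ := by
    rw [h𝔞, ← Ideal.map_pow, hnil, Ideal.map_bot]
  -- the comparison map κ → S/𝔞
  let c : (R ⧸ m) →ₗ[R] (S ⧸ 𝔞) := Submodule.liftQ m (Algebra.linearMap R (S ⧸ 𝔞)) (by
    intro r hr
    rw [LinearMap.mem_ker, Algebra.linearMap_apply, IsScalarTower.algebraMap_apply R S (S ⧸ 𝔞)]
    exact Ideal.Quotient.eq_zero_iff_mem.mpr (Ideal.mem_map_of_mem _ hr))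
  have hc1 : c 1 = 1 := by
    have : c (Submodule.Quotient.mk (1 : R)) = Algebra.linearMap R (S ⧸ 𝔞) 1 :=
      Submodule.liftQ_apply _ _ _
    rw [Algebra.linearMap_apply, map_one] at this
    exact this
  let ψ : I → (M →ₗ[R] (R ⧸ m)) := fun j =>
    ((B.coord j).restrictScalars R) ∘ₗ (m • (⊤ : Submodule R M)).mkQ
  have hψ : ∀ i j, ψ j (x i) = if i = j then 1 else 0 := by
    intro i j
    simp only [ψ, LinearMap.comp_apply, LinearMap.restrictScalars_apply, hx]
    rw [Module.Basis.coord_apply, Module.Basis.repr_self, Finsupp.single_apply]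
  let ψ' : I → (N →ₗ[S] (S ⧸ 𝔞)) := fun j => hg.lift (c ∘ₗ ψ j)
  have hψ' : ∀ i j, ψ' j (g (x i)) = if i = j then 1 else 0 := by
    intro i j
    simp only [ψ']
    rw [hg.lift_eq, LinearMap.comp_apply, hψ]
    split_ifs
    · exact hc1
    · exact map_zero c
  let φ' : (I →₀ S) →ₗ[S] N := Finsupp.linearCombination S (fun i => g (x i))
  let ι : (I →₀ R) →ₗ[R] (I →₀ S) := Finsupp.mapRange.linearMap (Algebra.linearMap R S)
  have hcomm : ∀ f, φ' (ι f) = g (φ f) := by
    intro f
    have : (φ'.restrictScalars R) ∘ₗ ι = g ∘ₗ φ := by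
      apply Finsupp.lhom_ext'
      intro i
      apply LinearMap.ext_ring
      simp [φ', ι, φ]
    exact LinearMap.congr_fun this f
  have hφ's : Function.Surjective φ' := by
    intro y
    refine hg.inductionOn y (fun y => ∃ f, φ' f = y) ⟨0, map_zero _⟩ ?_ ?_ ?_
    · intro z
      obtain ⟨f, rfl⟩ := hφs z
      exact ⟨ι f, hcomm f⟩
    · rintro s y ⟨f, rfl⟩
      exact ⟨s • f, map_smul _ _ _⟩
    · rintro y₁ y₂ ⟨f₁, rfl⟩ ⟨f₂, rfl⟩
      exact ⟨f₁ + f₂, map_add _ _ _⟩
  have hcoord : ∀ j, (ψ' j) ∘ₗ φ' = (Ideal.Quotient.mkₐ S 𝔞).toLinearMap ∘ₗ (Finsupp.lapply j) := by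
    intro j
    apply Finsupp.lhom_ext'
    intro i
    apply LinearMap.ext_ring
    simp only [LinearMap.comp_apply, Finsupp.lsingle_apply, φ', Finsupp.linearCombination_single,
      one_smul, hψ', Finsupp.lapply_apply, Finsupp.single_apply, AlgHom.toLinearMap_apply]
    split_ifs <;> simp
  have hker : LinearMap.ker φ' ≤ 𝔞 • (⊤ : Submodule S (I →₀ S)) := by
    intro y hy
    have hyj : ∀ j, y j ∈ 𝔞 := by
      intro j
      have := LinearMap.congr_fun (hcoord j) y
      simp only [LinearMap.comp_apply, LinearMap.mem_ker.mp hy, map_zero, Finsupp.lapply_apply,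
        AlgHom.toLinearMap_apply, Ideal.Quotient.mkₐ_eq_mk] at this
      exact Ideal.Quotient.eq_zero_iff_mem.mp this.symm
    rw [← Finsupp.sum_single y]
    apply Submodule.sum_mem
    intro j _
    have : Finsupp.single j (y j) = (y j) • Finsupp.single j (1 : S) := by
      rw [Finsupp.smul_single, smul_eq_mul, mul_one]
    rw [this]
    exact Submodule.smul_mem_smul (hyj j) trivial
  have hφ'i := inj_of_flat_nil 𝔞 n h𝔞n φ' hφ's hker
  have hφi : Function.Injective φ := by
    rw [injective_iff_map_eq_zero]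
    intro f hf
    have h0 : ι f = 0 := by
      apply hφ'i
      rw [hcomm, hf, map_zero, map_zero]
    ext i
    have := DFunLike.congr_fun h0 i
    simp only [ι, Finsupp.mapRange.linearMap_apply, Finsupp.mapRange_apply,
      Algebra.linearMap_apply, Finsupp.coe_zero, Pi.zero_apply] at this
    rw [Finsupp.coe_zero, Pi.zero_apply]
    exact hinj (this.trans (map_zero _).symm)
  exact Module.Free.of_equiv (LinearEquiv.ofBijective φ ⟨hφi, hφs⟩)

end Groth.Agent.H3Art
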