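import Mathlib
import Groth.Agent.Lib.helper3.ArtB

set_option autoImplicit false
universe u

namespace Groth.Agent.H3Art

open TensorProduct IsLocalRing

theorem main {R S M : Type u} [CommRing R] [CommRing S] [IsArtinianRing R] [Algebra R S]
    (hinj : Function.Injective (algebraMap R S))
    [AddCommGroup M] [Module R M] [Module.Flat S (S ⊗[R] M)] : Module.Flat R M := by
  apply Module.flat_of_isLocalized_maximal R M (fun P _ => Localization.AtPrime P ⊗[R] M)
    (fun P _ => TensorProduct.mk R (Localization.AtPrime P) M 1)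
  intro P hP
  let Rp := Localization.AtPrime P
  let S' := Localization (Algebra.algebraMapSubmonoid S P.primeCompl)
  have hinj' : Function.Injective (algebraMap Rp S') :=
    localizationAlgebra_injective Rp S' hinj
  obtain ⟨n, hn⟩ : ∃ n : ℕ, (maximalIdeal Rp) ^ n = ⊥ := by
    have := IsArtinianRing.isNilpotent_jacobson_bot (R := Rp)
    rw [IsLocalRing.jacobson_eq_maximalIdeal ⊥ bot_ne_top] at this
    exact this
  let e₁ := AlgebraTensorModule.cancelBaseChange R Rp S' S' M
  let e₂ := AlgebraTensorModule.cancelBaseChange R S S' S' M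
  haveI : Module.Flat S' (S' ⊗[R] M) := Module.Flat.of_linearEquiv e₂.symm
  let g' : Rp ⊗[R] M →ₗ[Rp] S' ⊗[R] M :=
    (e₁.restrictScalars Rp).toLinearMap ∘ₗ (TensorProduct.mk Rp S' (Rp ⊗[R] M) 1)
  have hg' : IsBaseChange S' g' := IsBaseChange.of_equiv e₁ (fun x => rfl)
  haveI : Module.Free Rp (Rp ⊗[R] M) := free_of_local n hn hinj' g' hg'
  exact Module.Flat.trans R Rp _

end Groth.Agent.H3Art
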