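import Mathlib

set_option autoImplicit false
universe u

namespace Groth.Agent.H3LocCrit

open TensorProduct Function

section assA
variable {R S : Type u} [CommRing R] [IsNoetherianRing R] [CommRing S] [Algebra R S]
  {N : Type u} [AddCommGroup N] [Module S N] [Module R N] [IsScalarTower R S N] [Module.Flat R N]

/-- associated primes of `N ⊗ M'` for finitely generated `M'` come from prime quotients -/
theorem ass_tensor_subset_of_finite (M' : Type u) [AddCommGroup M'] [Module R M']
    [hfin : Module.Finite R M'] :
    ∀ q ∈ associatedPrimes S (N ⊗[R] M'),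
      ∃ p : PrimeSpectrum R, q ∈ associatedPrimes S (N ⊗[R] (R ⧸ p.asIdeal)) := by
  induction hfin using IsNoetherianRing.induction_on_isQuotientEquivQuotientPrime R with
  | subsingleton M₀ =>
    intro q hq
    haveI : Subsingleton (N ⊗[R] M₀) := by
      refine ⟨fun x y => ?_⟩
      have h0 : ∀ z : N ⊗[R] M₀, z = 0 := by
        intro z
        induction z using TensorProduct.induction_on with
        | zero => rfl
        | tmul a m =>
          have : m = 0 := Subsingleton.elim _ _
          rw [this, TensorProduct.tmul_zero]
        | add z w hz hw => rw [hz, hw, add_zero]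
      rw [h0 x, h0 y]
    rw [associatedPrimes.eq_empty_of_subsingleton] at hq
    exact absurd hq (Set.notMem_empty q)
  | quotient M₀ p e =>
    intro q hq
    refine ⟨p, ?_⟩
    have e' : N ⊗[R] M₀ ≃ₗ[S] N ⊗[R] (R ⧸ p.asIdeal) :=
      AlgebraTensorModule.congr (LinearEquiv.refl S N) e
    rw [← LinearEquiv.AssociatedPrimes.eq e']
    exact hq
  | exact M₁ M₂ M₃ f g hf hg hfg h1 h3 =>
    intro q hq
    have hinj : Injective (AlgebraTensorModule.lTensor S N f) :=
      Module.Flat.lTensor_preserves_injective_linearMap f hf
    have hex : Function.Exact (AlgebraTensorModule.lTensor S N f)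
        (AlgebraTensorModule.lTensor S N g) := lTensor_exact N hfg hg
    rcases associatedPrimes.subset_union_of_exact hinj hex hq with h | h
    · exact h1 q h
    · exact h3 q h

end assA

end Groth.Agent.H3LocCrit
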