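import Mathlib

set_option autoImplicit false
universe u

namespace Groth.Agent.H3LocCrit

open TensorProduct Function

section assB
variable {R S : Type u} [CommRing R] [CommRing S] [Algebra R S]
  {N : Type u} [AddCommGroup N] [Module S N] [Module R N] [IsScalarTower R S N] [Module.Flat R N]

lemma smul_tensor_quot_eq_zero (p : Ideal R) (r : R) (hr : r ∈ p) (y : N ⊗[R] (R ⧸ p)) :
    r • y = 0 := by
  induction y using TensorProduct.induction_on with
  | zero => rw [smul_zero]
  | tmul n x =>
    rw [← TensorProduct.tmul_smul]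
    have : r • x = 0 := by
      rw [Algebra.smul_def, Ideal.Quotient.algebraMap_eq, Ideal.Quotient.eq_zero_iff_mem.mpr hr,
        zero_mul]
    rw [this, TensorProduct.tmul_zero]
  | add a b ha hb => rw [smul_add, ha, hb, add_zero]

lemma smul_tensor_quot_injective (p : Ideal R) [p.IsPrime] (r : R) (hr : r ∉ p)
    (y : N ⊗[R] (R ⧸ p)) (hy : r • y = 0) : y = 0 := by
  have hν : Injective (LinearMap.lsmul R (R ⧸ p) r) := by
    rw [injective_iff_map_eq_zero]
    intro x hx
    rw [LinearMap.lsmul_apply, Algebra.smul_def, Ideal.Quotient.algebraMap_eq] at hx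
    rcases mul_eq_zero.mp hx with h | h
    · exact absurd (Ideal.Quotient.eq_zero_iff_mem.mp h) hr
    · exact h
  have h1 : Injective ((LinearMap.lsmul R (R ⧸ p) r).lTensor N) :=
    Module.Flat.lTensor_preserves_injective_linearMap _ hν
  have h2 : ∀ w : N ⊗[R] (R ⧸ p), ((LinearMap.lsmul R (R ⧸ p) r).lTensor N) w = r • w := by
    intro w
    induction w using TensorProduct.induction_on with
    | zero => simp
    | tmul n x => rw [LinearMap.lTensor_tmul, LinearMap.lsmul_apply, TensorProduct.tmul_smul]
    | add a b ha hb => rw [map_add, ha, hb, smul_add]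
  apply h1
  rw [h2, hy, map_zero]

theorem comap_eq_of_mem_ass_tensor_quot (p : Ideal R) [p.IsPrime] (q : Ideal S)
    (hq : q ∈ associatedPrimes S (N ⊗[R] (R ⧸ p))) : q.comap (algebraMap R S) = p := by
  obtain ⟨hprime, y, hy⟩ := hq
  have hy0 : y ≠ 0 := by
    rintro rfl
    apply hprime.ne_top
    rw [hy, Ideal.radical_eq_top, Ideal.eq_top_iff_one, Submodule.mem_colon_singleton, smul_zero]
    exact Submodule.zero_mem _
  ext r
  rw [Ideal.mem_comap]
  constructor
  · intro hr
    rw [hy] at hr
    obtain ⟨k, hk⟩ := hr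
    rw [Submodule.mem_colon_singleton, Submodule.mem_bot, ← map_pow, algebraMap_smul] at hk
    by_contra hrp
    have : r ^ k ∉ p := fun h => hrp (Ideal.IsPrime.mem_of_pow_mem ‹_› k h)
    exact hy0 (smul_tensor_quot_injective p (r ^ k) this y hk)
  · intro hr
    rw [hy]
    apply Ideal.le_radical
    rw [Submodule.mem_colon_singleton, Submodule.mem_bot, algebraMap_smul]
    exact smul_tensor_quot_eq_zero p r hr y

end assB

end Groth.Agent.H3LocCrit
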