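import Mathlib

set_option autoImplicit false
universe u

namespace Groth.Agent.H3LocCrit

open TensorProduct Function

section assC
variable {R : Type u} [CommRing R]
  {N : Type u} [AddCommGroup N] [Module R N] [Module.Flat R N]

theorem exists_killed_submodule (l : List R) :
    ∀ (M : Type u) [AddCommGroup M] [Module R M] (z : N ⊗[R] M),
      (∀ a ∈ l, a • z = 0) →
      ∃ K : Submodule R M, (∀ a ∈ l, ∀ x ∈ K, a • x = 0) ∧
        z ∈ LinearMap.range (K.subtype.lTensor N) := by
  induction l with
  | nil =>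
    intro M _ _ z _
    refine ⟨⊤, fun a ha => absurd ha List.not_mem_nil, ?_⟩
    have hs : Surjective ((⊤ : Submodule R M).subtype.lTensor N) :=
      LinearMap.lTensor_surjective N (fun x => ⟨⟨x, trivial⟩, rfl⟩)
    exact LinearMap.mem_range.mpr (hs z)
  | cons a l ih =>
    intro M _ _ z h
    set Ka : Submodule R M := LinearMap.ker (LinearMap.lsmul R M a) with hKa
    have hex : Function.Exact Ka.subtype (LinearMap.lsmul R M a) :=
      LinearMap.exact_subtype_ker_map _
    have hexN := Module.Flat.lTensor_exact N hex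
    have hsm : ∀ w : N ⊗[R] M, ((LinearMap.lsmul R M a).lTensor N) w = a • w := by
      intro w
      induction w using TensorProduct.induction_on with
      | zero => simp
      | tmul n x => rw [LinearMap.lTensor_tmul, LinearMap.lsmul_apply, TensorProduct.tmul_smul]
      | add x y hx hy => rw [map_add, hx, hy, smul_add]
    have hz0 : ((LinearMap.lsmul R M a).lTensor N) z = 0 := by
      rw [hsm]; exact h a List.mem_cons_self
    obtain ⟨z₁, hz₁⟩ := (hexN z).mp hz0
    have hinj : Injective (Ka.subtype.lTensor N) :=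
      Module.Flat.lTensor_preserves_injective_linearMap _ Ka.injective_subtype
    have h1 : ∀ b ∈ l, b • z₁ = 0 := by
      intro b hb
      apply hinj
      rw [map_smul, hz₁, map_zero]
      exact h b (List.mem_cons_of_mem _ hb)
    obtain ⟨K₁, hK₁, z₂, hz₂⟩ := ih ↥Ka z₁ h1
    refine ⟨K₁.map Ka.subtype, ?_, ?_⟩
    · intro b hb x hx
      obtain ⟨y, hy, rfl⟩ := hx
      rcases List.mem_cons.mp hb with rfl | hb'
      · have h5 : (y : M) ∈ LinearMap.ker (LinearMap.lsmul R M b) := y.2
        rw [LinearMap.mem_ker, LinearMap.lsmul_apply] at h5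
        exact h5
      · have := hK₁ b hb' y hy
        rw [Submodule.subtype_apply, ← Submodule.coe_smul, this, Submodule.coe_zero]
    · refine ⟨((Ka.subtype.submoduleMap K₁).lTensor N) z₂, ?_⟩
      rw [← LinearMap.comp_apply, ← LinearMap.lTensor_comp]
      have hc : (K₁.map Ka.subtype).subtype ∘ₗ Ka.subtype.submoduleMap K₁ =
          Ka.subtype ∘ₗ K₁.subtype := by
        ext y
        rfl
      rw [hc, LinearMap.lTensor_comp, LinearMap.comp_apply, hz₂, hz₁]

/-- if `Ann z = p` exactly for some `z ∈ N ⊗ M`, then `p` is an associated prime of `M`. -/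
theorem isAssociatedPrime_of_tensor [IsNoetherianRing R] (M : Type u) [AddCommGroup M]
    [Module R M] (p : Ideal R) [hp : p.IsPrime] (z : N ⊗[R] M)
    (hz : ∀ r : R, r • z = 0 ↔ r ∈ p) : IsAssociatedPrime p M := by
  classical
  obtain ⟨s, hs⟩ := (isNoetherianRing_iff_ideal_fg R).mp ‹_› p
  have hl : ∀ a ∈ s.toList, a • z = 0 := by
    intro a ha
    rw [hz, ← hs]
    exact Ideal.subset_span (Finset.mem_toList.mp ha)
  obtain ⟨K, hK, w, hw⟩ := exists_killed_submodule s.toList M z hl
  have hpK : ∀ r ∈ p, ∀ x ∈ K, r • x = 0 := by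
    intro r hr x hx
    rw [← hs] at hr
    refine Submodule.span_induction ?_ ?_ ?_ ?_ hr
    · intro a ha
      exact hK a (Finset.mem_toList.mpr ha) x hx
    · rw [zero_smul]
    · intro a b _ _ ha hb
      rw [add_smul, ha, hb, add_zero]
    · intro c a _ ha
      rw [smul_eq_mul, mul_smul, ha, smul_zero]
  -- some element of `K` is not killed outside `p`
  have hex : ∃ x ∈ K, ∀ r : R, r • x = 0 → r ∈ p := by
    by_contra hcon
    push Not at hcon
    have h2 : ∀ w : N ⊗[R] ↥K, ∃ r : R, r ∉ p ∧ r • w = 0 := by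
      intro w
      induction w using TensorProduct.induction_on with
      | zero => exact ⟨1, fun h => hp.ne_top ((Ideal.eq_top_iff_one _).mpr h), smul_zero _⟩
      | tmul n x =>
        obtain ⟨r, hr0, hr⟩ := hcon x.1 x.2
        refine ⟨r, hr, ?_⟩
        rw [← TensorProduct.tmul_smul]
        have : r • x = 0 := Subtype.ext (by rw [Submodule.coe_smul, hr0, Submodule.coe_zero])
        rw [this, TensorProduct.tmul_zero]
      | add x y hx hy =>
        obtain ⟨r₁, h₁, h₁'⟩ := hx
        obtain ⟨r₂, h₂, h₂'⟩ := hy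
        refine ⟨r₁ * r₂, fun h => (hp.mem_or_mem h).elim h₁ h₂, ?_⟩
        rw [smul_add, mul_smul r₁ r₂ y, h₂', smul_zero, add_zero, mul_comm, mul_smul, h₁',
          smul_zero]
    obtain ⟨r, hr, hrw⟩ := h2 w
    apply hr
    rw [← hz, ← hw, ← map_smul, hrw, map_zero]
  obtain ⟨x, hxK, hx⟩ := hex
  rw [isAssociatedPrime_iff]
  refine ⟨hp, x, ?_⟩
  ext r
  rw [Submodule.mem_colon_singleton, Submodule.mem_bot]
  exact ⟨fun hr => hpK r hr x hxK, hx r⟩

end assC

end Groth.Agent.H3LocCrit
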