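import Mathlib
import Groth.Agent.Lib.helper3.AsA
import Groth.Agent.Lib.helper3.AsB
import Groth.Agent.Lib.helper3.AsC

set_option autoImplicit false
universe u

namespace Groth.Agent.H3LocCrit

open TensorProduct Function

section assD
variable {R S : Type u} [CommRing R] [CommRing S] [Algebra R S]
  {N : Type u} [AddCommGroup N] [Module S N] [Module R N] [IsScalarTower R S N]

/-- `N ⊗ (R ⧸ p) ≃ N ⧸ (p S) N`, `R`-linear version -/
noncomputable def tensorQuotEquivQuotMapR (p : Ideal R) :
    N ⊗[R] (R ⧸ p) ≃ₗ[R] N ⧸ (p.map (algebraMap R S) • (⊤ : Submodule S N)) :=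
  (TensorProduct.tensorQuotEquivQuotSMul N p) ≪≫ₗ
    (Submodule.quotEquivOfEq _ _ (by
      rw [Ideal.smul_restrictScalars, Submodule.restrictScalars_top])) ≪≫ₗ
    (Submodule.Quotient.restrictScalarsEquiv R
      (p.map (algebraMap R S) • (⊤ : Submodule S N)))

lemma tensorQuotEquivQuotMapR_tmul (p : Ideal R) (n : N) (r : R) :
    tensorQuotEquivQuotMapR (S := S) p (n ⊗ₜ[R] (Ideal.Quotient.mk p r)) =
      Submodule.Quotient.mk (r • n) := by
  unfold tensorQuotEquivQuotMapR
  simp only [LinearEquiv.trans_apply, TensorProduct.tensorQuotEquivQuotSMul_tmul_mk]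
  rfl

/-- `S`-linear version -/
noncomputable def tensorQuotEquivQuotMapS (p : Ideal R) :
    N ⊗[R] (R ⧸ p) ≃ₗ[S] N ⧸ (p.map (algebraMap R S) • (⊤ : Submodule S N)) :=
  (tensorQuotEquivQuotMapR (S := S) p).toAddEquiv.toLinearEquiv (by
    intro s w
    show tensorQuotEquivQuotMapR (S := S) p (s • w) = s • tensorQuotEquivQuotMapR (S := S) p w
    induction w using TensorProduct.induction_on with
    | zero => simp
    | tmul n x =>
      obtain ⟨r, rfl⟩ := Ideal.Quotient.mk_surjective x
      rw [TensorProduct.smul_tmul', tensorQuotEquivQuotMapR_tmul, tensorQuotEquivQuotMapR_tmul,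
        smul_comm r s n]
      rfl
    | add a b ha hb => rw [smul_add, map_add, ha, hb, map_add, smul_add])

end assD

end Groth.Agent.H3LocCrit

namespace Groth.Agent.H3LocCrit

open TensorProduct Function

section assMain
variable {R S M N : Type u} [CommRing R] [IsNoetherianRing R] [CommRing S]
    [Algebra R S] [AddCommGroup M] [Module R M] [AddCommGroup N] [Module S N] [Module R N]
    [IsScalarTower R S N] [Module.Flat R N]

lemma colon_comap_eq (z : N ⊗[R] M) :
    ((⊥ : Submodule S (N ⊗[R] M)).colon {z}).comap (algebraMap R S) =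
      (⊥ : Submodule R (N ⊗[R] M)).colon {z} := by
  ext r
  rw [Ideal.mem_comap, Submodule.mem_colon_singleton, Submodule.mem_colon_singleton,
    Submodule.mem_bot, Submodule.mem_bot, algebraMap_smul]

theorem main2069 :
    associatedPrimes S (N ⊗[R] M) =
      ⋃ p ∈ associatedPrimes R M,
        associatedPrimes S (N ⧸ p.map (algebraMap R S) • (⊤ : Submodule S N)) := by
  ext q
  simp only [Set.mem_iUnion]
  constructor
  · intro hq
    obtain ⟨hqp, z, hz⟩ := hq
    -- reduce to a finitely generated submodule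
    obtain ⟨M', hfin, hM'⟩ := TensorProduct.exists_finite_submodule_right_of_setFinite
      ({z} : Set (N ⊗[R] M)) (Set.finite_singleton z)
    obtain ⟨z', hz'⟩ := hM' (Set.mem_singleton z)
    have hinj : Injective (AlgebraTensorModule.lTensor S N M'.subtype) :=
      Module.Flat.lTensor_preserves_injective_linearMap M'.subtype M'.injective_subtype
    have hz'' : (AlgebraTensorModule.lTensor S N M'.subtype) z' = z := hz'
    have hq' : q ∈ associatedPrimes S (N ⊗[R] ↥M') := by
      refine ⟨hqp, z', ?_⟩
      rw [hz]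
      congr 1
      ext s
      rw [Submodule.mem_colon_singleton, Submodule.mem_colon_singleton, Submodule.mem_bot,
        Submodule.mem_bot, ← hz'', ← map_smul]
      exact ⟨fun h => hinj (by rw [h, map_zero]), fun h => by rw [h, map_zero]⟩
    obtain ⟨p₀, hp₀⟩ := ass_tensor_subset_of_finite (S := S) (N := N) ↥M' q hq'
    have hcomap := comap_eq_of_mem_ass_tensor_quot p₀.asIdeal q hp₀
    -- `p₀` is an associated prime of `M`
    have hassR : IsAssociatedPrime p₀.asIdeal (N ⊗[R] M) := by
      refine ⟨p₀.2, z, ?_⟩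
      rw [← hcomap, hz, Ideal.comap_radical, colon_comap_eq]
    rw [isAssociatedPrime_iff] at hassR
    obtain ⟨_, w, hw⟩ := hassR
    have hw' : ∀ r : R, r • w = 0 ↔ r ∈ p₀.asIdeal := by
      intro r
      rw [hw, Submodule.mem_colon_singleton, Submodule.mem_bot]
    have hpM : IsAssociatedPrime p₀.asIdeal M := isAssociatedPrime_of_tensor M p₀.asIdeal w hw'
    refine ⟨p₀.asIdeal, hpM, ?_⟩
    rw [← LinearEquiv.AssociatedPrimes.eq (tensorQuotEquivQuotMapS (S := S) (N := N) p₀.asIdeal)]
    exact hp₀
  · rintro ⟨p, hp, hq⟩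
    have hp' : IsAssociatedPrime p M := hp
    rw [isAssociatedPrime_iff_exists_injective_linearMap] at hp'
    obtain ⟨_, f, hf⟩ := hp'
    have hinj : Injective (AlgebraTensorModule.lTensor S N f) :=
      Module.Flat.lTensor_preserves_injective_linearMap f hf
    apply associatedPrimes.subset_of_injective hinj
    rw [LinearEquiv.AssociatedPrimes.eq (tensorQuotEquivQuotMapS (S := S) (N := N) p)]
    exact hq

end assMain

end Groth.Agent.H3LocCrit
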