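import Mathlib

namespace Groth.Agent.H3Au

open IsLocalRing

universe u

section
variable {k : Type u} [Field k] {A : Type u} [CommRing A] [Algebra k A] [IsLocalRing A]
  {B : Type u} [CommRing B] [Algebra A B] [Algebra k B] [IsScalarTower k A B]

theorem TJ (t : A) (htm : ∀ a ∈ maximalIdeal A, a * t = 0) :
    ∀ x ∈ (maximalIdeal A).map (algebraMap A B), algebraMap A B t * x = 0 := by
  intro x hx
  rw [Ideal.map] at hx
  induction hx using Submodule.span_induction with
  | mem x hx =>
    obtain ⟨a, ha, rfl⟩ := hx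
    rw [← map_mul, mul_comm, htm a ha, map_zero]
  | zero => rw [mul_zero]
  | add x y _ _ hx hy => rw [mul_add, hx, hy, add_zero]
  | smul c x _ hx => rw [smul_eq_mul, mul_left_comm, hx, mul_zero]

theorem key [Module.Flat A B] (t : A) (ht0 : t ≠ 0) (b : B) (h : algebraMap A B t * b = 0) :
    b ∈ (maximalIdeal A).map (algebraMap A B) := by
  obtain ⟨n, a, y, h1, h2⟩ := @Module.Flat.isTrivialRelation_of_sum_smul_eq_zero A B _ _ _ _
    (Fin 1) _ (fun _ => t) (fun _ => b) (by
      rw [Fin.sum_univ_one]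
      show t • b = 0
      rw [Algebra.smul_def]; exact h)
  have hb : b = ∑ j, a 0 j • y j := h1 0
  rw [hb]
  apply Ideal.sum_mem
  intro j _
  rw [Algebra.smul_def]
  apply Ideal.mul_mem_right
  apply Ideal.mem_map_of_mem
  have h3 : t * a 0 j = 0 := by
    have := h2 j
    rw [Fin.sum_univ_one] at this
    exact this
  by_contra hn
  have hu : IsUnit (a 0 j) := IsLocalRing.notMem_maximalIdeal.mp hn
  exact ht0 ((hu.mul_left_eq_zero).mp h3)

theorem L4 [Module.Flat A B] (t : A) (ht0 : t ≠ 0) (htm : ∀ a ∈ maximalIdeal A, a * t = 0)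
    (b b' : B) : algebraMap A B t * b = algebraMap A B t * b' ↔
      Ideal.Quotient.mk ((maximalIdeal A).map (algebraMap A B)) b =
        Ideal.Quotient.mk ((maximalIdeal A).map (algebraMap A B)) b' := by
  constructor
  · intro h
    apply Ideal.Quotient.eq.mpr
    apply key t ht0
    rw [mul_sub, h, sub_self]
  · intro h
    have := TJ (B := B) t htm _ (Ideal.Quotient.eq.mp h)
    rw [mul_sub, sub_eq_zero] at this
    exact this

variable (t : A)

local notation "TT" => algebraMap A B t
local notation "JJ" => Ideal.map (algebraMap A B) (maximalIdeal A)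
local notation "ππ" => Ideal.Quotient.mk (Ideal.map (algebraMap A B) (maximalIdeal A))

theorem part2 [Module.Flat A B]
    (hres : ∀ a : A, ∃ c : k, a - algebraMap k A c ∈ maximalIdeal A)
    (ht : t ∈ maximalIdeal A) (ht0 : t ≠ 0) (htm : ∀ a ∈ maximalIdeal A, a * t = 0)
    (σ : (B ⧸ Ideal.span {algebraMap A B t}) ≃ₐ[A] (B ⧸ Ideal.span {algebraMap A B t}))
    (τ : B ≃ₐ[A] B)
    (hτ : ∀ b : B, Ideal.Quotient.mk (Ideal.span {algebraMap A B t}) (τ b) =
      σ (Ideal.Quotient.mk (Ideal.span {algebraMap A B t}) b))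
    (hτ0 : ∀ b : B, τ b - b ∈ (maximalIdeal A).map (algebraMap A B))
    (d : Derivation k (B ⧸ (maximalIdeal A).map (algebraMap A B))
        (B ⧸ (maximalIdeal A).map (algebraMap A B))) :
      ∃ η : B ≃ₐ[A] B, (∀ b : B, Ideal.Quotient.mk (Ideal.span {algebraMap A B t}) (η b) =
          σ (Ideal.Quotient.mk (Ideal.span {algebraMap A B t}) b)) ∧
        ∀ b b' : B, Ideal.Quotient.mk ((maximalIdeal A).map (algebraMap A B)) b' =
            d (Ideal.Quotient.mk ((maximalIdeal A).map (algebraMap A B)) b) →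
          η b = τ b + algebraMap A B t * b' := by
  classical
  have hTJ : ∀ x ∈ JJ, TT * x = 0 := TJ t htm
  have hL4 : ∀ b b' : B, TT * b = TT * b' ↔ ππ b = ππ b' := L4 t ht0 htm
  have hTmem : TT ∈ JJ := Ideal.mem_map_of_mem _ ht
  have hTT : TT * TT = 0 := hTJ _ hTmem
  have hTτ : ∀ y, TT * τ y = TT * y := fun y => (hL4 _ _).mpr (Ideal.Quotient.eq.mpr (hτ0 y))
  have hπs : Function.Surjective ππ := Ideal.Quotient.mk_surjective
  choose lift hlift using fun b => hπs (d (ππ b))
  let ηf : B → B := fun b => τ b + TT * lift b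
  have F : ∀ b b', ππ b' = d (ππ b) → ηf b = τ b + TT * b' := by
    intro b b' h
    show τ b + TT * lift b = τ b + TT * b'
    rw [(hL4 (lift b) b').mpr ((hlift b).trans h.symm)]
  have hdalg : ∀ a : A, d (ππ (algebraMap A B a)) = 0 := by
    intro a
    obtain ⟨c, hc⟩ := hres a
    have h1 : ππ (algebraMap A B a) = algebraMap k (B ⧸ JJ) c := by
      have : algebraMap A B a - algebraMap k B c ∈ JJ := by
        rw [IsScalarTower.algebraMap_apply k A B, ← map_sub]
        exact Ideal.mem_map_of_mem _ hc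
      rw [← Ideal.Quotient.eq] at this
      rw [this]; rfl
    rw [h1, Derivation.map_algebraMap]
  let ηhom : B →ₐ[A] B :=
    { toFun := ηf
      map_one' := by
        show ηf 1 = 1
        rw [F 1 0 (by rw [map_one, map_zero, Derivation.map_one_eq_zero]), map_one, mul_zero,
          add_zero]
      map_mul' := by
        intro x y
        show ηf (x * y) = ηf x * ηf y
        have h : ππ (x * lift y + y * lift x) = d (ππ (x * y)) := by
          rw [map_mul ππ x y, Derivation.leibniz, map_add, map_mul, map_mul, hlift, hlift,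
            smul_eq_mul, smul_eq_mul]
        rw [F (x * y) _ h]
        show _ = (τ x + TT * lift x) * (τ y + TT * lift y)
        rw [map_mul]
        linear_combination (-(lift x)) * hTτ y + (-(lift y)) * hTτ x +
          (-(lift x * lift y)) * hTT
      map_zero' := by
        show ηf 0 = 0
        rw [F 0 0 (by rw [map_zero, map_zero]), map_zero, mul_zero, add_zero]
      map_add' := by
        intro x y
        show ηf (x + y) = ηf x + ηf y
        have h : ππ (lift x + lift y) = d (ππ (x + y)) := by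
          rw [map_add ππ x y, map_add d, map_add, hlift, hlift]
        rw [F (x + y) _ h]
        show _ = (τ x + TT * lift x) + (τ y + TT * lift y)
        rw [map_add]; ring
      commutes' := by
        intro a
        show ηf (algebraMap A B a) = algebraMap A B a
        rw [F _ 0 (by rw [map_zero, hdalg]), mul_zero, add_zero, AlgEquiv.commutes] }
  have hηap : ∀ b, ηhom b = ηf b := fun b => rfl
  have hηinj : Function.Injective ηhom := by
    rw [injective_iff_map_eq_zero]
    intro b hb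
    have hb' : τ b + TT * lift b = 0 := hb
    have h1 : ππ (τ b) = 0 := by
      have : τ b = -(TT * lift b) := eq_neg_of_add_eq_zero_left hb'
      rw [this, map_neg, map_mul, Ideal.Quotient.eq_zero_iff_mem.mpr hTmem, zero_mul, neg_zero]
    have h2 : ππ b = 0 := by
      rw [← h1]; exact (Ideal.Quotient.eq.mpr (hτ0 b)).symm
    have h3 : ππ (lift b) = 0 := by rw [hlift, h2, map_zero]
    have h4 : TT * lift b = 0 := hTJ _ (Ideal.Quotient.eq_zero_iff_mem.mp h3)
    rw [h4, add_zero] at hb'
    exact (EmbeddingLike.map_eq_zero_iff (f := τ)).mp hb'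
  have hηsurj : Function.Surjective ηhom := by
    intro y
    obtain ⟨b0, hb0⟩ : ∃ b0, b0 = τ.symm y := ⟨_, rfl⟩
    obtain ⟨b1, hb1⟩ : ∃ b1, b1 = TT * τ.symm (lift b0) := ⟨_, rfl⟩
    refine ⟨b0 - b1, ?_⟩
    rw [map_sub]
    have e0 : ηhom b0 = y + TT * lift b0 := by
      show τ b0 + TT * lift b0 = _
      rw [hb0, AlgEquiv.apply_symm_apply]
    have e1 : ηhom b1 = TT * lift b0 := by
      have hπb1 : ππ b1 = 0 := by
        rw [hb1, map_mul, Ideal.Quotient.eq_zero_iff_mem.mpr hTmem, zero_mul]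
      rw [hηap, F b1 0 (by rw [hπb1, map_zero, map_zero]), mul_zero, add_zero, hb1, map_mul,
        AlgEquiv.commutes, AlgEquiv.apply_symm_apply]
    rw [e0, e1, add_sub_cancel_right]
  refine ⟨AlgEquiv.ofBijective ηhom ⟨hηinj, hηsurj⟩, ?_, ?_⟩
  · intro b
    show Ideal.Quotient.mk _ (τ b + TT * lift b) = _
    rw [map_add, map_mul, Ideal.Quotient.eq_zero_iff_mem.mpr (Ideal.mem_span_singleton_self _), zero_mul,
      add_zero, hτ]
  · intro b b' h
    exact F b b' h


theorem part1 [Module.Flat A B]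
    (ht : t ∈ maximalIdeal A) (ht0 : t ≠ 0) (htm : ∀ a ∈ maximalIdeal A, a * t = 0)
    (σ : (B ⧸ Ideal.span {algebraMap A B t}) ≃ₐ[A] (B ⧸ Ideal.span {algebraMap A B t}))
    (τ : B ≃ₐ[A] B)
    (hτ : ∀ b : B, Ideal.Quotient.mk (Ideal.span {algebraMap A B t}) (τ b) =
      σ (Ideal.Quotient.mk (Ideal.span {algebraMap A B t}) b))
    (hτ0 : ∀ b : B, τ b - b ∈ (maximalIdeal A).map (algebraMap A B))
    (η : B ≃ₐ[A] B) (hη : ∀ b : B, Ideal.Quotient.mk (Ideal.span {algebraMap A B t}) (η b) =
        σ (Ideal.Quotient.mk (Ideal.span {algebraMap A B t}) b)) :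
      ∃! d : Derivation k (B ⧸ (maximalIdeal A).map (algebraMap A B))
          (B ⧸ (maximalIdeal A).map (algebraMap A B)),
        ∀ b b' : B, Ideal.Quotient.mk ((maximalIdeal A).map (algebraMap A B)) b' =
            d (Ideal.Quotient.mk ((maximalIdeal A).map (algebraMap A B)) b) →
          η b = τ b + algebraMap A B t * b' := by
  classical
  have hTJ : ∀ x ∈ JJ, TT * x = 0 := TJ t htm
  have hL4 : ∀ b b' : B, TT * b = TT * b' ↔ ππ b = ππ b' := L4 t ht0 htm
  have hTmem : TT ∈ JJ := Ideal.mem_map_of_mem _ ht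
  have hTT : TT * TT = 0 := hTJ _ hTmem
  have hTτ : ∀ y, TT * τ y = TT * y := fun y => (hL4 _ _).mpr (Ideal.Quotient.eq.mpr (hτ0 y))
  have hπs : Function.Surjective ππ := Ideal.Quotient.mk_surjective
  have hex : ∀ b, ∃ c, η b = τ b + TT * c := by
    intro b
    have : η b - τ b ∈ Ideal.span {TT} := by
      rw [← Ideal.Quotient.eq, hη, hτ]
    obtain ⟨c, hc⟩ := Ideal.mem_span_singleton'.mp this
    exact ⟨c, by rw [mul_comm, hc]; ring⟩
  choose cf hcf using hex
  have G : ∀ b c, η b = τ b + TT * c → ππ c = ππ (cf b) := by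
    intro b c h
    apply (hL4 _ _).mp
    have := hcf b
    rw [h] at this
    exact add_left_cancel this
  let D0 : B → B ⧸ JJ := fun b => ππ (cf b)
  have hD0add : ∀ x y, D0 (x + y) = D0 x + D0 y := by
    intro x y
    show ππ (cf (x + y)) = ππ (cf x) + ππ (cf y)
    rw [← map_add, ← G (x + y) (cf x + cf y) (by rw [map_add, map_add, hcf x, hcf y]; ring)]
  have hD0mul : ∀ x y, D0 (x * y) = ππ x * D0 y + ππ y * D0 x := by
    intro x y
    show ππ (cf (x * y)) = ππ x * ππ (cf y) + ππ y * ππ (cf x)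
    rw [← map_mul, ← map_mul, ← map_add, ← G (x * y) (x * cf y + y * cf x) (by
      rw [map_mul, map_mul, hcf x, hcf y]
      linear_combination (cf x) * hTτ y + (cf y) * hTτ x + (cf x * cf y) * hTT)]
  have hηJ : ∀ x ∈ JJ, η x = τ x := by
    intro x hx
    rw [Ideal.map] at hx
    induction hx using Submodule.span_induction with
    | mem x hx =>
      obtain ⟨a, ha, rfl⟩ := hx
      rw [AlgEquiv.commutes, AlgEquiv.commutes]
    | zero => rw [map_zero, map_zero]
    | add x y _ _ hx hy => rw [map_add, map_add, hx, hy]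
    | smul c x hx' hx =>
      rw [smul_eq_mul, map_mul, map_mul, hx, hcf c, add_mul]
      have : TT * cf c * τ x = 0 := by
        rw [mul_right_comm, hTτ, hTJ x hx', zero_mul]
      rw [this, add_zero]
  have hD0J : ∀ x ∈ JJ, D0 x = 0 := by
    intro x hx
    show ππ (cf x) = 0
    rw [← G x 0 (by rw [mul_zero, add_zero]; exact hηJ x hx), map_zero]
  have hD0wd : ∀ b b', ππ b = ππ b' → D0 b = D0 b' := by
    intro b b' h
    have h1 : b - b' ∈ JJ := Ideal.Quotient.eq.mp h
    have h2 := hD0add (b - b') b'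
    rw [sub_add_cancel, hD0J _ h1, zero_add] at h2
    exact h2
  have hD0smul : ∀ (κ : k) x, D0 (κ • x) = κ • D0 x := by
    intro κ x
    show ππ (cf (κ • x)) = κ • ππ (cf x)
    have e1 : κ • x = algebraMap A B (algebraMap k A κ) * x := by
      rw [Algebra.smul_def, IsScalarTower.algebraMap_apply k A B]
    rw [← G (κ • x) (algebraMap A B (algebraMap k A κ) * cf x) (by
      rw [e1, map_mul, map_mul, AlgEquiv.commutes, AlgEquiv.commutes, hcf x]; ring)]
    rw [map_mul, Algebra.smul_def, ← IsScalarTower.algebraMap_apply k A B]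
    rfl
  let D1f : B ⧸ JJ → B ⧸ JJ := fun q => D0 (Classical.choose (hπs q))
  have hD1 : ∀ b, D1f (ππ b) = D0 b := fun b =>
    hD0wd _ _ (Classical.choose_spec (hπs (ππ b)))
  let D1 : (B ⧸ JJ) →ₗ[k] (B ⧸ JJ) :=
    { toFun := D1f
      map_add' := by
        intro q1 q2
        obtain ⟨b1, rfl⟩ := hπs q1
        obtain ⟨b2, rfl⟩ := hπs q2
        show D1f (ππ b1 + ππ b2) = D1f (ππ b1) + D1f (ππ b2)
        rw [← map_add, hD1, hD1, hD1, hD0add]
      map_smul' := by
        intro κ q
        obtain ⟨b, rfl⟩ := hπs q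
        show D1f (κ • ππ b) = κ • D1f (ππ b)
        have : κ • ππ b = ππ (κ • b) := rfl
        rw [this, hD1, hD1, hD0smul] }
  let dd : Derivation k (B ⧸ JJ) (B ⧸ JJ) := Derivation.mk' D1 (by
    intro q1 q2
    obtain ⟨b1, rfl⟩ := hπs q1
    obtain ⟨b2, rfl⟩ := hπs q2
    show D1f (ππ b1 * ππ b2) = ππ b1 • D1f (ππ b2) + ππ b2 • D1f (ππ b1)
    rw [← map_mul, hD1, hD1, hD1, hD0mul, smul_eq_mul, smul_eq_mul])
  have hdd : ∀ b, dd (ππ b) = ππ (cf b) := fun b => hD1 b
  refine ⟨dd, ?_, ?_⟩
  · intro b b' h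
    rw [hdd] at h
    rw [hcf b, (hL4 _ _).mpr h]
  · intro d' hd'
    apply Derivation.ext
    intro q
    obtain ⟨b, rfl⟩ := hπs q
    obtain ⟨b', hb'⟩ := hπs (d' (ππ b))
    rw [hdd, ← hb']
    exact G b b' (hd' b b' hb')

end

end Groth.Agent.H3Au
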