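import Mathlib

set_option autoImplicit false
universe u v w

namespace Groth.Agent.H3Az

open TensorProduct Function

section trace
variable (R : Type u) [CommRing R] (A : Type v) [AddCommGroup A] [Module R A]

/-- the trace ideal of a module -/
def traceIdeal : Ideal R :=
  Ideal.span (Set.range fun p : (A →ₗ[R] R) × A => p.1 p.2)

lemma mem_traceIdeal (f : A →ₗ[R] R) (a : A) : f a ∈ traceIdeal R A :=
  Ideal.subset_span ⟨(f, a), rfl⟩

theorem traceIdeal_eq_top [Module.Finite R A] [Module.Projective R A] [FaithfulSMul R A] :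
    traceIdeal R A = ⊤ := by
  obtain ⟨s, hs⟩ := (Module.projective_def' (R := R) (P := A)).mp inferInstance
  have hle : (⊤ : Submodule R A) ≤ traceIdeal R A • (⊤ : Submodule R A) := by
    intro x _
    have hx : x = Finsupp.linearCombination R id (s x) := (LinearMap.congr_fun hs x).symm
    rw [hx, Finsupp.linearCombination_apply]
    refine Submodule.sum_mem _ fun y _ => ?_
    have : (s x) y = (Finsupp.lapply y ∘ₗ s) x := rfl
    rw [this]
    exact Submodule.smul_mem_smul (mem_traceIdeal R A _ x) Submodule.mem_top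
  obtain ⟨r, hr1, hr2⟩ := Submodule.exists_sub_one_mem_and_smul_eq_zero_of_fg_of_le_smul
    (traceIdeal R A) (⊤ : Submodule R A) Module.Finite.fg_top hle
  have hr0 : r = 0 := by
    apply FaithfulSMul.eq_of_smul_eq_smul (α := A)
    intro a
    rw [hr2 a Submodule.mem_top, zero_smul]
  rw [hr0, zero_sub] at hr1
  rw [Ideal.eq_top_iff_one]
  simpa using (traceIdeal R A).neg_mem hr1

theorem exists_dual_pairing_eq_one [Module.Finite R A] [Module.Projective R A] [FaithfulSMul R A] :
    ∃ (ι : Type (max u v)) (_ : Fintype ι) (f : ι → (A →ₗ[R] R)) (a : ι → A),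
      ∑ i, f i (a i) = 1 := by
  have h1 : (1 : R) ∈ traceIdeal R A := by rw [traceIdeal_eq_top]; trivial
  obtain ⟨c, hc⟩ := (Finsupp.mem_span_range_iff_exists_finsupp (R := R)).mp h1
  refine ⟨c.support, inferInstance, fun p => c p.1 • p.1.1, fun p => p.1.2, ?_⟩
  have h2 := Finset.sum_coe_sort c.support (fun p => c p • p.1 p.2)
  rw [← hc, Finsupp.sum, ← h2]
  rfl

end trace

section faithful
variable (R : Type u) [CommRing R] (S : Type v) [CommRing S] [Algebra R S]
  (A : Type w) [AddCommGroup A] [Module R A]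

theorem faithfulSMul_baseChange [Module.Finite R A] [Module.Projective R A] [FaithfulSMul R A] :
    FaithfulSMul S (S ⊗[R] A) := by
  obtain ⟨ι, _, f, a, hfa⟩ := exists_dual_pairing_eq_one R A
  refine ⟨fun {s₁ s₂} h => ?_⟩
  have key : ∀ i, s₁ * algebraMap R S (f i (a i)) = s₂ * algebraMap R S (f i (a i)) := by
    intro i
    have h1 := h ((1 : S) ⊗ₜ[R] a i)
    have h2 := congrArg (fun t => TensorProduct.rid R S ((f i).lTensor S t)) h1
    simp only [TensorProduct.smul_tmul', smul_eq_mul, mul_one, LinearMap.lTensor_tmul,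
      TensorProduct.rid_tmul] at h2
    rw [Algebra.smul_def, Algebra.smul_def, mul_comm, mul_comm _ s₂] at h2
    exact h2
  have hsum : ∑ i, s₁ * algebraMap R S (f i (a i)) = ∑ i, s₂ * algebraMap R S (f i (a i)) :=
    Finset.sum_congr rfl fun i _ => key i
  rw [← Finset.mul_sum, ← Finset.mul_sum, ← map_sum, hfa, map_one, mul_one, mul_one] at hsum
  exact hsum

end faithful

end Groth.Agent.H3Az
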