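import Mathlib
import Groth.Agent.Lib.helper3.AzA

set_option autoImplicit false
universe u v w

namespace Groth.Agent.H3Az

open TensorProduct Function MulOpposite

section conj
variable (R : Type u) [CommRing R] {X : Type v} [AddCommGroup X] [Module R X]
  {Y : Type w} [AddCommGroup Y] [Module R Y]

/-- `f ↦ u ∘ f ∘ v` -/
def conjMap (u : X →ₗ[R] Y) (v : Y →ₗ[R] X) : Module.End R X →ₗ[R] Module.End R Y where
  toFun f := u ∘ₗ f ∘ₗ v
  map_add' f g := by
    ext y
    simp
  map_smul' c f := by
    ext y
    simp

@[simp] lemma conjMap_apply (u : X →ₗ[R] Y) (v : Y →ₗ[R] X) (f : Module.End R X) (y : Y) :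
    conjMap R u v f y = u (f (v y)) := rfl

/-- the opposite version of a linear map -/
def opMap {E₁ : Type v} {E₂ : Type w} [AddCommGroup E₁] [Module R E₁] [AddCommGroup E₂]
    [Module R E₂] (γ : E₁ →ₗ[R] E₂) : E₁ᵐᵒᵖ →ₗ[R] E₂ᵐᵒᵖ :=
  (MulOpposite.opLinearEquiv R : E₂ ≃ₗ[R] E₂ᵐᵒᵖ).toLinearMap ∘ₗ γ ∘ₗ
    (MulOpposite.opLinearEquiv R : E₁ ≃ₗ[R] E₁ᵐᵒᵖ).symm.toLinearMap

@[simp] lemma opMap_apply {E₁ : Type v} {E₂ : Type w} [AddCommGroup E₁] [Module R E₁]
    [AddCommGroup E₂] [Module R E₂] (γ : E₁ →ₗ[R] E₂) (x : E₁ᵐᵒᵖ) :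
    opMap R γ x = op (γ x.unop) := rfl

lemma mulLeftRight_conj (u : X →ₗ[R] Y) (v : Y →ₗ[R] X)
    (t : Module.End R X ⊗[R] (Module.End R X)ᵐᵒᵖ) (h : Module.End R Y) :
    AlgHom.mulLeftRight R (Module.End R Y)
      (TensorProduct.map (conjMap R u v) (opMap R (conjMap R u v)) t) h =
      conjMap R u v (AlgHom.mulLeftRight R (Module.End R X) t (conjMap R v u h)) := by
  induction t using TensorProduct.induction_on with
  | zero => simp
  | add a b ha hb => simp only [map_add, LinearMap.add_apply, ha, hb]
  | tmul f f' =>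
    rw [TensorProduct.map_tmul, AlgHom.mulLeftRight_apply, AlgHom.mulLeftRight_apply, opMap_apply,
      unop_op]
    ext y
    simp [Module.End.mul_apply]

end conj


section matrix
variable (R : Type u) [CommRing R]

lemma mulLeftRight_end_pi_bijective (n : ℕ) :
    Bijective (AlgHom.mulLeftRight R (Module.End R (Fin n → R))) := by
  classical
  let e : Matrix (Fin n) (Fin n) R ≃ₐ[R] Module.End R (Fin n → R) :=
    (LinearMap.toMatrixAlgEquiv' (R := R) (n := Fin n)).symm
  have hM : Bijective (AlgHom.mulLeftRight R (Matrix (Fin n) (Fin n) R)) :=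
    Function.bijective_iff_has_inverse.mpr
      ⟨AlgHom.mulLeftRightMatrix_inv R (Fin n),
        DFunLike.congr_fun (AlgHom.mulLeftRightMatrix.inv_comp R (Fin n)),
        DFunLike.congr_fun (AlgHom.mulLeftRightMatrix.comp_inv R (Fin n))⟩
  refine (Function.Bijective.of_comp_iff (AlgHom.mulLeftRight R (Module.End R (Fin n → R)))
    (Algebra.TensorProduct.congr e e.op).bijective).1 ?_
  rw [← AlgEquiv.coe_toAlgHom, ← AlgHom.coe_comp, IsAzumaya.mulLeftRight_comp_congr]
  exact (e.toLinearEquiv.conjAlgEquiv R).bijective.comp hM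

end matrix

theorem main19589 (R : Type u) [CommRing R]
    (P : Type v) [AddCommGroup P] [Module R P] [Module.Finite R P] [Module.Projective R P]
    [FaithfulSMul R P] : IsAzumaya R (Module.End R P) := by
  obtain ⟨n, r, i, -, -, hri⟩ := Module.Finite.exists_comp_eq_id_of_projective R P
  have hri' : ∀ x, r (i x) = x := fun x => LinearMap.congr_fun hri x
  have hF := mulLeftRight_end_pi_bijective R n
  have hβα : conjMap R r i ∘ₗ conjMap R i r = LinearMap.id := by
    ext f x
    simp [hri']
  have hβαop : opMap R (conjMap R r i) ∘ₗ opMap R (conjMap R i r) = LinearMap.id := by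
    ext f
    simp only [LinearMap.coe_comp, Function.comp_apply, opMap_apply, unop_op, LinearMap.id_coe,
      id_eq]
    have := LinearMap.congr_fun hβα f.unop
    simp only [LinearMap.coe_comp, Function.comp_apply, LinearMap.id_coe, id_eq] at this
    rw [this, op_unop]
  have hmap : TensorProduct.map (conjMap R r i) (opMap R (conjMap R r i)) ∘ₗ
      TensorProduct.map (conjMap R i r) (opMap R (conjMap R i r)) = LinearMap.id := by
    rw [← TensorProduct.map_comp, hβα, hβαop, TensorProduct.map_id]
  have hbij : Bijective (AlgHom.mulLeftRight R (Module.End R P)) := by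
    constructor
    · rw [injective_iff_map_eq_zero]
      intro t ht
      have h1 : AlgHom.mulLeftRight R (Module.End R (Fin n → R))
          (TensorProduct.map (conjMap R i r) (opMap R (conjMap R i r)) t) = 0 := by
        ext1 h
        rw [mulLeftRight_conj, ht, LinearMap.zero_apply, map_zero, LinearMap.zero_apply]
      have h2 := hF.1 (h1.trans (map_zero _).symm)
      have h3 := LinearMap.congr_fun hmap t
      rw [LinearMap.comp_apply, h2, map_zero, LinearMap.id_apply] at h3
      exact h3.symm
    · intro ψ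
      obtain ⟨t, ht⟩ := hF.2 (conjMap R i r ∘ₗ ψ ∘ₗ conjMap R r i)
      refine ⟨TensorProduct.map (conjMap R r i) (opMap R (conjMap R r i)) t, ?_⟩
      ext1 f
      rw [mulLeftRight_conj, ht]
      simp only [LinearMap.coe_comp, Function.comp_apply]
      have h1 := LinearMap.congr_fun hβα f
      simp only [LinearMap.coe_comp, Function.comp_apply, LinearMap.id_coe, id_eq] at h1
      have h2 := LinearMap.congr_fun hβα (ψ f)
      simp only [LinearMap.coe_comp, Function.comp_apply, LinearMap.id_coe, id_eq] at h2
      rw [h1, h2]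
  have hfaith : FaithfulSMul R (Module.End R P) := by
    refine ⟨fun {r₁ r₂} h => ?_⟩
    apply FaithfulSMul.eq_of_smul_eq_smul (α := P)
    intro x
    have := LinearMap.congr_fun (h (1 : Module.End R P)) x
    simpa using this
  have hprojF : Module.Projective R (Module.End R (Fin n → R)) := inferInstance
  have hfinF : Module.Finite R (Module.End R (Fin n → R)) := inferInstance
  have hproj : Module.Projective R (Module.End R P) :=
    Module.Projective.of_split (conjMap R i r) (conjMap R r i) hβα
  have hfin : Module.Finite R (Module.End R P) := by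
    refine Module.Finite.of_surjective (conjMap R r i) ?_
    intro f
    exact ⟨conjMap R i r f, LinearMap.congr_fun hβα f⟩
  exact { hproj, hfaith, hfin with bij := hbij }

end Groth.Agent.H3Az
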