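import Mathlib

set_option autoImplicit false
universe u v w

namespace Groth.Agent.H3Az

open TensorProduct Function

section descent
variable (R : Type u) [CommRing R] (S : Type v) [CommRing S] [Algebra R S]
  (M : Type w) [AddCommGroup M] [Module R M]

theorem finitePresentation_of_faithfullyFlat [Module.FaithfullyFlat R S]
    [Module.FinitePresentation S (S ⊗[R] M)] : Module.FinitePresentation R M := by
  haveI : Module.Finite R M := Module.Finite.of_finite_tensorProduct_of_faithfullyFlat S
  obtain ⟨n, π, hπ⟩ := Module.Finite.exists_fin' R M
  have hπS : Surjective (π.baseChange S) := by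
    rw [LinearMap.baseChange_eq_ltensor]
    exact LinearMap.lTensor_surjective S hπ
  have hkerS : (LinearMap.ker (π.baseChange S)).FG := Module.FinitePresentation.fg_ker _ hπS
  set K := LinearMap.ker π with hK
  have hinj : Injective (K.subtype.baseChange S) := by
    rw [LinearMap.baseChange_eq_ltensor]
    exact Module.Flat.lTensor_preserves_injective_linearMap _ K.subtype_injective
  have hex : Function.Exact (K.subtype.baseChange S) (π.baseChange S) := by
    have h0 : Function.Exact K.subtype π := LinearMap.exact_subtype_ker_map π
    have := Module.Flat.lTensor_exact S h0
    simpa only [LinearMap.baseChange_eq_ltensor] using this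
  have hrange : LinearMap.range (K.subtype.baseChange S) = LinearMap.ker (π.baseChange S) :=
    (LinearMap.exact_iff.mp hex).symm
  haveI : Module.Finite S (S ⊗[R] K) := by
    have e := LinearEquiv.ofInjective (K.subtype.baseChange S) hinj
    haveI : Module.Finite S (LinearMap.range (K.subtype.baseChange S)) := by
      rw [hrange]
      exact Module.Finite.iff_fg.mpr hkerS
    exact Module.Finite.equiv e.symm
  haveI : Module.Finite R K := Module.Finite.of_finite_tensorProduct_of_faithfullyFlat S
  exact Module.finitePresentation_of_free_of_surjective π hπ (Module.Finite.iff_fg.mp inferInstance)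

theorem projective_of_faithfullyFlat [Module.FaithfullyFlat R S]
    [Module.Finite S (S ⊗[R] M)] [Module.Projective S (S ⊗[R] M)] :
    Module.Projective R M ∧ Module.Finite R M := by
  haveI : Module.FinitePresentation S (S ⊗[R] M) := Module.finitePresentation_of_projective S _
  haveI := finitePresentation_of_faithfullyFlat R S M
  haveI : Module.Flat R M := Module.Flat.of_flat_tensorProduct R M S
  exact ⟨Module.Flat.projective_of_finitePresentation, inferInstance⟩

end descent

end Groth.Agent.H3Az
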