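import Mathlib
import Groth.Agent.Lib.helper3.AzC
import Groth.Agent.Lib.helper3.AzF

set_option autoImplicit false
universe u v w

namespace Groth.Agent.H3Az

open TensorProduct Function MulOpposite

section bc
variable (R : Type u) [CommRing R] (S : Type v) [CommRing S] [Algebra R S]
  (A : Type w) [Ring A] [Algebra R A]

/-- `S ⊗ Aᵐᵒᵖ ≃ (S ⊗ A)ᵐᵒᵖ` -/
noncomputable def sigmaOp : S ⊗[R] Aᵐᵒᵖ ≃ₗ[S] (S ⊗[R] A)ᵐᵒᵖ :=
  (TensorProduct.AlgebraTensorModule.congr (LinearEquiv.refl S S)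
    (MulOpposite.opLinearEquiv R : A ≃ₗ[R] Aᵐᵒᵖ).symm) ≪≫ₗ
    (MulOpposite.opLinearEquiv S : (S ⊗[R] A) ≃ₗ[S] (S ⊗[R] A)ᵐᵒᵖ)

lemma sigmaOp_tmul (s : S) (b : Aᵐᵒᵖ) : sigmaOp R S A (s ⊗ₜ b) = op (s ⊗ₜ[R] b.unop) := rfl

/-- `bigT` as an equivalence -/
noncomputable def bigTEquiv :
    S ⊗[R] (A ⊗[R] Aᵐᵒᵖ) ≃ₗ[S] (S ⊗[R] A) ⊗[S] (S ⊗[R] A)ᵐᵒᵖ :=
  TensorProduct.AlgebraTensorModule.distribBaseChange R S A Aᵐᵒᵖ ≪≫ₗ
    TensorProduct.congr (LinearEquiv.refl S (S ⊗[R] A)) (sigmaOp R S A)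

lemma bigT_eq_equiv (t : S ⊗[R] (A ⊗[R] Aᵐᵒᵖ)) : bigT R S A t = bigTEquiv R S A t := by
  induction t using TensorProduct.induction_on with
  | zero => simp
  | add a b ha hb => simp only [map_add, ha, hb]
  | tmul s u =>
    induction u using TensorProduct.induction_on with
    | zero => simp
    | add a b ha hb => simp only [TensorProduct.tmul_add, map_add, ha, hb]
    | tmul a b =>
      rw [bigT_tmul]
      have : bigTEquiv R S A (s ⊗ₜ[R] (a ⊗ₜ[R] b)) =
          (s ⊗ₜ[R] a) ⊗ₜ[S] op ((1 : S) ⊗ₜ[R] b.unop) := rfl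
      rw [this, TensorProduct.smul_tmul', TensorProduct.smul_tmul', smul_eq_mul, mul_one]

lemma bigT_bijective : Bijective (bigT R S A) := by
  have : ⇑(bigT R S A) = ⇑(bigTEquiv R S A) := funext (bigT_eq_equiv R S A)
  rw [this]
  exact (bigTEquiv R S A).bijective

end bc

theorem main14967 (R : Type u) [CommRing R]
    (S : Type v) [CommRing S] [Algebra R S] [Module.FaithfullyFlat R S]
    (B : Type w) [Ring B] [Algebra R B] [IsAzumaya S (S ⊗[R] B)] : IsAzumaya R B := by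
  obtain ⟨hproj, hfin⟩ := projective_of_faithfullyFlat R S B
  have hfaith : FaithfulSMul R B := by
    refine ⟨fun {r₁ r₂} h => ?_⟩
    apply FaithfulSMul.algebraMap_injective R S
    apply FaithfulSMul.eq_of_smul_eq_smul (α := S ⊗[R] B)
    intro t
    induction t using TensorProduct.induction_on with
    | zero => simp
    | add a b ha hb => rw [smul_add, smul_add, ha, hb]
    | tmul s b =>
      rw [algebraMap_smul, algebraMap_smul, ← TensorProduct.tmul_smul, ← TensorProduct.tmul_smul,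
        h b]
  have hθ := theta_bijective R S B B
  have hS : Bijective (AlgHom.mulLeftRight S (S ⊗[R] B)) := IsAzumaya.bij
  have hT := bigT_bijective R S B
  have hφS : Bijective ((AlgHom.mulLeftRight R B).toLinearMap.lTensor S) := by
    have hcomp : ⇑(theta R S B B) ∘ ⇑((AlgHom.mulLeftRight R B).toLinearMap.lTensor S) =
        ⇑(AlgHom.mulLeftRight S (S ⊗[R] B)) ∘ ⇑(bigT R S B) := by
      funext t
      exact (mulLeftRight_bigT R S B t).symm
    have h1 : Bijective (⇑(theta R S B B) ∘ ⇑((AlgHom.mulLeftRight R B).toLinearMap.lTensor S)) := by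
      rw [hcomp]
      exact hS.comp hT
    exact (Function.Bijective.of_comp_iff' hθ _).mp h1
  have hbij : Bijective (AlgHom.mulLeftRight R B) :=
    (Module.FaithfullyFlat.lTensor_bijective_iff_bijective R S _).mp hφS
  exact { hproj, hfaith, hfin with bij := hbij }

end Groth.Agent.H3Az
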