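import Mathlib
import Groth.Agent.Lib.helper3.AzE
import Groth.Agent.Lib.helper3.AzG

set_option autoImplicit false
universe u v w

namespace Groth.Agent.H3Az

open TensorProduct Function MulOpposite

section endinst
variable (R : Type u) [CommRing R] (P : Type v) [AddCommGroup P] [Module R P] [Module.Finite R P]
  [Module.Projective R P]

theorem end_projective_finite :
    Module.Projective R (Module.End R P) ∧ Module.Finite R (Module.End R P) := by
  obtain ⟨n, r, i, -, -, hri⟩ := Module.Finite.exists_comp_eq_id_of_projective R P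
  have hri' : ∀ x, r (i x) = x := fun x => LinearMap.congr_fun hri x
  have hβα : conjMap R r i ∘ₗ conjMap R i r = LinearMap.id := by
    ext f x
    simp [hri']
  have hprojF : Module.Projective R (Module.End R (Fin n → R)) := inferInstance
  have hfinF : Module.Finite R (Module.End R (Fin n → R)) := inferInstance
  refine ⟨Module.Projective.of_split (conjMap R i r) (conjMap R r i) hβα, ?_⟩
  refine Module.Finite.of_surjective (conjMap R r i) ?_
  intro f
  exact ⟨conjMap R i r f, LinearMap.congr_fun hβα f⟩

end endinst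

section specsurj
variable {R : Type u} [CommRing R] {S : Type v} [CommRing S] [Algebra R S]

/-- a maximal ideal does not extend to the unit ideal when `Spec S → Spec R` is surjective -/
lemma map_ne_top_of_comap_surjective (hS : Surjective (PrimeSpectrum.comap (algebraMap R S)))
    (p : Ideal R) [p.IsPrime] : p.map (algebraMap R S) ≠ ⊤ := by
  obtain ⟨q, hq⟩ := hS ⟨p, inferInstance⟩
  have hqp : q.asIdeal.comap (algebraMap R S) = p := congrArg PrimeSpectrum.asIdeal hq
  intro htop
  have hle : p.map (algebraMap R S) ≤ q.asIdeal := by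
    rw [Ideal.map_le_iff_le_comap, hqp]
  rw [htop] at hle
  exact q.isPrime.ne_top (top_le_iff.mp hle)

theorem subsingleton_of_subsingleton_baseChange
    (hS : Surjective (PrimeSpectrum.comap (algebraMap R S)))
    (M : Type w) [AddCommGroup M] [Module R M] [Module.Finite R M]
    [Subsingleton (S ⊗[R] M)] : Subsingleton M := by
  by_contra hM
  rw [not_subsingleton_iff_nontrivial] at hM
  have hann : Module.annihilator R M ≠ ⊤ := by
    intro h
    have h1 : (1 : R) ∈ Module.annihilator R M := by rw [h]; trivial
    obtain ⟨x, hx⟩ := exists_ne (0 : M)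
    exact hx (by simpa using Module.mem_annihilator.mp h1 x)
  obtain ⟨p, hp, hle⟩ := Ideal.exists_le_maximal _ hann
  have hpM : p • (⊤ : Submodule R M) ≠ ⊤ := by
    intro h
    obtain ⟨r, hr1, hr2⟩ := Submodule.exists_sub_one_mem_and_smul_eq_zero_of_fg_of_le_smul p
      (⊤ : Submodule R M) Module.Finite.fg_top (le_of_eq h.symm)
    have hr : r ∈ p := hle (Module.mem_annihilator.mpr fun x => hr2 x Submodule.mem_top)
    have h1 : (1 : R) ∈ p := by
      have := p.sub_mem hr hr1
      simpa using this
    exact hp.ne_top ((Ideal.eq_top_iff_one p).mpr h1)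
  letI : Field (R ⧸ p) := Ideal.Quotient.field p
  obtain ⟨v, hv⟩ : ∃ v : M ⧸ (p • (⊤ : Submodule R M)), v ≠ 0 := by
    by_contra hcon
    push Not at hcon
    apply hpM
    rw [eq_top_iff]
    intro x _
    exact (Submodule.Quotient.mk_eq_zero _).mp (hcon (Submodule.Quotient.mk x))
  have hinj : LinearMap.ker (LinearMap.toSpanSingleton (R ⧸ p) (M ⧸ (p • (⊤ : Submodule R M))) v)
      = ⊥ := LinearMap.ker_toSpanSingleton (R ⧸ p) hv
  obtain ⟨ℓ, hℓ⟩ := LinearMap.exists_leftInverse_of_injective _ hinj
  have hℓv : ℓ v = 1 := by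
    have := LinearMap.congr_fun hℓ 1
    simpa using this
  set g : M →ₗ[R] (R ⧸ p) := (ℓ.restrictScalars R) ∘ₗ (p • (⊤ : Submodule R M)).mkQ with hg
  have hgsurj : Surjective g := by
    obtain ⟨m₀, rfl⟩ := Submodule.Quotient.mk_surjective _ v
    intro c
    obtain ⟨r, rfl⟩ := Ideal.Quotient.mk_surjective c
    refine ⟨r • m₀, ?_⟩
    rw [map_smul, hg, LinearMap.comp_apply, LinearMap.coe_restrictScalars, Submodule.mkQ_apply, hℓv]
    rw [Algebra.smul_def, mul_one]
    rfl
  have hsurj : Surjective (g.lTensor S) := LinearMap.lTensor_surjective S hgsurj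
  haveI : Subsingleton (S ⊗[R] (R ⧸ p)) := hsurj.subsingleton
  have e := TensorProduct.tensorQuotEquivQuotSMul S p
  haveI : Subsingleton (S ⧸ (p • (⊤ : Submodule R S))) := e.symm.injective.subsingleton
  have htop : p • (⊤ : Submodule R S) = ⊤ := by
    rw [eq_top_iff]
    intro x _
    exact (Submodule.Quotient.mk_eq_zero _).mp (Subsingleton.elim _ _)
  apply map_ne_top_of_comap_surjective hS p
  have h2 := Ideal.smul_top_eq_map (R := R) (S := S) p
  rw [htop] at h2
  rw [eq_top_iff]
  intro x _
  have : x ∈ (⊤ : Submodule R S) := trivial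
  rw [h2] at this
  exact this

end specsurj

end Groth.Agent.H3Az
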