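import Mathlib
import Groth.Agent.Lib.helper3.AzH

set_option autoImplicit false
universe u v w w'

namespace Groth.Agent.H3Az

open TensorProduct Function MulOpposite

section L2
variable {R : Type u} [CommRing R] {S : Type v} [CommRing S] [Algebra R S]

theorem traceIdeal_baseChange_le (B : Type w) [AddCommGroup B] [Module R B] [Module.Finite R B]
    [Module.Projective R B] :
    traceIdeal S (S ⊗[R] B) ≤ (traceIdeal R B).map (algebraMap R S) := by
  obtain ⟨σ, hσ⟩ := (Module.projective_def' (R := R) (P := B)).mp inferInstance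
  unfold traceIdeal
  rw [Ideal.span_le]
  rintro _ ⟨⟨g, t⟩, rfl⟩
  simp only
  induction t using TensorProduct.induction_on with
  | zero => simp
  | add a b ha hb => rw [map_add]; exact Ideal.add_mem _ ha hb
  | tmul s b =>
    have hb : b = Finsupp.linearCombination R id (σ b) := (LinearMap.congr_fun hσ b).symm
    have h1 : g (s ⊗ₜ[R] b) = s • g ((1 : S) ⊗ₜ[R] b) := by
      rw [← map_smul, TensorProduct.smul_tmul', smul_eq_mul, mul_one]
    rw [h1, hb, Finsupp.linearCombination_apply, Finsupp.sum, TensorProduct.tmul_sum, map_sum,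
      Finset.smul_sum]
    refine Ideal.sum_mem _ fun y _ => ?_
    have h2 : (1 : S) ⊗ₜ[R] ((σ b) y • id y) = algebraMap R S ((σ b) y) • ((1 : S) ⊗ₜ[R] y) := by
      rw [id, TensorProduct.tmul_smul, algebraMap_smul]
    rw [h2, map_smul, smul_eq_mul, smul_eq_mul, ← mul_assoc]
    refine Ideal.mul_mem_right _ _ (Ideal.mul_mem_left _ _ (Ideal.mem_map_of_mem _ ?_))
    have : (σ b) y = (Finsupp.lapply y ∘ₗ σ) b := rfl
    rw [this]
    exact mem_traceIdeal R B _ b

theorem faithfulSMul_of_baseChange (hS : Surjective (PrimeSpectrum.comap (algebraMap R S)))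
    (B : Type w) [AddCommGroup B] [Module R B] [Module.Finite R B] [Module.Projective R B]
    [FaithfulSMul S (S ⊗[R] B)] : FaithfulSMul R B := by
  have htop : traceIdeal R B = ⊤ := by
    by_contra hne
    obtain ⟨p, hp, hle⟩ := Ideal.exists_le_maximal _ hne
    haveI := hp.isPrime
    apply map_ne_top_of_comap_surjective hS p
    rw [eq_top_iff, ← traceIdeal_eq_top S (S ⊗[R] B)]
    exact (traceIdeal_baseChange_le B).trans (Ideal.map_mono hle)
  have h1 : (1 : R) ∈ traceIdeal R B := by rw [htop]; trivial
  refine ⟨fun {r₁ r₂} h => ?_⟩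
  have key : ∀ x ∈ traceIdeal R B, r₁ * x = r₂ * x := by
    intro x hx
    unfold traceIdeal at hx
    induction hx using Submodule.span_induction with
    | mem y hy =>
      obtain ⟨⟨f, b⟩, rfl⟩ := hy
      simp only
      rw [← smul_eq_mul, ← map_smul, h b, map_smul, smul_eq_mul]
    | zero => simp
    | add a b _ _ ha hb => rw [mul_add, mul_add, ha, hb]
    | smul c a _ ha => rw [smul_eq_mul, mul_left_comm, ha, mul_left_comm]
  simpa using key 1 h1

end L2

section L3
variable {R : Type u} [CommRing R] {S : Type v} [CommRing S] [Algebra R S]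

theorem bijective_of_bijective_baseChange (hS : Surjective (PrimeSpectrum.comap (algebraMap R S)))
    {X : Type w} {Y : Type w'} [AddCommGroup X] [Module R X] [AddCommGroup Y] [Module R Y]
    [Module.Finite R X] [Module.Finite R Y] [Module.Projective R Y] (φ : X →ₗ[R] Y)
    (h : Bijective (φ.lTensor S)) : Bijective φ := by
  have hsurj : Surjective φ := by
    haveI : Subsingleton (S ⊗[R] (Y ⧸ LinearMap.range φ)) := by
      refine ⟨fun a b => ?_⟩
      have hz : ∀ c : S ⊗[R] (Y ⧸ LinearMap.range φ), c = 0 := by
        intro c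
        obtain ⟨y, rfl⟩ := LinearMap.lTensor_surjective S (Submodule.mkQ_surjective _) c
        obtain ⟨x, rfl⟩ := h.2 y
        rw [← LinearMap.comp_apply, ← LinearMap.lTensor_comp, LinearMap.range_mkQ_comp,
          LinearMap.lTensor_zero, LinearMap.zero_apply]
      rw [hz a, hz b]
    haveI := subsingleton_of_subsingleton_baseChange hS (Y ⧸ LinearMap.range φ)
    rw [← LinearMap.range_eq_top, eq_top_iff]
    intro y _
    exact (Submodule.Quotient.mk_eq_zero _).mp (Subsingleton.elim _ _)
  refine ⟨?_, hsurj⟩
  obtain ⟨σ, hσ⟩ := Module.projective_lifting_property φ LinearMap.id hsurj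
  set K := LinearMap.ker φ with hK
  set ρ : X →ₗ[R] K := (LinearMap.id - σ ∘ₗ φ).codRestrict K (by
    intro x
    rw [hK, LinearMap.mem_ker, LinearMap.sub_apply, map_sub, LinearMap.id_apply,
      LinearMap.comp_apply]
    have := LinearMap.congr_fun hσ (φ x)
    simp only [LinearMap.comp_apply, LinearMap.id_apply] at this
    rw [this, sub_self]) with hρ
  have hρK : ρ ∘ₗ K.subtype = LinearMap.id := by
    ext k
    simp only [hρ, LinearMap.coe_comp, Function.comp_apply, Submodule.subtype_apply,
      LinearMap.codRestrict_apply, LinearMap.sub_apply, LinearMap.id_apply]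
    have : φ (k : X) = 0 := LinearMap.mem_ker.mp k.2
    rw [this, map_zero, sub_zero]
  haveI : Module.Finite R K := by
    refine Module.Finite.of_surjective ρ ?_
    intro k
    exact ⟨k, LinearMap.congr_fun hρK k⟩
  haveI : Subsingleton (S ⊗[R] K) := by
    have hinj : Injective (K.subtype.lTensor S) := by
      apply Function.LeftInverse.injective (g := ρ.lTensor S)
      intro t
      rw [← LinearMap.comp_apply, ← LinearMap.lTensor_comp, hρK, LinearMap.lTensor_id,
        LinearMap.id_apply]
    refine ⟨fun a b => ?_⟩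
    have hz : ∀ c : S ⊗[R] K, c = 0 := by
      intro c
      apply hinj
      apply h.1
      rw [← LinearMap.comp_apply, ← LinearMap.lTensor_comp]
      have : φ ∘ₗ K.subtype = 0 := by
        ext k
        exact LinearMap.mem_ker.mp k.2
      rw [this, LinearMap.lTensor_zero, LinearMap.zero_apply, map_zero, map_zero]
    rw [hz a, hz b]
  haveI := subsingleton_of_subsingleton_baseChange hS K
  rw [injective_iff_map_eq_zero]
  intro x hx
  have : (⟨x, LinearMap.mem_ker.mpr hx⟩ : K) = 0 := Subsingleton.elim _ _
  exact congrArg Subtype.val this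

end L3

end Groth.Agent.H3Az
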