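import Mathlib
import Groth.Agent.Lib.helper3.AzI

set_option autoImplicit false
universe u v w

namespace Groth.Agent.H3Az

open TensorProduct Function MulOpposite

theorem main14963 (R : Type u) [CommRing R]
    (S : Type v) [CommRing S] [Algebra R S]
    (hS : Function.Surjective (PrimeSpectrum.comap (algebraMap R S)))
    (B : Type w) [Ring B] [Algebra R B] [Module.Finite R B] [Module.Projective R B]
    [IsAzumaya S (S ⊗[R] B)] : IsAzumaya R B := by
  have hfaith : FaithfulSMul R B := faithfulSMul_of_baseChange hS B
  obtain ⟨hprojE, hfinE⟩ := end_projective_finite R B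
  haveI : Module.Finite R Bᵐᵒᵖ := Module.Finite.equiv (MulOpposite.opLinearEquiv R : B ≃ₗ[R] Bᵐᵒᵖ)
  have hθ := theta_bijective R S B B
  have hSb : Bijective (AlgHom.mulLeftRight S (S ⊗[R] B)) := IsAzumaya.bij
  have hT := bigT_bijective R S B
  have hφS : Bijective ((AlgHom.mulLeftRight R B).toLinearMap.lTensor S) := by
    have hcomp : ⇑(theta R S B B) ∘ ⇑((AlgHom.mulLeftRight R B).toLinearMap.lTensor S) =
        ⇑(AlgHom.mulLeftRight S (S ⊗[R] B)) ∘ ⇑(bigT R S B) := by
      funext t
      exact (mulLeftRight_bigT R S B t).symm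
    have h1 : Bijective (⇑(theta R S B B) ∘ ⇑((AlgHom.mulLeftRight R B).toLinearMap.lTensor S)) := by
      rw [hcomp]
      exact hSb.comp hT
    exact (Function.Bijective.of_comp_iff' hθ _).mp h1
  have hbij : Bijective (AlgHom.mulLeftRight R B) :=
    bijective_of_bijective_baseChange hS (AlgHom.mulLeftRight R B).toLinearMap hφS
  exact { (inferInstance : Module.Projective R B), hfaith,
    (inferInstance : Module.Finite R B) with bij := hbij }

end Groth.Agent.H3Az
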