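import Mathlib
import Groth.Prelude.Def_Fitting

set_option autoImplicit false
open Matrix

namespace Groth.Agent.H3Fitt

universe u v
variable {R : Type u} [CommRing R] {M : Type v} [AddCommGroup M] [Module R M]

/-- determinants of square matrices whose first `n - k` rows are relations among `x`. -/
def detSet (R : Type u) [CommRing R] {M : Type v} [AddCommGroup M] [Module R M] {n : ℕ} (x : Fin n → M) (k : ℕ) : Set R :=
  {d | ∃ a : Matrix (Fin n) (Fin n) R,
    (∀ i : Fin n, (i : ℕ) < n - k → ∑ j, a i j • x j = 0) ∧ d = a.det}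

/-- the ideal they span -/
def D (R : Type u) [CommRing R] {M : Type v} [AddCommGroup M] [Module R M] {n : ℕ} (x : Fin n → M) (k : ℕ) : Ideal R := Ideal.span (detSet R x k)

lemma det_mem_D {n : ℕ} {x : Fin n → M} {k : ℕ} (a : Matrix (Fin n) (Fin n) R)
    (h : ∀ i : Fin n, (i : ℕ) < n - k → ∑ j, a i j • x j = 0) : a.det ∈ D R x k :=
  Ideal.subset_span ⟨a, h, rfl⟩

lemma D_le_iff {n : ℕ} {x : Fin n → M} {k : ℕ} {J : Ideal R} :
    D R x k ≤ J ↔ ∀ a : Matrix (Fin n) (Fin n) R,
      (∀ i : Fin n, (i : ℕ) < n - k → ∑ j, a i j • x j = 0) → a.det ∈ J := by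
  constructor
  · intro h a ha
    exact h (det_mem_D a ha)
  · intro h
    refine Ideal.span_le.mpr ?_
    rintro d ⟨a, ha, rfl⟩
    exact h a ha

lemma D_le_ideal {n : ℕ} {x : Fin n → M} (hx : Submodule.span R (Set.range x) = ⊤) (k : ℕ) :
    D R x k ≤ Fitt.ideal R M k := by
  refine Ideal.span_le.mpr ?_
  rintro d ⟨a, ha, rfl⟩
  exact Ideal.subset_span ⟨n, x, a, hx, ha, rfl⟩

lemma ideal_le_iff {k : ℕ} {J : Ideal R} :
    Fitt.ideal R M k ≤ J ↔ ∀ (n : ℕ) (x : Fin n → M), Submodule.span R (Set.range x) = ⊤ →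
      D R x k ≤ J := by
  constructor
  · intro h n x hx
    exact (D_le_ideal hx k).trans h
  · intro h
    refine Ideal.span_le.mpr ?_
    rintro d ⟨n, x, a, hx, ha, rfl⟩
    exact h n x hx (det_mem_D a ha)

/-- reindexing along an equivalence -/
lemma D_reindex_le {n n' : ℕ} (σ : Fin n ≃ Fin n') (x' : Fin n' → M) (k : ℕ) :
    D R (x' ∘ σ) k ≤ D R x' k := by
  obtain rfl : n = n' := Fin.equiv_iff_eq.mp ⟨σ⟩
  rw [D_le_iff]
  intro a ha
  have h1 : (a.submatrix id σ.symm).det ∈ D R x' k := by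
    apply det_mem_D
    intro i hi
    have := ha i hi
    rw [← this]
    rw [← Equiv.sum_comp σ]
    refine Finset.sum_congr rfl fun j _ => ?_
    simp
  rw [Matrix.det_permute'] at h1
  have h2 : a.det = ((Equiv.Perm.sign σ.symm : ℤ) : R) * (((Equiv.Perm.sign σ.symm : ℤ) : R) * a.det) := by
    rw [← mul_assoc, ← Int.cast_mul]
    have : ((Equiv.Perm.sign σ.symm : ℤ)) * (Equiv.Perm.sign σ.symm : ℤ) = 1 := by
      rw [← Units.val_mul, Int.units_mul_self]; rfl
    rw [this]; simp
  rw [h2]
  exact Ideal.mul_mem_left _ _ h1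

lemma D_reindex {n n' : ℕ} (σ : Fin n ≃ Fin n') (x' : Fin n' → M) (k : ℕ) :
    D R (x' ∘ σ) k = D R x' k := by
  refine le_antisymm (D_reindex_le σ x' k) ?_
  have := D_reindex_le (R := R) σ.symm (x' ∘ σ) k
  have h : (x' ∘ σ) ∘ σ.symm = x' := by
    funext i; simp
  rwa [h] at this

lemma D_cast {n n' : ℕ} (h : n = n') (x' : Fin n' → M) (k : ℕ) :
    D R (x' ∘ Fin.cast h) k = D R x' k :=
  D_reindex (finCongr h) x' k

/-- adding a redundant generator at the front: `≥` -/
lemma D_le_D_cons {n : ℕ} (x : Fin n → M) (y : M) (hy : y ∈ Submodule.span R (Set.range x))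
    (k : ℕ) : D R x k ≤ D R (Fin.cons y x : Fin (n + 1) → M) k := by
  obtain ⟨c, hc⟩ := (Submodule.mem_span_range_iff_exists_fun R).mp hy
  rw [D_le_iff]
  intro a ha
  let a' : Matrix (Fin (n + 1)) (Fin (n + 1)) R :=
    Matrix.of (Fin.cons (Fin.cons 1 (fun j => - c j)) (fun i => Fin.cons 0 (a i)))
  have hdet : a'.det = a.det := by
    rw [Matrix.det_succ_column_zero, Fin.sum_univ_succ]
    have h0 : a'.submatrix (Fin.succAbove 0) Fin.succ = a := by
      ext i j
      simp [a']
    have hs : ∀ i : Fin n, a' i.succ 0 = 0 := by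
      intro i; simp [a']
    have h00 : a' 0 0 = 1 := by simp [a']
    simp only [hs, mul_zero, zero_mul, Finset.sum_const_zero, add_zero, h00, h0]
    simp
  rw [← hdet]
  apply det_mem_D
  intro i
  refine Fin.cases ?_ (fun i => ?_) i
  · intro _
    rw [Fin.sum_univ_succ]
    simp only [a', Matrix.of_apply, Fin.cons_zero, Fin.cons_succ, one_smul, neg_smul,
      Finset.sum_neg_distrib, hc, add_neg_cancel]
  · intro hi
    rw [Fin.sum_univ_succ]
    have hi' : (i : ℕ) < n - k := by
      simp only [Fin.val_succ] at hi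
      omega
    simp only [a', Matrix.of_apply, Fin.cons_zero, Fin.cons_succ, zero_smul, zero_add]
    exact ha i hi'


/-- removing a redundant generator at the front: `≤` -/
lemma D_cons_le_D {n : ℕ} (x : Fin n → M) (y : M) (hy : y ∈ Submodule.span R (Set.range x))
    (k : ℕ) : D R (Fin.cons y x : Fin (n + 1) → M) k ≤ D R x k := by
  obtain ⟨c, hc⟩ := (Submodule.mem_span_range_iff_exists_fun R).mp hy
  rw [D_le_iff]
  intro a ha
  let c' : Fin (n + 1) → R := Fin.cons 0 c
  let a' : Matrix (Fin (n + 1)) (Fin (n + 1)) R := Matrix.of fun i j => a i j + c' j * a i 0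
  have hdet : a'.det = a.det := by
    rw [← Matrix.det_transpose a', ← Matrix.det_transpose a]
    refine Matrix.det_eq_of_forall_row_eq_smul_add_const c' 0 (by simp [c']) ?_
    intro i j
    simp [a']
  rw [← hdet, Matrix.det_succ_column_zero]
  refine Ideal.sum_mem _ fun i _ => Ideal.mul_mem_left _ _ ?_
  apply det_mem_D
  intro l hl
  have hl' : ((i.succAbove l : Fin (n + 1)) : ℕ) < n + 1 - k := by
    have : ((i.succAbove l : Fin (n + 1)) : ℕ) ≤ l + 1 := by
      unfold Fin.succAbove
      split_ifs <;> simp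
    omega
  have h1 := ha (i.succAbove l) hl'
  rw [Fin.sum_univ_succ] at h1
  simp only [Fin.cons_zero, Fin.cons_succ] at h1
  simp only [Matrix.submatrix_apply, a', Matrix.of_apply, c', Fin.cons_succ, add_smul]
  rw [Finset.sum_add_distrib]
  rw [← h1, add_comm]
  congr 1
  rw [← hc, Finset.smul_sum]
  refine Finset.sum_congr rfl fun j _ => ?_
  rw [smul_smul, mul_comm]

lemma D_cons {n : ℕ} (x : Fin n → M) (y : M) (hy : y ∈ Submodule.span R (Set.range x))
    (k : ℕ) : D R (Fin.cons y x : Fin (n + 1) → M) k = D R x k :=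
  le_antisymm (D_cons_le_D x y hy k) (D_le_D_cons x y hy k)

lemma D_append {n : ℕ} (x : Fin n → M) (k : ℕ) :
    ∀ (m : ℕ) (y : Fin m → M), (∀ j, y j ∈ Submodule.span R (Set.range x)) →
      D R (Fin.append y x) k = D R x k := by
  intro m
  induction m with
  | zero =>
    intro y _
    have : y = Fin.elim0 := Subsingleton.elim _ _
    rw [this, Fin.elim0_append, D_cast]
  | succ m ih =>
    intro y hy
    have h1 : y = Fin.cons (y 0) (Fin.tail y) := (Fin.cons_self_tail y).symm
    rw [h1, Fin.append_cons, D_cast, D_cons, ih]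
    · intro j; exact hy _
    · refine Submodule.span_mono ?_ (hy 0)
      rintro _ ⟨i, rfl⟩
      exact ⟨Fin.natAdd m i, by simp⟩

lemma D_append_comm {n m : ℕ} (x : Fin n → M) (y : Fin m → M) (k : ℕ) :
    D R (Fin.append y x) k = D R (Fin.append x y) k := by
  have h : Fin.append x y = Fin.append y x ∘ finAddFlip := by
    funext i
    refine Fin.addCases (fun i => ?_) (fun i => ?_) i <;> simp
  rw [h, D_reindex]

/-- independence of the generating tuple -/
theorem D_eq_of_span_eq_top {n m : ℕ} (x : Fin n → M) (y : Fin m → M)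
    (hx : Submodule.span R (Set.range x) = ⊤) (hy : Submodule.span R (Set.range y) = ⊤) (k : ℕ) :
    D R x k = D R y k := by
  rw [← D_append x k m y (fun j => by rw [hx]; trivial), D_append_comm,
    D_append y k n x (fun j => by rw [hy]; trivial)]

theorem ideal_eq_D {n : ℕ} (x : Fin n → M) (hx : Submodule.span R (Set.range x) = ⊤) (k : ℕ) :
    Fitt.ideal R M k = D R x k := by
  refine le_antisymm ?_ (D_le_ideal hx k)
  rw [ideal_le_iff]
  intro m y hy
  rw [D_eq_of_span_eq_top y x hy hx]

end Groth.Agent.H3Fitt
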