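import Mathlib
import Groth.Prelude.Def_Fitting
import Groth.Agent.Lib.helper3.FittA

set_option autoImplicit false
open Matrix

namespace Groth.Agent.H3Fitt

universe u v
variable {R : Type u} [CommRing R] {M : Type v} [AddCommGroup M] [Module R M]

/-- Cramer: `det a • x j = ∑ l, adj a j l • (a x)_l`. -/
lemma det_smul_eq {n : ℕ} (a : Matrix (Fin n) (Fin n) R) (x : Fin n → M) (j : Fin n) :
    a.det • x j = ∑ l, a.adjugate j l • ∑ i, a l i • x i := by
  have h : a.adjugate * a = a.det • (1 : Matrix (Fin n) (Fin n) R) := Matrix.adjugate_mul a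
  have h2 : ∀ i, ∑ l, a.adjugate j l * a l i = if j = i then a.det else 0 := by
    intro i
    have := congrFun (congrFun h j) i
    rw [Matrix.mul_apply] at this
    rw [this]
    simp [Matrix.one_apply]
  calc a.det • x j = ∑ i, (if j = i then a.det else 0) • x i := by
        simp
    _ = ∑ i, (∑ l, a.adjugate j l * a l i) • x i := by
        refine Finset.sum_congr rfl fun i _ => by rw [h2]
    _ = ∑ i, ∑ l, a.adjugate j l • (a l i • x i) := by
        refine Finset.sum_congr rfl fun i _ => ?_
        rw [Finset.sum_smul]
        refine Finset.sum_congr rfl fun l _ => by rw [smul_smul]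
    _ = ∑ l, ∑ i, a.adjugate j l • (a l i • x i) := Finset.sum_comm
    _ = _ := by
        refine Finset.sum_congr rfl fun l _ => by rw [Finset.smul_sum]

lemma det_smul_eq_zero {n : ℕ} (a : Matrix (Fin n) (Fin n) R) (x : Fin n → M)
    (h : ∀ i, ∑ j, a i j • x j = 0) (j : Fin n) : a.det • x j = 0 := by
  rw [det_smul_eq]
  simp [h]

lemma ideal_zero_le_annihilator : Fitt.ideal R M 0 ≤ Module.annihilator R M := by
  rw [ideal_le_iff]
  intro n x hx
  rw [D_le_iff]
  intro a ha
  rw [Module.mem_annihilator]
  intro m
  have hm : m ∈ Submodule.span R (Set.range x) := by rw [hx]; trivial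
  induction hm using Submodule.span_induction with
  | mem y hy =>
    obtain ⟨j, rfl⟩ := hy
    exact det_smul_eq_zero a x (fun i => ha i (by simpa using i.2)) j
  | zero => simp
  | add y z _ _ hy hz => rw [smul_add, hy, hz, add_zero]
  | smul r y _ hy => rw [smul_comm, hy, smul_zero]

lemma one_mem_D_of_le {n : ℕ} (x : Fin n → M) {k : ℕ} (h : n ≤ k) : (1 : R) ∈ D R x k := by
  have : ((1 : Matrix (Fin n) (Fin n) R)).det ∈ D R x k := by
    apply det_mem_D
    intro i hi
    omega
  simpa using this

lemma ideal_eq_top_of_span {n : ℕ} (x : Fin n → M) (hx : Submodule.span R (Set.range x) = ⊤)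
    {k : ℕ} (h : n ≤ k) : Fitt.ideal R M k = ⊤ := by
  rw [Ideal.eq_top_iff_one]
  exact D_le_ideal hx k (one_mem_D_of_le x h)

lemma ideal_mono_of_surjective {M' : Type*} [AddCommGroup M'] [Module R M'] (f : M →ₗ[R] M')
    (hf : Function.Surjective f) (k : ℕ) : Fitt.ideal R M k ≤ Fitt.ideal R M' k := by
  rw [ideal_le_iff]
  intro n x hx
  rw [D_le_iff]
  intro a ha
  have hx' : Submodule.span R (Set.range (f ∘ x)) = ⊤ := by
    rw [Set.range_comp, ← Submodule.map_span, hx, Submodule.map_top, LinearMap.range_eq_top]
    exact hf
  refine D_le_ideal hx' k (det_mem_D a ?_)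
  intro i hi
  have := congrArg f (ha i hi)
  simpa using this

lemma ideal_antitone (R : Type u) [CommRing R] (M : Type v) [AddCommGroup M] [Module R M]
    {k k' : ℕ} (h : k ≤ k') : Fitt.ideal R M k ≤ Fitt.ideal R M k' := by
  rw [ideal_le_iff]
  intro n x hx
  rw [D_le_iff]
  intro a ha
  refine D_le_ideal hx k' (det_mem_D a ?_)
  intro i hi
  exact ha i (by omega)

/-- multilinearity: to check `det a ∈ J` for rows in spans, it suffices to check rows in the
generating sets. -/
lemma det_mem_of_rows_mem_span {n : Type*} [Fintype n] [DecidableEq n] (J : Ideal R)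
    (S : n → Set (n → R))
    (h : ∀ a : Matrix n n R, (∀ i, a i ∈ S i) → a.det ∈ J) :
    ∀ a : Matrix n n R, (∀ i, a i ∈ Submodule.span R (S i)) → a.det ∈ J := by
  classical
  have key : ∀ T : Finset n, ∀ a : Matrix n n R, (∀ i ∈ T, a i ∈ Submodule.span R (S i)) →
      (∀ i, i ∉ T → a i ∈ S i) → a.det ∈ J := by
    intro T
    induction T using Finset.induction_on with
    | empty =>
      intro a _ h2
      exact h a (fun i => h2 i (by simp))
    | insert i0 T hi0 ih =>
      intro a h1 h2
      have hrow : a i0 ∈ Submodule.span R (S i0) := h1 i0 (Finset.mem_insert_self _ _)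
      have hP : ∀ v ∈ Submodule.span R (S i0), (a.updateRow i0 v).det ∈ J := by
        intro v hv
        induction hv using Submodule.span_induction with
        | mem v hv =>
          apply ih
          · intro i hi
            have hne : i ≠ i0 := fun e => hi0 (e ▸ hi)
            rw [Matrix.updateRow_ne hne]
            exact h1 i (Finset.mem_insert_of_mem hi)
          · intro i hi
            by_cases e : i = i0
            · subst e
              rw [Matrix.updateRow_self]
              exact hv
            · rw [Matrix.updateRow_ne e]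
              exact h2 i (by simp [e, hi])
        | zero =>
          have : (a.updateRow i0 (0 : n → R)).det = 0 := by
            have := Matrix.det_updateRow_smul a i0 (0 : R) (0 : n → R)
            simpa using this
          rw [this]; exact J.zero_mem
        | add v w _ _ hv hw =>
          rw [Matrix.det_updateRow_add]
          exact J.add_mem hv hw
        | smul r v _ hv =>
          rw [Matrix.det_updateRow_smul]
          exact J.mul_mem_left _ hv
      have := hP _ hrow
      rwa [Matrix.updateRow_eq_self] at this
  intro a ha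
  exact key Finset.univ a (fun i _ => ha i) (fun i hi => absurd (Finset.mem_univ i) hi)

end Groth.Agent.H3Fitt
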