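import Mathlib
import Groth.Prelude.Def_Fitting
import Groth.Agent.Lib.helper3.FittA
import Groth.Agent.Lib.helper3.FittB

set_option autoImplicit false
open Matrix

namespace Groth.Agent.H3Fitt

universe u v
variable {R : Type u} [CommRing R] {M : Type v} [AddCommGroup M] [Module R M]

lemma zeroLocus_ideal_zero [Module.Finite R M] :
    PrimeSpectrum.zeroLocus (Fitt.ideal R M 0 : Set R) = Module.support R M := by
  apply Set.Subset.antisymm
  · intro p hp
    by_contra hns
    rw [Module.notMem_support_iff'] at hns
    obtain ⟨n, x, hx⟩ := Module.Finite.exists_fin (R := R) (M := M)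
    choose r hr hr0 using fun i => hns (x i)
    have hdet : (Matrix.diagonal r).det ∈ Fitt.ideal R M 0 := by
      refine D_le_ideal hx 0 (det_mem_D _ ?_)
      intro i _
      rw [Finset.sum_eq_single i]
      · simpa using hr0 i
      · intro j _ hj
        rw [Matrix.diagonal_apply_ne' _ hj, zero_smul]
      · intro h; exact absurd (Finset.mem_univ i) h
    have h2 : (Matrix.diagonal r).det ∈ p.asIdeal := hp hdet
    rw [Matrix.det_diagonal] at h2
    obtain ⟨i, _, hi⟩ := (Ideal.IsPrime.prod_mem_iff (hp := p.isPrime)).mp h2
    exact hr i hi
  · rw [Module.support_eq_zeroLocus]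
    exact PrimeSpectrum.zeroLocus_anti_mono ideal_zero_le_annihilator

lemma ideal_zero_quotient (I : Ideal R) : Fitt.ideal R (R ⧸ I) 0 = I := by
  apply le_antisymm
  · have := ideal_zero_le_annihilator (R := R) (M := R ⧸ I)
    rwa [Ideal.annihilator_quotient] at this
  · intro i hi
    let x : Fin 1 → R ⧸ I := fun _ => 1
    have hx : Submodule.span R (Set.range x) = ⊤ := by
      rw [eq_top_iff]
      rintro y -
      obtain ⟨r, rfl⟩ := Ideal.Quotient.mk_surjective y
      have : (Ideal.Quotient.mk I r) = r • (1 : R ⧸ I) := by
        rw [Algebra.smul_def]; simp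
      rw [this]
      exact Submodule.smul_mem _ _ (Submodule.subset_span ⟨0, rfl⟩)
    have : (Matrix.of fun (_ _ : Fin 1) => i).det ∈ Fitt.ideal R (R ⧸ I) 0 := by
      refine D_le_ideal hx 0 (det_mem_D _ ?_)
      intro j _
      simp only [Finset.univ_unique, Matrix.of_apply, Finset.sum_singleton, x]
      rw [Algebra.smul_def, mul_one]
      exact Ideal.Quotient.eq_zero_iff_mem.mpr hi
    simpa using this

/-- finite generation for finitely presented modules -/
lemma ideal_fg [Module.FinitePresentation R M] (k : ℕ) : (Fitt.ideal R M k).FG := by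
  classical
  obtain ⟨n, x, hx⟩ := Module.Finite.exists_fin (R := R) (M := M)
  rw [ideal_eq_D x hx]
  let l : (Fin n → R) →ₗ[R] M := Fintype.linearCombination R x
  have hl : Function.Surjective l := by
    rw [← LinearMap.range_eq_top, Fintype.range_linearCombination, hx]
  obtain ⟨Z, hZ⟩ := Module.FinitePresentation.fg_ker l hl
  let S : Fin n → Set (Fin n → R) := fun i =>
    if (i : ℕ) < n - k then (Z : Set (Fin n → R)) else Set.range (fun j : Fin n => Pi.single j (1 : R))
  have hSfin : ∀ i, (S i).Finite := by
    intro i
    simp only [S]
    split_ifs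
    · exact Z.finite_toSet
    · exact Set.finite_range _
  let T : Set R := Matrix.det '' {a : Matrix (Fin n) (Fin n) R | ∀ i, a i ∈ S i}
  have hT : T.Finite := (Set.Finite.pi' hSfin).image _
  have hZrel : ∀ z ∈ Z, ∑ j, z j • x j = 0 := by
    intro z hz
    have : z ∈ LinearMap.ker l := by rw [← hZ]; exact Submodule.subset_span hz
    simpa [l, Fintype.linearCombination_apply] using this
  have : D R x k = Ideal.span T := by
    apply le_antisymm
    · rw [D_le_iff]
      intro a ha
      refine det_mem_of_rows_mem_span (Ideal.span T) S ?_ a ?_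
      · intro b hb
        exact Ideal.subset_span ⟨b, hb, rfl⟩
      · intro i
        simp only [S]
        split_ifs with hi
        · rw [hZ]
          simpa [l, Fintype.linearCombination_apply] using ha i hi
        · have : Submodule.span R (Set.range fun j : Fin n => Pi.single j (1 : R)) = ⊤ :=
            (Pi.basisFun R (Fin n)).span_eq ▸ by
              congr 1
              ext v
              simp [Pi.basisFun_apply]
          rw [this]; trivial
    · refine Ideal.span_le.mpr ?_
      rintro _ ⟨a, ha, rfl⟩
      apply det_mem_D
      intro i hi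
      have := ha i
      simp only [S, hi, if_true] at this
      exact hZrel _ this
  rw [this]
  exact Submodule.fg_span hT

end Groth.Agent.H3Fitt
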