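import Mathlib
import Groth.Prelude.Def_Fitting
import Groth.Agent.Lib.helper3.FittA
import Groth.Agent.Lib.helper3.FittB

set_option autoImplicit false
open Matrix

namespace Groth.Agent.H3Fitt

universe u v
variable {R : Type u} [CommRing R] {M : Type v} [AddCommGroup M] [Module R M]

/-- entries of the adjugate in the free columns belong to `D`. -/
lemma adjugate_mem_D {n : ℕ} {x : Fin n → M} {k : ℕ} (a : Matrix (Fin n) (Fin n) R)
    (ha : ∀ i : Fin n, (i : ℕ) < n - k → ∑ j, a i j • x j = 0) (j l : Fin n)
    (hl : n - k ≤ (l : ℕ)) : a.adjugate j l ∈ D R x k := by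
  rw [Matrix.adjugate_apply]
  apply det_mem_D
  intro i hi
  have hne : i ≠ l := by
    intro e; subst e; omega
  rw [← ha i hi]
  refine Finset.sum_congr rfl fun j' _ => ?_
  rw [Matrix.updateRow_ne hne]

/-- the key consequence of Cramer's rule: modulo the relations, `det a • x j` is a combination of
the `k` elements `(a x)_l`, `l ≥ n - k`, with coefficients in `D`. -/
lemma det_smul_eq_free {n : ℕ} {x : Fin n → M} {k : ℕ} (a : Matrix (Fin n) (Fin n) R)
    (ha : ∀ i : Fin n, (i : ℕ) < n - k → ∑ j, a i j • x j = 0) (j : Fin n) :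
    a.det • x j = ∑ l : Fin n, (if n - k ≤ (l : ℕ) then a.adjugate j l else 0) •
      ∑ i, a l i • x i := by
  rw [det_smul_eq]
  refine Finset.sum_congr rfl fun l _ => ?_
  split_ifs with h
  · rfl
  · rw [ha l (by omega), smul_zero, smul_zero]

/-- generation of a module by `k` elements, from the last `k` among `n`. -/
lemma exists_fin_k_of_span_le {N : Type*} [AddCommGroup N] [Module R N] {n k : ℕ}
    (w : Fin n → N)
    (h : Submodule.span R (w '' {l : Fin n | n - k ≤ (l : ℕ)}) = ⊤) :
    ∃ g : Fin k → N, Submodule.span R (Set.range g) = ⊤ := by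
  refine ⟨fun t => if h : n - k + (t : ℕ) < n then w ⟨n - k + t, h⟩ else 0, ?_⟩
  rw [eq_top_iff, ← h]
  refine Submodule.span_mono ?_
  rintro _ ⟨l, hl, rfl⟩
  simp only [Set.mem_ofPred_eq] at hl
  have hl2 := l.2
  refine ⟨⟨(l : ℕ) - (n - k), by omega⟩, ?_⟩
  have h1 : n - k + ((l : ℕ) - (n - k)) = l := by omega
  simp only [h1, l.2, dif_pos]

theorem quotient_generated_of_principal [IsLocalRing R] [Module.Finite R M] (k : ℕ) (f : R)
    (hf : Fitt.ideal R M k = Ideal.span {f}) :
    ∃ g : Fin k → M ⧸ LinearMap.ker (f • (LinearMap.id : M →ₗ[R] M)),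
      Submodule.span R (Set.range g) = ⊤ := by
  classical
  obtain ⟨n, x, hx⟩ := Module.Finite.exists_fin (R := R) (M := M)
  rw [ideal_eq_D x hx] at hf
  set K := LinearMap.ker (f • (LinearMap.id : M →ₗ[R] M)) with hK
  -- either `f = 0` or some determinant is `f * unit`
  have key : f = 0 ∨ ∃ a : Matrix (Fin n) (Fin n) R,
      (∀ i : Fin n, (i : ℕ) < n - k → ∑ j, a i j • x j = 0) ∧ ∃ u : R, IsUnit u ∧ a.det = f * u := by
    by_contra hcon
    push Not at hcon
    obtain ⟨hf0, hcon⟩ := hcon
    have hle : D R x k ≤ IsLocalRing.maximalIdeal R * Ideal.span {f} := by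
      rw [D_le_iff]
      intro a ha
      have h1 : a.det ∈ Ideal.span {f} := by rw [← hf]; exact det_mem_D a ha
      obtain ⟨u, hu⟩ := Ideal.mem_span_singleton'.mp h1
      have hnu : ¬ IsUnit u := fun h => hcon a ha u h (by rw [← hu, mul_comm])
      rw [Ideal.mem_mul_span_singleton]
      exact ⟨u, (IsLocalRing.mem_maximalIdeal u).mpr hnu, hu⟩
    have hfm : f ∈ IsLocalRing.maximalIdeal R * Ideal.span {f} := by
      apply hle; rw [hf]; exact Ideal.mem_span_singleton_self f
    rw [Ideal.mem_mul_span_singleton] at hfm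
    obtain ⟨z, hz, hzf⟩ := hfm
    have hunit : IsUnit (1 - z) := by
      have := (IsLocalRing.mem_maximalIdeal z).mp hz
      rcases IsLocalRing.isUnit_or_isUnit_one_sub_self z with h | h
      · exact absurd h this
      · exact h
    apply hf0
    have : (1 - z) * f = 0 := by rw [sub_mul, one_mul, hzf, sub_self]
    exact (hunit.mul_right_eq_zero).mp this
  rcases key with hf0 | ⟨a, ha, u, hu, hdet⟩
  · -- trivial quotient
    have : K = ⊤ := by
      rw [hK, hf0, zero_smul, LinearMap.ker_zero]
    have : Subsingleton (M ⧸ K) := Submodule.Quotient.subsingleton_iff.mpr this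
    exact ⟨fun _ => 0, Subsingleton.elim _ _⟩
  · let w : Fin n → M ⧸ K := fun l => K.mkQ (∑ i, a l i • x i)
    apply exists_fin_k_of_span_le (k := k) w
    -- coefficients
    have hc : ∀ j l : Fin n, ∃ c : R, (if n - k ≤ (l : ℕ) then a.adjugate j l else 0) = f * c := by
      intro j l
      split_ifs with h
      · have : a.adjugate j l ∈ Ideal.span {f} := by
          rw [← hf]; exact adjugate_mem_D a ha j l h
        obtain ⟨c, hc⟩ := Ideal.mem_span_singleton'.mp this
        exact ⟨c, by rw [← hc, mul_comm]⟩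
      · exact ⟨0, by simp⟩
    choose c hc using hc
    have hmem : ∀ j, u • x j - ∑ l : Fin n, (if n - k ≤ (l : ℕ) then c j l else 0) • (∑ i, a l i • x i) ∈ K := by
      intro j
      rw [hK, LinearMap.mem_ker]
      simp only [LinearMap.smul_apply, LinearMap.id_coe, id_eq]
      rw [smul_sub, smul_smul, ← hdet, det_smul_eq_free a ha j, Finset.smul_sum, sub_eq_zero]
      refine Finset.sum_congr rfl fun l _ => ?_
      rw [smul_smul]
      congr 1
      split_ifs with h
      · have := hc j l
        rw [if_pos h] at this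
        exact this
      · simp
    -- span
    rw [eq_top_iff]
    have hgen : Submodule.span R (Set.range (fun j => K.mkQ (x j))) = ⊤ := by
      have : Set.range (fun j => K.mkQ (x j)) = K.mkQ '' Set.range x := by
        rw [← Set.range_comp]; rfl
      rw [this, ← Submodule.map_span, hx, Submodule.map_top, Submodule.range_mkQ]
    rw [← hgen]
    refine Submodule.span_le.mpr ?_
    rintro _ ⟨j, rfl⟩
    have h1 : K.mkQ (u • x j) = ∑ l : Fin n, (if n - k ≤ (l : ℕ) then c j l else 0) • w l := by
      have := (Submodule.Quotient.mk_eq_zero K).mpr (hmem j)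
      rw [Submodule.Quotient.mk_sub, sub_eq_zero] at this
      rw [Submodule.mkQ_apply, this, ← Submodule.mkQ_apply, map_sum]
      refine Finset.sum_congr rfl fun l _ => ?_
      rw [map_smul]
    have h2 : K.mkQ (x j) = hu.unit⁻¹.1 • K.mkQ (u • x j) := by
      rw [map_smul, smul_smul]
      simp
    show K.mkQ (x j) ∈ _
    rw [h2, h1]
    refine Submodule.smul_mem _ _ (Submodule.sum_mem _ fun l _ => ?_)
    split_ifs with h
    · exact Submodule.smul_mem _ _ (Submodule.subset_span ⟨l, h, rfl⟩)
    · simp

end Groth.Agent.H3Fitt
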