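import Mathlib
import Groth.Prelude.Def_Fitting
import Groth.Agent.Lib.helper3.FittA
import Groth.Agent.Lib.helper3.FittB
import Groth.Agent.Lib.helper3.FittD

set_option autoImplicit false
open Matrix

namespace Groth.Agent.H3Fitt

universe u v
variable {R : Type u} [CommRing R] {M : Type v} [AddCommGroup M] [Module R M]

/-- criterion: if `u • x j` are combinations of `w`, whose first `m - k` entries vanish,
then `u ^ n ∈ Fit_k`. -/
lemma pow_mem_ideal_of_smul_eq {n m : ℕ} (x : Fin n → M)
    (hx : Submodule.span R (Set.range x) = ⊤) (w : Fin m → M) (u : R)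
    (C : Matrix (Fin n) (Fin m) R) (k : ℕ) (h1 : ∀ j, u • x j = ∑ l, C j l • w l)
    (h2 : ∀ l : Fin m, (l : ℕ) < m - k → w l = 0) : u ^ n ∈ Fitt.ideal R M k := by
  classical
  let y : Fin (n + m) → M := fun i => Sum.elim x w (finSumFinEquiv.symm i)
  let B : Matrix (Fin n ⊕ Fin m) (Fin n ⊕ Fin m) R :=
    Matrix.fromBlocks (u • (1 : Matrix (Fin n) (Fin n) R)) (-C) 0 1
  let A : Matrix (Fin (n + m)) (Fin (n + m)) R := B.submatrix finSumFinEquiv.symm finSumFinEquiv.symm
  have hy : Submodule.span R (Set.range y) = ⊤ := by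
    rw [eq_top_iff, ← hx]
    refine Submodule.span_mono ?_
    rintro _ ⟨j, rfl⟩
    exact ⟨finSumFinEquiv (Sum.inl j), by simp [y]⟩
  have hdet : A.det = u ^ n := by
    simp only [A, B]
    rw [Matrix.det_submatrix_equiv_self, Matrix.det_fromBlocks_zero₂₁, Matrix.det_smul,
      Matrix.det_one, Matrix.det_one, mul_one, mul_one, Fintype.card_fin]
  rw [← hdet]
  refine D_le_ideal hy k (det_mem_D A ?_)
  intro i hi
  have hsum : ∑ j, A i j • y j = ∑ s, B (finSumFinEquiv.symm i) s • Sum.elim x w s := by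
    rw [← Equiv.sum_comp finSumFinEquiv]
    refine Finset.sum_congr rfl fun s _ => ?_
    simp [A, y]
  rw [hsum, Fintype.sum_sum_type]
  obtain ⟨s, rfl⟩ := finSumFinEquiv.surjective i
  rw [Equiv.symm_apply_apply]
  rcases s with j0 | l0
  · simp only [B, Matrix.fromBlocks_apply₁₁, Matrix.fromBlocks_apply₁₂, Sum.elim_inl, Sum.elim_inr,
      Matrix.smul_apply, Matrix.one_apply, Matrix.neg_apply, neg_smul, Finset.sum_neg_distrib,
      smul_eq_mul, mul_ite, mul_one, mul_zero, ite_smul, zero_smul]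
    rw [Finset.sum_ite_eq, if_pos (Finset.mem_univ _), h1, add_neg_cancel]
  · simp only [B, Matrix.fromBlocks_apply₂₁, Matrix.fromBlocks_apply₂₂, Sum.elim_inl, Sum.elim_inr,
      Matrix.zero_apply, zero_smul, Finset.sum_const_zero, zero_add, Matrix.one_apply, ite_smul,
      one_smul]
    rw [Finset.sum_ite_eq, if_pos (Finset.mem_univ _)]
    apply h2
    simp only [finSumFinEquiv_apply_right, Fin.val_natAdd] at hi
    omega

/-- core of the strict transform statement, over one ring. -/
lemma pow_mem_ideal_quotient {n : ℕ} (x : Fin n → M)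
    (hx : Submodule.span R (Set.range x) = ⊤) (k : ℕ) (T : Submodule R M) (a₁ u : R)
    (hT : ∀ z : M, a₁ • z = 0 → z ∈ T)
    (A : Matrix (Fin n) (Fin n) R)
    (hA : ∀ i : Fin n, (i : ℕ) < n - k → ∑ j, A i j • x j = 0)
    (hdet : A.det = a₁ * u)
    (hadj : ∀ j l : Fin n, n - k ≤ (l : ℕ) → ∃ c, A.adjugate j l = a₁ * c) :
    u ^ n ∈ Fitt.ideal R (M ⧸ T) k := by
  classical
  have hc : ∀ j l : Fin n, ∃ c : R, (if n - k ≤ (l : ℕ) then A.adjugate j l else 0) = a₁ * c := by
    intro j l
    split_ifs with h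
    · exact hadj j l h
    · exact ⟨0, by simp⟩
  choose c hc using hc
  let w : Fin n → M ⧸ T := fun l => T.mkQ (∑ i, A l i • x i)
  have hgen : Submodule.span R (Set.range (fun j => T.mkQ (x j))) = ⊤ := by
    have : Set.range (fun j => T.mkQ (x j)) = T.mkQ '' Set.range x := by
      rw [← Set.range_comp]; rfl
    rw [this, ← Submodule.map_span, hx, Submodule.map_top, Submodule.range_mkQ]
  refine pow_mem_ideal_of_smul_eq (fun j => T.mkQ (x j)) hgen w u (Matrix.of c) k ?_ ?_
  · intro j
    have hmem : u • x j - ∑ l : Fin n, c j l • (∑ i, A l i • x i) ∈ T := by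
      apply hT
      rw [smul_sub, smul_smul, ← hdet, det_smul_eq_free A hA j, Finset.smul_sum, sub_eq_zero]
      refine Finset.sum_congr rfl fun l _ => ?_
      rw [smul_smul, hc]
    have := (Submodule.Quotient.mk_eq_zero T).mpr hmem
    rw [Submodule.Quotient.mk_sub, sub_eq_zero] at this
    rw [← map_smul, Submodule.mkQ_apply, this, ← Submodule.mkQ_apply, map_sum]
    refine Finset.sum_congr rfl fun l _ => ?_
    rw [map_smul]; rfl
  · intro l hl
    simp only [w]
    rw [hA l hl, map_zero]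

end Groth.Agent.H3Fitt
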