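import Mathlib
import Groth.Prelude.Def_Fitting
import Groth.Prelude.Def_BlowUp2
import Groth.Prelude.Def_FlatCA
import Groth.Agent.Lib.helper3.FittA
import Groth.Agent.Lib.helper3.FittB
import Groth.Agent.Lib.helper3.FittD
import Groth.Agent.Lib.helper3.FittE

set_option autoImplicit false
open Matrix TensorProduct

namespace Groth.Agent.H3Fitt

universe u v

section blowup
variable {R : Type u} [CommRing R] (I : Ideal R) (a : R) (R₁ : Type u) [CommRing R₁] [Algebra R R₁]
  (e : R₁ ≃ₐ[R] ↥(BlowUp.affineAlgebra R I a))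

include e in
lemma blowup_nzd (r : R₁) (h : algebraMap R R₁ a * r = 0) : r = 0 := by
  apply e.injective
  rw [map_zero]
  have h1 : algebraMap R ↥(BlowUp.affineAlgebra R I a) a * e r = 0 := by
    rw [← e.commutes, ← map_mul, h, map_zero]
  have h2 : algebraMap R (Localization.Away a) a * ((e r : ↥(BlowUp.affineAlgebra R I a)) : Localization.Away a) = 0 := by
    have := congrArg (Subtype.val) h1
    simpa using this
  have hu : IsUnit (algebraMap R (Localization.Away a) a) := IsLocalization.Away.algebraMap_isUnit a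
  have := (hu.mul_right_eq_zero).mp h2
  exact Subtype.ext this

include e in
lemma blowup_div (d : R) (hd : d ∈ I) : ∃ u : R₁, algebraMap R R₁ d = algebraMap R R₁ a * u := by
  let q : ↥(BlowUp.affineAlgebra R I a) :=
    ⟨IsLocalization.mk' (Localization.Away a) d ⟨a, Submonoid.mem_powers a⟩,
      Algebra.subset_adjoin ⟨d, hd, rfl⟩⟩
  refine ⟨e.symm q, ?_⟩
  apply e.injective
  rw [map_mul, e.apply_symm_apply, e.commutes, e.commutes]
  apply Subtype.ext
  simp only [q, Subalgebra.coe_algebraMap, MulMemClass.coe_mul]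
  exact (IsLocalization.mk'_spec' (Localization.Away a) d ⟨a, Submonoid.mem_powers a⟩).symm

end blowup

variable {R : Type u} [CommRing R] (M : Type u) [AddCommGroup M] [Module R M]

lemma span_one_tmul {n : ℕ} (x : Fin n → M) (hx : Submodule.span R (Set.range x) = ⊤)
    (R₁ : Type u) [CommRing R₁] [Algebra R R₁] :
    Submodule.span R₁ (Set.range (fun j => (1 : R₁) ⊗ₜ[R] x j)) = ⊤ := by
  have h := Submodule.baseChange_span (R := R) (A := R₁) (M := M) (Set.range x)
  rw [hx, Submodule.baseChange_top] at h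
  rw [h]
  congr 1
  rw [← Set.range_comp]
  rfl

lemma map_rel {n : ℕ} (x : Fin n → M) (R₁ : Type u) [CommRing R₁] [Algebra R R₁]
    (v : Fin n → R) (h : ∑ j, v j • x j = 0) :
    ∑ j, (algebraMap R R₁ (v j)) • ((1 : R₁) ⊗ₜ[R] x j) = 0 := by
  have : ∀ j, (algebraMap R R₁ (v j)) • ((1 : R₁) ⊗ₜ[R] x j) = (1 : R₁) ⊗ₜ[R] (v j • x j) := by
    intro j
    rw [TensorProduct.smul_tmul', smul_eq_mul, mul_one, TensorProduct.tmul_smul,
      TensorProduct.smul_tmul', Algebra.smul_def, mul_one]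
  simp only [this]
  rw [← TensorProduct.tmul_sum, h, TensorProduct.tmul_zero]

theorem strictTransform_ideal_eq_top [Module.Finite R M] (k : ℕ) (a : R)
    (ha : a ∈ Fitt.ideal R M k) (R₁ : Type u) [CommRing R₁] [Algebra R R₁]
    (e : R₁ ≃ₐ[R] ↥(BlowUp.affineAlgebra R (Fitt.ideal R M k) a)) :
    Fitt.ideal R₁ ((R₁ ⊗[R] M) ⧸ FlatCA.powTorsion R₁ (algebraMap R R₁ a) (R₁ ⊗[R] M)) k = ⊤ := by
  classical
  by_contra hne
  obtain ⟨q, hq, hle⟩ := Ideal.exists_le_maximal _ hne
  have hqp : q.IsPrime := hq.isPrime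
  obtain ⟨n, x, hx⟩ := Module.Finite.exists_fin (R := R) (M := M)
  set a₁ := algebraMap R R₁ a with ha₁
  have key : ∃ A : Matrix (Fin n) (Fin n) R,
      (∀ i : Fin n, (i : ℕ) < n - k → ∑ j, A i j • x j = 0) ∧
        ∃ u : R₁, u ∉ q ∧ algebraMap R R₁ A.det = a₁ * u := by
    by_contra hcon
    push Not at hcon
    let J : Ideal R := Ideal.comap (algebraMap R R₁) (Ideal.span {a₁} * q)
    have hDJ : D R x k ≤ J := by
      rw [D_le_iff]
      intro A hA
      obtain ⟨u, hu⟩ := blowup_div _ a R₁ e A.det (D_le_ideal hx k (det_mem_D A hA))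
      have huq : u ∈ q := by
        by_contra h
        exact hcon A hA u h hu
      rw [Ideal.mem_comap, Ideal.mem_span_singleton_mul]
      exact ⟨u, huq, hu.symm⟩
    have haJ : a ∈ J := hDJ (by rw [← ideal_eq_D x hx]; exact ha)
    rw [Ideal.mem_comap, Ideal.mem_span_singleton_mul] at haJ
    obtain ⟨u', hu'q, hu'⟩ := haJ
    have h0 : a₁ * (1 - u') = 0 := by rw [mul_sub, mul_one, hu', sub_self]
    have h1 := blowup_nzd _ a R₁ e _ h0
    have : u' = 1 := (sub_eq_zero.mp h1).symm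
    rw [this] at hu'q
    exact hq.ne_top ((Ideal.eq_top_iff_one _).mpr hu'q)
  obtain ⟨A, hA, u, huq, hdet⟩ := key
  have hpow : u ^ n ∈ Fitt.ideal R₁ ((R₁ ⊗[R] M) ⧸ FlatCA.powTorsion R₁ a₁ (R₁ ⊗[R] M)) k := by
    refine pow_mem_ideal_quotient (fun j => (1 : R₁) ⊗ₜ[R] x j) (span_one_tmul M x hx R₁) k _ a₁ u ?_
      ((algebraMap R R₁).mapMatrix A) ?_ ?_ ?_
    · intro z hz
      refine Submodule.mem_iSup_of_mem 1 ?_
      rw [Submodule.mem_torsionBy_iff, pow_one]
      exact hz
    · intro i hi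
      exact map_rel M x R₁ (A i) (hA i hi)
    · rw [← RingHom.map_det]; exact hdet
    · intro j l hl
      rw [← RingHom.map_adjugate]
      exact blowup_div _ a R₁ e _ (D_le_ideal hx k (adjugate_mem_D A hA j l hl))
  exact huq (hqp.mem_of_pow_mem n (hle hpow))

end Groth.Agent.H3Fitt
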