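import Mathlib
import Groth.Prelude.Def_Fitting
import Groth.Agent.Lib.helper3.FittA
import Groth.Agent.Lib.helper3.FittB
import Groth.Agent.Lib.helper3.FittF

set_option autoImplicit false
open Matrix TensorProduct

namespace Groth.Agent.H3Fitt

universe u v

variable {R : Type u} [CommRing R] (M : Type u) [AddCommGroup M] [Module R M]
  (R' : Type u) [CommRing R'] [Algebra R R']

/-- the map `R' ⊗ Rⁿ → R'ⁿ` -/
noncomputable def phi (n : ℕ) : R' ⊗[R] (Fin n → R) →ₗ[R] (Fin n → R') :=
  TensorProduct.lift (LinearMap.mk₂ R (fun (r : R') (v : Fin n → R) => fun j => r * algebraMap R R' (v j))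
    (by intro r r' v; funext j; simp [add_mul])
    (by intro c r v; funext j; simp [mul_assoc])
    (by intro r v v'; funext j; simp [mul_add])
    (by intro c r v; funext j; simp [Algebra.smul_def]; ring))

@[simp] lemma phi_tmul (n : ℕ) (r : R') (v : Fin n → R) :
    phi R' n (r ⊗ₜ[R] v) = fun j => r * algebraMap R R' (v j) := by
  simp [phi]

variable {M}

/-- relations among `1 ⊗ x` are generated by images of relations among `x`. -/
lemma rel_baseChange {n : ℕ} (x : Fin n → M) (hx : Submodule.span R (Set.range x) = ⊤)
    (v' : Fin n → R') (h : ∑ j, v' j • ((1 : R') ⊗ₜ[R] x j) = 0) :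
    v' ∈ Submodule.span R' ((fun v : Fin n → R => (fun j => algebraMap R R' (v j))) ''
      {v | ∑ j, v j • x j = 0}) := by
  classical
  let l : (Fin n → R) →ₗ[R] M := Fintype.linearCombination R x
  have hl : Function.Surjective l := by
    rw [← LinearMap.range_eq_top, Fintype.range_linearCombination, hx]
  have hex := lTensor_exact R' (LinearMap.exact_subtype_ker_map l) hl
  let t : R' ⊗[R] (Fin n → R) := ∑ j, v' j ⊗ₜ[R] (Pi.single j (1 : R))
  have ht : (l.lTensor R') t = 0 := by
    simp only [t, map_sum, LinearMap.lTensor_tmul]
    rw [← h]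
    refine Finset.sum_congr rfl fun j _ => ?_
    have : l (Pi.single j (1 : R)) = x j := by
      simp [l, Fintype.linearCombination_apply_single]
    rw [this, TensorProduct.smul_tmul', smul_eq_mul, mul_one]
  obtain ⟨s, hs⟩ := (hex t).mp ht
  have hphit : phi R' n t = v' := by
    simp only [t, map_sum, phi_tmul]
    funext j
    simp [Finset.sum_apply, Pi.single_apply]
  have key : ∀ s : R' ⊗[R] (LinearMap.ker l), phi R' n ((LinearMap.ker l).subtype.lTensor R' s) ∈
      Submodule.span R' ((fun v : Fin n → R => (fun j => algebraMap R R' (v j))) ''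
        {v | ∑ j, v j • x j = 0}) := by
    intro s
    induction s using TensorProduct.induction_on with
    | zero => simp
    | tmul r κ =>
      simp only [LinearMap.lTensor_tmul, Submodule.subtype_apply, phi_tmul]
      have : (fun j => r * algebraMap R R' ((κ : Fin n → R) j)) =
          r • (fun j => algebraMap R R' ((κ : Fin n → R) j)) := by
        funext j; simp
      rw [this]
      refine Submodule.smul_mem _ _ (Submodule.subset_span ⟨κ, ?_, rfl⟩)
      have := κ.2
      simpa [l, Fintype.linearCombination_apply] using this
    | add a b ha hb =>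
      rw [map_add, map_add]
      exact Submodule.add_mem _ ha hb
  rw [← hphit, ← hs]
  exact key s

theorem ideal_baseChange [Module.Finite R M] (k : ℕ) :
    Fitt.ideal R' (R' ⊗[R] M) k = (Fitt.ideal R M k).map (algebraMap R R') := by
  classical
  obtain ⟨n, x, hx⟩ := Module.Finite.exists_fin (R := R) (M := M)
  have hx₁ := span_one_tmul M x hx R'
  rw [ideal_eq_D x hx, ideal_eq_D _ hx₁]
  apply le_antisymm
  · rw [D_le_iff]
    intro A' hA'
    let S : Fin n → Set (Fin n → R') := fun i =>
      if (i : ℕ) < n - k then ((fun v : Fin n → R => (fun j => algebraMap R R' (v j))) ''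
        {v | ∑ j, v j • x j = 0})
      else Set.range (fun v : Fin n → R => (fun j => algebraMap R R' (v j)))
    refine det_mem_of_rows_mem_span _ S ?_ A' ?_
    · intro a' ha'
      have : ∀ i : Fin n, ∃ v : Fin n → R, ((i : ℕ) < n - k → ∑ j, v j • x j = 0) ∧
          (fun j => algebraMap R R' (v j)) = a' i := by
        intro i
        have := ha' i
        simp only [S] at this
        split_ifs at this with hi
        · obtain ⟨v, hv, hv'⟩ := this
          exact ⟨v, fun _ => hv, hv'⟩
        · obtain ⟨v, hv'⟩ := this
          exact ⟨v, fun h => absurd h hi, hv'⟩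
      choose a ha ha2 using this
      have hmap : a' = (algebraMap R R').mapMatrix (Matrix.of a) := by
        ext i j
        rw [← ha2 i]
        rfl
      rw [hmap, ← RingHom.map_det]
      exact Ideal.mem_map_of_mem _ (det_mem_D (Matrix.of a) (fun i hi => ha i hi))
    · intro i
      simp only [S]
      split_ifs with hi
      · exact rel_baseChange R' x hx (A' i) (hA' i hi)
      · have : A' i = ∑ j, A' i j • (fun j' => algebraMap R R' ((Pi.single j (1 : R) : Fin n → R) j')) := by
          funext j'
          simp [Finset.sum_apply, Pi.single_apply]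
        rw [this]
        exact Submodule.sum_mem _ fun j _ => Submodule.smul_mem _ _ (Submodule.subset_span ⟨_, rfl⟩)
  · rw [D, Ideal.map_span]
    refine Ideal.span_le.mpr ?_
    rintro _ ⟨d, ⟨A, hA, rfl⟩, rfl⟩
    rw [RingHom.map_det]
    apply det_mem_D
    intro i hi
    exact map_rel M x R' (A i) (hA i hi)

end Groth.Agent.H3Fitt
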