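import Mathlib
import Groth.Prelude.Def_Fitting
import Groth.Agent.Lib.helper3.FittA
import Groth.Agent.Lib.helper3.FittB
import Groth.Agent.Lib.helper3.FittC
import Groth.Agent.Lib.helper3.FittH

set_option autoImplicit false
open TensorProduct

namespace Groth.Agent.H3CA

universe u

theorem support_baseChange {R R' : Type u} [CommRing R] [CommRing R'] [Algebra R R'] (M : Type u)
    [AddCommGroup M] [Module R M] [Module.Finite R M] :
    Module.support R' (R' ⊗[R] M) = PrimeSpectrum.comap (algebraMap R R') ⁻¹' Module.support R M := by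
  rw [← H3Fitt.zeroLocus_ideal_zero, ← H3Fitt.zeroLocus_ideal_zero, H3Fitt.ideal_baseChange,
    PrimeSpectrum.preimage_comap_zeroLocus, Ideal.map, PrimeSpectrum.zeroLocus_span]

end Groth.Agent.H3CA
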