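import Mathlib
import Groth.Prelude.Def_CAlgX
import Groth.Agent.Lib.helper3.FittB

set_option autoImplicit false
open Matrix

namespace Groth.Agent.H3CA

universe u

theorem minor_left_inverse {R : Type u} [CommRing R] {n m : ℕ} (A : Matrix (Fin n) (Fin m) R) :
    (∀ f ∈ CAlgX.minorIdeal A m, ∃ B : Matrix (Fin m) (Fin n) R,
      B * A = f • (1 : Matrix (Fin m) (Fin m) R)) ∧
    (∀ (f : R) (B : Matrix (Fin m) (Fin n) R), B * A = f • (1 : Matrix (Fin m) (Fin m) R) →
      f ^ m ∈ CAlgX.minorIdeal A m) := by
  classical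
  constructor
  · intro f hf
    unfold CAlgX.minorIdeal at hf
    induction hf using Submodule.span_induction with
    | mem d hd =>
      obtain ⟨⟨r, c⟩, rfl⟩ := hd
      let P : Matrix (Fin m) (Fin n) R := (1 : Matrix (Fin n) (Fin n) R).submatrix r id
      let Q : Matrix (Fin m) (Fin m) R := (1 : Matrix (Fin m) (Fin m) R).submatrix id c
      have hPA : P * A = A.submatrix r id := by
        ext i j
        simp [P, Matrix.mul_apply, Matrix.one_apply]
      have hAQ : A.submatrix r c = (A.submatrix r id) * Q := by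
        ext i j
        simp [Q, Matrix.mul_apply, Matrix.one_apply]
      refine ⟨Q * (A.submatrix r c).adjugate * P, ?_⟩
      show Q * (A.submatrix r c).adjugate * P * A = (A.submatrix r c).det • 1
      rw [Matrix.mul_assoc, hPA, hAQ, Matrix.adjugate_mul_distrib, ← Matrix.mul_assoc, Matrix.mul_adjugate, Matrix.smul_mul, Matrix.one_mul, Matrix.smul_mul,
        Matrix.adjugate_mul, smul_smul, Matrix.det_mul, mul_comm]
    | zero => exact ⟨0, by simp⟩
    | add f g _ _ hf hg =>
      obtain ⟨B₁, h₁⟩ := hf
      obtain ⟨B₂, h₂⟩ := hg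
      exact ⟨B₁ + B₂, by rw [Matrix.add_mul, h₁, h₂, add_smul]⟩
    | smul r f _ hf =>
      obtain ⟨B₁, h₁⟩ := hf
      exact ⟨r • B₁, by rw [Matrix.smul_mul, h₁, smul_smul, smul_eq_mul]⟩
  · intro f B hB
    have hdet : (B * A).det = f ^ m := by
      rw [hB, Matrix.det_smul, Matrix.det_one, mul_one, Fintype.card_fin]
    rw [← hdet]
    refine H3Fitt.det_mem_of_rows_mem_span (CAlgX.minorIdeal A m)
      (fun _ => Set.range fun j : Fin n => A j) ?_ (B * A) ?_
    · intro a ha
      choose r hr using ha
      have : a = A.submatrix r id := by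
        ext i j
        rw [← hr i]
        rfl
      rw [this]
      exact Ideal.subset_span ⟨(r, id), rfl⟩
    · intro i
      have : (B * A) i = ∑ j, B i j • A j := by
        funext l
        simp [Matrix.mul_apply, Finset.sum_apply]
      rw [this]
      exact Submodule.sum_mem _ fun j _ => Submodule.smul_mem _ _ (Submodule.subset_span ⟨j, rfl⟩)

end Groth.Agent.H3CA
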