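import Mathlib

set_option autoImplicit false
open Polynomial

namespace Groth.Agent.H3CA

universe u

lemma isUnit_of_isUnit_quotient_nil {R : Type u} [CommRing R] (I : Ideal R)
    (hI : ∀ x ∈ I, IsNilpotent x) (a : R) (h : IsUnit (Ideal.Quotient.mk I a)) : IsUnit a := by
  obtain ⟨b, hb⟩ := h.exists_right_inv
  obtain ⟨b, rfl⟩ := Ideal.Quotient.mk_surjective b
  rw [← map_mul, ← map_one (Ideal.Quotient.mk I), Ideal.Quotient.eq] at hb
  have hnil : IsNilpotent (a * b - 1) := hI _ hb
  have : IsUnit (a * b) := by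
    have := hnil.isUnit_add_one
    simpa using this
  exact isUnit_of_mul_isUnit_left this

theorem nth_root_lift {R : Type u} [CommRing R] (I : Ideal R) (hI : ∀ x ∈ I, IsNilpotent x)
    (n : ℕ) (hn : 1 ≤ n) (hinv : IsUnit ((n : ℕ) : R ⧸ I)) :
    (∀ y ∈ I, ∃! x : R, x ∈ I ∧ (1 + x) ^ n = 1 + y) ∧
    (∀ u : Rˣ, (∃ v : R, v ^ n = (u : R)) ↔ ∃ w : R ⧸ I, w ^ n = Ideal.Quotient.mk I (u : R)) := by
  have hnR : IsUnit ((n : ℕ) : R) := by
    apply isUnit_of_isUnit_quotient_nil I hI
    simpa using hinv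
  have hderiv : ∀ (S : Type u) [CommRing S] (c : S),
      derivative ((X : S[X]) ^ n - C c) = C ((n : ℕ) : S) * X ^ (n - 1) := by
    intro S _ c
    rw [derivative_sub, derivative_C, sub_zero, derivative_X_pow, map_natCast]
  have part1 : ∀ y ∈ I, ∃! x : R, x ∈ I ∧ (1 + x) ^ n = 1 + y := by
    intro y hy
    have h1 : IsNilpotent (aeval (1 : R) ((X : R[X]) ^ n - C (1 + y))) := by
      have : aeval (1 : R) ((X : R[X]) ^ n - C (1 + y)) = -y := by simp
      rw [this]
      exact (hI y hy).neg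
    have h2 : IsUnit (aeval (1 : R) (derivative ((X : R[X]) ^ n - C (1 + y)))) := by
      rw [hderiv]
      simpa using hnR
    have hEU := existsUnique_nilpotent_sub_and_aeval_eq_zero h1 h2
    obtain ⟨r, ⟨hr1, hr2⟩, hruniq⟩ := hEU
    have hr2' : r ^ n = 1 + y := by
      have : aeval r ((X : R[X]) ^ n - C (1 + y)) = r ^ n - (1 + y) := by simp
      rw [this] at hr2
      exact sub_eq_zero.mp hr2
    -- r ≡ 1 mod I
    have hrI : r - 1 ∈ I := by
      rw [← Ideal.Quotient.eq, map_one]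
      have g1 : IsNilpotent (aeval (1 : R ⧸ I) ((X : (R ⧸ I)[X]) ^ n - C 1)) := by
        have : aeval (1 : R ⧸ I) ((X : (R ⧸ I)[X]) ^ n - C 1) = 0 := by simp
        rw [this]; exact IsNilpotent.zero
      have g2 : IsUnit (aeval (1 : R ⧸ I) (derivative ((X : (R ⧸ I)[X]) ^ n - C 1))) := by
        rw [hderiv]
        simpa using hinv
      have hEU' := existsUnique_nilpotent_sub_and_aeval_eq_zero g1 g2
      have e1 : IsNilpotent ((1 : R ⧸ I) - Ideal.Quotient.mk I r) ∧
          aeval (Ideal.Quotient.mk I r) ((X : (R ⧸ I)[X]) ^ n - C 1) = 0 := by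
        constructor
        · have := hr1.map (Ideal.Quotient.mk I)
          simpa using this
        · have : aeval (Ideal.Quotient.mk I r) ((X : (R ⧸ I)[X]) ^ n - C 1) =
              Ideal.Quotient.mk I (r ^ n) - 1 := by simp
          rw [this, hr2', map_add, map_one, Ideal.Quotient.eq_zero_iff_mem.mpr hy]
          simp
      have e2 : IsNilpotent ((1 : R ⧸ I) - 1) ∧
          aeval (1 : R ⧸ I) ((X : (R ⧸ I)[X]) ^ n - C 1) = 0 := by
        constructor
        · simp
        · simp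
      exact hEU'.unique e1 e2
    refine ⟨r - 1, ⟨hrI, by rw [add_sub_cancel, hr2']⟩, ?_⟩
    rintro x' ⟨hx'I, hx'⟩
    have : 1 + x' = r := by
      apply hruniq
      constructor
      · have : (1 : R) - (1 + x') = -x' := by ring
        rw [this]
        exact (hI x' hx'I).neg
      · have : aeval (1 + x') ((X : R[X]) ^ n - C (1 + y)) = (1 + x') ^ n - (1 + y) := by simp
        rw [this, hx', sub_self]
    rw [← this]; ring
  refine ⟨part1, ?_⟩
  intro u
  constructor
  · rintro ⟨v, hv⟩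
    exact ⟨Ideal.Quotient.mk I v, by rw [← map_pow, hv]⟩
  · rintro ⟨w, hw⟩
    obtain ⟨w', rfl⟩ := Ideal.Quotient.mk_surjective w
    rw [← map_pow, Ideal.Quotient.eq] at hw
    set y : R := (↑u⁻¹ : R) * (w' ^ n - u) with hy
    have hyI : y ∈ I := Ideal.mul_mem_left _ _ hw
    have hwy : w' ^ n = u * (1 + y) := by
      rw [hy, mul_add, mul_one, ← mul_assoc, Units.mul_inv, one_mul]; ring
    obtain ⟨x, ⟨hxI, hx⟩, -⟩ := part1 y hyI
    have hunit : IsUnit (1 + x) := by
      have := (hI x hxI).isUnit_add_one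
      rwa [add_comm] at this
    obtain ⟨t, ht⟩ := hunit.exists_right_inv
    refine ⟨w' * t, ?_⟩
    rw [mul_pow, hwy, ← hx, mul_assoc, ← mul_pow, ht, one_pow, mul_one]

end Groth.Agent.H3CA
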