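import Mathlib

set_option autoImplicit false
open TensorProduct

namespace Groth.Agent.H3CA

universe u

section
variable {R S : Type u} [CommRing R] [CommRing S] [Algebra R S] [Module.Flat R S]
  {N : Type u} [AddCommGroup N] [Module R N]

lemma mem_map_ker_of_tmul_eq_zero (φ : R →ₗ[R] N) (s : S) (h : s ⊗ₜ[R] φ 1 = 0) :
    s ∈ Ideal.map (algebraMap R S) (LinearMap.ker φ) := by
  have hex : Function.Exact (LinearMap.ker φ).subtype φ := LinearMap.exact_subtype_ker_map φ
  have hex' := Module.Flat.lTensor_exact S hex
  have h0 : (φ.lTensor S) (s ⊗ₜ[R] (1 : R)) = 0 := by
    rw [LinearMap.lTensor_tmul, h]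
  obtain ⟨t, ht⟩ := (hex' _).mp h0
  have key : ∀ t : S ⊗[R] (LinearMap.ker φ),
      TensorProduct.rid R S ((LinearMap.ker φ).subtype.lTensor S t) ∈
        Ideal.map (algebraMap R S) (LinearMap.ker φ) := by
    intro t
    induction t using TensorProduct.induction_on with
    | zero => simp
    | tmul s' a =>
      simp only [LinearMap.lTensor_tmul, Submodule.subtype_apply, TensorProduct.rid_tmul]
      rw [Algebra.smul_def]
      exact Ideal.mul_mem_right _ _ (Ideal.mem_map_of_mem _ a.2)
    | add a b ha hb =>
      rw [map_add, map_add]
      exact Ideal.add_mem _ ha hb
  have := key t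
  rw [ht, TensorProduct.rid_tmul, one_smul] at this
  exact this

end

theorem annihilator_baseChange {R S : Type u} [CommRing R] [CommRing S] [Algebra R S]
    [Module.Flat R S] (M : Type u) [AddCommGroup M] [Module R M] :
    (∀ m : M, ((Submodule.span R {m}).annihilator).map (algebraMap R S) =
      (Submodule.span S {(1 : S) ⊗ₜ[R] m}).annihilator) ∧
    (Module.Finite R M → (Module.annihilator R M).map (algebraMap R S) =
      Module.annihilator S (S ⊗[R] M)) := by
  classical
  constructor
  · intro m
    apply le_antisymm
    · rw [Ideal.map_le_iff_le_comap]
      intro r hr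
      rw [Submodule.mem_annihilator_span_singleton] at hr
      rw [Ideal.mem_comap, Submodule.mem_annihilator_span_singleton, TensorProduct.smul_tmul',
        Algebra.algebraMap_eq_smul_one, smul_assoc, one_smul, TensorProduct.smul_tmul, hr,
        TensorProduct.tmul_zero]
    · intro s hs
      rw [Submodule.mem_annihilator_span_singleton, TensorProduct.smul_tmul', smul_eq_mul,
        mul_one] at hs
      have := mem_map_ker_of_tmul_eq_zero (LinearMap.toSpanSingleton R M m) s
        (by rw [LinearMap.toSpanSingleton_apply, one_smul]; exact hs)
      have hker : (LinearMap.ker (LinearMap.toSpanSingleton R M m) : Ideal R) =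
          (Submodule.span R {m}).annihilator := by
        ext r
        rw [LinearMap.mem_ker, LinearMap.toSpanSingleton_apply,
          Submodule.mem_annihilator_span_singleton]
      rwa [hker] at this
  · intro hfin
    obtain ⟨k, x, hx⟩ := Module.Finite.exists_fin (R := R) (M := M)
    apply le_antisymm
    · rw [Ideal.map_le_iff_le_comap]
      intro r hr
      rw [Module.mem_annihilator] at hr
      rw [Ideal.mem_comap, Module.mem_annihilator]
      intro z
      induction z using TensorProduct.induction_on with
      | zero => simp
      | tmul s' m =>
        rw [TensorProduct.smul_tmul', Algebra.algebraMap_eq_smul_one, smul_assoc, one_smul,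
          TensorProduct.smul_tmul, hr, TensorProduct.tmul_zero]
      | add a b ha hb => rw [smul_add, ha, hb, add_zero]
    · intro s hs
      rw [Module.mem_annihilator] at hs
      let φ : R →ₗ[R] (Fin k → M) := LinearMap.pi fun i => LinearMap.toSpanSingleton R M (x i)
      have hφ1 : s ⊗ₜ[R] φ 1 = 0 := by
        apply (TensorProduct.piRight R R S (fun _ : Fin k => M)).injective
        rw [map_zero, TensorProduct.piRight_apply, TensorProduct.piRightHom_tmul]
        funext j
        have := hs ((1 : S) ⊗ₜ[R] x j)
        rw [TensorProduct.smul_tmul', smul_eq_mul, mul_one] at this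
        simp only [φ, LinearMap.pi_apply, LinearMap.toSpanSingleton_apply, one_smul, Pi.zero_apply]
        exact this
      have := mem_map_ker_of_tmul_eq_zero φ s hφ1
      have hker : (LinearMap.ker φ : Ideal R) = Module.annihilator R M := by
        ext r
        rw [LinearMap.mem_ker, Module.mem_annihilator]
        constructor
        · intro h m
          have hm : m ∈ Submodule.span R (Set.range x) := by rw [hx]; trivial
          induction hm using Submodule.span_induction with
          | mem y hy =>
            obtain ⟨j, rfl⟩ := hy
            have := congrFun h j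
            simpa [φ, LinearMap.toSpanSingleton_apply] using this
          | zero => simp
          | add y z _ _ hy hz => rw [smul_add, hy, hz, add_zero]
          | smul c y _ hy => rw [smul_comm, hy, smul_zero]
        · intro h
          funext j
          simp [φ, LinearMap.toSpanSingleton_apply, h]
      rwa [hker] at this

end Groth.Agent.H3CA
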