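import Mathlib

set_option autoImplicit false

namespace Groth.Agent.H3CA

universe u

theorem reduced_minimalPrimes (R : Type u) [CommRing R] [IsReduced R] :
    (∀ p : PrimeSpectrum R, p.asIdeal ∈ minimalPrimes R → IsField (Localization.AtPrime p.asIdeal)) ∧
    Function.Injective (algebraMap R (∀ p : {p : PrimeSpectrum R // p.asIdeal ∈ minimalPrimes R},
      Localization.AtPrime p.1.asIdeal)) ∧
    (∀ x : R, x ∉ nonZeroDivisors R ↔ ∃ p ∈ minimalPrimes R, x ∈ p) := by
  have hfield : ∀ p : PrimeSpectrum R, p.asIdeal ∈ minimalPrimes R →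
      IsField (Localization.AtPrime p.asIdeal) := by
    intro p hp
    have h0 : Ring.KrullDimLE 0 (Localization.AtPrime p.asIdeal) :=
      Ring.KrullDimLE.of_isLocalization p.asIdeal hp _
    have hred : IsReduced (Localization.AtPrime p.asIdeal) := inferInstance
    exact Ring.KrullDimLE.isField_of_isReduced
  have hmem : ∀ (p : PrimeSpectrum R), p.asIdeal ∈ minimalPrimes R → ∀ x : R,
      algebraMap R (Localization.AtPrime p.asIdeal) x = 0 → x ∈ p.asIdeal := by
    intro p hp x hx
    rw [IsLocalization.map_eq_zero_iff p.asIdeal.primeCompl] at hx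
    obtain ⟨⟨s, hs⟩, hsx⟩ := hx
    have : s * x ∈ p.asIdeal := by rw [hsx]; exact Ideal.zero_mem _
    exact (p.isPrime.mem_or_mem this).resolve_left hs
  refine ⟨hfield, ?_, ?_⟩
  · rw [injective_iff_map_eq_zero]
    intro x hx
    have hxall : ∀ p ∈ minimalPrimes R, x ∈ p := by
      intro p hp
      have hpp : p.IsPrime := Ideal.IsMinimalPrime.isPrime hp
      have := congrFun hx ⟨⟨p, hpp⟩, hp⟩
      exact hmem ⟨p, hpp⟩ hp x this
    have : x ∈ nilradical R := by
      rw [nilradical, ← Ideal.sInf_minimalPrimes, Ideal.mem_sInf]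
      intro p hp
      exact hxall p hp
    rw [nilradical_eq_zero] at this
    simpa using this
  · intro x
    constructor
    · intro hx
      rw [mem_nonZeroDivisors_iff_right] at hx
      push Not at hx
      obtain ⟨y, hxy, hy⟩ := hx
      have : ∃ p ∈ minimalPrimes R, y ∉ p := by
        by_contra hcon
        push Not at hcon
        apply hy
        have : y ∈ nilradical R := by
          rw [nilradical, ← Ideal.sInf_minimalPrimes, Ideal.mem_sInf]
          intro p hp
          exact hcon p hp
        rw [nilradical_eq_zero] at this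
        simpa using this
      obtain ⟨p, hp, hyp⟩ := this
      have hpp : p.IsPrime := Ideal.IsMinimalPrime.isPrime hp
      refine ⟨p, hp, ?_⟩
      have : y * x ∈ p := by rw [hxy]; exact Ideal.zero_mem _
      exact (hpp.mem_or_mem this).resolve_left hyp
    · rintro ⟨p, hp, hxp⟩
      exact notMem_nonZeroDivisors_of_mem_mem_minimalPrimes hxp hp

end Groth.Agent.H3CA
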