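import Mathlib
import Groth.Prelude.Def_CAlgX

set_option autoImplicit false
open TensorProduct

namespace Groth.Agent.H3CA

universe u

section
variable {R S : Type u} [CommRing R] [CommRing S] [Algebra R S]
  (hS : CAlgX.UniversallyInjective R (Algebra.linearMap R S))

include hS in
lemma one_tmul_injective (Q : Type u) [AddCommGroup Q] [Module R Q] :
    Function.Injective (fun q : Q => (1 : S) ⊗ₜ[R] q) := by
  have h1 : (fun q : Q => (1 : S) ⊗ₜ[R] q) =
      ((Algebra.linearMap R S).rTensor Q) ∘ (TensorProduct.lid R Q).symm := by
    funext q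
    simp
  rw [h1]
  exact (hS Q).comp (TensorProduct.lid R Q).symm.injective

include hS in
theorem reflects_inj_surj {M N : Type u} [AddCommGroup M] [Module R M] [AddCommGroup N] [Module R N]
    (g : M →ₗ[R] N) :
    (Function.Injective (g.lTensor S) → Function.Injective g) ∧
    (Function.Surjective (g.lTensor S) → Function.Surjective g) := by
  constructor
  · intro hinj m m' hmm
    apply one_tmul_injective hS M
    apply hinj
    simp only [LinearMap.lTensor_tmul, hmm]
  · intro hsurj n
    let Q := N ⧸ LinearMap.range g
    have hzero : ∀ z : S ⊗[R] N, ((LinearMap.range g).mkQ.lTensor S) z = 0 := by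
      intro z
      obtain ⟨w, rfl⟩ := hsurj z
      rw [← LinearMap.comp_apply, ← LinearMap.lTensor_comp]
      have : (LinearMap.range g).mkQ ∘ₗ g = 0 := by
        ext m
        simp
      rw [this, LinearMap.lTensor_zero, LinearMap.zero_apply]
    have h1 : (1 : S) ⊗ₜ[R] ((LinearMap.range g).mkQ n) = (1 : S) ⊗ₜ[R] (0 : Q) := by
      have := hzero ((1 : S) ⊗ₜ[R] n)
      rw [LinearMap.lTensor_tmul] at this
      rw [this, TensorProduct.tmul_zero]
    have h2 := one_tmul_injective hS Q h1
    rw [Submodule.mkQ_apply, Submodule.Quotient.mk_eq_zero] at h2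
    exact h2

end

end Groth.Agent.H3CA
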