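import Mathlib

set_option autoImplicit false
open TensorProduct

namespace Groth.Agent.H3CA

universe u

section
variable {R : Type u} [CommRing R] {M N : Type u} [AddCommGroup M] [Module R M]
  [AddCommGroup N] [Module R N]

/-- `K ⊗ φ` is surjective iff `K ⊗ coker φ = 0`. -/
lemma lTensor_surjective_iff_subsingleton_coker (K : Type u) [AddCommGroup K] [Module R K]
    (φ : M →ₗ[R] N) :
    Function.Surjective (φ.lTensor K) ↔ Subsingleton (K ⊗[R] (N ⧸ LinearMap.range φ)) := by
  have hex : Function.Exact φ (LinearMap.range φ).mkQ := by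
    rw [LinearMap.exact_iff, Submodule.ker_mkQ]
  have hsurj : Function.Surjective (LinearMap.range φ).mkQ := Submodule.mkQ_surjective _
  have hex' := lTensor_exact K hex hsurj
  have hsurj' : Function.Surjective ((LinearMap.range φ).mkQ.lTensor K) :=
    LinearMap.lTensor_surjective K hsurj
  constructor
  · intro h
    refine ⟨fun a b => ?_⟩
    obtain ⟨a', rfl⟩ := hsurj' a
    obtain ⟨b', rfl⟩ := hsurj' b
    obtain ⟨a'', rfl⟩ := h a'
    obtain ⟨b'', rfl⟩ := h b'
    rw [(hex' _).mpr ⟨a'', rfl⟩, (hex' _).mpr ⟨b'', rfl⟩]
  · intro h z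
    have : ((LinearMap.range φ).mkQ.lTensor K) z = 0 := Subsingleton.elim _ _
    exact (hex' z).mp this

theorem surjective_locus [Module.Finite R N] (φ : M →ₗ[R] N) :
    (∀ p : PrimeSpectrum R, Function.Surjective (LocalizedModule.map p.asIdeal.primeCompl φ) ↔
      Function.Surjective (φ.lTensor p.asIdeal.ResidueField)) ∧
    IsOpen {p : PrimeSpectrum R | Function.Surjective (LocalizedModule.map p.asIdeal.primeCompl φ)} ∧
    (∀ f : R, (↑(PrimeSpectrum.basicOpen f) : Set (PrimeSpectrum R)) ⊆
      {p : PrimeSpectrum R | Function.Surjective (LocalizedModule.map p.asIdeal.primeCompl φ)} →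
      Function.Surjective (LocalizedModule.map (Submonoid.powers f) φ)) := by
  have hloc : ∀ p : PrimeSpectrum R, Function.Surjective (LocalizedModule.map p.asIdeal.primeCompl φ) ↔
      p ∉ Module.support R (N ⧸ LinearMap.range φ) := by
    intro p
    rw [φ.localizedMap_surjective_iff_subsingleton_localized_coker, Module.notMem_support_iff]
  have hset : {p : PrimeSpectrum R | Function.Surjective (LocalizedModule.map p.asIdeal.primeCompl φ)} =
      (Module.support R (N ⧸ LinearMap.range φ))ᶜ := by
    ext p
    exact hloc p
  refine ⟨?_, ?_, ?_⟩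
  · intro p
    rw [hloc p, lTensor_surjective_iff_subsingleton_coker,
      Module.mem_support_iff_nontrivial_residueField_tensorProduct, not_nontrivial_iff_subsingleton]
  · rw [hset, isOpen_compl_iff, Module.support_eq_zeroLocus]
    exact PrimeSpectrum.isClosed_zeroLocus _
  · intro f hf
    rw [hset] at hf
    rw [φ.localizedMap_surjective_iff_subsingleton_localized_coker]
    apply LocalizedModule.subsingleton_iff_support_subset.mpr
    intro p hp
    by_contra hfp
    have : p ∈ (↑(PrimeSpectrum.basicOpen f) : Set (PrimeSpectrum R)) := by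
      simp only [PrimeSpectrum.mem_zeroLocus, Set.singleton_subset_iff, SetLike.mem_coe] at hfp
      exact hfp
    exact hf this hp

end

end Groth.Agent.H3CA
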