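import Mathlib

set_option autoImplicit false

namespace Groth.Agent.H3CA

universe u

/-- coherent module (as a predicate) -/
def Coh (R : Type u) [CommRing R] (M : Type u) [AddCommGroup M] [Module R M] : Prop :=
  Module.Finite R M ∧ ∀ N : Submodule R M, N.FG → Module.FinitePresentation R N

section
variable (R : Type u) [CommRing R] {M₁ M₂ M₃ : Type u}
  [AddCommGroup M₁] [Module R M₁] [AddCommGroup M₂] [Module R M₂] [AddCommGroup M₃] [Module R M₃]

theorem coh_of_shortExact (f : M₁ →ₗ[R] M₂) (g : M₂ →ₗ[R] M₃) (hf : Function.Injective f)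
    (hg : Function.Surjective g) (hfg : LinearMap.range f = LinearMap.ker g)
    (h₁ : Coh R M₁) (h₃ : Coh R M₃) : Coh R M₂ := by
  obtain ⟨hfin1, hcoh1⟩ := h₁
  obtain ⟨hfin3, hcoh3⟩ := h₃
  constructor
  · rw [Module.finite_def]
    apply Submodule.fg_of_fg_map_of_fg_inf_ker g
    · rw [Submodule.map_top, LinearMap.range_eq_top.mpr hg]; exact Module.Finite.fg_top
    · rw [top_inf_eq, ← hfg, LinearMap.range_eq_map]
      exact Module.Finite.fg_top.map f
  · intro N hN
    have hNfin : Module.Finite R N := Module.Finite.iff_fg.mpr hN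
    let N₃ : Submodule R M₃ := N.map g
    have hN₃fg : N₃.FG := hN.map g
    have hN₃fp : Module.FinitePresentation R N₃ := hcoh3 N₃ hN₃fg
    let g' : N →ₗ[R] N₃ := g.restrict (fun x hx => Submodule.mem_map_of_mem hx)
    have hg' : Function.Surjective g' := by
      rintro ⟨y, x, hx, rfl⟩
      exact ⟨⟨x, hx⟩, rfl⟩
    have hkerfg : (LinearMap.ker g').FG := Module.FinitePresentation.fg_ker g' hg'
    let K₁ : Submodule R M₁ := N.comap f
    have hmemker : ∀ m : K₁, (⟨f m, m.2⟩ : N) ∈ LinearMap.ker g' := by
      intro m
      rw [LinearMap.mem_ker]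
      apply Subtype.ext
      show g (f m) = 0
      have : f m ∈ LinearMap.ker g := by rw [← hfg]; exact ⟨m, rfl⟩
      exact this
    let ψ : K₁ →ₗ[R] LinearMap.ker g' :=
      { toFun := fun m => ⟨⟨f m, m.2⟩, hmemker m⟩
        map_add' := fun a b => by
          apply Subtype.ext; apply Subtype.ext
          simp
        map_smul' := fun c a => by
          apply Subtype.ext; apply Subtype.ext
          simp }
    have hψ : Function.Bijective ψ := by
      constructor
      · intro a b hab
        apply Subtype.ext
        apply hf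
        have := congrArg (fun z : LinearMap.ker g' => ((z : N) : M₂)) hab
        exact this
      · rintro ⟨⟨n, hn⟩, hker⟩
        have h0 : g n = 0 := by
          have := congrArg (fun z : N₃ => (z : M₃)) (LinearMap.mem_ker.mp hker)
          exact this
        have : n ∈ LinearMap.range f := by rw [hfg]; exact h0
        obtain ⟨m, rfl⟩ := this
        exact ⟨⟨m, hn⟩, rfl⟩
    let e : K₁ ≃ₗ[R] LinearMap.ker g' := LinearEquiv.ofBijective ψ hψ
    have hK₁fg : K₁.FG := by
      have h1 : Module.Finite R (LinearMap.ker g') := Module.Finite.iff_fg.mpr hkerfg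
      have h2 : Module.Finite R K₁ := Module.Finite.equiv e.symm
      exact Module.Finite.iff_fg.mp h2
    have hK₁fp : Module.FinitePresentation R K₁ := hcoh1 K₁ hK₁fg
    have hkerfp : Module.FinitePresentation R (LinearMap.ker g') :=
      Module.FinitePresentation.of_equiv e
    exact Module.finitePresentation_of_ker g' hg'

end


section
variable (R : Type u) [CommRing R]

lemma coh_of_equiv {M M' : Type u} [AddCommGroup M] [Module R M] [AddCommGroup M'] [Module R M']
    (e : M ≃ₗ[R] M') (h : Coh R M) : Coh R M' := by
  obtain ⟨hfin, hcoh⟩ := h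
  refine ⟨Module.Finite.equiv e, ?_⟩
  intro N' hN'
  have h1 : (N'.map e.symm.toLinearMap).FG := hN'.map _
  have h2 := hcoh _ h1
  exact Module.FinitePresentation.of_equiv (e.symm.submoduleMap N').symm

lemma coh_quotient {M : Type u} [AddCommGroup M] [Module R M] (h : Coh R M) (K : Submodule R M)
    (hK : K.FG) : Coh R (M ⧸ K) := by
  obtain ⟨hfin, hcoh⟩ := h
  refine ⟨inferInstance, ?_⟩
  intro N hN
  let N' : Submodule R M := N.comap K.mkQ
  have hKN' : K ≤ N' := by
    intro x hx
    show K.mkQ x ∈ N
    rw [Submodule.mkQ_apply, (Submodule.Quotient.mk_eq_zero K).mpr hx]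
    exact N.zero_mem
  have hN'fg : N'.FG := by
    apply Submodule.fg_of_fg_map_of_fg_inf_ker K.mkQ
    · rw [Submodule.map_comap_eq_of_surjective (Submodule.mkQ_surjective K)]
      exact hN
    · rw [Submodule.ker_mkQ, inf_eq_right.mpr hKN']
      exact hK
  have hN'fp : Module.FinitePresentation R N' := hcoh N' hN'fg
  let l : N' →ₗ[R] N := K.mkQ.restrict (fun x hx => hx)
  have hl : Function.Surjective l := by
    rintro ⟨y, hy⟩
    obtain ⟨x, rfl⟩ := Submodule.mkQ_surjective K y
    exact ⟨⟨x, hy⟩, rfl⟩
  have hker : LinearMap.ker l = K.comap N'.subtype := by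
    ext x
    rw [LinearMap.mem_ker, Submodule.mem_comap]
    constructor
    · intro h
      have := congrArg (fun z : N => (z : M ⧸ K)) h
      simp only [l, LinearMap.coe_restrict_apply, Submodule.mkQ_apply, ZeroMemClass.coe_zero] at this
      exact (Submodule.Quotient.mk_eq_zero K).mp this
    · intro h
      apply Subtype.ext
      simp only [l, LinearMap.coe_restrict_apply, Submodule.mkQ_apply, ZeroMemClass.coe_zero]
      exact (Submodule.Quotient.mk_eq_zero K).mpr h
  have hkerfg : (LinearMap.ker l).FG := by
    rw [hker]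
    have h1 : Module.Finite R K := Module.Finite.iff_fg.mpr hK
    have h2 : Module.Finite R (K.comap N'.subtype) :=
      Module.Finite.equiv (Submodule.comapSubtypeEquivOfLe hKN').symm
    exact Module.Finite.iff_fg.mp h2
  exact Module.finitePresentation_of_surjective l hl hkerfg

variable (hR : ∀ I : Ideal R, I.FG → Module.FinitePresentation R I)
include hR

lemma coh_self : Coh R R := ⟨inferInstance, fun N hN => hR N hN⟩

lemma coh_pi : ∀ n : ℕ, Coh R (Fin n → R) := by
  intro n
  induction n with
  | zero =>
    refine ⟨inferInstance, fun N _ => ?_⟩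
    have : Subsingleton N := inferInstance
    exact Module.finitePresentation_of_projective R N
  | succ n ih =>
    let f : R →ₗ[R] (Fin (n + 1) → R) := LinearMap.single R (fun _ => R) 0
    let g : (Fin (n + 1) → R) →ₗ[R] (Fin n → R) := LinearMap.funLeft R R Fin.succ
    refine coh_of_shortExact R f g ?_ ?_ ?_ (coh_self R hR) ih
    · intro a b hab
      have := congrFun hab 0
      simpa [f] using this
    · intro v
      exact ⟨Fin.cons 0 v, by funext i; simp [g, LinearMap.funLeft_apply]⟩
    · ext v
      rw [LinearMap.mem_ker]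
      constructor
      · rintro ⟨a, rfl⟩
        funext i
        simp [f, g, LinearMap.funLeft_apply, Fin.succ_ne_zero]
      · intro h
        refine ⟨v 0, ?_⟩
        funext i
        refine Fin.cases ?_ (fun j => ?_) i
        · simp [f]
        · have := congrFun h j
          simp only [g, LinearMap.funLeft_apply, Pi.zero_apply] at this
          simp [f, Fin.succ_ne_zero, this]

theorem coh_iff_finitePresentation (M : Type u) [AddCommGroup M] [Module R M] :
    Coh R M ↔ Module.FinitePresentation R M := by
  constructor
  · rintro ⟨hfin, hcoh⟩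
    have := hcoh ⊤ Module.Finite.fg_top
    exact Module.FinitePresentation.of_equiv (Submodule.topEquiv : (⊤ : Submodule R M) ≃ₗ[R] M)
  · intro hfp
    obtain ⟨n, K, e, hK⟩ := Module.FinitePresentation.exists_fin R M
    exact coh_of_equiv R e.symm (coh_quotient R (coh_pi R hR n) K hK)

end

end Groth.Agent.H3CA
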