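import Mathlib

open IsLocalRing

namespace Groth.Agent.H3Cd

universe u v

section
variable {K : Type u} {A : Type v} [Field K] [CommRing A] [Algebra K A]

theorem X_pow_dvd_sub_trunc (n : ℕ) (P : Polynomial K) :
    (Polynomial.X : Polynomial K) ^ n ∣ P - PowerSeries.trunc n (P : PowerSeries K) := by
  rw [Polynomial.X_pow_dvd_iff]
  intro d hd
  rw [Polynomial.coeff_sub, PowerSeries.coeff_trunc, if_pos hd, Polynomial.coeff_coe, sub_self]

theorem lemE (I : Ideal A) (x : A) (hx : x ∈ I) (n : ℕ) (P : Polynomial K) :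
    Polynomial.aeval x P - Polynomial.aeval x (PowerSeries.trunc n (P : PowerSeries K)) ∈
      I ^ n := by
  obtain ⟨Q, hQ⟩ := X_pow_dvd_sub_trunc n P
  rw [← map_sub, hQ, map_mul, map_pow, Polynomial.aeval_X]
  exact Ideal.mul_mem_right _ _ (Ideal.pow_mem_pow hx n)

noncomputable def Ln (I : Ideal A) (x : A) (n : ℕ) : PowerSeries K →ₗ[K] A ⧸ I ^ n :=
  (Ideal.Quotient.mkₐ K (I ^ n)).toLinearMap ∘ₗ (Polynomial.aeval x).toLinearMap ∘ₗ
    (PowerSeries.trunc n)

theorem Ln_apply (I : Ideal A) (x : A) (n : ℕ) (f : PowerSeries K) :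
    Ln I x n f = Ideal.Quotient.mk (I ^ n) (Polynomial.aeval x (PowerSeries.trunc n f)) := rfl

noncomputable def fn (I : Ideal A) (x : A) (hx : x ∈ I) (n : ℕ) :
    PowerSeries K →ₐ[K] A ⧸ I ^ n :=
  AlgHom.ofLinearMap (Ln I x n)
    (by
      rw [Ln_apply, ← map_one (Ideal.Quotient.mk (I ^ n)), eq_comm, Ideal.Quotient.eq]
      have h := lemE I x hx n (1 : Polynomial K)
      rwa [map_one, Polynomial.coe_one] at h)
    (by
      intro f g
      have e1 : Ln I x n f * Ln I x n g = Ideal.Quotient.mk (I ^ n)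
          (Polynomial.aeval x (PowerSeries.trunc n f * PowerSeries.trunc n g)) := by
        rw [Ln_apply, Ln_apply, map_mul, map_mul]
      rw [e1, Ln_apply, eq_comm, Ideal.Quotient.eq]
      have h := lemE I x hx n (PowerSeries.trunc n f * PowerSeries.trunc n g)
      rwa [Polynomial.coe_mul, PowerSeries.trunc_trunc_mul_trunc] at h)

theorem fn_apply (I : Ideal A) (x : A) (hx : x ∈ I) (n : ℕ) (f : PowerSeries K) :
    fn I x hx n f = Ideal.Quotient.mk (I ^ n) (Polynomial.aeval x (PowerSeries.trunc n f)) := rfl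

theorem fn_compat (I : Ideal A) (x : A) (hx : x ∈ I) {m n : ℕ} (hle : m ≤ n) :
    (Ideal.Quotient.factorₐ K (Ideal.pow_le_pow_right hle)).comp (fn I x hx n) = fn I x hx m := by
  apply AlgHom.ext
  intro f
  rw [AlgHom.comp_apply, fn_apply, fn_apply, Ideal.Quotient.factorₐ_apply_mk, Ideal.Quotient.eq]
  have h := lemE I x hx m (PowerSeries.trunc n f)
  rwa [PowerSeries.trunc_trunc_of_le f hle] at h

end

theorem main12524 (K : Type u) (A : Type v) [Field K]
    [CommRing A] [IsDomain A] [IsDiscreteValuationRing A] [Algebra K A]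
    [IsAdicComplete (maximalIdeal A) A]
    (hK : Function.Bijective ((residue A).comp (algebraMap K A)))
    (x : A) (hx : maximalIdeal A = Ideal.span {x}) :
    ∃ φ : PowerSeries K →ₐ[K] A, φ PowerSeries.X = x ∧ Function.Bijective φ ∧
      ∀ (f : PowerSeries K) (n : ℕ),
        φ f - (Finset.range n).sum (fun i => algebraMap K A (PowerSeries.coeff i f) * x ^ i) ∈
          maximalIdeal A ^ n := by
  have hxI : x ∈ maximalIdeal A := by rw [hx]; exact Ideal.mem_span_singleton_self x
  obtain ⟨φ, hφdef⟩ : ∃ φ : PowerSeries K →ₐ[K] A,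
      φ = IsAdicComplete.liftAlgHom (maximalIdeal A) (fn (maximalIdeal A) x hxI)
        (fun hle => fn_compat (maximalIdeal A) x hxI hle) := ⟨_, rfl⟩
  have hφ : ∀ f n, φ f - Polynomial.aeval x (PowerSeries.trunc n f) ∈ maximalIdeal A ^ n := by
    intro f n
    have h := IsAdicComplete.mk_liftAlgHom (maximalIdeal A) (fn (maximalIdeal A) x hxI)
      (fun hle => fn_compat (maximalIdeal A) x hxI hle) n f
    rw [fn_apply, ← hφdef] at h
    exact Ideal.Quotient.eq.mp h
  have hsum : ∀ (f : PowerSeries K) (n : ℕ), Polynomial.aeval x (PowerSeries.trunc n f) =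
      (Finset.range n).sum (fun i => algebraMap K A (PowerSeries.coeff i f) * x ^ i) := by
    intro f n
    rw [Polynomial.aeval_def, PowerSeries.eval₂_trunc_eq_sum_range]
  have hhaus : ∀ a : A, (∀ n, a ∈ maximalIdeal A ^ n) → a = 0 := by
    intro a ha
    have h1 : (⨅ n, maximalIdeal A ^ n) = ⊥ :=
      Ideal.iInf_pow_eq_bot_of_isLocalRing (maximalIdeal A) (Ideal.IsPrime.ne_top inferInstance)
    have h2 : a ∈ ⨅ n, maximalIdeal A ^ n := by
      rw [Submodule.mem_iInf]; exact ha
    rw [h1] at h2
    exact h2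
  have hX : φ PowerSeries.X = x := by
    rw [← sub_eq_zero]
    apply hhaus
    intro n
    have h1 := hφ PowerSeries.X (n + 2)
    rw [PowerSeries.trunc_X, Polynomial.aeval_X] at h1
    exact Ideal.pow_le_pow_right (by omega) h1
  have hx0 : x ≠ 0 := by
    intro h0
    have h1 : maximalIdeal A = ⊥ := by rw [hx, h0]; simp
    exact IsDiscreteValuationRing.not_a_field A h1
  have hres_inj : ∀ c : K, algebraMap K A c ∈ maximalIdeal A → c = 0 := by
    intro c hc
    have h1 : ((residue A).comp (algebraMap K A)) c = 0 := by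
      rw [RingHom.comp_apply, residue_eq_zero_iff]; exact hc
    exact (injective_iff_map_eq_zero _).mp hK.1 c h1
  have hinj : Function.Injective φ := by
    rw [injective_iff_map_eq_zero]
    intro f hf
    by_contra hne
    have hex : ∃ k, PowerSeries.coeff k f ≠ 0 := by
      by_contra hall
      push Not at hall
      exact hne (PowerSeries.ext fun k => by rw [hall k, map_zero])
    classical
    obtain ⟨k, hk, hlt⟩ : ∃ k, PowerSeries.coeff k f ≠ 0 ∧ ∀ i < k, PowerSeries.coeff i f = 0 :=
      ⟨Nat.find hex, Nat.find_spec hex, fun i hi => by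
        by_contra h; exact Nat.find_min hex hi h⟩
    have h1 := hφ f (k + 1)
    rw [hf, zero_sub, neg_mem_iff, hsum, Finset.sum_range_succ,
      Finset.sum_eq_zero (fun i hi => by
        rw [hlt i (Finset.mem_range.mp hi), map_zero, zero_mul]), zero_add] at h1
    rw [hx, Ideal.span_singleton_pow, Ideal.mem_span_singleton] at h1
    obtain ⟨b, hb⟩ := h1
    have h2 : algebraMap K A (PowerSeries.coeff k f) = x * b := by
      have h3 : x ^ k * algebraMap K A (PowerSeries.coeff k f) = x ^ k * (x * b) := by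
        rw [mul_comm, hb]; ring
      exact mul_left_cancel₀ (pow_ne_zero k hx0) h3
    have h4 : algebraMap K A (PowerSeries.coeff k f) ∈ maximalIdeal A := by
      rw [h2, hx]; exact Ideal.mul_mem_right _ _ (Ideal.mem_span_singleton_self x)
    exact hk (hres_inj _ h4)
  have hsurj : Function.Surjective φ := by
    intro a
    have hstep : ∀ r : A, ∃ (c : K) (b : A), r = algebraMap K A c + x * b := by
      intro r
      obtain ⟨c, hc⟩ := hK.2 (residue A r)
      have h1 : r - algebraMap K A c ∈ maximalIdeal A := by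
        rw [← residue_eq_zero_iff, map_sub, ← hc, RingHom.comp_apply, sub_self]
      rw [hx, Ideal.mem_span_singleton] at h1
      obtain ⟨b, hb⟩ := h1
      exact ⟨c, b, by rw [← hb]; ring⟩
    choose cf bf hcb using hstep
    obtain ⟨r, hr⟩ : ∃ r : ℕ → A, r = fun n => bf^[n] a := ⟨_, rfl⟩
    obtain ⟨c, hc⟩ : ∃ c : ℕ → K, c = fun n => cf (r n) := ⟨_, rfl⟩
    have hr0 : r 0 = a := by rw [hr]; rfl
    have hrs : ∀ n, r n = algebraMap K A (c n) + x * r (n + 1) := by
      intro n
      have h1 : r (n + 1) = bf (r n) := by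
        rw [hr]; exact Function.iterate_succ_apply' bf n a
      rw [h1, hc]
      exact hcb (r n)
    have hrec : ∀ n, a = (Finset.range n).sum (fun i => algebraMap K A (c i) * x ^ i) +
        x ^ n * r n := by
      intro n
      induction n with
      | zero => simp [hr0]
      | succ n ih =>
        have h2 : x ^ n * r n = algebraMap K A (c n) * x ^ n + x ^ (n + 1) * r (n + 1) := by
          have h3 : x ^ n * r n = x ^ n * (algebraMap K A (c n) + x * r (n + 1)) :=
            congrArg (fun t => x ^ n * t) (hrs n)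
          rw [h3]; ring
        rw [Finset.sum_range_succ, add_assoc, ← h2]
        exact ih
    refine ⟨PowerSeries.mk c, ?_⟩
    rw [← sub_eq_zero]
    apply hhaus
    intro n
    have h1 := hφ (PowerSeries.mk c) n
    rw [hsum] at h1
    simp only [PowerSeries.coeff_mk] at h1
    have h2 : a - (Finset.range n).sum (fun i => algebraMap K A (c i) * x ^ i) ∈
        maximalIdeal A ^ n := by
      have h3 : a - (Finset.range n).sum (fun i => algebraMap K A (c i) * x ^ i) =
          x ^ n * r n := by
        rw [sub_eq_iff_eq_add']; exact hrec n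
      rw [h3]
      exact Ideal.mul_mem_right _ _ (Ideal.pow_mem_pow hxI n)
    have h4 := Submodule.sub_mem _ h1 h2
    rwa [sub_sub_sub_cancel_right] at h4
  exact ⟨φ, hX, ⟨hinj, hsurj⟩, fun f n => by rw [← hsum]; exact hφ f n⟩

theorem main12630 (K : Type u) (A : Type v) [Field K]
    [CommRing A] [IsDomain A] [IsDiscreteValuationRing A]
    [IsAdicComplete (IsLocalRing.maximalIdeal A) A]
    [Algebra K A] (hK : Function.Bijective (algebraMap K (IsLocalRing.ResidueField A)))
    (x : A) (hx : IsLocalRing.maximalIdeal A = Ideal.span {x}) :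
    ∃ e : PowerSeries K ≃ₐ[K] A, e PowerSeries.X = x := by
  have hK' : Function.Bijective ((residue A).comp (algebraMap K A)) := by
    have : ⇑((residue A).comp (algebraMap K A)) = ⇑(algebraMap K (IsLocalRing.ResidueField A)) := by
      funext c
      rfl
    rw [this]; exact hK
  obtain ⟨φ, hX, hb, -⟩ := main12524 K A hK' x hx
  exact ⟨AlgEquiv.ofBijective φ hb, hX⟩

end Groth.Agent.H3Cd
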