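import Mathlib

set_option autoImplicit false
universe u

namespace Groth.Agent.H3Ce

variable (A : Type u) [CommRing A] [IsNoetherianRing A]

theorem subsingleton_of_completions (N : Type u) [AddCommGroup N] [Module A N] [Module.Finite A N]
    (h : ∀ (m : Ideal A) [m.IsMaximal], Subsingleton (AdicCompletion m N)) : Subsingleton N := by
  have hann : Module.annihilator A N = ⊤ := by
    by_contra hne
    obtain ⟨m, hm, hle⟩ := Ideal.exists_le_maximal _ hne
    haveI := hm
    haveI := h m
    have htop : (⊤ : Submodule A N) ≤ m • (⊤ : Submodule A N) := by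
      intro x _
      have h1 : Function.Surjective (AdicCompletion.eval m N 1) := AdicCompletion.eval_surjective m N 1
      obtain ⟨y, hy⟩ := h1 (Submodule.Quotient.mk x)
      have h0 : y = 0 := Subsingleton.elim _ _
      rw [h0, map_zero] at hy
      have := (Submodule.Quotient.mk_eq_zero _).mp hy.symm
      simpa using this
    obtain ⟨r, hr1, hr2⟩ := Submodule.exists_sub_one_mem_and_smul_eq_zero_of_fg_of_le_smul m
      (⊤ : Submodule A N) Module.Finite.fg_top htop
    have hrann : r ∈ Module.annihilator A N := by
      rw [Module.mem_annihilator]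
      intro x
      exact hr2 x Submodule.mem_top
    have hrm : r ∈ m := hle hrann
    have : (1 : A) ∈ m := by
      have := m.sub_mem hrm hr1
      simpa using this
    exact hm.ne_top ((Ideal.eq_top_iff_one m).mpr this)
  refine ⟨fun x y => ?_⟩
  have h1 : (1 : A) ∈ Module.annihilator A N := by rw [hann]; trivial
  rw [Module.mem_annihilator] at h1
  have hx := h1 x
  have hy := h1 y
  rw [one_smul] at hx hy
  rw [hx, hy]

end Groth.Agent.H3Ce
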