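import Mathlib
import Groth.Agent.Lib.helper3.CeA

set_option autoImplicit false
universe u

namespace Groth.Agent.H3Ce

variable (A : Type u) [CommRing A] [IsNoetherianRing A]

/-- if all completions of `f` are surjective then `f` is surjective -/
theorem surjective_of_completions {M N : Type u} [AddCommGroup M] [Module A M]
    [AddCommGroup N] [Module A N] [Module.Finite A N] (f : M →ₗ[A] N)
    (h : ∀ (m : Ideal A) [m.IsMaximal], Function.Surjective (AdicCompletion.map m f)) :
    Function.Surjective f := by
  let C := N ⧸ LinearMap.range f
  let q : N →ₗ[A] C := (LinearMap.range f).mkQ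
  have hq : Function.Surjective q := Submodule.mkQ_surjective _
  have hqf : q ∘ₗ f = 0 := by
    ext x
    change (LinearMap.range f).mkQ (f x) = 0
    rw [Submodule.mkQ_apply, Submodule.Quotient.mk_eq_zero]
    exact ⟨x, rfl⟩
  haveI : Subsingleton C := by
    apply subsingleton_of_completions A
    intro m hm
    refine ⟨fun x y => ?_⟩
    have hs := AdicCompletion.map_surjective m hq
    obtain ⟨x', rfl⟩ := hs x
    obtain ⟨y', rfl⟩ := hs y
    obtain ⟨x'', rfl⟩ := h m x'
    obtain ⟨y'', rfl⟩ := h m y'
    have e : ∀ w, AdicCompletion.map m q (AdicCompletion.map m f w) = 0 := by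
      intro w
      rw [AdicCompletion.map_comp_apply, hqf, AdicCompletion.map_zero]
      rfl
    rw [e, e]
  rw [← LinearMap.range_eq_top]
  exact Submodule.Quotient.subsingleton_iff.mp ‹_›

/-- if all completions of `f` are zero then `f` is zero (target finite) -/
theorem eq_zero_of_completions {M N : Type u} [AddCommGroup M] [Module A M]
    [AddCommGroup N] [Module A N] [Module.Finite A N] (f : M →ₗ[A] N)
    (h : ∀ (m : Ideal A) [m.IsMaximal], AdicCompletion.map m f = 0) : f = 0 := by
  let R := LinearMap.range f
  let f' : M →ₗ[A] R := f.rangeRestrict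
  have hf' : Function.Surjective f' := LinearMap.surjective_rangeRestrict f
  have hι : Function.Injective R.subtype := Submodule.injective_subtype _
  have hcomp : R.subtype ∘ₗ f' = f := LinearMap.subtype_comp_codRestrict _ _ _
  haveI : Subsingleton R := by
    apply subsingleton_of_completions A
    intro m hm
    refine ⟨fun x y => ?_⟩
    have hs := AdicCompletion.map_surjective m hf'
    obtain ⟨x', rfl⟩ := hs x
    obtain ⟨y', rfl⟩ := hs y
    have hinj := AdicCompletion.map_injective m hι
    apply hinj
    rw [AdicCompletion.map_comp_apply, AdicCompletion.map_comp_apply, hcomp, h m]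
    rfl
  ext x
  have : f' x = 0 := Subsingleton.elim _ _
  have h2 := congrArg Subtype.val this
  simpa [f'] using h2

end Groth.Agent.H3Ce
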