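import Mathlib
import Groth.Agent.Lib.helper3.CeB

set_option autoImplicit false
universe u

namespace Groth.Agent.H3Ce

theorem main14680 (A : Type u) [CommRing A] [IsNoetherianRing A]
    (M' M M'' : Type u) [AddCommGroup M'] [Module A M'] [AddCommGroup M] [Module A M] [AddCommGroup M''] [Module A M'']
    [Module.Finite A M'] [Module.Finite A M] [Module.Finite A M''] (f : M' →ₗ[A] M) (g : M →ₗ[A] M'') :
    (Function.Injective f ∧ Function.Exact f g ∧ Function.Surjective g) ↔
      ∀ (m : Ideal A) [m.IsMaximal],
        Function.Injective (AdicCompletion.map m f) ∧ Function.Exact (AdicCompletion.map m f) (AdicCompletion.map m g) ∧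
          Function.Surjective (AdicCompletion.map m g) := by
  constructor
  · rintro ⟨hf, hfg, hg⟩ m hm
    exact ⟨AdicCompletion.map_injective m hf, AdicCompletion.map_exact hf hfg hg,
      AdicCompletion.map_surjective m hg⟩
  · intro h
    have hg : Function.Surjective g := surjective_of_completions A g fun m _ => (h m).2.2
    have hgf : g ∘ₗ f = 0 := eq_zero_of_completions A _ fun m _ => by
      rw [← AdicCompletion.map_comp]
      refine LinearMap.ext fun x => ?_
      exact (h m).2.1.apply_apply_eq_zero x
    have hf : Function.Injective f := by
      rw [← LinearMap.ker_eq_bot]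
      have hi : Function.Injective (LinearMap.ker f).subtype := Submodule.injective_subtype _
      have hfi : f ∘ₗ (LinearMap.ker f).subtype = 0 := by
        ext x
        exact x.2
      haveI : Subsingleton (LinearMap.ker f) := by
        apply subsingleton_of_completions A
        intro m hm
        refine ⟨fun x y => ?_⟩
        apply AdicCompletion.map_injective m hi
        apply (h m).1
        rw [AdicCompletion.map_comp_apply, AdicCompletion.map_comp_apply, hfi,
          AdicCompletion.map_zero]
        rfl
      exact Submodule.eq_bot_of_subsingleton
    refine ⟨hf, ?_, hg⟩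
    rw [LinearMap.exact_iff]
    apply le_antisymm
    · have hi : Function.Injective (LinearMap.ker g).subtype := Submodule.injective_subtype _
      have hgi : g ∘ₗ (LinearMap.ker g).subtype = 0 := by
        ext x
        exact x.2
      let f' : M' →ₗ[A] LinearMap.ker g := f.codRestrict (LinearMap.ker g) (fun x => by
        rw [LinearMap.mem_ker]
        exact LinearMap.congr_fun hgf x)
      have hif' : (LinearMap.ker g).subtype ∘ₗ f' = f := LinearMap.subtype_comp_codRestrict _ _ _
      have hf'surj : Function.Surjective f' := by
        apply surjective_of_completions A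
        intro m hm x
        have h1 : AdicCompletion.map m g (AdicCompletion.map m (LinearMap.ker g).subtype x) = 0 := by
          rw [AdicCompletion.map_comp_apply, hgi, AdicCompletion.map_zero]
          rfl
        obtain ⟨w, hw⟩ := ((h m).2.1 _).mp h1
        refine ⟨w, ?_⟩
        apply AdicCompletion.map_injective m hi
        rw [AdicCompletion.map_comp_apply, hif', hw]
      intro y hy
      obtain ⟨w, hw⟩ := hf'surj ⟨y, hy⟩
      exact ⟨w, congrArg Subtype.val hw⟩
    · rintro _ ⟨x, rfl⟩
      exact LinearMap.congr_fun hgf x

end Groth.Agent.H3Ce
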