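import Mathlib

set_option autoImplicit false
universe u v w

namespace Groth.Agent.H3Coker

open TensorProduct


section A
variable {R : Type u} [CommRing R] {M : Type v} {N : Type w}
  [AddCommGroup M] [Module R M] [AddCommGroup N] [Module R N]

theorem cond_iff (d : M →ₗ[R] N) (κ : Type*) [CommRing κ] [Algebra R κ] :
    LinearMap.ker (d.baseChange κ) ≤ LinearMap.range ((LinearMap.ker d).subtype.baseChange κ) ↔
      Function.Injective ((LinearMap.range d).subtype.lTensor κ) := by
  have hcomp : (LinearMap.range d).subtype ∘ₗ d.rangeRestrict = d := by
    ext x; rfl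
  have hd : ∀ y : κ ⊗[R] M, d.baseChange κ y =
      (LinearMap.range d).subtype.lTensor κ (d.rangeRestrict.lTensor κ y) := by
    intro y
    rw [← LinearMap.comp_apply, ← LinearMap.lTensor_comp, hcomp]
    rfl
  have hsurj : Function.Surjective (d.rangeRestrict.lTensor κ) :=
    LinearMap.lTensor_surjective _ d.surjective_rangeRestrict
  have hex : Function.Exact ((LinearMap.ker d).subtype.lTensor κ) (d.rangeRestrict.lTensor κ) := by
    apply lTensor_exact κ _ d.surjective_rangeRestrict
    intro x
    constructor
    · intro hx
      refine ⟨⟨x, ?_⟩, rfl⟩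
      have := congrArg Subtype.val hx
      simpa using this
    · rintro ⟨y, rfl⟩
      apply Subtype.ext
      simpa using y.2
  constructor
  · intro h
    rw [injective_iff_map_eq_zero]
    intro z hz
    obtain ⟨y, rfl⟩ := hsurj z
    have hy : y ∈ LinearMap.ker (d.baseChange κ) := by
      rw [LinearMap.mem_ker, hd, hz]
    obtain ⟨w, rfl⟩ := h hy
    exact (hex _).mpr ⟨w, rfl⟩
  · intro h y hy
    rw [LinearMap.mem_ker, hd] at hy
    have := h (hy.trans (map_zero _).symm)
    obtain ⟨w, hw⟩ := (hex y).mp this
    exact ⟨w, hw⟩

end A



section B
variable {R : Type u} [CommRing R] {I : Type v} {N : Type w}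
  [AddCommGroup I] [Module R I] [AddCommGroup N] [Module R N]

theorem transport_inj (S : Type*) [CommRing S] [Algebra R S] (B : Type*) [CommRing B] [Algebra R B]
    [Algebra S B] [IsScalarTower R S B] (j : I →ₗ[R] N) :
    Function.Injective (j.lTensor B) ↔ Function.Injective ((j.baseChange S).lTensor B) := by
  let eI := TensorProduct.AlgebraTensorModule.cancelBaseChange R S S B I
  let eN := TensorProduct.AlgebraTensorModule.cancelBaseChange R S S B N
  have hnat : ∀ z, eN ((j.baseChange S).lTensor B z) = j.lTensor B (eI z) := by
    intro z
    induction z using TensorProduct.induction_on with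
    | zero => simp
    | add x y hx hy => simp only [map_add, hx, hy]
    | tmul b t =>
      induction t using TensorProduct.induction_on with
      | zero => simp
      | add x y hx hy => simp only [tmul_add, map_add, hx, hy]
      | tmul s x => simp [eI, eN]
  constructor
  · intro h x y hxy
    apply eI.injective
    apply h
    rw [← hnat, ← hnat, hxy]
  · intro h x y hxy
    apply eI.symm.injective
    apply h
    apply eN.injective
    rw [hnat, hnat]
    simpa using hxy

end B



section C
variable {R : Type u} [CommRing R] {N : Type w} [AddCommGroup N] [Module R N]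

theorem free_of_inj (p : Ideal R) [p.IsPrime] [Module.Finite R N] [Module.Projective R N]
    (I : Submodule R N) (hI : I.FG)
    (h : Function.Injective ((I.subtype.baseChange (Localization.AtPrime p)).lTensor
      (IsLocalRing.ResidueField (Localization.AtPrime p)))) :
    Module.Free (Localization.AtPrime p) (Localization.AtPrime p ⊗[R] (N ⧸ I)) := by
  haveI : Module.Finite R I := Module.Finite.iff_fg.mpr hI
  haveI : Module.Free (Localization.AtPrime p) (Localization.AtPrime p ⊗[R] N) :=
    Module.free_of_flat_of_isLocalRing
  refine Module.free_of_lTensor_residueField_injective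
    (I.subtype.baseChange (Localization.AtPrime p)) (I.mkQ.baseChange (Localization.AtPrime p))
    ?_ ?_ h
  · exact LinearMap.lTensor_surjective _ I.mkQ_surjective
  · exact lTensor_exact _ (LinearMap.exact_subtype_mkQ I) I.mkQ_surjective

end C



section D
variable {R : Type u} [CommRing R] {N : Type w} [AddCommGroup N] [Module R N]

/-- split injectivity of base change from projectivity of the localized quotient -/
theorem baseChange_split (S : Type*) [CommRing S] [Algebra R S] [Module.Flat R S]
    (I : Submodule R N) (hproj : Module.Projective S (S ⊗[R] (N ⧸ I))) :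
    ∃ l : S ⊗[R] N →ₗ[S] S ⊗[R] I, l ∘ₗ (I.subtype.baseChange S) = LinearMap.id := by
  have hinj : Function.Injective (I.subtype.baseChange S) :=
    Module.Flat.lTensor_preserves_injective_linearMap _ I.subtype_injective
  have hsurj : Function.Surjective (I.mkQ.baseChange S) :=
    LinearMap.lTensor_surjective _ I.mkQ_surjective
  have hex : Function.Exact (I.subtype.baseChange S) (I.mkQ.baseChange S) :=
    lTensor_exact _ (LinearMap.exact_subtype_mkQ I) I.mkQ_surjective
  have := (Function.Exact.split_tfae hex hinj hsurj).out 0 1
  exact this.mp (Module.projective_lifting_property _ _ hsurj)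

theorem inj_of_split (S : Type*) [CommRing S] [Algebra R S] (B : Type*) [CommRing B] [Algebra S B]
    {I : Type v} [AddCommGroup I] [Module R I] (j : I →ₗ[R] N)
    (h : ∃ l : S ⊗[R] N →ₗ[S] S ⊗[R] I, l ∘ₗ (j.baseChange S) = LinearMap.id) :
    Function.Injective ((j.baseChange S).lTensor B) := by
  obtain ⟨l, hl⟩ := h
  have : l.lTensor B ∘ₗ (j.baseChange S).lTensor B = LinearMap.id := by
    rw [← LinearMap.lTensor_comp, hl, LinearMap.lTensor_id]
  exact Function.HasLeftInverse.injective ⟨_, LinearMap.congr_fun this⟩

theorem inj_of_away (p : Ideal R) [p.IsPrime] (I : Submodule R N) (f : R) (hf : f ∉ p)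
    (hproj : Module.Projective (Localization.Away f)
      (LocalizedModule (Submonoid.powers f) (N ⧸ I))) :
    Function.Injective (I.subtype.lTensor p.ResidueField) := by
  have hunit : IsUnit (algebraMap R p.ResidueField f) := by
    rw [isUnit_iff_ne_zero]
    intro h0
    exact hf ((Ideal.algebraMap_residueField_eq_zero).mp h0)
  letI : Algebra (Localization.Away f) p.ResidueField :=
    (IsLocalization.Away.lift f hunit).toAlgebra
  haveI : IsScalarTower R (Localization.Away f) p.ResidueField :=
    IsScalarTower.of_algebraMap_eq (fun x => (IsLocalization.Away.lift_eq f hunit x).symm)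
  have hproj' : Module.Projective (Localization.Away f) (Localization.Away f ⊗[R] (N ⧸ I)) :=
    Module.Projective.of_equiv (IsLocalizedModule.isBaseChange (Submonoid.powers f)
      (Localization.Away f) (LocalizedModule.mkLinearMap (Submonoid.powers f) (N ⧸ I))).equiv.symm
  rw [transport_inj (Localization.Away f) p.ResidueField]
  exact inj_of_split _ _ _ (baseChange_split _ I hproj')

end D

end Groth.Agent.H3Coker
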