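import Mathlib
import Groth.Agent.Lib.helper3.CkA

set_option autoImplicit false
universe u v w

namespace Groth.Agent.H3Coker

open TensorProduct

theorem fp_coker {R : Type u} [CommRing R]
    {M : Type v} {N : Type w} [AddCommGroup M] [Module R M] [AddCommGroup N] [Module R N]
    [Module.Finite R M] [Module.Finite R N] [Module.Projective R N]
    (d : M →ₗ[R] N) : Module.FinitePresentation R (N ⧸ LinearMap.range d) := by
  haveI : Module.FinitePresentation R N := Module.finitePresentation_of_projective R N
  refine Module.finitePresentation_of_surjective (LinearMap.range d).mkQ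
    (Submodule.mkQ_surjective _) ?_
  rw [Submodule.ker_mkQ, LinearMap.range_eq_map]
  exact (Module.Finite.fg_top).map d

theorem range_fg {R : Type u} [CommRing R]
    {M : Type v} {N : Type w} [AddCommGroup M] [Module R M] [AddCommGroup N] [Module R N]
    [Module.Finite R M] (d : M →ₗ[R] N) : (LinearMap.range d).FG := by
  rw [LinearMap.range_eq_map]
  exact (Module.Finite.fg_top).map d

theorem free_at {R : Type u} [CommRing R]
    {M : Type v} {N : Type w} [AddCommGroup M] [Module R M] [AddCommGroup N] [Module R N]
    [Module.Finite R M] [Module.Finite R N] [Module.Projective R N]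
    (d : M →ₗ[R] N) (p : Ideal R) [p.IsPrime]
    (h : LinearMap.ker (d.baseChange p.ResidueField) ≤
        LinearMap.range ((LinearMap.ker d).subtype.baseChange p.ResidueField)) :
    Module.Free (Localization.AtPrime p) (Localization.AtPrime p ⊗[R] (N ⧸ LinearMap.range d)) := by
  rw [cond_iff, transport_inj (Localization.AtPrime p) p.ResidueField] at h
  exact free_of_inj p _ (range_fg d) h

theorem main54 (R : Type u) [CommRing R]
    (M : Type v) (N : Type w) [AddCommGroup M] [Module R M] [AddCommGroup N] [Module R N]
    [Module.Finite R M] [Module.Projective R M] [Module.Finite R N] [Module.Projective R N]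
    (d : M →ₗ[R] N) (p : PrimeSpectrum R) :
    LinearMap.ker (d.baseChange p.asIdeal.ResidueField) ≤
        LinearMap.range ((LinearMap.ker d).subtype.baseChange p.asIdeal.ResidueField) ↔
      ∃ f : R, f ∉ p.asIdeal ∧
        Module.Projective (Localization.Away f)
          (LocalizedModule (Submonoid.powers f) (N ⧸ LinearMap.range d)) := by
  constructor
  · intro h
    haveI := free_at d p.asIdeal h
    haveI := fp_coker d
    obtain ⟨r, hr, hfree, -⟩ := Module.FinitePresentation.exists_free_localizedModule_powers
      p.asIdeal.primeCompl
      (TensorProduct.mk R (Localization.AtPrime p.asIdeal) (N ⧸ LinearMap.range d) 1)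
      (Localization.AtPrime p.asIdeal)
    refine ⟨r, hr, ?_⟩
    haveI := hfree
    exact Module.Projective.of_free
  · rintro ⟨f, hf, hproj⟩
    rw [cond_iff]
    exact inj_of_away p.asIdeal _ f hf hproj

theorem main53 (R : Type u) [CommRing R]
    (M : Type v) (N : Type w) [AddCommGroup M] [Module R M] [AddCommGroup N] [Module R N]
    [Module.Finite R M] [Module.Projective R M] [Module.Finite R N] [Module.Projective R N]
    (d : M →ₗ[R] N) :
    Module.Projective R (N ⧸ LinearMap.range d) ↔
      ∀ p : PrimeSpectrum R,
        LinearMap.ker (d.baseChange p.asIdeal.ResidueField) ≤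
          LinearMap.range ((LinearMap.ker d).subtype.baseChange p.asIdeal.ResidueField) := by
  constructor
  · intro hproj p
    rw [cond_iff]
    have hsurj : Function.Surjective (LinearMap.range d).mkQ := Submodule.mkQ_surjective _
    have := (Function.Exact.split_tfae (LinearMap.exact_subtype_mkQ (LinearMap.range d))
      (LinearMap.range d).subtype_injective hsurj).out 0 1
    obtain ⟨l, hl⟩ := this.mp (Module.projective_lifting_property _ _ hsurj)
    have : l.lTensor p.asIdeal.ResidueField ∘ₗ
        (LinearMap.range d).subtype.lTensor p.asIdeal.ResidueField = LinearMap.id := by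
      rw [← LinearMap.lTensor_comp, hl, LinearMap.lTensor_id]
    exact Function.HasLeftInverse.injective ⟨_, LinearMap.congr_fun this⟩
  · intro h
    haveI := fp_coker d
    refine Module.projective_of_localization_maximal'
      (fun P _ => Localization.AtPrime P)
      (fun P _ => Localization.AtPrime P ⊗[R] (N ⧸ LinearMap.range d))
      (fun P _ => TensorProduct.mk R (Localization.AtPrime P) (N ⧸ LinearMap.range d) 1) ?_
    intro P hP
    haveI := free_at d P (h ⟨P, hP.isPrime⟩)
    exact Module.Projective.of_free

end Groth.Agent.H3Coker
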