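import Mathlib
import Groth.Agent.Lib.helper3.CkA
import Groth.Agent.Lib.helper3.CkM

set_option autoImplicit false
open TensorProduct

namespace Groth.Agent.H3Coker

universe u v

section
variable (A : Type u) [CommRing A]
    (M : Type v) (F : Type v) [AddCommGroup M] [Module A M] [Module.Finite A M]
    [AddCommGroup F] [Module A F] [Module.Finite A F] [Module.Free A F]
    (δ : M →ₗ[A] F) (p : Ideal A) [p.IsPrime]

lemma exact_iff_cond :
    Function.Exact (LinearMap.lTensor p.ResidueField (LinearMap.ker δ).subtype)
        (LinearMap.lTensor p.ResidueField δ) ↔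
      LinearMap.ker (δ.baseChange p.ResidueField) ≤
        LinearMap.range ((LinearMap.ker δ).subtype.baseChange p.ResidueField) := by
  constructor
  · intro h y hy
    obtain ⟨w, hw⟩ := (h y).mp hy
    exact ⟨w, hw⟩
  · intro h y
    constructor
    · intro hy
      obtain ⟨w, hw⟩ := h hy
      exact ⟨w, hw⟩
    · rintro ⟨w, rfl⟩
      rw [← LinearMap.comp_apply, ← LinearMap.lTensor_comp]
      have : δ ∘ₗ (LinearMap.ker δ).subtype = 0 := by
        ext x
        exact x.2
      rw [this, LinearMap.lTensor_zero, LinearMap.zero_apply]

/-- projectivity of the localized image and retractions, from projectivity of the cokernel -/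
lemma splits_of_proj
    (hproj : Module.Projective (Localization.AtPrime p)
      (Localization.AtPrime p ⊗[A] (F ⧸ LinearMap.range δ))) :
    Module.Projective (Localization.AtPrime p) (Localization.AtPrime p ⊗[A] LinearMap.range δ) ∧
    (∃ l : Localization.AtPrime p ⊗[A] F →ₗ[Localization.AtPrime p]
        Localization.AtPrime p ⊗[A] LinearMap.range δ,
      l ∘ₗ ((LinearMap.range δ).subtype.baseChange (Localization.AtPrime p)) = LinearMap.id) ∧
    (∃ l : Localization.AtPrime p ⊗[A] M →ₗ[Localization.AtPrime p]
        Localization.AtPrime p ⊗[A] LinearMap.ker δ,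
      l ∘ₗ ((LinearMap.ker δ).subtype.baseChange (Localization.AtPrime p)) = LinearMap.id) := by
  obtain ⟨l, hl⟩ := baseChange_split (Localization.AtPrime p) (LinearMap.range δ) hproj
  have hR : Module.Projective (Localization.AtPrime p)
      (Localization.AtPrime p ⊗[A] LinearMap.range δ) := Module.Projective.of_split _ _ hl
  refine ⟨hR, ⟨l, hl⟩, ?_⟩
  have hQ : Module.Projective (Localization.AtPrime p)
      (Localization.AtPrime p ⊗[A] (M ⧸ LinearMap.ker δ)) :=
    Module.Projective.of_equiv
      (LinearEquiv.baseChange A (Localization.AtPrime p) _ _ δ.quotKerEquivRange).symm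
  exact baseChange_split (Localization.AtPrime p) (LinearMap.ker δ) hQ

theorem main608 :
    [ Function.Exact (LinearMap.lTensor p.ResidueField (LinearMap.ker δ).subtype)
        (LinearMap.lTensor p.ResidueField δ),
      Function.Exact (LinearMap.lTensor p.ResidueField (LinearMap.ker δ).subtype)
        (LinearMap.lTensor p.ResidueField δ) ∧
        Function.Injective (LinearMap.lTensor p.ResidueField (LinearMap.ker δ).subtype),
      Module.Free (Localization.AtPrime p)
        (LocalizedModule p.primeCompl (F ⧸ LinearMap.range δ)) ].TFAE ∧
    (Function.Exact (LinearMap.lTensor p.ResidueField (LinearMap.ker δ).subtype)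
        (LinearMap.lTensor p.ResidueField δ) →
      Module.Free (Localization.AtPrime p)
        (LocalizedModule p.primeCompl (LinearMap.range δ))) := by
  have eC : Localization.AtPrime p ⊗[A] (F ⧸ LinearMap.range δ) ≃ₗ[Localization.AtPrime p]
      LocalizedModule p.primeCompl (F ⧸ LinearMap.range δ) :=
    (IsLocalizedModule.isBaseChange p.primeCompl (Localization.AtPrime p)
      (LocalizedModule.mkLinearMap p.primeCompl (F ⧸ LinearMap.range δ))).equiv
  have eR : Localization.AtPrime p ⊗[A] (LinearMap.range δ) ≃ₗ[Localization.AtPrime p]
      LocalizedModule p.primeCompl (LinearMap.range δ) :=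
    (IsLocalizedModule.isBaseChange p.primeCompl (Localization.AtPrime p)
      (LocalizedModule.mkLinearMap p.primeCompl (LinearMap.range δ))).equiv
  have h13 : Function.Exact (LinearMap.lTensor p.ResidueField (LinearMap.ker δ).subtype)
        (LinearMap.lTensor p.ResidueField δ) →
      Module.Free (Localization.AtPrime p)
        (LocalizedModule p.primeCompl (F ⧸ LinearMap.range δ)) := by
    intro h
    haveI := free_at δ p ((exact_iff_cond A M F δ p).mp h)
    exact Module.Free.of_equiv eC
  have hR3 : Module.Free (Localization.AtPrime p)
        (LocalizedModule p.primeCompl (F ⧸ LinearMap.range δ)) →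
      Module.Free (Localization.AtPrime p)
        (LocalizedModule p.primeCompl (LinearMap.range δ)) := by
    intro h3
    haveI := h3
    have hproj : Module.Projective (Localization.AtPrime p)
        (Localization.AtPrime p ⊗[A] (F ⧸ LinearMap.range δ)) :=
      Module.Projective.of_equiv eC.symm
    obtain ⟨hR, -, -⟩ := splits_of_proj A M F δ p hproj
    haveI := hR
    haveI : Module.Finite A (LinearMap.range δ) := by
      rw [LinearMap.range_eq_map]
      exact Module.Finite.map _ _
    haveI : Module.Free (Localization.AtPrime p)
        (Localization.AtPrime p ⊗[A] LinearMap.range δ) := Module.free_of_flat_of_isLocalRing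
    exact Module.Free.of_equiv eR
  refine ⟨?_, fun h => hR3 (h13 h)⟩
  tfae_have 1 → 3 := h13
  tfae_have 2 → 1 := fun h => h.1
  tfae_have 3 → 2 := by
    intro h3
    haveI := h3
    have hproj : Module.Projective (Localization.AtPrime p)
        (Localization.AtPrime p ⊗[A] (F ⧸ LinearMap.range δ)) :=
      Module.Projective.of_equiv eC.symm
    obtain ⟨-, hs1, hs2⟩ := splits_of_proj A M F δ p hproj
    constructor
    · rw [exact_iff_cond, cond_iff, transport_inj (Localization.AtPrime p) p.ResidueField]
      exact inj_of_split _ _ _ hs1
    · rw [transport_inj (Localization.AtPrime p) p.ResidueField]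
      exact inj_of_split _ _ _ hs2
  tfae_finish

end

end Groth.Agent.H3Coker
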