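import Mathlib
set_option autoImplicit false
open Set Function Submodule Module

namespace Groth.Agent.H3RootD

section closest
variable {K : Type*} {V : Type*} {κ : Type*} [Field K] [LinearOrder K] [IsStrictOrderedRing K]
  [AddCommGroup V] [Module K V]

/-- Riesz representation on a finite-dimensional subspace for a positive definite form. -/
theorem exists_riesz (B : LinearMap.BilinForm K V) (hBp : ∀ y : V, y ≠ 0 → 0 < B y y)
    (W : Submodule K V) [FiniteDimensional K W] (f : V →ₗ[K] K) :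
    ∃ w ∈ W, ∀ u ∈ W, B w u = f u := by
  let φ : W →ₗ[K] Module.Dual K W := B.domRestrict₁₂ W W
  have hinj : Function.Injective φ := by
    rw [← LinearMap.ker_eq_bot, LinearMap.ker_eq_bot']
    intro w hw
    by_contra hne
    have h1 : φ w w = 0 := by rw [hw]; rfl
    have h2 : (w : V) ≠ 0 := fun h => hne (Subtype.ext h)
    exact (hBp _ h2).ne' h1
  have hsurj : Function.Surjective φ :=
    (LinearMap.injective_iff_surjective_of_finrank_eq_finrank
      (Subspace.dual_finrank_eq (K := K) (V := W)).symm).1 hinj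
  obtain ⟨w, hw⟩ := hsurj (f.domRestrict W)
  refine ⟨w, w.2, fun u hu => ?_⟩
  have := LinearMap.congr_fun hw ⟨u, hu⟩
  exact this

/-- Orthogonal projection of the origin to the affine span of finitely many points. -/
theorem exists_proj (B : LinearMap.BilinForm K V) (hBp : ∀ y : V, y ≠ 0 → 0 < B y y)
    (v : κ → V) (T : Finset κ) (hT : T.Nonempty) :
    ∃ a : κ → K, ∑ i ∈ T, a i = 1 ∧
      ∀ j ∈ T, B (∑ i ∈ T, a i • v i) (v j) = B (∑ i ∈ T, a i • v i) (∑ i ∈ T, a i • v i) := by
  classical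
  obtain ⟨i₀, hi₀⟩ := hT
  set W : Submodule K V := span K ((fun i => v i - v i₀) '' (T : Set κ)) with hW
  have : FiniteDimensional K W := FiniteDimensional.span_of_finite K (T.finite_toSet.image _)
  obtain ⟨w, hwW, hw⟩ := exists_riesz B hBp W (B (v i₀))
  rw [hW, Submodule.mem_span_image_finset_iff_exists_fun'] at hwW
  obtain ⟨c, hc⟩ := hwW
  set a : κ → K := fun i => (if i = i₀ then 1 + ∑ i ∈ T, c i else 0) - c i with ha
  have hsum : ∑ i ∈ T, a i = 1 := by
    simp only [ha, Finset.sum_sub_distrib, Finset.sum_ite_eq', hi₀, if_true]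
    ring
  have hp : ∑ i ∈ T, a i • v i = v i₀ - w := by
    rw [← hc]
    simp only [ha, sub_smul, smul_sub, Finset.sum_sub_distrib, ite_smul, zero_smul,
      Finset.sum_ite_eq', hi₀, if_true, ← Finset.sum_smul, add_smul, one_smul]
    abel
  have horth : ∀ j ∈ T, B (v i₀ - w) (v j) = B (v i₀ - w) (v i₀) := by
    intro j hj
    have hu : v j - v i₀ ∈ W := Submodule.subset_span ⟨j, hj, rfl⟩
    have := hw _ hu
    simp only [map_sub, LinearMap.sub_apply] at this ⊢
    linarith
  have hpp : B (v i₀ - w) (v i₀ - w) = B (v i₀ - w) (v i₀) := by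
    have h3 : B (v i₀ - w) (∑ i ∈ T, a i • v i) = B (v i₀ - w) (v i₀) := by
      rw [map_sum]
      simp only [map_smul, smul_eq_mul]
      rw [Finset.sum_congr rfl (fun i hi => by rw [horth i hi]), ← Finset.sum_mul, hsum, one_mul]
    rw [hp] at h3
    exact h3
  refine ⟨a, hsum, fun j hj => ?_⟩
  rw [hp, horth j hj, hpp]

omit [IsStrictOrderedRing K] in
theorem form_nonneg (B : LinearMap.BilinForm K V) (hBp : ∀ y : V, y ≠ 0 → 0 < B y y) (x : V) :
    0 ≤ B x x := by
  by_cases h : x = 0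
  · rw [h, map_zero]
  · exact (hBp x h).le

theorem proj_le (B : LinearMap.BilinForm K V) (hBs : ∀ y z : V, B y z = B z y)
    (hBp : ∀ y : V, y ≠ 0 → 0 < B y y)
    (v : κ → V) (T : Finset κ) (a : κ → K)
    (hst : ∀ j ∈ T, B (∑ i ∈ T, a i • v i) (v j) = B (∑ i ∈ T, a i • v i) (∑ i ∈ T, a i • v i))
    (w : κ → K) (hw1 : ∑ i ∈ T, w i = 1) :
    B (∑ i ∈ T, a i • v i) (∑ i ∈ T, a i • v i) ≤ B (∑ i ∈ T, w i • v i) (∑ i ∈ T, w i • v i) := by
  set p := ∑ i ∈ T, a i • v i with hp
  set z := ∑ i ∈ T, w i • v i with hz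
  have h1 : B p z = B p p := by
    rw [hz, map_sum]
    simp only [map_smul, smul_eq_mul]
    rw [Finset.sum_congr rfl (fun i hi => by rw [hst i hi]), ← Finset.sum_mul, hw1, one_mul]
  have h2 := form_nonneg B hBp (z - p)
  simp only [map_sub, LinearMap.sub_apply] at h2
  have h3 := hBs z p
  linarith

theorem form_convex (B : LinearMap.BilinForm K V) (hBs : ∀ y z : V, B y z = B z y)
    (hBp : ∀ y : V, y ≠ 0 → 0 < B y y) (y p : V) (θ : K) (h0 : 0 ≤ θ) (h1 : θ ≤ 1)
    (hp : B p p ≤ B y y) :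
    B ((1 - θ) • y + θ • p) ((1 - θ) • y + θ • p) ≤ B y y := by
  have hq := form_nonneg B hBp (y - p)
  simp only [map_sub, LinearMap.sub_apply] at hq
  have h3 := hBs p y
  simp only [map_add, map_smul, LinearMap.add_apply, LinearMap.smul_apply, smul_eq_mul]
  rw [h3] at hq ⊢
  nlinarith [mul_nonneg (mul_nonneg h0 (sub_nonneg.2 h1)) hq, mul_nonneg h0 (sub_nonneg.2 hp)]

/-- A positive definite quadratic form attains its minimum on the convex hull of finitely many
points (weights version). -/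
theorem exists_min_weights (B : LinearMap.BilinForm K V) (hBs : ∀ y z : V, B y z = B z y)
    (hBp : ∀ y : V, y ≠ 0 → 0 < B y y) [Finite κ] [Nonempty κ] (v : κ → V) :
    ∃ (T₀ : Finset κ) (a₀ : κ → K), (∀ i ∈ T₀, 0 ≤ a₀ i) ∧ ∑ i ∈ T₀, a₀ i = 1 ∧
      ∀ (T : Finset κ) (w : κ → K), (∀ i ∈ T, 0 ≤ w i) → ∑ i ∈ T, w i = 1 →
        B (∑ i ∈ T₀, a₀ i • v i) (∑ i ∈ T₀, a₀ i • v i)
          ≤ B (∑ i ∈ T, w i • v i) (∑ i ∈ T, w i • v i) := by
  classical
  have : Fintype κ := Fintype.ofFinite κ
  choose a ha1 hast using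
    (fun T : {T : Finset κ // T.Nonempty} => exists_proj B hBp v T.1 T.2)
  set pt : {T : Finset κ // T.Nonempty} → V := fun T => ∑ i ∈ T.1, a T i • v i with hpt
  set C : Finset {T : Finset κ // T.Nonempty} :=
    Finset.univ.filter (fun T => ∀ i ∈ T.1, 0 ≤ a T i) with hC
  have hCne : C.Nonempty := by
    obtain ⟨i₀⟩ := ‹Nonempty κ›
    refine ⟨⟨{i₀}, Finset.singleton_nonempty i₀⟩, ?_⟩
    rw [hC, Finset.mem_filter]
    refine ⟨Finset.mem_univ _, fun i hi => ?_⟩
    have h := ha1 ⟨{i₀}, Finset.singleton_nonempty i₀⟩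
    rw [Finset.mem_singleton] at hi
    simp only [Finset.sum_singleton] at h
    rw [hi, h]
    exact zero_le_one
  obtain ⟨T₀, hT₀, hmin⟩ := Finset.exists_min_image C (fun T => B (pt T) (pt T)) hCne
  rw [hC, Finset.mem_filter] at hT₀
  refine ⟨T₀.1, a T₀, hT₀.2, ha1 T₀, ?_⟩
  have key : ∀ (n : ℕ) (T : Finset κ), T.card = n → ∀ w : κ → K, (∀ i ∈ T, 0 ≤ w i) →
      ∑ i ∈ T, w i = 1 → B (pt T₀) (pt T₀) ≤ B (∑ i ∈ T, w i • v i) (∑ i ∈ T, w i • v i) := by
    intro n
    induction n using Nat.strong_induction_on with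
    | _ n ih =>
    intro T hcard w hw0 hw1
    have hTne : T.Nonempty := by
      by_contra h
      rw [Finset.not_nonempty_iff_eq_empty] at h
      rw [h, Finset.sum_empty] at hw1
      exact zero_ne_one hw1
    set Ts : {T : Finset κ // T.Nonempty} := ⟨T, hTne⟩ with hTs
    have hpy : B (pt Ts) (pt Ts) ≤ B (∑ i ∈ T, w i • v i) (∑ i ∈ T, w i • v i) :=
      proj_le B hBs hBp v T (a Ts) (hast Ts) w hw1
    by_cases hall : ∀ i ∈ T, 0 ≤ a Ts i
    · have hmem : Ts ∈ C := by
        rw [hC, Finset.mem_filter]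
        exact ⟨Finset.mem_univ _, hall⟩
      exact (hmin Ts hmem).trans hpy
    · push Not at hall
      obtain ⟨i₁, hi₁T, hi₁neg⟩ := hall
      set Neg := T.filter (fun i => a Ts i < 0) with hNegdef
      have hNeg : Neg.Nonempty := ⟨i₁, by rw [hNegdef, Finset.mem_filter]; exact ⟨hi₁T, hi₁neg⟩⟩
      obtain ⟨is, his, hθmin⟩ :=
        Finset.exists_min_image Neg (fun i => w i / (w i - a Ts i)) hNeg
      rw [hNegdef, Finset.mem_filter] at his
      obtain ⟨hisT, hisneg⟩ := his
      set θ := w is / (w is - a Ts is) with hθ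
      have hden : 0 < w is - a Ts is := by linarith [hw0 is hisT]
      have hθ0 : 0 ≤ θ := div_nonneg (hw0 is hisT) hden.le
      have hθ1 : θ ≤ 1 := by
        rw [hθ, div_le_one hden]
        linarith
      set w' : κ → K := fun i => (1 - θ) * w i + θ * a Ts i with hw'
      have hw'is : w' is = 0 := by
        simp only [hw', hθ]
        field_simp
        ring
      have hw'0 : ∀ i ∈ T, 0 ≤ w' i := by
        intro i hi
        by_cases hai : 0 ≤ a Ts i
        · exact add_nonneg (mul_nonneg (sub_nonneg.2 hθ1) (hw0 i hi)) (mul_nonneg hθ0 hai)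
        · rw [not_le] at hai
          have hdi : 0 < w i - a Ts i := by linarith [hw0 i hi]
          have hle : θ ≤ w i / (w i - a Ts i) :=
            hθmin i (by rw [hNegdef, Finset.mem_filter]; exact ⟨hi, hai⟩)
          have h := (le_div_iff₀ hdi).1 hle
          simp only [hw']
          linarith
      have hw'1 : ∑ i ∈ T, w' i = 1 := by
        have ha1' : ∑ i ∈ T, a Ts i = 1 := ha1 Ts
        simp only [hw', Finset.sum_add_distrib, ← Finset.mul_sum, hw1, ha1']
        ring
      have hz : ∑ i ∈ T, w' i • v i = (1 - θ) • (∑ i ∈ T, w i • v i) + θ • pt Ts := by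
        simp only [hw', hpt, add_smul, mul_smul, Finset.sum_add_distrib, Finset.smul_sum]
        rfl
      have hzy : B (∑ i ∈ T, w' i • v i) (∑ i ∈ T, w' i • v i)
          ≤ B (∑ i ∈ T, w i • v i) (∑ i ∈ T, w i • v i) := by
        rw [hz]
        exact form_convex B hBs hBp _ _ θ hθ0 hθ1 hpy
      have hz' : ∑ i ∈ T, w' i • v i = ∑ i ∈ T.erase is, w' i • v i := by
        rw [← Finset.add_sum_erase T _ hisT, hw'is, zero_smul, zero_add]
      have hs' : ∑ i ∈ T.erase is, w' i = 1 := by
        rw [← hw'1, ← Finset.add_sum_erase T _ hisT, hw'is, zero_add]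
      have hlt : (T.erase is).card < n := by
        rw [Finset.card_erase_of_mem hisT, hcard]
        exact Nat.sub_lt (hcard ▸ Finset.card_pos.2 hTne) one_pos
      have := ih (T.erase is).card hlt (T.erase is) rfl w'
        (fun i hi => hw'0 i (Finset.mem_of_mem_erase hi)) hs'
      rw [← hz'] at this
      exact this.trans hzy
  intro T w hw0 hw1
  exact key T.card T rfl w hw0 hw1

/-- A positive definite quadratic form attains its minimum on the convex hull of finitely many
points. -/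
theorem exists_min_convexHull (B : LinearMap.BilinForm K V) (hBs : ∀ y z : V, B y z = B z y)
    (hBp : ∀ y : V, y ≠ 0 → 0 < B y y) [Finite κ] [Nonempty κ] (v : κ → V) :
    ∃ y₀ ∈ convexHull K (Set.range v), ∀ y ∈ convexHull K (Set.range v), B y₀ y₀ ≤ B y y := by
  obtain ⟨T₀, a₀, h0, h1, hmin⟩ := exists_min_weights B hBs hBp v
  refine ⟨∑ i ∈ T₀, a₀ i • v i, ?_, ?_⟩
  · exact (convex_convexHull K _).sum_mem h0 h1
      (fun i _ => subset_convexHull K _ (Set.mem_range_self i))
  · intro y hy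
    rw [convexHull_range_eq_exists_affineCombination] at hy
    obtain ⟨T, w, hw0, hw1, rfl⟩ := hy
    rw [Finset.affineCombination_eq_linear_combination _ _ _ hw1]
    exact hmin T w hw0 hw1

end closest

end Groth.Agent.H3RootD
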