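import Mathlib

set_option autoImplicit false
universe u v w

namespace Groth.Agent.H3Coh

theorem coh_quot (R : Type u) [CommRing R] {M : Type u} [AddCommGroup M] [Module R M]
    (hcoh : ∀ P : Submodule R M, P.FG → Module.FinitePresentation R P)
    (I : Submodule R M) (hrfg : I.FG) (P : Submodule R (M ⧸ I)) (hP : P.FG) :
    Module.FinitePresentation R P := by
  set Pt : Submodule R M := P.comap I.mkQ with hPt
  have hle : I ≤ Pt := by
    intro x hx
    rw [hPt, Submodule.mem_comap]
    have : I.mkQ x = 0 := by
      rw [Submodule.mkQ_apply, Submodule.Quotient.mk_eq_zero]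
      exact hx
    rw [this]
    exact P.zero_mem
  have hPtfg : Pt.FG := by
    apply Submodule.fg_of_fg_map_of_fg_inf_ker I.mkQ
    · rw [hPt, Submodule.map_comap_eq_of_surjective (Submodule.mkQ_surjective _)]
      exact hP
    · rw [Submodule.ker_mkQ, inf_eq_right.mpr hle]
      exact hrfg
  haveI := hcoh _ hPtfg
  let l : Pt →ₗ[R] P := (I.mkQ.restrict (p := Pt) (q := P) (fun x hx => hx))
  have hl : Function.Surjective l := by
    rintro ⟨y, hy⟩
    obtain ⟨x, rfl⟩ := Submodule.mkQ_surjective I y
    exact ⟨⟨x, hy⟩, rfl⟩
  have hker : (LinearMap.ker l).FG := by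
    have hk : LinearMap.ker l = (I.comap Pt.subtype) := by
      ext ⟨x, hx⟩
      rw [LinearMap.mem_ker, Submodule.mem_comap]
      simp only [l, Submodule.subtype_apply]
      rw [← Subtype.coe_inj]
      simp only [LinearMap.coe_restrict_apply, Submodule.mkQ_apply, ZeroMemClass.coe_zero,
        Submodule.Quotient.mk_eq_zero]
    rw [hk]
    have : (I.comap Pt.subtype).map Pt.subtype = I := by
      rw [Submodule.map_comap_eq, Submodule.range_subtype]
      exact inf_eq_right.mpr hle
    apply Submodule.fg_of_fg_map_injective Pt.subtype (Submodule.injective_subtype _)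
    rw [this]
    exact hrfg
  exact Module.finitePresentation_of_surjective l hl hker

theorem main12206 (R : Type u) [CommRing R] {N M : Type u}
    [AddCommGroup N] [Module R N] [AddCommGroup M] [Module R M] [Module.Finite R N]
    (hM : Module.Finite R M ∧ ∀ P : Submodule R M, P.FG → Module.FinitePresentation R P)
    (φ : N →ₗ[R] M) :
    (LinearMap.ker φ).FG ∧
    (Module.Finite R (LinearMap.range φ) ∧
      ∀ P : Submodule R (LinearMap.range φ), P.FG → Module.FinitePresentation R P) ∧
    (Module.Finite R (M ⧸ LinearMap.range φ) ∧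
      ∀ P : Submodule R (M ⧸ LinearMap.range φ), P.FG → Module.FinitePresentation R P) := by
  obtain ⟨hfin, hcoh⟩ := hM
  have hrfg : (LinearMap.range φ).FG := by
    rw [LinearMap.range_eq_map]
    exact (Module.Finite.fg_top).map φ
  haveI : Module.FinitePresentation R (LinearMap.range φ) := hcoh _ hrfg
  refine ⟨?_, ⟨Module.Finite.of_fg hrfg, ?_⟩, ⟨inferInstance, ?_⟩⟩
  · have h1 := Module.FinitePresentation.fg_ker φ.rangeRestrict φ.surjective_rangeRestrict
    rwa [LinearMap.ker_rangeRestrict] at h1
  · intro P hP
    have hP' : (P.map (LinearMap.range φ).subtype).FG := hP.map _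
    haveI := hcoh _ hP'
    exact Module.FinitePresentation.of_equiv
      (Submodule.equivMapOfInjective (LinearMap.range φ).subtype
        (Submodule.injective_subtype _) P).symm
  · intro P hP
    exact coh_quot R hcoh _ hrfg P hP

end Groth.Agent.H3Coh
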