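import Mathlib

namespace Groth.Agent.H3Cq

universe u v

theorem main16211 (R : Type u) [CommRing R]
    (O : Type u) [CommRing O] [Algebra R O] [Algebra.FormallySmooth R O]
    (G : Type v) [Group G] [Finite G] [MulSemiringAction G O] [SMulCommClass G R O]
    (hG : IsUnit (Nat.card G : R)) :
    Algebra.FormallySmooth R (O ⧸ Ideal.span {x : O | ∃ (g : G) (f : O), x = g • f - f}) := by
  classical
  haveI : Fintype G := Fintype.ofFinite G
  obtain ⟨J, hJ⟩ : ∃ J : Ideal O, J = Ideal.span {x : O | ∃ (g : G) (f : O), x = g • f - f} :=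
    ⟨_, rfl⟩
  rw [← hJ]
  obtain ⟨c, hc⟩ : ∃ c : R, c * (Fintype.card G : R) = 1 := by
    rw [Nat.card_eq_fintype_card] at hG
    obtain ⟨c, hc⟩ := hG.exists_left_inv
    exact ⟨c, hc⟩
  refine Algebra.FormallySmooth.of_comp_surjective fun B _ _ I hI f => ?_
  obtain ⟨ψ, hψ⟩ :=
    Algebra.FormallySmooth.comp_surjective R O I hI (f.comp (Ideal.Quotient.mkₐ R J))
  have hψ' : ∀ x : O, Ideal.Quotient.mk I (ψ x) = f (Ideal.Quotient.mk J x) := fun x =>
    DFunLike.congr_fun hψ x
  have hmk : ∀ (g : G) (x : O), Ideal.Quotient.mk J (g • x) = Ideal.Quotient.mk J x := by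
    intro g x
    rw [← sub_eq_zero, ← map_sub, Ideal.Quotient.eq_zero_iff_mem, hJ]
    exact Ideal.subset_span ⟨g, x, rfl⟩
  have hd : ∀ (g : G) (x : O), ψ (g • x) - ψ x ∈ I := by
    intro g x
    rw [← Ideal.Quotient.eq_zero_iff_mem, map_sub, hψ', hψ', hmk, sub_self]
  have hII : ∀ a ∈ I, ∀ b ∈ I, a * b = 0 := by
    intro a ha b hb
    have h1 : a * b ∈ I ^ 2 := by rw [pow_two]; exact Ideal.mul_mem_mul ha hb
    rw [hI] at h1
    exact h1
  let δ : O → B := fun x => c • ∑ g : G, (ψ (g • x) - ψ x)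
  have hδI : ∀ x, δ x ∈ I := fun x =>
    Submodule.smul_of_tower_mem I c (Submodule.sum_mem _ fun g _ => hd g x)
  have hsum : ∀ x : O, c • ∑ g : G, ψ (g • x) = ψ x + δ x := by
    intro x
    have h1 : ∑ g : G, ψ (g • x) = (Fintype.card G : R) • ψ x + ∑ g : G, (ψ (g • x) - ψ x) := by
      rw [Finset.sum_sub_distrib, Finset.sum_const, Finset.card_univ, Nat.cast_smul_eq_nsmul]
      abel
    rw [h1, smul_add, smul_smul, hc, one_smul]
  have hδmul : ∀ x y : O, δ (x * y) = ψ x * δ y + δ x * ψ y := by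
    intro x y
    have h1 : ∀ g : G, ψ (g • (x * y)) - ψ (x * y) =
        ψ x * (ψ (g • y) - ψ y) + (ψ (g • x) - ψ x) * ψ y := by
      intro g
      have h2 := hII _ (hd g x) _ (hd g y)
      rw [smul_mul', map_mul, map_mul]
      linear_combination h2
    change c • ∑ g : G, (ψ (g • (x * y)) - ψ (x * y)) = ψ x * (c • ∑ g : G, (ψ (g • y) - ψ y)) +
      (c • ∑ g : G, (ψ (g • x) - ψ x)) * ψ y
    rw [Finset.sum_congr rfl fun g _ => h1 g, Finset.sum_add_distrib, ← Finset.mul_sum,
      ← Finset.sum_mul, smul_add, mul_smul_comm, smul_mul_assoc]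
  let L : O →ₗ[R] B :=
    { toFun := fun x => c • ∑ g : G, ψ (g • x)
      map_add' := fun x y => by
        simp only [smul_add, map_add, Finset.sum_add_distrib]
      map_smul' := fun r x => by
        simp only [RingHom.id_apply]
        rw [smul_comm r c]
        congr 1
        rw [Finset.smul_sum]
        refine Finset.sum_congr rfl fun g _ => ?_
        rw [smul_comm g r x, map_smul] }
  have hL : ∀ x, L x = ψ x + δ x := fun x => hsum x
  have hL1 : L 1 = 1 := by
    rw [hL]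
    have : δ 1 = 0 := by
      change c • ∑ g : G, (ψ (g • (1 : O)) - ψ 1) = 0
      simp
    rw [this, map_one, add_zero]
  have hLmul : ∀ x y, L (x * y) = L x * L y := by
    intro x y
    rw [hL, hL, hL, hδmul, map_mul]
    have h2 := hII _ (hδI x) _ (hδI y)
    linear_combination (-1 : B) * h2
  let ψ' : O →ₐ[R] B := AlgHom.ofLinearMap L hL1 hLmul
  have hψ'L : ∀ x, ψ' x = L x := fun x => rfl
  have hkill : ∀ a ∈ J, ψ' a = 0 := by
    intro a ha
    have hle : J ≤ RingHom.ker ψ'.toRingHom := by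
      rw [hJ, Ideal.span_le]
      rintro _ ⟨h, x, rfl⟩
      change ψ' (h • x - x) = 0
      rw [map_sub, sub_eq_zero, hψ'L, hψ'L]
      change c • ∑ g : G, ψ (g • h • x) = c • ∑ g : G, ψ (g • x)
      congr 1
      have h3 := Equiv.sum_comp (Equiv.mulRight h) (fun g => ψ (g • x))
      rw [← h3]
      refine Finset.sum_congr rfl fun g _ => ?_
      rw [Equiv.coe_mulRight, mul_smul]
    exact hle ha
  refine ⟨Ideal.Quotient.liftₐ J ψ' hkill, ?_⟩
  apply Ideal.Quotient.algHom_ext
  ext x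
  change Ideal.Quotient.mk I (ψ' x) = f (Ideal.Quotient.mk J x)
  rw [hψ'L, hL, map_add, hψ', Ideal.Quotient.eq_zero_iff_mem.mpr (hδI x), add_zero]

end Groth.Agent.H3Cq
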