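import Mathlib

namespace Groth.Agent.H3Cs

universe u
variable {R : Type u} [CommRing R]

theorem length_loc_simple_le_one (Q : Type u) [AddCommGroup Q] [Module R Q] [IsSimpleModule R Q]
    (m : Ideal R) [m.IsMaximal] [Nontrivial (LocalizedModule m.primeCompl Q)] :
    IsSimpleModule (Localization.AtPrime m) (LocalizedModule m.primeCompl Q) := by
  rw [isSimpleModule_iff]
  refine ⟨fun P => ?_⟩
  have hgi := (Submodule.localized'gi (Localization.AtPrime m) m.primeCompl
    (LocalizedModule.mkLinearMap m.primeCompl Q)).l_u_eq P
  rcases eq_bot_or_eq_top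
    (Submodule.comap (LocalizedModule.mkLinearMap m.primeCompl Q) (P.restrictScalars R)) with h | h
  · left
    rw [← hgi, h]
    exact Submodule.localized'_bot _ _ _
  · right
    rw [← hgi, h]
    exact Submodule.localized'_top _ _ _

theorem length_loc_simple_eq_one (Q : Type u) [AddCommGroup Q] [Module R Q] [IsSimpleModule R Q]
    (m : Ideal R) [m.IsMaximal] (hm : ∀ r ∈ m, ∀ q : Q, r • q = 0) :
    Module.length (Localization.AtPrime m) (LocalizedModule m.primeCompl Q) = 1 := by
  rw [Module.length_eq_one_iff]
  haveI : Nontrivial Q := IsSimpleModule.nontrivial R Q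
  haveI : Nontrivial (LocalizedModule m.primeCompl Q) := by
    by_contra hnt
    rw [not_nontrivial_iff_subsingleton, LocalizedModule.subsingleton_iff] at hnt
    obtain ⟨q, hq⟩ := exists_ne (0 : Q)
    obtain ⟨r, hr, hrq⟩ := hnt q
    obtain ⟨y, i, hi, hyi⟩ := Ideal.IsMaximal.exists_inv ‹m.IsMaximal› hr
    apply hq
    calc q = (1 : R) • q := (one_smul _ _).symm
      _ = (y * r + i) • q := by rw [hyi]
      _ = 0 := by rw [add_smul, mul_smul, hrq, smul_zero, hm i hi q, add_zero]
  exact length_loc_simple_le_one Q m

theorem length_loc_eq_zero (Q : Type u) [AddCommGroup Q] [Module R Q]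
    (m : Ideal R) [m.IsMaximal] (x : R) (hx : x ∉ m) (hxQ : ∀ q : Q, x • q = 0) :
    Module.length (Localization.AtPrime m) (LocalizedModule m.primeCompl Q) = 0 := by
  rw [Module.length_eq_zero_iff, LocalizedModule.subsingleton_iff]
  exact fun q => ⟨x, hx, hxQ q⟩

variable {M : Type u} [AddCommGroup M] [Module R M]

open Classical in
theorem step {N N' : Submodule R M} (h : N ⋖ N') (m : Ideal R) [m.IsMaximal] :
    Module.length (Localization.AtPrime m) (LocalizedModule m.primeCompl N') =
    Module.length (Localization.AtPrime m) (LocalizedModule m.primeCompl N) +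
      (if N.colon (N' : Set M) = m then 1 else 0) := by
  have hle : N ≤ N' := h.le
  haveI hs : IsSimpleModule R (N' ⧸ Submodule.comap N'.subtype N) :=
    (covBy_iff_quot_is_simple hle).mp h
  set K := Submodule.comap N'.subtype N with hK
  have hex : Function.Exact (Submodule.inclusion hle) K.mkQ := by
    rw [LinearMap.exact_iff, Submodule.ker_mkQ, Submodule.range_inclusion]
  have hadd := Module.length_eq_add_of_exact
    (LocalizedModule.map m.primeCompl (Submodule.inclusion hle))
    (LocalizedModule.map m.primeCompl K.mkQ)
    (LocalizedModule.map_injective _ _ (Submodule.inclusion_injective hle))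
    (LocalizedModule.map_surjective _ _ (Submodule.mkQ_surjective K))
    (LocalizedModule.map_exact m.primeCompl _ _ hex)
  rw [hadd]
  congr 1
  have hcolon : ∀ r : R, r ∈ N.colon (N' : Set M) ↔ ∀ q : N' ⧸ K, r • q = 0 := by
    intro r
    rw [Submodule.mem_colon]
    constructor
    · intro hr q
      induction q using Submodule.Quotient.induction_on with
      | H y =>
        rw [← Submodule.Quotient.mk_smul, Submodule.Quotient.mk_eq_zero]
        exact hr y.1 y.2
    · intro hr y hy
      have := hr (Submodule.Quotient.mk ⟨y, hy⟩)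
      rw [← Submodule.Quotient.mk_smul, Submodule.Quotient.mk_eq_zero] at this
      exact this
  by_cases hc : N.colon (N' : Set M) = m
  · rw [if_pos hc]
    apply length_loc_simple_eq_one
    intro r hr q
    rw [← hc] at hr
    exact (hcolon r).mp hr q
  · rw [if_neg hc]
    have hmax : (Module.annihilator R (N' ⧸ K)).IsMaximal := IsSimpleModule.annihilator_isMaximal
    have hann : Module.annihilator R (N' ⧸ K) = N.colon (N' : Set M) := by
      ext r
      rw [Module.mem_annihilator, hcolon]
    rw [hann] at hmax
    have hnle : ¬ N.colon (N' : Set M) ≤ m := fun hle' =>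
      hc (hmax.eq_of_le (Ideal.IsMaximal.ne_top ‹_›) hle')
    obtain ⟨x, hxc, hxm⟩ := Set.not_subset.mp hnle
    exact length_loc_eq_zero _ m x hxm ((hcolon x).mp hxc)

open Classical in
theorem main (s : CompositionSeries (Submodule R M)) (h0 : s.head = ⊥) (h1 : s.last = ⊤)
    (m : Ideal R) [m.IsMaximal] :
    ((Finset.univ.filter fun i : Fin s.length =>
      (s i.castSucc).colon (s i.succ : Set M) = m).card : ℕ∞) =
      Module.length (Localization.AtPrime m) (LocalizedModule m.primeCompl M) := by
  have key : ∀ k : ℕ, ∀ hk : k ≤ s.length,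
      Module.length (Localization.AtPrime m)
        (LocalizedModule m.primeCompl (s ⟨k, Nat.lt_succ_of_le hk⟩)) =
      ((Finset.univ.filter fun j : Fin s.length => j.val < k ∧
        (s j.castSucc).colon (s j.succ : Set M) = m).card : ℕ∞) := by
    intro k
    induction k with
    | zero =>
      intro hk
      have hb : s ⟨0, Nat.lt_succ_of_le hk⟩ = ⊥ := h0
      rw [hb]
      simp [Module.length_eq_zero]
    | succ k ih =>
      intro hk
      have hk' : k < s.length := hk
      have hstep : s (Fin.castSucc ⟨k, hk'⟩) ⋖ s (Fin.succ ⟨k, hk'⟩) := s.step ⟨k, hk'⟩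
      have h2 := step hstep m
      have ih' := ih hk'.le
      have e1 : (Fin.castSucc ⟨k, hk'⟩ : Fin (s.length + 1)) = ⟨k, Nat.lt_succ_of_le hk'.le⟩ := rfl
      have e2 : (Fin.succ ⟨k, hk'⟩ : Fin (s.length + 1)) = ⟨k + 1, Nat.lt_succ_of_le hk⟩ := rfl
      rw [e1, e2] at h2
      rw [h2, ih']
      by_cases hc : (s (Fin.castSucc ⟨k, hk'⟩)).colon (s (Fin.succ ⟨k, hk'⟩) : Set M) = m
      · rw [e1, e2] at hc
        rw [if_pos hc]
        have : (Finset.univ.filter fun j : Fin s.length => j.val < k + 1 ∧
            (s j.castSucc).colon (s j.succ : Set M) = m) =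
            insert ⟨k, hk'⟩ (Finset.univ.filter fun j : Fin s.length => j.val < k ∧
            (s j.castSucc).colon (s j.succ : Set M) = m) := by
          ext j
          simp only [Finset.mem_filter, Finset.mem_univ, true_and, Finset.mem_insert]
          constructor
          · rintro ⟨hj1, hj2⟩
            rcases Nat.lt_succ_iff_lt_or_eq.mp hj1 with hlt | heq
            · exact Or.inr ⟨hlt, hj2⟩
            · exact Or.inl (Fin.ext heq)
          · rintro (rfl | ⟨hj1, hj2⟩)
            · exact ⟨Nat.lt_succ_self _, hc⟩
            · exact ⟨Nat.lt_succ_of_lt hj1, hj2⟩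
        rw [this, Finset.card_insert_of_notMem]
        · push_cast; rfl
        · simp
      · rw [e1, e2] at hc
        rw [if_neg hc, add_zero]
        congr 2
        ext j
        simp only [Finset.mem_filter, Finset.mem_univ, true_and]
        constructor
        · rintro ⟨hj1, hj2⟩
          exact ⟨Nat.lt_succ_of_lt hj1, hj2⟩
        · rintro ⟨hj1, hj2⟩
          rcases Nat.lt_succ_iff_lt_or_eq.mp hj1 with hlt | heq
          · exact ⟨hlt, hj2⟩
          · exfalso
            apply hc
            have : j = ⟨k, hk'⟩ := Fin.ext heq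
            rw [this] at hj2
            exact hj2
  have hfin := key s.length le_rfl
  have ht : s ⟨s.length, Nat.lt_succ_of_le le_rfl⟩ = ⊤ := h1
  have hfilt : (Finset.univ.filter fun j : Fin s.length => j.val < s.length ∧
        (s j.castSucc).colon (s j.succ : Set M) = m) =
      (Finset.univ.filter fun i : Fin s.length =>
        (s i.castSucc).colon (s i.succ : Set M) = m) := by
    ext j
    simp
  rw [hfilt] at hfin
  rw [← hfin, ht]
  exact (IsLocalizedModule.mapEquiv m.primeCompl
    (LocalizedModule.mkLinearMap m.primeCompl (⊤ : Submodule R M))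
    (LocalizedModule.mkLinearMap m.primeCompl M) (Localization.AtPrime m)
    Submodule.topEquiv).length_eq

end Groth.Agent.H3Cs
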