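import Mathlib
import Groth.Agent.Lib.helper3.CsA

namespace Groth.Agent.H3Cs

universe u

section
variable {B : Type u} [CommRing B] {M : Type u} [AddCommGroup M] [Module B M]

theorem mem_colon_iff_quot (N N' : Submodule B M) (r : B) :
    r ∈ N.colon (N' : Set M) ↔ ∀ q : N' ⧸ Submodule.comap N'.subtype N, r • q = 0 := by
  rw [Submodule.mem_colon]
  constructor
  · intro hr q
    induction q using Submodule.Quotient.induction_on with
    | H y =>
      rw [← Submodule.Quotient.mk_smul, Submodule.Quotient.mk_eq_zero]
      exact hr y.1 y.2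
  · intro hr y hy
    have := hr (Submodule.Quotient.mk ⟨y, hy⟩)
    rw [← Submodule.Quotient.mk_smul, Submodule.Quotient.mk_eq_zero] at this
    exact this

theorem exists_equiv_quot_colon {N N' : Submodule B M} (h : N ⋖ N') :
    (N.colon (N' : Set M)).IsMaximal ∧
      Nonempty ((N' ⧸ Submodule.comap N'.subtype N) ≃ₗ[B] B ⧸ N.colon (N' : Set M)) := by
  haveI hs : IsSimpleModule B (N' ⧸ Submodule.comap N'.subtype N) :=
    (covBy_iff_quot_is_simple h.le).mp h
  obtain ⟨I, hI, ⟨e⟩⟩ := isSimpleModule_iff_quot_maximal.mp hs
  have hcI : N.colon (N' : Set M) = I := by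
    ext r
    rw [mem_colon_iff_quot]
    constructor
    · intro hr
      have h1 := hr (e.symm (Submodule.Quotient.mk 1))
      rw [← map_smul, LinearEquiv.map_eq_zero_iff, ← Submodule.Quotient.mk_smul,
        Submodule.Quotient.mk_eq_zero, smul_eq_mul, mul_one] at h1
      exact h1
    · intro hr q
      apply e.injective
      rw [map_smul, map_zero]
      generalize e q = z
      induction z using Submodule.Quotient.induction_on with
      | H y =>
        rw [← Submodule.Quotient.mk_smul, Submodule.Quotient.mk_eq_zero, smul_eq_mul]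
        exact I.mul_mem_right y hr
  subst hcI
  exact ⟨hI, ⟨e⟩⟩

theorem step_restrict (A : Type u) [CommRing A] [Module A M] [Algebra A B] [IsScalarTower A B M]
    {N N' : Submodule B M} (h : N ⋖ N') :
    Module.length A N' = Module.length A N + Module.length A (B ⧸ N.colon (N' : Set M)) := by
  obtain ⟨_, ⟨e⟩⟩ := exists_equiv_quot_colon h
  let f : N →ₗ[B] N' := Submodule.inclusion h.le
  let g : N' →ₗ[B] B ⧸ N.colon (N' : Set M) :=
    e.toLinearMap ∘ₗ (Submodule.comap N'.subtype N).mkQ
  have hf : Function.Injective f := Submodule.inclusion_injective _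
  have hg : Function.Surjective g := e.surjective.comp (Submodule.mkQ_surjective _)
  have hex : Function.Exact f g := by
    rw [LinearMap.exact_iff, LinearEquiv.ker_comp, Submodule.ker_mkQ, Submodule.range_inclusion]
  exact Module.length_eq_add_of_exact (f.restrictScalars A) (g.restrictScalars A)
    (by simpa using hf) (by simpa using hg) (by simpa using hex)

end

open Classical in
theorem main6320 {A B : Type u} [CommRing A] [IsLocalRing A] [CommRing B] [Algebra A B]
    [Finite (MaximalSpectrum B)]
    (hover : ∀ n : MaximalSpectrum B,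
      n.asIdeal.comap (algebraMap A B) = IsLocalRing.maximalIdeal A)
    (hfin : ∀ n : MaximalSpectrum B,
      Module.Finite (A ⧸ n.asIdeal.comap (algebraMap A B)) (B ⧸ n.asIdeal))
    (M : Type u) [AddCommGroup M] [Module B M] [Module A M] [IsScalarTower A B M]
    (hM : IsFiniteLength B M) :
    Module.length A M = ∑ᶠ n : MaximalSpectrum B,
      (Module.finrank (A ⧸ n.asIdeal.comap (algebraMap A B)) (B ⧸ n.asIdeal) : ℕ∞) *
        Module.length (Localization.AtPrime n.asIdeal)
          (LocalizedModule n.asIdeal.primeCompl M) := by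
  obtain ⟨s, h0, h1⟩ := isFiniteLength_iff_exists_compositionSeries.mp hM
  haveI := Fintype.ofFinite (MaximalSpectrum B)
  rw [finsum_eq_sum_of_fintype]
  have hF : ∀ n : MaximalSpectrum B,
      (Module.finrank (A ⧸ n.asIdeal.comap (algebraMap A B)) (B ⧸ n.asIdeal) : ℕ∞) =
        Module.length A (B ⧸ n.asIdeal) := by
    intro n
    haveI : (n.asIdeal.comap (algebraMap A B)).IsMaximal := by rw [hover n]; infer_instance
    letI : Field (A ⧸ n.asIdeal.comap (algebraMap A B)) := Ideal.Quotient.field _
    haveI := hfin n
    rw [Module.length_eq_of_surjective (S := A) (R := A ⧸ n.asIdeal.comap (algebraMap A B))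
      Ideal.Quotient.mk_surjective, Module.length_eq_finrank]
  have hL : ∀ n : MaximalSpectrum B,
      Module.length (Localization.AtPrime n.asIdeal) (LocalizedModule n.asIdeal.primeCompl M) =
      ((Finset.univ.filter fun i : Fin s.length =>
        (s i.castSucc).colon (s i.succ : Set M) = n.asIdeal).card : ℕ∞) :=
    fun n => (main s h0 h1 n.asIdeal).symm
  simp_rw [hF, hL]
  have key : ∀ k : ℕ, ∀ hk : k ≤ s.length,
      Module.length A (s ⟨k, Nat.lt_succ_of_le hk⟩) =
      ∑ n : MaximalSpectrum B, Module.length A (B ⧸ n.asIdeal) *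
        ((Finset.univ.filter fun j : Fin s.length => j.val < k ∧
          (s j.castSucc).colon (s j.succ : Set M) = n.asIdeal).card : ℕ∞) := by
    intro k
    induction k with
    | zero =>
      intro hk
      have hb : s ⟨0, Nat.lt_succ_of_le hk⟩ = ⊥ := h0
      rw [hb]
      simp [Module.length_eq_zero]
    | succ k ih =>
      intro hk
      have hk' : k < s.length := hk
      have hstep : s (Fin.castSucc ⟨k, hk'⟩) ⋖ s (Fin.succ ⟨k, hk'⟩) := s.step ⟨k, hk'⟩
      have h2 := step_restrict A hstep
      have hmax := (exists_equiv_quot_colon hstep).1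
      have ih' := ih hk'.le
      have e1 : (Fin.castSucc ⟨k, hk'⟩ : Fin (s.length + 1)) = ⟨k, Nat.lt_succ_of_le hk'.le⟩ := rfl
      have e2 : (Fin.succ ⟨k, hk'⟩ : Fin (s.length + 1)) = ⟨k + 1, Nat.lt_succ_of_le hk⟩ := rfl
      rw [e1, e2] at h2 hmax
      rw [h2, ih']
      set n₀ : MaximalSpectrum B := ⟨_, hmax⟩ with hn₀
      have hcard : ∀ n : MaximalSpectrum B,
          (Finset.univ.filter fun j : Fin s.length => j.val < k + 1 ∧
            (s j.castSucc).colon (s j.succ : Set M) = n.asIdeal).card =
          (Finset.univ.filter fun j : Fin s.length => j.val < k ∧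
            (s j.castSucc).colon (s j.succ : Set M) = n.asIdeal).card +
            (if n = n₀ then 1 else 0) := by
        intro n
        by_cases hn : n = n₀
        · rw [if_pos hn]
          have hc : (s ⟨k, Nat.lt_succ_of_le hk'.le⟩).colon
              (s ⟨k + 1, Nat.lt_succ_of_le hk⟩ : Set M) = n.asIdeal := by rw [hn]
          have : (Finset.univ.filter fun j : Fin s.length => j.val < k + 1 ∧
              (s j.castSucc).colon (s j.succ : Set M) = n.asIdeal) =
              insert ⟨k, hk'⟩ (Finset.univ.filter fun j : Fin s.length => j.val < k ∧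
              (s j.castSucc).colon (s j.succ : Set M) = n.asIdeal) := by
            ext j
            simp only [Finset.mem_filter, Finset.mem_univ, true_and, Finset.mem_insert]
            constructor
            · rintro ⟨hj1, hj2⟩
              rcases Nat.lt_succ_iff_lt_or_eq.mp hj1 with hlt | heq
              · exact Or.inr ⟨hlt, hj2⟩
              · exact Or.inl (Fin.ext heq)
            · rintro (rfl | ⟨hj1, hj2⟩)
              · exact ⟨Nat.lt_succ_self _, hc⟩
              · exact ⟨Nat.lt_succ_of_lt hj1, hj2⟩
          rw [this, Finset.card_insert_of_notMem]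
          simp
        · rw [if_neg hn, add_zero]
          congr 1
          ext j
          simp only [Finset.mem_filter, Finset.mem_univ, true_and]
          constructor
          · rintro ⟨hj1, hj2⟩
            rcases Nat.lt_succ_iff_lt_or_eq.mp hj1 with hlt | heq
            · exact ⟨hlt, hj2⟩
            · exfalso
              apply hn
              have hj : j = ⟨k, hk'⟩ := Fin.ext heq
              rw [hj] at hj2
              exact MaximalSpectrum.ext hj2.symm
          · rintro ⟨hj1, hj2⟩
            exact ⟨Nat.lt_succ_of_lt hj1, hj2⟩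
      simp_rw [hcard]
      push_cast
      simp_rw [mul_add]
      rw [Finset.sum_add_distrib]
      congr 1
      simp [hn₀]
  have hfin := key s.length le_rfl
  have ht : s ⟨s.length, Nat.lt_succ_of_le le_rfl⟩ = ⊤ := h1
  rw [ht, ((Submodule.topEquiv : (⊤ : Submodule B M) ≃ₗ[B] M).restrictScalars A).length_eq] at hfin
  rw [hfin]
  refine Finset.sum_congr rfl fun n _ => ?_
  congr 3
  ext j
  simp

end Groth.Agent.H3Cs
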