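import Mathlib
import Groth.Agent.Lib.helper3.CsB

namespace Groth.Agent.H3Cs

universe u

open TensorProduct

theorem finite_maxSpec_of_artinian_quot {B : Type u} [CommRing B] (I : Ideal B)
    [IsArtinianRing (B ⧸ I)]
    (hI : ∀ n : MaximalSpectrum B, I ≤ n.asIdeal) : Finite (MaximalSpectrum B) := by
  let f : MaximalSpectrum (B ⧸ I) → MaximalSpectrum B := fun q =>
    ⟨q.asIdeal.comap (Ideal.Quotient.mk I),
      Ideal.comap_isMaximal_of_surjective _ Ideal.Quotient.mk_surjective (H := q.isMaximal)⟩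
  apply Finite.of_surjective f
  intro n
  have hcm : (n.asIdeal.map (Ideal.Quotient.mk I)).comap (Ideal.Quotient.mk I) = n.asIdeal := by
    rw [Ideal.comap_map_of_surjective _ Ideal.Quotient.mk_surjective, ← RingHom.ker_eq_comap_bot,
      Ideal.mk_ker, sup_eq_left]
    exact hI n
  rcases Ideal.map_eq_top_or_isMaximal_of_surjective (Ideal.Quotient.mk I)
    Ideal.Quotient.mk_surjective n.isMaximal with h | h
  · exfalso
    rw [h, Ideal.comap_top] at hcm
    exact n.isMaximal.ne_top hcm.symm
  · exact ⟨⟨_, h⟩, MaximalSpectrum.ext hcm⟩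

theorem length_quot_map (A B : Type u) [CommRing A] [IsLocalRing A] [CommRing B] [Algebra A B]
    [Module.Free A B] [Module.Finite A B] :
    Module.length A (B ⧸ Ideal.map (algebraMap A B) (IsLocalRing.maximalIdeal A)) =
      (Module.finrank A B : ℕ∞) := by
  set m := IsLocalRing.maximalIdeal A
  let e1 : (A ⧸ m) ⊗[A] B ≃ₗ[A] B ⧸ (m • ⊤ : Submodule A B) :=
    TensorProduct.quotTensorEquivQuotSMul B m
  let e2 : (B ⧸ (m • ⊤ : Submodule A B)) ≃ₗ[A]
      B ⧸ ((m.map (algebraMap A B)).restrictScalars A) :=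
    Submodule.quotEquivOfEq _ _ (Ideal.smul_top_eq_map m)
  let e3 : (B ⧸ (m.map (algebraMap A B)).restrictScalars A) ≃ₗ[A] B ⧸ m.map (algebraMap A B) :=
    Submodule.Quotient.restrictScalarsEquiv A _
  rw [← (e1.trans (e2.trans e3)).length_eq]
  letI : Field (A ⧸ m) := Ideal.Quotient.field m
  rw [Module.length_eq_of_surjective (S := A) (R := A ⧸ m) Ideal.Quotient.mk_surjective,
    Module.length_eq_finrank, Module.finrank_baseChange]

theorem main14438 (A B : Type u) [CommRing A] [IsLocalRing A] [CommRing B] [Algebra A B]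
    [Module.Free A B] [Module.Finite A B] (d : ℕ) (hd : Module.finrank A B = d)
    (hres : ∀ (n : Ideal B) [n.IsMaximal]
      (h : Ideal.map (algebraMap A B) (IsLocalRing.maximalIdeal A) ≤ n),
      Function.Bijective (Ideal.quotientMap n (algebraMap A B) (Ideal.map_le_iff_le_comap.mp h))) :
    finsum (fun n : {n : MaximalSpectrum B //
        Ideal.map (algebraMap A B) (IsLocalRing.maximalIdeal A) ≤ n.asIdeal} =>
      Module.length (Localization.AtPrime n.1.asIdeal)
        (LocalizedModule n.1.asIdeal.primeCompl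
          (B ⧸ Ideal.map (algebraMap A B) (IsLocalRing.maximalIdeal A)))) = (d : ℕ∞) := by
  have hlen := length_quot_map A B
  rw [hd] at hlen
  have hover : ∀ n : MaximalSpectrum B,
      n.asIdeal.comap (algebraMap A B) = IsLocalRing.maximalIdeal A := by
    intro n
    haveI := n.isMaximal
    exact IsLocalRing.eq_maximalIdeal
      (Ideal.isMaximal_comap_of_isIntegral_of_isMaximal (R := A) n.asIdeal)
  have hI : ∀ n : MaximalSpectrum B,
      Ideal.map (algebraMap A B) (IsLocalRing.maximalIdeal A) ≤ n.asIdeal := fun n =>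
    Ideal.map_le_iff_le_comap.mpr (hover n).ge
  have hflA : IsFiniteLength A (B ⧸ Ideal.map (algebraMap A B) (IsLocalRing.maximalIdeal A)) :=
    Module.length_ne_top_iff.mp (by rw [hlen]; exact ENat.natCast_ne_top d)
  obtain ⟨hN, hAr⟩ := isFiniteLength_iff_isNoetherian_isArtinian.mp hflA
  haveI : IsArtinianRing (B ⧸ Ideal.map (algebraMap A B) (IsLocalRing.maximalIdeal A)) :=
    isArtinian_of_tower A hAr
  haveI : Finite (MaximalSpectrum B) := finite_maxSpec_of_artinian_quot _ hI
  have hflB : IsFiniteLength B (B ⧸ Ideal.map (algebraMap A B) (IsLocalRing.maximalIdeal A)) :=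
    isFiniteLength_iff_isNoetherian_isArtinian.mpr
      ⟨isNoetherian_of_tower A hN, isArtinian_of_tower A hAr⟩
  have hKL : ∀ n : MaximalSpectrum B,
      Module.Finite (A ⧸ n.asIdeal.comap (algebraMap A B)) (B ⧸ n.asIdeal) ∧
      Module.finrank (A ⧸ n.asIdeal.comap (algebraMap A B)) (B ⧸ n.asIdeal) = 1 := by
    intro n
    haveI := n.isMaximal
    haveI : (n.asIdeal.comap (algebraMap A B)).IsMaximal := by rw [hover n]; infer_instance
    letI : Field (A ⧸ n.asIdeal.comap (algebraMap A B)) := Ideal.Quotient.field _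
    haveI : Nontrivial (B ⧸ n.asIdeal) := Ideal.Quotient.nontrivial_iff.mpr n.isMaximal.ne_top
    have hbij : Function.Bijective
        (Algebra.linearMap (A ⧸ n.asIdeal.comap (algebraMap A B)) (B ⧸ n.asIdeal)) := by
      refine ⟨(algebraMap (A ⧸ n.asIdeal.comap (algebraMap A B)) (B ⧸ n.asIdeal)).injective, ?_⟩
      intro y
      obtain ⟨x, hx⟩ := (hres n.asIdeal (hI n)).2 y
      obtain ⟨a, rfl⟩ := Ideal.Quotient.mk_surjective x
      refine ⟨Ideal.Quotient.mk _ a, ?_⟩
      rw [← hx]
      rfl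
    let e := LinearEquiv.ofBijective _ hbij
    exact ⟨Module.Finite.equiv e, e.finrank_eq.symm.trans (Module.finrank_self _)⟩
  have h6320 := main6320 hover (fun n => (hKL n).1)
    (B ⧸ Ideal.map (algebraMap A B) (IsLocalRing.maximalIdeal A)) hflB
  rw [hlen] at h6320
  simp_rw [fun n => (hKL n).2] at h6320
  simp only [Nat.cast_one, one_mul] at h6320
  rw [h6320]
  exact finsum_comp_equiv (Equiv.subtypeUnivEquiv hI)
    (f := fun n : MaximalSpectrum B => Module.length (Localization.AtPrime n.asIdeal)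
      (LocalizedModule n.asIdeal.primeCompl
        (B ⧸ Ideal.map (algebraMap A B) (IsLocalRing.maximalIdeal A))))

end Groth.Agent.H3Cs
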