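import Mathlib
import Groth.Agent.Lib.helper3.CsB
import Groth.Agent.Lib.helper3.CsC

set_option autoImplicit false
universe u v w
open TensorProduct

namespace Groth.Agent.H3Csa

theorem main5719 (R : Type u) [CommRing R] (A : Type u) [Ring A] [Algebra R A] [Module.Finite R A] [Module.Projective R A] : IsAzumaya R A ↔ ∀ (p : Ideal R) [p.IsPrime], Algebra.IsCentral p.ResidueField (p.ResidueField ⊗[R] A) ∧ IsSimpleRing (p.ResidueField ⊗[R] A) := by
  constructor
  · intro hAz p _
    haveI := Groth.Agent.H3Az.main19588 R p.ResidueField A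
    exact ⟨isCentral_of_azumaya_field _ _, isSimpleRing_of_azumaya_field p.ResidueField _⟩
  · intro h
    apply azumaya_of_fibres A
    intro p
    obtain ⟨hc, hs⟩ := h p.asIdeal
    exact azumaya_of_csa _ _

theorem main3245 (R : Type u) [CommRing R] [IsLocalRing R] (A : Type u) [Ring A] [Algebra R A] [Module.Finite R A] [Module.Free R A] [Nontrivial A] : IsAzumaya R A ↔ (Algebra.IsCentral (IsLocalRing.ResidueField R) ((IsLocalRing.ResidueField R) ⊗[R] A) ∧ IsSimpleRing ((IsLocalRing.ResidueField R) ⊗[R] A)) := by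
  constructor
  · intro hAz
    haveI := Groth.Agent.H3Az.main19588 R (IsLocalRing.ResidueField R) A
    exact ⟨isCentral_of_azumaya_field _ _,
      isSimpleRing_of_azumaya_field (IsLocalRing.ResidueField R) _⟩
  · rintro ⟨hc, hs⟩
    apply azumaya_of_closed_fibre A
    exact azumaya_of_csa _ _

end Groth.Agent.H3Csa
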