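import Mathlib
import Groth.Agent.Lib.helper3.CsD

set_option autoImplicit false
universe u v w
open TensorProduct Function

namespace Groth.Agent.H3Csa

theorem algHom_bijective_of_azumaya (L : Type u) [CommRing L] [Nontrivial L] (B C : Type u) [Ring B] [Ring C]
    [Algebra L B] [Algebra L C] [IsAzumaya L B] [IsAzumaya L C] [Module.Free L B] [Module.Free L C]
    (hrk : Module.finrank L B = Module.finrank L C) (Φ : B →ₐ[L] C) : Bijective Φ := by
  haveI : Module.Projective L B := IsAzumaya.toProjective
  haveI : Module.Finite L B := IsAzumaya.toFinite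
  haveI : Module.Projective L C := IsAzumaya.toProjective
  haveI : Module.Finite L C := IsAzumaya.toFinite
  have key : Bijective Φ.toLinearMap := by
    apply bijective_of_family (fun p : PrimeSpectrum L => p.asIdeal.ResidueField)
      (fun M _ _ _ hM => subsingleton_of_fibres M hM) Φ.toLinearMap
    intro p
    let K := p.asIdeal.ResidueField
    haveI : IsAzumaya K (K ⊗[L] B) := Groth.Agent.H3Az.main19588 L K B
    haveI : IsAzumaya K (K ⊗[L] C) := Groth.Agent.H3Az.main19588 L K C
    haveI : IsSimpleRing (K ⊗[L] B) := isSimpleRing_of_azumaya_field K _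
    haveI : IsSimpleRing (K ⊗[L] C) := isSimpleRing_of_azumaya_field K _
    let ΦK : K ⊗[L] B →ₐ[K] K ⊗[L] C := Algebra.TensorProduct.map (AlgHom.id K K) Φ
    have hΦK : ∀ t, Φ.toLinearMap.lTensor K t = ΦK t := by
      intro t
      induction t using TensorProduct.induction_on with
      | zero => simp
      | add a b ha hb => rw [map_add, map_add, ha, hb]
      | tmul s b => simp [ΦK]
    have hinj : Injective ΦK := RingHom.injective ΦK.toRingHom
    have hrank : Module.finrank K (K ⊗[L] B) = Module.finrank K (K ⊗[L] C) := by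
      rw [Module.finrank_baseChange, Module.finrank_baseChange, hrk]
    have hinj' : Injective ΦK.toLinearMap := hinj
    have hsurj : Surjective ΦK.toLinearMap :=
      (LinearMap.injective_iff_surjective_of_finrank_eq_finrank hrank).mp hinj'
    have : ⇑(Φ.toLinearMap.lTensor K) = ⇑ΦK := funext hΦK
    show Bijective ⇑(Φ.toLinearMap.lTensor K)
    rw [this]
    exact ⟨hinj, hsurj⟩
  exact key

theorem main3248 (k : Type u) [Field k] (A : Type u) [Ring A] [Algebra k A] [Algebra.IsCentral k A] [IsSimpleRing A] [FiniteDimensional k A] (L : Type u) [CommRing L] [Algebra k L] (ι : L →ₐ[k] A) [Module L A] (hmod : ∀ (l : L) (a : A), l • a = a * ι l) [Module.Free L A] (r : ℕ) (hr : 0 < r) (hA : Module.finrank k A = r ^ 2) (hrank : Module.finrank L A = r) : Nonempty ((L ⊗[k] A) ≃ₐ[L] Matrix (Fin r) (Fin r) L) := by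
  haveI : Nontrivial L := ι.toRingHom.domain_nontrivial
  haveI : IsScalarTower k L A := by
    refine ⟨fun c l a => ?_⟩
    rw [hmod, hmod, map_smul, mul_smul_comm]
  haveI : SMulCommClass L k A := by
    refine ⟨fun l c a => ?_⟩
    rw [hmod, hmod, smul_mul_assoc]
  haveI : Module.Finite L A := Module.finite_of_finrank_pos (by rw [hrank]; exact hr)
  haveI : Nonempty (Fin r) := ⟨⟨0, hr⟩⟩
  let b : Module.Basis (Fin r) L A := Module.finBasisOfFinrankEq L A hrank
  let e : Module.End L A ≃ₐ[L] Matrix (Fin r) (Fin r) L := LinearMap.toMatrixAlgEquiv b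
  haveI : IsAzumaya L (Matrix (Fin r) (Fin r) L) := IsAzumaya.matrix L (Fin r)
  haveI : IsAzumaya L (Module.End L A) := IsAzumaya.of_AlgEquiv _ _ _ e.symm
  haveI : IsAzumaya k A := azumaya_of_csa k A
  haveI : IsAzumaya L (L ⊗[k] A) := Groth.Agent.H3Az.main19588 k L A
  -- left multiplication as an `L`-linear endomorphism
  let g : A →ₗ[k] Module.End L A :=
    { toFun := fun a =>
        { toFun := fun y => a * y
          map_add' := fun y z => mul_add a y z
          map_smul' := fun l y => by
            simp only [RingHom.id_apply]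
            rw [hmod, hmod, mul_assoc] }
      map_add' := fun a a' => by
        refine LinearMap.ext fun y => ?_
        simp [add_mul]
      map_smul' := fun c a => by
        refine LinearMap.ext fun y => ?_
        simp }
  have hg : ∀ a y, g a y = a * y := fun a y => rfl
  let f : L ⊗[k] A →ₗ[L] Module.End L A := LinearMap.liftBaseChange L g
  have hf : ∀ l a, f (l ⊗ₜ a) = l • g a := fun l a => LinearMap.liftBaseChange_tmul _ _ _ _
  let Φ : L ⊗[k] A →ₐ[L] Module.End L A :=
    Algebra.TensorProduct.algHomOfLinearMapTensorProduct f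
      (by
        intro l₁ l₂ a₁ a₂
        rw [hf, hf, hf]
        refine LinearMap.ext fun y => ?_
        simp only [LinearMap.smul_apply, Module.End.mul_apply, hg, map_smul]
        rw [mul_smul, mul_assoc]
        rw [smul_comm])
      (by
        rw [hf, one_smul]
        refine LinearMap.ext fun y => ?_
        simp [hg])
  have hrk : Module.finrank L (L ⊗[k] A) = Module.finrank L (Module.End L A) := by
    rw [Module.finrank_baseChange, Module.finrank_linearMap, hA, hrank, pow_two]
  have hbij := algHom_bijective_of_azumaya L (L ⊗[k] A) (Module.End L A) hrk Φ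
  exact ⟨(AlgEquiv.ofBijective Φ hbij).trans e⟩

end Groth.Agent.H3Csa
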