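import Mathlib

namespace Groth.Agent.H3Db

open TensorProduct

universe u v w w' u'

theorem coordBC {K : Type u} [Field K] {X : Type w} [AddCommGroup X] [Module K X]
    {Y : Type w'} [AddCommGroup Y] [Module K Y] (P : Type u') [CommRing P] [Algebra K P]
    {ι : Type*} [DecidableEq ι] (b : Module.Basis ι K P) (h : X →ₗ[K] Y) (x : P ⊗[K] X) (i : ι) :
    TensorProduct.equivFinsuppOfBasisLeft b (h.baseChange P x) i =
      h (TensorProduct.equivFinsuppOfBasisLeft b x i) := by
  induction x using TensorProduct.induction_on with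
  | zero => simp
  | tmul p x =>
    rw [LinearMap.baseChange_tmul, TensorProduct.equivFinsuppOfBasisLeft_apply_tmul_apply,
      TensorProduct.equivFinsuppOfBasisLeft_apply_tmul_apply, map_smul]
  | add x y hx hy =>
    rw [map_add, map_add, Finsupp.add_apply, hx, hy, map_add, Finsupp.add_apply, map_add]

theorem main18796
    {K : Type u} [Field K]
    {D : Type v} [Ring D] [Algebra K D]
    {E : Type w} [AddCommGroup E] [Module K E] [Module D E] [IsScalarTower K D E]
    [Module.Finite D E]
    {F : Type w'} [AddCommGroup F] [Module K F] [Module D F] [IsScalarTower K D F]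
    (P : Type u') [CommRing P] [Algebra K P]
    (Φ : P ⊗[K] (E →ₗ[D] F) →ₗ[P] (P ⊗[K] E →ₗ[P] P ⊗[K] F))
    (hΦ : ∀ (p : P) (f : E →ₗ[D] F), Φ (p ⊗ₜ[K] f) = p • (f.restrictScalars K).baseChange P) :
    Function.Injective Φ ∧
      ∀ g : P ⊗[K] E →ₗ[P] P ⊗[K] F,
        g ∈ LinearMap.range Φ ↔
          ∀ d : D, g ∘ₗ (DistribSMul.toLinearMap K E d).baseChange P =
            (DistribSMul.toLinearMap K F d).baseChange P ∘ₗ g := by
  classical
  obtain ⟨ι, ⟨b⟩⟩ : ∃ ι : Type u', Nonempty (Module.Basis ι K P) :=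
    ⟨_, ⟨Module.Free.chooseBasis K P⟩⟩
  have hΦ1 : ∀ (p : P) (f : E →ₗ[D] F) (e : E),
      Φ (p ⊗ₜ[K] f) ((1 : P) ⊗ₜ[K] e) = p ⊗ₜ[K] (f e) := by
    intro p f e
    rw [hΦ, LinearMap.smul_apply, LinearMap.baseChange_tmul, smul_tmul', smul_eq_mul, mul_one]
    rfl
  refine ⟨?_, ?_⟩
  · rw [injective_iff_map_eq_zero]
    intro x hx
    obtain ⟨c, rfl⟩ := TensorProduct.eq_repr_basis_left b x
    have hc : ∀ e : E, c.mapRange (fun f => f e) rfl = 0 := by
      intro e
      apply TensorProduct.sum_tmul_basis_left_eq_zero b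
      rw [Finsupp.sum_mapRange_index (fun i => tmul_zero _ _)]
      have := LinearMap.congr_fun hx ((1 : P) ⊗ₜ[K] e)
      rw [LinearMap.zero_apply, map_finsuppSum] at this
      rw [← this, Finsupp.sum, Finsupp.sum, LinearMap.sum_apply]
      apply Finset.sum_congr rfl
      intro i _
      rw [hΦ1]
    have hc0 : c = 0 := by
      ext i e
      have := DFunLike.congr_fun (hc e) i
      rw [Finsupp.mapRange_apply] at this
      exact this
    rw [hc0, Finsupp.sum_zero_index]
  · intro g
    rw [LinearMap.mem_range]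
    constructor
    · rintro ⟨x, rfl⟩ d
      induction x using TensorProduct.induction_on with
      | zero => rw [map_zero, LinearMap.zero_comp, LinearMap.comp_zero]
      | tmul p f =>
        rw [hΦ, LinearMap.smul_comp, LinearMap.comp_smul, ← LinearMap.baseChange_comp,
          ← LinearMap.baseChange_comp]
        congr 2
        apply LinearMap.ext
        intro e
        exact map_smul f d e
      | add x y hx hy => rw [map_add, LinearMap.add_comp, LinearMap.comp_add, hx, hy]
    · intro hg
      let inc : E →ₗ[K] P ⊗[K] E := (TensorProduct.mk K P E) 1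
      let γK : ι → E →ₗ[K] F := fun i =>
        (Finsupp.lapply i) ∘ₗ (TensorProduct.equivFinsuppOfBasisLeft b).toLinearMap ∘ₗ
          (g.restrictScalars K) ∘ₗ inc
      have hγK : ∀ i e, γK i e =
          TensorProduct.equivFinsuppOfBasisLeft b (g ((1 : P) ⊗ₜ[K] e)) i := fun i e => rfl
      have hγD : ∀ i (d : D) (e : E), γK i (d • e) = d • γK i e := by
        intro i d e
        rw [hγK, hγK]
        have h1 : (1 : P) ⊗ₜ[K] (d • e) =
            (DistribSMul.toLinearMap K E d).baseChange P ((1 : P) ⊗ₜ[K] e) := by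
          rw [LinearMap.baseChange_tmul]; rfl
        rw [h1, ← LinearMap.comp_apply, hg d, LinearMap.comp_apply, coordBC]
        rfl
      let γ : ι → E →ₗ[D] F := fun i =>
        { toFun := γK i, map_add' := (γK i).map_add, map_smul' := hγD i }
      have hγe : ∀ i e, γ i e =
          TensorProduct.equivFinsuppOfBasisLeft b (g ((1 : P) ⊗ₜ[K] e)) i := fun i e => rfl
      obtain ⟨T, hT⟩ := (Module.Finite.fg_top : (⊤ : Submodule D E).FG)
      let I0 : Finset ι := T.biUnion (fun e =>
        (TensorProduct.equivFinsuppOfBasisLeft b (g ((1 : P) ⊗ₜ[K] e))).support)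
      have hγ0 : ∀ i, i ∉ I0 → γ i = 0 := by
        intro i hi
        apply LinearMap.ext_on hT
        intro e he
        rw [hγe, LinearMap.zero_apply]
        by_contra hne
        exact hi (Finset.mem_biUnion.mpr ⟨e, he, Finsupp.mem_support_iff.mpr hne⟩)
      refine ⟨∑ i ∈ I0, b i ⊗ₜ[K] γ i, ?_⟩
      apply TensorProduct.AlgebraTensorModule.ext
      intro p e
      have hpe : p ⊗ₜ[K] e = p • ((1 : P) ⊗ₜ[K] e) := by rw [smul_tmul', smul_eq_mul, mul_one]
      rw [hpe, map_smul, map_smul]
      congr 1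
      rw [map_sum, LinearMap.sum_apply]
      simp_rw [hΦ1, hγe]
      have hrec : g ((1 : P) ⊗ₜ[K] e) =
          (TensorProduct.equivFinsuppOfBasisLeft b (g ((1 : P) ⊗ₜ[K] e))).sum
            fun i n => b i ⊗ₜ[K] n := by
        rw [← TensorProduct.equivFinsuppOfBasisLeft_symm_apply, LinearEquiv.symm_apply_apply]
      conv_rhs => rw [hrec]
      rw [Finsupp.sum]
      symm
      apply Finset.sum_subset
      · intro i hi
        by_contra hn
        have h0 := LinearMap.congr_fun (hγ0 i hn) e
        rw [hγe, LinearMap.zero_apply] at h0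
        exact (Finsupp.mem_support_iff.mp hi) h0
      · intro i _ hi
        rw [Finsupp.notMem_support_iff.mp hi, tmul_zero]

end Groth.Agent.H3Db
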