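import Mathlib

namespace Groth.Agent.H3Dc

open TensorProduct

universe u v w

theorem exists_eig {Ω : Type*} [Field Ω] {M : Type*} [AddCommGroup M] [Module Ω M]
    [Nontrivial M] (T : Module.End Ω M) (s : Multiset Ω)
    (h : Polynomial.aeval T ((s.map (fun a => Polynomial.X - Polynomial.C a)).prod) = 0) :
    ∃ a ∈ s, LinearMap.ker (T - algebraMap Ω (Module.End Ω M) a) ≠ ⊥ := by
  induction s using Multiset.induction_on with
  | empty =>
    exfalso
    rw [Multiset.map_zero, Multiset.prod_zero, map_one] at h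
    obtain ⟨x, hx⟩ := exists_ne (0 : M)
    have := LinearMap.congr_fun h x
    exact hx this
  | cons a s ih =>
    rw [Multiset.map_cons, Multiset.prod_cons, map_mul, map_sub, Polynomial.aeval_X,
      Polynomial.aeval_C] at h
    by_cases hk : LinearMap.ker (T - algebraMap Ω (Module.End Ω M) a) = ⊥
    · have h2 : Polynomial.aeval T ((s.map (fun a => Polynomial.X - Polynomial.C a)).prod) = 0 := by
        apply LinearMap.ext
        intro x
        have hx := LinearMap.congr_fun h x
        rw [Module.End.mul_apply, LinearMap.zero_apply] at hx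
        have : (Polynomial.aeval T ((s.map (fun a => Polynomial.X - Polynomial.C a)).prod)) x ∈
            LinearMap.ker (T - algebraMap Ω (Module.End Ω M) a) := hx
        rw [hk] at this
        exact this
      obtain ⟨b, hb, hb'⟩ := ih h2
      exact ⟨b, Multiset.mem_cons_of_mem hb, hb'⟩
    · exact ⟨a, Multiset.mem_cons_self a s, hk⟩

theorem main18795
    {K : Type u} [Field K]
    {D : Type v} [Ring D] [Algebra K D]
    {E : Type w} [AddCommGroup E] [Module K E] [Module D E] [IsScalarTower K D E]
    [Module.Finite K (E →ₗ[D] E)]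
    (Ω : Type u) [Field Ω] [Algebra K Ω] [IsAlgClosed Ω]
    (hnt : Nontrivial (Ω ⊗[K] E))
    (hirr : ∀ N : Submodule Ω (Ω ⊗[K] E),
      (∀ (d : D) (x : Ω ⊗[K] E), x ∈ N → (DistribSMul.toLinearMap K E d).baseChange Ω x ∈ N) →
      N = ⊥ ∨ N = ⊤)
    (φ : E →ₗ[D] E) : ∃ c : K, ∀ x : E, φ x = c • x := by
  classical
  -- the algebra hom β
  let βlin : Module.End D E →ₗ[K] Module.End Ω (Ω ⊗[K] E) :=
    { toFun := fun f => (f.restrictScalars K).baseChange Ω
      map_add' := fun f g => by
        show ((f + g).restrictScalars K).baseChange Ω = _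
        rw [show (f + g).restrictScalars K = f.restrictScalars K + g.restrictScalars K from rfl,
          LinearMap.baseChange_add]
      map_smul' := fun a f => by
        show ((a • f).restrictScalars K).baseChange Ω = _
        rw [show (a • f).restrictScalars K = a • f.restrictScalars K from rfl,
          LinearMap.baseChange_smul]
        rfl }
  let β : Module.End D E →ₐ[K] Module.End Ω (Ω ⊗[K] E) :=
    AlgHom.ofLinearMap βlin
      (by
        show ((1 : Module.End D E).restrictScalars K).baseChange Ω = 1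
        exact LinearMap.baseChange_id (R := K) (A := Ω) (M := E))
      (by
        intro f g
        show ((f * g).restrictScalars K).baseChange Ω =
          (f.restrictScalars K).baseChange Ω * (g.restrictScalars K).baseChange Ω
        exact LinearMap.baseChange_comp (R := K) (A := Ω) (g.restrictScalars K)
          (f.restrictScalars K))
  obtain ⟨T, hT⟩ : ∃ T, T = β φ := ⟨_, rfl⟩
  have hTt : ∀ (ω : Ω) (e : E), T (ω ⊗ₜ[K] e) = ω ⊗ₜ[K] φ e := by
    intro ω e
    rw [hT]; rfl
  have hint : IsIntegral K φ := IsIntegral.of_finite K φ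
  obtain ⟨μ, hμm, hμ⟩ := hint
  have hμ' : Polynomial.aeval φ μ = 0 := hμ
  have h1 : Polynomial.aeval T μ = 0 := by
    rw [hT, Polynomial.aeval_algHom_apply, hμ', map_zero]
  have h2 : Polynomial.aeval T (μ.map (algebraMap K Ω)) = 0 := by
    rw [Polynomial.aeval_map_algebraMap]; exact h1
  have hsplit := IsAlgClosed.splits (μ.map (algebraMap K Ω))
  have hmon : (μ.map (algebraMap K Ω)).Monic := hμm.map _
  rw [hsplit.eq_prod_roots_of_monic hmon] at h2
  obtain ⟨lam, -, hlam⟩ := exists_eig T _ h2
  -- stability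
  have hcomm : ∀ (d : D) (x : Ω ⊗[K] E), T ((DistribSMul.toLinearMap K E d).baseChange Ω x) =
      (DistribSMul.toLinearMap K E d).baseChange Ω (T x) := by
    intro d x
    induction x using TensorProduct.induction_on with
    | zero => simp
    | tmul ω e =>
      rw [LinearMap.baseChange_tmul, hTt, hTt, LinearMap.baseChange_tmul]
      congr 1
      exact map_smul φ d e
    | add x y hx hy => rw [map_add, map_add, hx, hy, map_add, map_add]
  have hstab : ∀ (d : D) (x : Ω ⊗[K] E),
      x ∈ LinearMap.ker (T - algebraMap Ω (Module.End Ω (Ω ⊗[K] E)) lam) →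
      (DistribSMul.toLinearMap K E d).baseChange Ω x ∈
        LinearMap.ker (T - algebraMap Ω (Module.End Ω (Ω ⊗[K] E)) lam) := by
    intro d x hx
    rw [LinearMap.mem_ker, LinearMap.sub_apply, Module.algebraMap_end_apply] at hx ⊢
    rw [hcomm, ← map_smul, ← map_sub, hx, map_zero]
  have htop : LinearMap.ker (T - algebraMap Ω (Module.End Ω (Ω ⊗[K] E)) lam) = ⊤ :=
    (hirr _ hstab).resolve_left hlam
  have hTe : ∀ e : E, (1 : Ω) ⊗ₜ[K] φ e = lam ⊗ₜ[K] e := by
    intro e
    have : (1 : Ω) ⊗ₜ[K] e ∈ LinearMap.ker (T - algebraMap Ω (Module.End Ω (Ω ⊗[K] E)) lam) := by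
      rw [htop]; trivial
    rw [LinearMap.mem_ker, LinearMap.sub_apply, Module.algebraMap_end_apply, hTt, sub_eq_zero,
      smul_tmul', smul_eq_mul, mul_one] at this
    exact this
  have hG : ∀ (f : Module.Dual K Ω) (ω : Ω) (e : E),
      ((TensorProduct.lid K E).toLinearMap ∘ₗ (f.rTensor E)) (ω ⊗ₜ[K] e) = f ω • e := by
    intro f ω e
    rw [LinearMap.comp_apply, LinearMap.rTensor_tmul]
    exact TensorProduct.lid_tmul _ _
  by_cases hmem : lam ∈ Submodule.span K {(1 : Ω)}
  · obtain ⟨c, hc⟩ := Submodule.mem_span_singleton.mp hmem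
    have h1ne : (1 : Ω) ∉ (⊥ : Submodule K Ω) := by
      rw [Submodule.mem_bot]; exact one_ne_zero
    obtain ⟨f, hf, -⟩ := Submodule.exists_dual_map_eq_bot_of_notMem h1ne inferInstance
    refine ⟨c, fun e => ?_⟩
    have h3 := congrArg ((TensorProduct.lid K E).toLinearMap ∘ₗ (f.rTensor E)) (hTe e)
    rw [hG, hG, ← hc, map_smul, smul_assoc, smul_comm] at h3
    exact smul_right_injective E hf h3
  · obtain ⟨f, hf, hf0⟩ := Submodule.exists_dual_map_eq_bot_of_notMem hmem inferInstance
    have hf1 : f 1 = 0 := by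
      have : f 1 ∈ (Submodule.span K {(1 : Ω)}).map f :=
        Submodule.mem_map_of_mem (Submodule.subset_span rfl)
      rw [hf0] at this
      exact this
    refine ⟨0, fun e => ?_⟩
    have h3 := congrArg ((TensorProduct.lid K E).toLinearMap ∘ₗ (f.rTensor E)) (hTe e)
    rw [hG, hG, hf1, zero_smul] at h3
    have he : e = 0 := by
      by_contra hne
      exact hf ((smul_eq_zero.mp h3.symm).resolve_right hne)
    rw [he, map_zero, smul_zero]

end Groth.Agent.H3Dc
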