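import Mathlib

namespace Groth.Agent.H3Dd

open TensorProduct

universe u v w

section
variable {K : Type u} [Field K] {D : Type v} [Ring D] [Algebra K D]
  {E : Type w} [AddCommGroup E] [Module K E] [Module D E] [IsScalarTower K D E]

theorem nontrivial_tensor (X : Type*) [Field X] [Algebra K X] [Nontrivial E] :
    Nontrivial (X ⊗[K] E) := by
  obtain ⟨e, he⟩ := exists_ne (0 : E)
  have h1ne : (1 : X) ∉ (⊥ : Submodule K X) := by
    rw [Submodule.mem_bot]; exact one_ne_zero
  obtain ⟨f, hf, -⟩ := Submodule.exists_dual_map_eq_bot_of_notMem h1ne inferInstance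
  refine ⟨⟨(1 : X) ⊗ₜ[K] e, 0, fun h => ?_⟩⟩
  have h3 := congrArg ((TensorProduct.lid K E).toLinearMap ∘ₗ (f.rTensor E)) h
  rw [LinearMap.comp_apply, LinearMap.rTensor_tmul, map_zero] at h3
  have h4 : f 1 • e = 0 := by
    rw [← h3]; exact (TensorProduct.lid_tmul _ _).symm
  exact he ((smul_eq_zero.mp h4).resolve_left hf)

theorem nontrivial_of_tensor (X : Type*) [Field X] [Algebra K X]
    (h : Nontrivial (X ⊗[K] E)) : Nontrivial E := by
  by_contra hn
  rw [not_nontrivial_iff_subsingleton] at hn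
  obtain ⟨x, y, hxy⟩ := h
  apply hxy
  have hz : ∀ z : X ⊗[K] E, z = 0 := by
    intro z
    induction z using TensorProduct.induction_on with
    | zero => rfl
    | tmul a e => rw [Subsingleton.elim e 0, tmul_zero]
    | add a b ha hb => rw [ha, hb, add_zero]
  rw [hz x, hz y]

variable (L : Type*) (Ω : Type*) [Field L] [Field Ω] [Algebra K L] [Algebra K Ω] [Algebra L Ω]
  [IsScalarTower K L Ω]

variable (K E) in
noncomputable def iota : L ⊗[K] E →ₗ[K] Ω ⊗[K] E :=
  ((IsScalarTower.toAlgHom K L Ω).toLinearMap).rTensor E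

theorem iota_tmul (l : L) (e : E) : iota K E L Ω (l ⊗ₜ[K] e) = algebraMap L Ω l ⊗ₜ[K] e := by
  unfold iota
  rw [LinearMap.rTensor_tmul]
  rfl

theorem iota_smul (l : L) (y : L ⊗[K] E) :
    iota K E L Ω (l • y) = algebraMap L Ω l • iota K E L Ω y := by
  induction y using TensorProduct.induction_on with
  | zero => rw [smul_zero, map_zero, smul_zero]
  | tmul a e =>
    rw [smul_tmul', iota_tmul, iota_tmul, smul_tmul', smul_eq_mul, smul_eq_mul, map_mul]
  | add a b ha hb => rw [smul_add, map_add, ha, hb, map_add, smul_add]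

theorem iota_inj : Function.Injective (iota K E L Ω) := by
  unfold iota
  apply Module.Flat.rTensor_preserves_injective_linearMap
  exact (algebraMap L Ω).injective

theorem iota_D (d : D) (y : L ⊗[K] E) :
    iota K E L Ω ((DistribSMul.toLinearMap K E d).baseChange L y) =
      (DistribSMul.toLinearMap K E d).baseChange Ω (iota K E L Ω y) := by
  induction y using TensorProduct.induction_on with
  | zero => simp
  | tmul a e =>
    rw [LinearMap.baseChange_tmul, iota_tmul, iota_tmul, LinearMap.baseChange_tmul]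
  | add a b ha hb => rw [map_add, map_add, ha, hb, map_add, map_add]

theorem irr_descend
    (hΩ : ∀ N : Submodule Ω (Ω ⊗[K] E),
      (∀ (d : D) (x : Ω ⊗[K] E), x ∈ N → (DistribSMul.toLinearMap K E d).baseChange Ω x ∈ N) →
      N = ⊥ ∨ N = ⊤)
    (N : Submodule L (L ⊗[K] E))
    (hN : ∀ (d : D) (x : L ⊗[K] E), x ∈ N →
      (DistribSMul.toLinearMap K E d).baseChange L x ∈ N) : N = ⊥ ∨ N = ⊤ := by
  classical
  have hstab : ∀ (d : D) (x : Ω ⊗[K] E), x ∈ Submodule.span Ω (iota K E L Ω '' (N : Set (L ⊗[K] E))) →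
      (DistribSMul.toLinearMap K E d).baseChange Ω x ∈
        Submodule.span Ω (iota K E L Ω '' (N : Set (L ⊗[K] E))) := by
    intro d x hx
    induction hx using Submodule.span_induction with
    | mem x hx =>
      obtain ⟨n, hn, rfl⟩ := hx
      rw [← iota_D]
      exact Submodule.subset_span ⟨_, hN d n hn, rfl⟩
    | zero => rw [map_zero]; exact Submodule.zero_mem _
    | add x y _ _ hx hy => rw [map_add]; exact Submodule.add_mem _ hx hy
    | smul a x _ hx => rw [map_smul]; exact Submodule.smul_mem _ a hx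
  rcases hΩ _ hstab with h | h
  · left
    rw [eq_bot_iff]
    intro n hn
    have : iota K E L Ω n ∈ Submodule.span Ω (iota K E L Ω '' (N : Set (L ⊗[K] E))) :=
      Submodule.subset_span ⟨n, hn, rfl⟩
    rw [h, Submodule.mem_bot] at this
    rw [Submodule.mem_bot]
    exact iota_inj (K := K) (E := E) L Ω (this.trans (map_zero _).symm)
  · right
    by_contra hne
    obtain ⟨x, hx⟩ : ∃ x, x ∉ N := by
      by_contra hall
      push Not at hall
      exact hne (eq_top_iff.mpr fun x _ => hall x)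
    obtain ⟨ψ, hψx, hψN⟩ := Submodule.exists_dual_map_eq_bot_of_notMem hx inferInstance
    let ψE : E →ₗ[K] Ω := (Algebra.linearMap L Ω).restrictScalars K ∘ₗ
      (ψ.restrictScalars K) ∘ₗ (TensorProduct.mk K L E 1)
    let ψ' : Ω ⊗[K] E →ₗ[Ω] Ω :=
      (Algebra.TensorProduct.lmul'' K (S := Ω)).toLinearMap ∘ₗ (ψE.baseChange Ω)
    have hψ't : ∀ (a : Ω) (e : E), ψ' (a ⊗ₜ[K] e) = a * algebraMap L Ω (ψ ((1 : L) ⊗ₜ[K] e)) := by
      intro a e
      rfl
    have hψ'ι : ∀ y : L ⊗[K] E, ψ' (iota K E L Ω y) = algebraMap L Ω (ψ y) := by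
      intro y
      induction y using TensorProduct.induction_on with
      | zero => simp
      | tmul l e =>
        rw [iota_tmul, hψ't, ← map_mul]
        congr 1
        have : l ⊗ₜ[K] e = l • ((1 : L) ⊗ₜ[K] e) := by rw [smul_tmul', smul_eq_mul, mul_one]
        rw [this, map_smul, smul_eq_mul]
      | add a b ha hb => rw [map_add, map_add, ha, hb, map_add, map_add]
    have hle : Submodule.span Ω (iota K E L Ω '' (N : Set (L ⊗[K] E))) ≤ LinearMap.ker ψ' := by
      rw [Submodule.span_le]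
      rintro _ ⟨n, hn, rfl⟩
      show ψ' (iota K E L Ω n) = 0
      rw [hψ'ι]
      have : ψ n ∈ N.map ψ := Submodule.mem_map_of_mem hn
      rw [hψN, Submodule.mem_bot] at this
      rw [this, map_zero]
    have hx' : iota K E L Ω x ∈ LinearMap.ker ψ' := hle (by rw [h]; trivial)
    rw [LinearMap.mem_ker, hψ'ι] at hx'
    exact hψx ((algebraMap L Ω).injective (hx'.trans (map_zero _).symm))

theorem irr_ascend
    (hL : ∀ N : Submodule L (L ⊗[K] E),
      (∀ (d : D) (x : L ⊗[K] E), x ∈ N → (DistribSMul.toLinearMap K E d).baseChange L x ∈ N) →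
      N = ⊥ ∨ N = ⊤)
    (N : Submodule Ω (Ω ⊗[K] E))
    (hN : ∀ (d : D) (x : Ω ⊗[K] E), x ∈ N →
      (DistribSMul.toLinearMap K E d).baseChange Ω x ∈ N)
    (y : L ⊗[K] E) (hy0 : y ≠ 0) (hy : iota K E L Ω y ∈ N) : N = ⊤ := by
  let N0 : Submodule L (L ⊗[K] E) :=
    { carrier := {z | iota K E L Ω z ∈ N}
      add_mem' := by
        intro a b ha hb
        show iota K E L Ω (a + b) ∈ N
        rw [map_add]; exact N.add_mem ha hb
      zero_mem' := by
        show iota K E L Ω 0 ∈ N
        rw [map_zero]; exact N.zero_mem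
      smul_mem' := by
        intro l z hz
        show iota K E L Ω (l • z) ∈ N
        rw [iota_smul]; exact N.smul_mem _ hz }
  have hN0 : ∀ (d : D) (x : L ⊗[K] E), x ∈ N0 →
      (DistribSMul.toLinearMap K E d).baseChange L x ∈ N0 := by
    intro d x hx
    show iota K E L Ω _ ∈ N
    rw [iota_D]; exact hN d _ hx
  have hne : N0 ≠ ⊥ := by
    intro h0
    have : y ∈ N0 := hy
    rw [h0, Submodule.mem_bot] at this
    exact hy0 this
  have htop : N0 = ⊤ := (hL N0 hN0).resolve_left hne
  rw [eq_top_iff]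
  rintro x -
  induction x using TensorProduct.induction_on with
  | zero => exact N.zero_mem
  | tmul a e =>
    have h1 : (1 : L) ⊗ₜ[K] e ∈ N0 := by rw [htop]; trivial
    have h2 : iota K E L Ω ((1 : L) ⊗ₜ[K] e) ∈ N := h1
    rw [iota_tmul, map_one] at h2
    have : a ⊗ₜ[K] e = a • ((1 : Ω) ⊗ₜ[K] e) := by rw [smul_tmul', smul_eq_mul, mul_one]
    rw [this]; exact N.smul_mem _ h2
  | add a b ha hb => exact N.add_mem ha hb

end

end Groth.Agent.H3Dd
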