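import Mathlib
import Groth.Agent.Lib.helper3.DdA

namespace Groth.Agent.H3Dd

open TensorProduct

universe u v w

theorem main18794
    {K : Type u} [Field K]
    {D : Type v} [Ring D] [Algebra K D]
    {E : Type w} [AddCommGroup E] [Module K E] [Module D E] [IsScalarTower K D E] :
    (Nontrivial (AlgebraicClosure K ⊗[K] E) ∧ ∀ N : Submodule (AlgebraicClosure K) (AlgebraicClosure K ⊗[K] E), (∀ (d : D) (x : AlgebraicClosure K ⊗[K] E), x ∈ N → (DistribSMul.toLinearMap K E d).baseChange (AlgebraicClosure K) x ∈ N) → N = ⊥ ∨ N = ⊤) ↔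
      ∀ (L : Type u) [Field L] [Algebra K L] [FiniteDimensional K L],
        (Nontrivial (L ⊗[K] E) ∧ ∀ N : Submodule (L) (L ⊗[K] E), (∀ (d : D) (x : L ⊗[K] E), x ∈ N → (DistribSMul.toLinearMap K E d).baseChange (L) x ∈ N) → N = ⊥ ∨ N = ⊤) := by
  classical
  constructor
  · rintro ⟨hnt, hirr⟩ L _ _ _
    haveI : Algebra.IsAlgebraic K L := Algebra.IsAlgebraic.of_finite K L
    let j : L →ₐ[K] AlgebraicClosure K := IsAlgClosed.lift
    letI : Algebra L (AlgebraicClosure K) := j.toRingHom.toAlgebra
    haveI : IsScalarTower K L (AlgebraicClosure K) :=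
      IsScalarTower.of_algebraMap_eq (fun x => (j.commutes x).symm)
    haveI := nontrivial_of_tensor (AlgebraicClosure K) hnt
    exact ⟨nontrivial_tensor L, fun N hN => irr_descend L (AlgebraicClosure K) hirr N hN⟩
  · intro h
    have hK := h K
    haveI : Nontrivial E := nontrivial_of_tensor K hK.1
    refine ⟨nontrivial_tensor (AlgebraicClosure K), ?_⟩
    intro N hN
    by_cases hN0 : N = ⊥
    · left; exact hN0
    right
    obtain ⟨x, hxN, hx0⟩ := Submodule.exists_mem_ne_zero_of_ne_bot hN0
    obtain ⟨S, hS⟩ := TensorProduct.exists_finset x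
    let L0 : IntermediateField K (AlgebraicClosure K) :=
      IntermediateField.adjoin K
        ((S.image Prod.fst : Finset (AlgebraicClosure K)) : Set (AlgebraicClosure K))
    haveI : FiniteDimensional K L0 :=
      IntermediateField.finiteDimensional_adjoin (fun a _ => Algebra.IsIntegral.isIntegral a)
    have hmem : ∀ i ∈ S, i.1 ∈ L0 := fun i hi =>
      IntermediateField.subset_adjoin K _
        (Finset.mem_coe.mpr (Finset.mem_image_of_mem Prod.fst hi))
    let y : L0 ⊗[K] E := ∑ i ∈ S.attach, (⟨i.1.1, hmem i.1 i.2⟩ : L0) ⊗ₜ[K] i.1.2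
    have hy : iota K E L0 (AlgebraicClosure K) y = x := by
      rw [hS, map_sum, ← Finset.sum_attach S (fun i => i.1 ⊗ₜ[K] i.2)]
      apply Finset.sum_congr rfl
      intro i _
      rw [iota_tmul]
      rfl
    apply irr_ascend L0 (AlgebraicClosure K) (h L0).2 N hN y
    · intro h0; apply hx0; rw [← hy, h0, map_zero]
    · rw [hy]; exact hxN

end Groth.Agent.H3Dd
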