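import Mathlib

set_option autoImplicit false
universe u v

namespace Groth.Agent.H3Det

open MvPolynomial

section pair

variable {σ : Type v} {R : Type u} [CommRing R] [IsDomain R]

lemma rename_congr_vars (f g : σ → σ) (P : MvPolynomial σ R)
    (h : ∀ i ∈ P.vars, f i = g i) : rename f P = rename g P := by
  have := hom_congr_vars (f₁ := (rename f : MvPolynomial σ R →ₐ[R] _).toRingHom)
    (f₂ := (rename g : MvPolynomial σ R →ₐ[R] _).toRingHom) (p₁ := P) (p₂ := P)
    (by ext; simp) (by intro i hi _; simp [h i hi]) rfl
  simpa using this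

lemma mapDomain_update_apply [DecidableEq σ] (x y : σ) (hxy : x ≠ y) (m : σ →₀ ℕ) :
    (m.mapDomain (Function.update id y x)) x = m x + m y := by
  have h := Finsupp.mapDomain_apply_eq_sum (Function.update id y x) m (a := x)
  have hfx : Function.update (id : σ → σ) y x x = x := by
    rw [Function.update_of_ne hxy]; rfl
  rw [hfx] at h
  rw [h]
  have : (m.support.filter fun i => Function.update (id : σ → σ) y x i = x)
      = m.support.filter fun i => i = x ∨ i = y := by
    ext i
    simp only [Finset.mem_filter, and_congr_right_iff]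
    intro _
    by_cases hi : i = y
    · subst hi; simp
    · rw [Function.update_of_ne hi]; simp [hi]
  rw [this, Finset.filter_or, Finset.sum_union]
  · congr 1
    · rw [Finset.filter_eq']
      split_ifs with hx
      · simp
      · simp [Finsupp.notMem_support_iff.mp hx]
    · rw [Finset.filter_eq']
      split_ifs with hy
      · simp
      · simp [Finsupp.notMem_support_iff.mp hy]
  · rw [Finset.disjoint_filter]
    intro i _ h1 h2
    exact hxy (h1 ▸ h2)

lemma pair [DecidableEq σ] (P Q : MvPolynomial σ R) (x y : σ) (hxy : x ≠ y)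
    (hxQ : degreeOf x Q = 0) (hyP : degreeOf y P = 0)
    (hxP : 1 ≤ degreeOf x P) (hyQ : 1 ≤ degreeOf y Q) :
    ∃ m ∈ (P * Q).support, 2 ≤ m x + m y := by
  have hP0 : P ≠ 0 := by rintro rfl; simp at hxP
  have hQ0 : Q ≠ 0 := by rintro rfl; simp at hyQ
  set f : σ → σ := Function.update id y x with hf
  have h1 : rename f P = P := by
    have := rename_congr_vars f id P (by
      intro i hi
      have : i ≠ y := by
        rintro rfl
        exact (mem_vars_iff_degreeOf_ne_zero.mp hi) hyP
      rw [hf, Function.update_of_ne this])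
    rw [this, rename_id]; rfl
  have h2 : rename f Q = rename (Equiv.swap x y) Q := by
    apply rename_congr_vars
    intro i hi
    have hix : i ≠ x := by
      rintro rfl
      exact (mem_vars_iff_degreeOf_ne_zero.mp hi) hxQ
    by_cases hiy : i = y
    · subst hiy; simp [hf]
    · rw [hf, Function.update_of_ne hiy, Equiv.swap_apply_of_ne_of_ne hix hiy]; rfl
  have h3 : degreeOf x (rename (Equiv.swap x y) Q) = degreeOf y Q := by
    have := degreeOf_rename_of_injective (p := Q) (f := Equiv.swap x y) (Equiv.injective _) y
    rwa [Equiv.swap_apply_right] at this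
  have hQ0' : rename (Equiv.swap x y) Q ≠ 0 := by
    intro h
    exact hQ0 ((rename_eq_zero_iff_of_injective Q (Equiv.injective _)).mp h)
  have h4 : degreeOf x (rename f (P * Q)) = degreeOf x P + degreeOf y Q := by
    rw [map_mul, h1, h2, degreeOf_mul_eq hP0 hQ0', h3]
  have h5 : 2 ≤ degreeOf x (rename f (P * Q)) := by omega
  rw [degreeOf_eq_sup] at h5
  have hne : (rename f (P * Q)).support.Nonempty := by
    rw [Finset.nonempty_iff_ne_empty]
    intro h
    rw [h] at h5
    simp at h5
  obtain ⟨m', hm', hsup⟩ := Finset.exists_mem_eq_sup _ hne (fun m : σ →₀ ℕ => m x)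
  rw [hsup] at h5
  obtain ⟨m, rfl, hm⟩ := coeff_rename_ne_zero f (P * Q) m' (mem_support_iff.mp hm')
  refine ⟨m, mem_support_iff.mpr hm, ?_⟩
  rw [hf, mapDomain_update_apply x y hxy] at h5
  exact h5

end pair

end Groth.Agent.H3Det
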