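import Mathlib
import Groth.Agent.Lib.helper3.DetA

set_option autoImplicit false
universe u v

namespace Groth.Agent.H3Det

open MvPolynomial

variable {k : Type u} [Field k] {n : ℕ}

noncomputable def mon (σ : Equiv.Perm (Fin n)) : (Fin n × Fin n) →₀ ℕ :=
  ∑ i, Finsupp.single (σ i, i) 1

lemma mon_apply (σ : Equiv.Perm (Fin n)) (a b : Fin n) :
    mon σ (a, b) = if σ b = a then 1 else 0 := by
  simp only [mon, Finsupp.coe_finsetSum, Finset.sum_apply, Finsupp.single_apply, Prod.mk.injEq]
  rw [Finset.sum_eq_single b]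
  · simp
  · intro i _ hib; simp [hib]
  · simp

lemma mon_injective : Function.Injective (mon (n := n)) := by
  intro σ τ h
  ext b
  have h1 : mon σ (τ b, b) = 1 := by rw [h, mon_apply]; simp
  rw [mon_apply] at h1
  by_cases hb : σ b = τ b
  · rw [hb]
  · simp [hb] at h1

noncomputable def sgn (σ : Equiv.Perm (Fin n)) : k := ((Equiv.Perm.sign σ : ℤ) : k)

lemma sgn_ne_zero (σ : Equiv.Perm (Fin n)) : sgn (k := k) σ ≠ 0 := by
  unfold sgn
  rcases Int.units_eq_one_or (Equiv.Perm.sign σ) with h | h
  · rw [h]; simp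
  · rw [h]; simp

variable (k n) in
lemma det_eq : (Matrix.mvPolynomialX (Fin n) (Fin n) k).det
    = ∑ σ : Equiv.Perm (Fin n), monomial (mon σ) (sgn (k := k) σ) := by
  rw [Matrix.det_apply']
  apply Finset.sum_congr rfl
  intro σ _
  have h1 : ∏ i, Matrix.mvPolynomialX (Fin n) (Fin n) k (σ i) i = monomial (mon σ) (1 : k) := by
    simp only [Matrix.mvPolynomialX_apply, mon]
    rw [monomial_sum_one]
    rfl
  rw [h1]
  have h2 : (((Equiv.Perm.sign σ : ℤ)) : MvPolynomial (Fin n × Fin n) k)
      = C (sgn (k := k) σ) := by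
    unfold sgn
    rw [map_intCast]
  rw [h2, C_mul_monomial, mul_one]

lemma coeff_det (m : (Fin n × Fin n) →₀ ℕ) :
    coeff m (Matrix.mvPolynomialX (Fin n) (Fin n) k).det
      = ∑ σ : Equiv.Perm (Fin n), if mon σ = m then sgn (k := k) σ else 0 := by
  rw [det_eq, coeff_sum]
  apply Finset.sum_congr rfl
  intro σ _
  rw [coeff_monomial]

lemma support_det {m : (Fin n × Fin n) →₀ ℕ}
    (hm : m ∈ ((Matrix.mvPolynomialX (Fin n) (Fin n) k).det).support) :
    ∃ σ : Equiv.Perm (Fin n), m = mon σ := by
  by_contra hcon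
  push Not at hcon
  rw [mem_support_iff, coeff_det] at hm
  apply hm
  apply Finset.sum_eq_zero
  intro σ _
  rw [if_neg (Ne.symm (hcon σ))]

lemma mon_mem_support (σ : Equiv.Perm (Fin n)) :
    mon σ ∈ ((Matrix.mvPolynomialX (Fin n) (Fin n) k).det).support := by
  rw [mem_support_iff, coeff_det, Finset.sum_eq_single σ]
  · simp [sgn_ne_zero]
  · intro τ _ hτ
    rw [if_neg (fun h => hτ (mon_injective h))]
  · simp

lemma degreeOf_det (v : Fin n × Fin n) :
    degreeOf v (Matrix.mvPolynomialX (Fin n) (Fin n) k).det = 1 := by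
  obtain ⟨a, b⟩ := v
  apply le_antisymm
  · rw [degreeOf_le_iff]
    intro m hm
    obtain ⟨σ, rfl⟩ := support_det hm
    rw [mon_apply]
    split_ifs <;> simp
  · rw [degreeOf_eq_sup]
    have h := Finset.le_sup (f := fun m : (Fin n × Fin n) →₀ ℕ => m (a, b))
      (mon_mem_support (k := k) (Equiv.swap a b))
    have h1 : mon (Equiv.swap a b) (a, b) = 1 := by
      rw [mon_apply]; simp
    simp only [h1] at h
    exact h

lemma isUnit_of_degreeOf_eq_zero {σ : Type v} (P : MvPolynomial σ k) (hP : P ≠ 0)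
    (h : ∀ v, degreeOf v P = 0) : IsUnit P := by
  have hv : P.vars = ∅ := by
    apply Finset.eq_empty_of_forall_notMem
    intro v hv
    exact (mem_vars_iff_degreeOf_ne_zero.mp hv) (h v)
  rw [vars_eq_empty_iff_eq_C] at hv
  rw [hv]
  apply IsUnit.map
  rw [isUnit_iff_ne_zero]
  intro h0
  apply hP
  rw [hv, h0, map_zero]

theorem main (hn : 1 ≤ n) : Irreducible (Matrix.mvPolynomialX (Fin n) (Fin n) k).det := by
  haveI : NeZero n := ⟨by omega⟩
  have hD0 : (Matrix.mvPolynomialX (Fin n) (Fin n) k).det ≠ 0 :=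
    Matrix.det_mvPolynomialX_ne_zero (Fin n) k
  rw [irreducible_iff]
  refine ⟨?_, ?_⟩
  · intro hu
    obtain ⟨E, hE⟩ := hu.exists_right_inv
    have hE0 : E ≠ 0 := by
      rintro rfl
      simp at hE
    have h := degreeOf_mul_eq (n := ((0 : Fin n), (0 : Fin n))) hD0 hE0
    rw [hE, degreeOf_one, degreeOf_det] at h
    omega
  · intro P Q hPQ
    have hP0 : P ≠ 0 := by
      rintro rfl
      rw [zero_mul] at hPQ
      exact hD0 hPQ
    have hQ0 : Q ≠ 0 := by
      rintro rfl
      rw [mul_zero] at hPQ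
      exact hD0 hPQ
    have hsum : ∀ v, degreeOf v P + degreeOf v Q = 1 := by
      intro v
      rw [← degreeOf_mul_eq hP0 hQ0, ← hPQ, degreeOf_det]
    have key : ∀ v w : Fin n × Fin n, v ≠ w → (v.1 = w.1 ∨ v.2 = w.2) →
        ¬ (degreeOf v P = 1 ∧ degreeOf w Q = 1) := by
      rintro ⟨a, b⟩ ⟨a', b'⟩ hvw hor ⟨h1, h2⟩
      have h3 := hsum (a, b)
      have h4 := hsum (a', b')
      obtain ⟨m, hm, hm2⟩ := pair P Q (a, b) (a', b') hvw (by omega) (by omega)
        (by omega) (by omega)
      rw [← hPQ] at hm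
      obtain ⟨σ, rfl⟩ := support_det hm
      rw [mon_apply, mon_apply] at hm2
      have h5 : σ b = a := by
        by_contra h
        rw [if_neg h] at hm2
        split_ifs at hm2 <;> omega
      have h6 : σ b' = a' := by
        by_contra h
        rw [if_neg h] at hm2
        split_ifs at hm2 <;> omega
      apply hvw
      rcases hor with h | h
      · simp only at h
        subst h
        have : b = b' := σ.injective (h5.trans h6.symm)
        rw [this]
      · simp only at h
        subst h
        rw [← h5, ← h6]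
    have same : ∀ v w : Fin n × Fin n, (v.1 = w.1 ∨ v.2 = w.2) →
        (degreeOf v P = 1 ↔ degreeOf w P = 1) := by
      intro v w hor
      by_cases hvw : v = w
      · rw [hvw]
      constructor
      · intro h
        by_contra h'
        have := hsum w
        exact key v w hvw hor ⟨h, by omega⟩
      · intro h
        by_contra h'
        have := hsum v
        exact key w v (Ne.symm hvw) (hor.imp Eq.symm Eq.symm) ⟨h, by omega⟩
    have all : ∀ v : Fin n × Fin n, degreeOf v P = 1 ↔ degreeOf ((0 : Fin n), (0 : Fin n)) P = 1 := by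
      intro v
      rw [same v (v.1, 0) (Or.inl rfl), same (v.1, 0) (0, 0) (Or.inr rfl)]
    by_cases h0 : degreeOf ((0 : Fin n), (0 : Fin n)) P = 1
    · right
      apply isUnit_of_degreeOf_eq_zero Q hQ0
      intro v
      have := hsum v
      have := (all v).mpr h0
      omega
    · left
      apply isUnit_of_degreeOf_eq_zero P hP0
      intro v
      have := hsum v
      have : ¬ degreeOf v P = 1 := fun h => h0 ((all v).mp h)
      omega

end Groth.Agent.H3Det
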