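import Mathlib
universe u
namespace Groth.Agent.H3Dl
open Module

section
variable {R : Type u} [CommRing R] {M : Type u} [AddCommGroup M] [Module R M]
variable {P : Type u} [AddCommGroup P] [Module R P] (π : P →ₗ[R] M) (S : Finset M → Submodule R P)

structure Idx where
  s : Finset M
  K : Submodule R P
  fg : K.FG
  le : K ≤ LinearMap.ker π ⊓ S s

noncomputable instance : Preorder (Idx π S) := Preorder.lift (fun a => (a.s, a.K))

theorem Idx.le_def (a b : Idx π S) : a ≤ b ↔ a.s ⊆ b.s ∧ a.K ≤ b.K := Iff.rfl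

abbrev G (a : Idx π S) : Type u := ↥(S a.s) ⧸ (a.K.comap (S a.s).subtype)

variable (hS : ∀ s t, s ⊆ t → S s ≤ S t)

noncomputable def tr (a b : Idx π S) (h : a ≤ b) : G π S a →ₗ[R] G π S b :=
  Submodule.mapQ _ _ (Submodule.inclusion (hS _ _ h.1)) (by
    intro x hx
    simp only [Submodule.mem_comap] at hx ⊢
    exact h.2 hx)

theorem tr_mk (a b : Idx π S) (h : a ≤ b) (x : ↥(S a.s)) :
    tr π S hS a b h (Submodule.Quotient.mk x) = Submodule.Quotient.mk ⟨x.1, hS _ _ h.1 x.2⟩ := rfl

instance dsys : DirectedSystem (G π S) fun i j h => tr π S hS i j h where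
  map_self i x := by
    obtain ⟨x, rfl⟩ := Submodule.Quotient.mk_surjective _ x
    rfl
  map_map i j k hij hjk x := by
    obtain ⟨x, rfl⟩ := Submodule.Quotient.mk_surjective _ x
    rfl

noncomputable def toM (a : Idx π S) : G π S a →ₗ[R] M :=
  Submodule.liftQ _ (π ∘ₗ (S a.s).subtype) (by
    intro x hx
    simp only [Submodule.mem_comap] at hx
    exact (a.le hx).1)

theorem toM_mk (a : Idx π S) (x : ↥(S a.s)) : toM π S a (Submodule.Quotient.mk x) = π x.1 := rfl

theorem toM_tr (a b : Idx π S) (h : a ≤ b) (x : G π S a) :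
    toM π S b (tr π S hS a b h x) = toM π S a x := by
  obtain ⟨x, rfl⟩ := Submodule.Quotient.mk_surjective _ x
  rfl

instance : Nonempty (Idx π S) := ⟨⟨∅, ⊥, Submodule.fg_bot, bot_le⟩⟩

include hS in
theorem directed : IsDirected (Idx π S) (· ≤ ·) := by
  classical
  refine ⟨fun a b => ⟨⟨a.s ∪ b.s, a.K ⊔ b.K, a.fg.sup b.fg, ?_⟩, ?_, ?_⟩⟩
  · refine sup_le (le_trans a.le (inf_le_inf_left _ (hS _ _ Finset.subset_union_left)))
      (le_trans b.le (inf_le_inf_left _ (hS _ _ Finset.subset_union_right)))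
  · exact ⟨Finset.subset_union_left, le_sup_left⟩
  · exact ⟨Finset.subset_union_right, le_sup_right⟩

theorem fp (hfp : ∀ s, Module.FinitePresentation R ↥(S s)) (a : Idx π S) :
    Module.FinitePresentation R (G π S a) := by
  haveI := hfp a.s
  refine Module.finitePresentation_of_surjective (Submodule.mkQ _) (Submodule.mkQ_surjective _) ?_
  rw [Submodule.ker_mkQ]
  refine Submodule.fg_of_fg_map_injective (S a.s).subtype (Submodule.injective_subtype _) ?_
  rw [Submodule.map_comap_subtype, inf_eq_right.mpr (le_trans a.le inf_le_right)]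
  exact a.fg

include hS in
theorem main (hfp : ∀ s, Module.FinitePresentation R ↥(S s))
    (hsurj : ∀ m : M, ∃ s, ∃ v ∈ S s, π v = m) :
    ∃ (ι : Type u) (_ : Preorder ι) (_ : IsDirected ι (· ≤ ·)) (_ : Nonempty ι) (_ : DecidableEq ι) (G : ι → Type u) (_ : ∀ i, AddCommGroup (G i)) (_ : ∀ i, Module R (G i)) (f : ∀ i j, i ≤ j → G i →ₗ[R] G j) (_ : DirectedSystem G fun i j h => f i j h), (∀ i, Module.FinitePresentation R (G i)) ∧ Nonempty (Module.DirectLimit G f ≃ₗ[R] M) := by
  classical
  haveI := directed π S hS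
  refine ⟨Idx π S, inferInstance, directed π S hS, inferInstance, Classical.decEq _, G π S,
    fun _ => inferInstance, fun _ => inferInstance, tr π S hS, dsys π S hS, fp π S hfp, ?_⟩
  let L : Module.DirectLimit (G π S) (tr π S hS) →ₗ[R] M :=
    Module.DirectLimit.lift R (Idx π S) (G π S) (tr π S hS) (toM π S) (fun i j hij x => toM_tr π S hS i j hij x)
  refine ⟨LinearEquiv.ofBijective L ⟨?_, ?_⟩⟩
  · rw [injective_iff_map_eq_zero]
    intro z hz
    obtain ⟨a, x, rfl⟩ := Module.DirectLimit.exists_of z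
    obtain ⟨x, rfl⟩ := Submodule.Quotient.mk_surjective _ x
    have h0 : π x.1 = 0 := by
      have := hz
      simp only [L, Module.DirectLimit.lift_of] at this
      exact this
    let b : Idx π S := ⟨a.s, a.K ⊔ Submodule.span R {x.1}, a.fg.sup (Submodule.fg_span_singleton _), by
      refine sup_le a.le ?_
      rw [Submodule.span_singleton_le_iff_mem]
      exact ⟨h0, x.2⟩⟩
    have hab : a ≤ b := ⟨le_rfl, le_sup_left⟩
    rw [← Module.DirectLimit.of_f (hij := hab)]
    have : tr π S hS a b hab (Submodule.Quotient.mk x) = 0 := by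
      rw [tr_mk, Submodule.Quotient.mk_eq_zero]
      simp only [Submodule.mem_comap, Submodule.subtype_apply]
      exact Submodule.mem_sup_right (Submodule.mem_span_singleton_self _)
    rw [this, map_zero]
  · intro m
    obtain ⟨s, v, hv, rfl⟩ := hsurj m
    refine ⟨Module.DirectLimit.of R _ _ _ (⟨s, ⊥, Submodule.fg_bot, bot_le⟩ : Idx π S)
      (Submodule.Quotient.mk ⟨v, hv⟩), ?_⟩
    simp only [L, Module.DirectLimit.lift_of]
    rfl

end

theorem main6328 (R : Type u) [CommRing R] (M : Type u) [AddCommGroup M] [Module R M] : ∃ (ι : Type u) (_ : Preorder ι) (_ : IsDirected ι (· ≤ ·)) (_ : Nonempty ι) (_ : DecidableEq ι) (G : ι → Type u) (_ : ∀ i, AddCommGroup (G i)) (_ : ∀ i, Module R (G i)) (f : ∀ i j, i ≤ j → G i →ₗ[R] G j) (_ : DirectedSystem G fun i j h => f i j h), (∀ i, Module.FinitePresentation R (G i)) ∧ Nonempty (Module.DirectLimit G f ≃ₗ[R] M) := by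
  classical
  refine main (P := M →₀ R) (Finsupp.linearCombination R id) (fun s => Finsupp.supported R R (s : Set M))
    (fun s t h => Finsupp.supported_mono (by exact_mod_cast h)) (fun s => ?_) (fun m => ?_)
  · have e : ((s : Set M) →₀ R) ≃ₗ[R] ↥(Finsupp.supported R R (s : Set M)) :=
      (Finsupp.supportedEquivFinsupp (s : Set M)).symm
    haveI : Finite (s : Set M) := s.finite_toSet
    exact Module.FinitePresentation.of_equiv (M := (s : Set M) →₀ R)
      (N := ↥(Finsupp.supported R R (s : Set M))) e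
  · refine ⟨{m}, Finsupp.single m 1, Finsupp.single_mem_supported R 1 (by simp), by simp⟩

end Groth.Agent.H3Dl
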