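import Mathlib

namespace Groth.Agent.H3Dm

universe u
open Order

variable {A : Type u} [CommRing A]

theorem dim_quot_le_supportDim {N : Type*} [AddCommGroup N] [Module A N] (p : PrimeSpectrum A)
    (hp : p ∈ Module.support A N) : ringKrullDim (A ⧸ p.asIdeal) ≤ Module.supportDim A N := by
  rw [← Module.supportDim_quotient_eq_ringKrullDim]
  have hsub : Module.support A (A ⧸ p.asIdeal) ⊆ Module.support A N := by
    intro q hq
    have h1 := Module.annihilator_le_of_mem_support hq
    rw [Ideal.annihilator_quotient] at h1
    exact Module.mem_support_mono h1 hp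
  exact Order.krullDim_le_of_strictMono (Set.inclusion hsub) (fun a b h => h)

theorem length_le_dim_quot_head {N : Type*} [AddCommGroup N] [Module A N]
    (l : LTSeries (Module.support A N)) :
    (l.length : WithBot ℕ∞) ≤ ringKrullDim (A ⧸ l.head.1.asIdeal) := by
  rw [← Module.supportDim_quotient_eq_ringKrullDim]
  have hmem : ∀ i, (l i).1 ∈ Module.support A (A ⧸ l.head.1.asIdeal) := by
    intro i
    rw [Module.mem_support_iff_of_finite, Ideal.annihilator_quotient]
    exact l.head_le i
  let l' : LTSeries (Module.support A (A ⧸ l.head.1.asIdeal)) :=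
    LTSeries.mk l.length (fun i => ⟨(l i).1, hmem i⟩) (fun i j h => l.strictMono h)
  exact l'.length_le_krullDim

theorem dim_lt_top [IsNoetherianRing A] [Finite (MaximalSpectrum A)] : ringKrullDim A < ⊤ := by
  classical
  haveI := Fintype.ofFinite (MaximalSpectrum A)
  obtain ⟨S, hS⟩ : ∃ S : ℕ, ∀ m : MaximalSpectrum A, m.asIdeal.height ≤ (S : ℕ∞) := by
    refine ⟨∑ m : MaximalSpectrum A, (m.asIdeal.height).toNat, fun m => ?_⟩
    haveI := m.isMaximal
    have h0 : m.asIdeal.height ≠ ⊤ := Ideal.height_ne_top m.isMaximal.ne_top
    obtain ⟨k, hk⟩ := ENat.ne_top_iff_exists.mp h0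
    have h5 : k ≤ ∑ m : MaximalSpectrum A, (m.asIdeal.height).toNat := by
      have := Finset.single_le_sum (f := fun m : MaximalSpectrum A => (m.asIdeal.height).toNat)
        (fun _ _ => Nat.zero_le _) (Finset.mem_univ m)
      simp only [← hk, ENat.toNat_coe] at this
      exact this
    rw [← hk]
    exact_mod_cast h5
  have hle : ringKrullDim A ≤ ((S : ℕ∞) : WithBot ℕ∞) := by
    rw [ringKrullDim, Order.krullDim]
    refine iSup_le fun l => ?_
    obtain ⟨m, hm, hlm⟩ := Ideal.exists_le_maximal _ l.last.2.ne_top
    have h1 : (l.length : ℕ∞) ≤ Order.height l.last := Order.length_le_height_last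
    have h2 : Order.height l.last = l.last.asIdeal.height :=
      (PrimeSpectrum.height_eq_orderHeight _).symm
    have h3 : l.last.asIdeal.height ≤ m.height := Ideal.height_mono hlm
    have h6 : (l.length : ℕ∞) ≤ (S : ℕ∞) :=
      ((h1.trans h2.le).trans h3).trans (hS ⟨m, hm⟩)
    exact_mod_cast h6
  refine lt_of_le_of_lt hle ?_
  exact WithBot.coe_lt_coe.mpr (ENat.coe_lt_top S)

theorem main5767 (A : Type u) [CommRing A] [IsNoetherianRing A]
    [Finite (MaximalSpectrum A)] (M : Type u) [AddCommGroup M] [Module A M] [Module.Finite A M]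
    (x : A) (hx : x ∈ Ring.jacobson A) :
    Module.supportDim A (QuotSMulTop x M) + 1 = Module.supportDim A M ↔
      ∀ p : PrimeSpectrum A, p ∈ Module.support A M →
        ringKrullDim (A ⧸ p.asIdeal) = Module.supportDim A M → x ∉ p.asIdeal := by
  have F1 : Module.supportDim A M ≤ Module.supportDim A (QuotSMulTop x M) + 1 :=
    Module.supportDim_le_supportDim_quotSMulTop_succ_of_mem_jacobson
      (Ideal.ringJacobson_le_jacobson hx)
  have F2 : Module.supportDim A (QuotSMulTop x M) ≤ Module.supportDim A M :=
    Module.supportDim_le_of_surjective (Submodule.mkQ _) (Submodule.mkQ_surjective _)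
  have F3 : Module.supportDim A M < ⊤ :=
    lt_of_le_of_lt (Module.supportDim_le_ringKrullDim A M) dim_lt_top
  have hsupp : ∀ p : PrimeSpectrum A, p ∈ Module.support A (QuotSMulTop x M) ↔
      p ∈ Module.support A M ∧ x ∈ p.asIdeal := by
    intro p
    rw [Module.support_quotSMulTop]
    simp [PrimeSpectrum.mem_zeroLocus]
  constructor
  · intro heq p hp hdim hxp
    have hpq : p ∈ Module.support A (QuotSMulTop x M) := (hsupp p).mpr ⟨hp, hxp⟩
    have h1 := dim_quot_le_supportDim p hpq
    rw [hdim, ← heq] at h1
    have hne_bot : Module.supportDim A (QuotSMulTop x M) ≠ ⊥ := by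
      rw [Module.supportDim_ne_bot_iff_nontrivial]
      exact Module.nonempty_support_iff.mp ⟨p, hpq⟩
    have hlt : Module.supportDim A (QuotSMulTop x M) < ⊤ := lt_of_le_of_lt F2 F3
    generalize Module.supportDim A (QuotSMulTop x M) = e at hne_bot hlt h1
    induction e using WithBot.recBotCoe with
    | bot => exact hne_bot rfl
    | coe e' =>
      induction e' using ENat.recTopCoe with
      | top => exact absurd hlt (lt_irrefl _)
      | coe n =>
        have h2 : n + 1 ≤ n := by exact_mod_cast h1
        omega
  · intro H
    by_contra hne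
    have hexists : ∀ n : ℕ,
        Module.supportDim A (QuotSMulTop x M) = ((n : ℕ∞) : WithBot ℕ∞) →
        Module.supportDim A M = ((n : ℕ∞) : WithBot ℕ∞) → False := by
      intro n he hd
      have hn : ((n : ℕ) : WithBot ℕ∞) ≤
          Order.krullDim (Module.support A (QuotSMulTop x M)) := by
        show ((n : ℕ) : WithBot ℕ∞) ≤ Module.supportDim A (QuotSMulTop x M)
        rw [he]; exact_mod_cast le_rfl
      obtain ⟨l, hl⟩ := Order.le_krullDim_iff.mp hn
      have hhead := (hsupp l.head.1).mp l.head.2
      have h5 := length_le_dim_quot_head l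
      have h4 := dim_quot_le_supportDim l.head.1 hhead.1
      rw [hd] at h4
      rw [hl] at h5
      have hdim : ringKrullDim (A ⧸ l.head.1.asIdeal) = Module.supportDim A M := by
        rw [hd]; exact le_antisymm h4 (by exact_mod_cast h5)
      exact H l.head.1 hhead.1 hdim hhead.2
    generalize Module.supportDim A M = d at F1 F2 F3 hne hexists
    generalize Module.supportDim A (QuotSMulTop x M) = e at F1 F2 hne hexists
    induction d using WithBot.recBotCoe with
    | bot =>
      have : e = ⊥ := le_bot_iff.mp F2
      rw [this] at hne; exact hne rfl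
    | coe d' =>
      induction d' using ENat.recTopCoe with
      | top => exact absurd F3 (lt_irrefl _)
      | coe n =>
        induction e using WithBot.recBotCoe with
        | bot => simp at F1
        | coe e' =>
          induction e' using ENat.recTopCoe with
          | top =>
            have : ((⊤ : ℕ∞) : WithBot ℕ∞) ≤ ((n : ℕ∞) : WithBot ℕ∞) := F2
            rw [WithBot.coe_le_coe, top_le_iff] at this
            exact ENat.coe_ne_top n this
          | coe m =>
            have h1 : m ≤ n := by exact_mod_cast F2
            have h2 : n ≤ m + 1 := by exact_mod_cast F1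
            have h3 : m + 1 ≠ n := fun h => hne (by exact_mod_cast h)
            have h4 : m = n := by omega
            subst h4
            exact hexists m rfl rfl

end Groth.Agent.H3Dm
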