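import Mathlib

open Nat

namespace Groth.Agent.H3Dp

universe u

variable {A : Type u} [CommRing A] [IsAddTorsionFree A] (I : Ideal A)

theorem dp_subsingleton : Subsingleton (DividedPowers I) := by
  refine ⟨fun h₁ h₂ => ?_⟩
  apply DividedPowers.ext
  intro n x hx
  have e1 := h₁.factorial_mul_dpow_eq_pow (n := n) hx
  have e2 := h₂.factorial_mul_dpow_eq_pow (n := n) hx
  have e3 : (n ! : ℕ) • h₁.dpow n x = (n ! : ℕ) • h₂.dpow n x := by
    rw [nsmul_eq_mul, nsmul_eq_mul, e1, e2]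
  exact nsmul_right_injective (Nat.factorial_ne_zero n) e3

def Q (x : A) : Prop := ∀ n : ℕ, ∃ y : A, (n ≠ 0 → y ∈ I) ∧ (n ! : A) * y = x ^ n

omit [IsAddTorsionFree A] in
theorem Q_zero : Q I 0 := by
  intro n
  by_cases hn : n = 0
  · subst hn
    exact ⟨1, fun h => absurd rfl h, by simp⟩
  · exact ⟨0, fun _ => zero_mem _, by rw [mul_zero, zero_pow hn]⟩

omit [IsAddTorsionFree A] in
theorem Q_smul (c : A) {x : A} (hx : Q I x) : Q I (c * x) := by
  intro n
  obtain ⟨y, hy1, hy2⟩ := hx n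
  refine ⟨c ^ n * y, fun hn => Ideal.mul_mem_left _ _ (hy1 hn), ?_⟩
  rw [mul_pow, ← hy2]
  ring

omit [IsAddTorsionFree A] in
theorem Q_add {x y : A} (hx : Q I x) (hy : Q I y) : Q I (x + y) := by
  intro n
  choose a ha1 ha2 using hx
  choose b hb1 hb2 using hy
  refine ⟨∑ k ∈ Finset.range (n + 1), a k * b (n - k), ?_, ?_⟩
  · intro hn
    apply Ideal.sum_mem
    intro k hk
    by_cases hk0 : k = 0
    · subst hk0
      exact Ideal.mul_mem_left _ _ (hb1 n (by simpa using hn))
    · exact Ideal.mul_mem_right _ _ (ha1 k hk0)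
  · rw [add_pow, Finset.mul_sum]
    refine Finset.sum_congr rfl fun k hk => ?_
    have hkn : k ≤ n := Nat.lt_succ_iff.mp (Finset.mem_range.mp hk)
    have hf : ((n.choose k * k ! * (n - k)! : ℕ) : A) = (n ! : A) := by
      rw [Nat.choose_mul_factorial_mul_factorial hkn]
    rw [← ha2 k, ← hb2 (n - k), ← hf]
    push_cast
    ring

omit [IsAddTorsionFree A] in
theorem Q_of_span (S : Set A) (hS : Ideal.span S = I)
    (h : ∀ x ∈ S, ∀ n : ℕ, 1 ≤ n → x ^ n ∈ Ideal.span {(Nat.factorial n : A)} * I) :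
    ∀ x ∈ I, Q I x := by
  intro x hx
  rw [← hS] at hx
  induction hx using Submodule.span_induction with
  | mem x hx =>
    intro n
    by_cases hn : n = 0
    · subst hn
      exact ⟨1, fun h => absurd rfl h, by simp⟩
    · obtain ⟨z, hz, hze⟩ := Ideal.mem_span_singleton_mul.mp (h x hx n (Nat.one_le_iff_ne_zero.mpr hn))
      exact ⟨z, fun _ => hz, hze⟩
  | zero => exact Q_zero I
  | add x y _ _ hx hy => exact Q_add I hx hy
  | smul c x _ hx => exact Q_smul I c hx

theorem submonoid_le :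
    Algebra.algebraMapSubmonoid A (nonZeroDivisors ℤ) ≤ nonZeroDivisors A := by
  rintro _ ⟨z, hz, rfl⟩
  rw [mem_nonZeroDivisors_iff_right]
  intro a ha
  have hz0 : z ≠ 0 := nonZeroDivisors.ne_zero hz
  have h1 : z • a = 0 := by
    rw [zsmul_eq_mul, mul_comm]
    simpa using ha
  rcases smul_eq_zero.mp h1 with h | h
  · exact absurd h hz0
  · exact h

theorem dp_nonempty_of_Q (hQ : ∀ x ∈ I, Q I x) : Nonempty (DividedPowers I) := by
  classical
  let B := Localization (Algebra.algebraMapSubmonoid A (nonZeroDivisors ℤ))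
  letI : Algebra ℚ B := localizationAlgebra (nonZeroDivisors ℤ) A
  have hinj : Function.Injective (algebraMap A B) :=
    IsLocalization.injective B (submonoid_le (A := A))
  refine ⟨DividedPowers.ofInjective I (I.map (algebraMap A B)) (algebraMap A B) hinj
    (DividedPowers.RatAlgebra.dividedPowers (I.map (algebraMap A B))) rfl ?_⟩
  intro n x hx
  obtain ⟨y, hy1, hy2⟩ := hQ x hx n
  refine ⟨y, hy1, ?_⟩
  rw [DividedPowers.RatAlgebra.dpow_apply, if_pos (Ideal.mem_map_of_mem _ hx), ← map_pow, ← hy2,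
    map_mul, map_natCast, ← mul_assoc,
    Ring.inverse_mul_cancel _ (IsUnit.natCast_factorial_of_algebra ℚ n), one_mul]

theorem main6501 :
    Subsingleton (DividedPowers I) ∧
    (Nonempty (DividedPowers I) ↔ ∃ S : Set A, Ideal.span S = I ∧
      ∀ x ∈ S, ∀ n : ℕ, 1 ≤ n → x ^ n ∈ Ideal.span {(Nat.factorial n : A)} * I) := by
  refine ⟨dp_subsingleton I, ?_, ?_⟩
  · rintro ⟨hI⟩
    refine ⟨(I : Set A), Ideal.span_eq I, ?_⟩
    intro x hx n hn
    rw [← hI.factorial_mul_dpow_eq_pow (n := n) hx]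
    exact Ideal.mul_mem_mul (Ideal.mem_span_singleton_self _)
      (hI.dpow_mem (Nat.one_le_iff_ne_zero.mp hn) hx)
  · rintro ⟨S, hS, h⟩
    exact dp_nonempty_of_Q I (Q_of_span I S hS h)

end Groth.Agent.H3Dp
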