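import Mathlib

namespace Groth.Agent.H3Dq

open Finset

universe u v
variable {A : Type u} {B : Type v} [CommRing A] [CommRing B] (f : A →+* B) (x : A)
  (γ : DividedPowers (Ideal.span {x}))

theorem pow_mul_eq (y b b' : B) (h : b * y = b' * y) :
    ∀ k : ℕ, 1 ≤ k → b ^ k * y = b' ^ k * y := by
  intro k hk
  induction k, hk using Nat.le_induction with
  | base => simpa using h
  | succ k hk ih =>
    calc b ^ (k+1) * y = b * (b ^ k * y) := by ring
      _ = b * (b' ^ k * y) := by rw [ih]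
      _ = b' ^ k * (b * y) := by ring
      _ = b' ^ k * (b' * y) := by rw [h]
      _ = b' ^ (k+1) * y := by ring

theorem welldef (b b' : B) (h : b * f x = b' * f x) (n : ℕ) :
    b ^ n * f (γ.dpow n x) = b' ^ n * f (γ.dpow n x) := by
  rcases Nat.eq_zero_or_pos n with rfl | hn
  · simp
  · have hx : x ∈ Ideal.span {x} := Ideal.mem_span_singleton_self x
    obtain ⟨a, ha⟩ := Ideal.mem_span_singleton'.mp (γ.dpow_mem hn.ne' hx)
    rw [← ha, map_mul]
    calc b ^ n * (f a * f x) = f a * (b ^ n * f x) := by ring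
      _ = f a * (b' ^ n * f x) := by rw [pow_mul_eq (f x) b b' h n hn]
      _ = b' ^ n * (f a * f x) := by ring

open Classical in
noncomputable def dp (n : ℕ) (z : B) : B :=
  if h : z ∈ Ideal.span {f x} then
    (Classical.choose (Ideal.mem_span_singleton'.mp h)) ^ n * f (γ.dpow n x) else 0

theorem dp_eq (n : ℕ) (b : B) : dp f x γ n (b * f x) = b ^ n * f (γ.dpow n x) := by
  have h : b * f x ∈ Ideal.span {f x} := Ideal.mem_span_singleton'.mpr ⟨b, rfl⟩
  rw [dp, dif_pos h]
  exact welldef f x γ _ _ (Classical.choose_spec (Ideal.mem_span_singleton'.mp h)) n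

noncomputable def delta : DividedPowers (Ideal.span {f x}) where
  dpow := dp f x γ
  dpow_null {n z} hz := by rw [dp, dif_neg hz]
  dpow_zero {z} hz := by
    obtain ⟨b, rfl⟩ := Ideal.mem_span_singleton'.mp hz
    rw [dp_eq, pow_zero, one_mul, γ.dpow_zero (Ideal.mem_span_singleton_self x), map_one]
  dpow_one {z} hz := by
    obtain ⟨b, rfl⟩ := Ideal.mem_span_singleton'.mp hz
    rw [dp_eq, pow_one, γ.dpow_one (Ideal.mem_span_singleton_self x)]
  dpow_mem {n z} hn hz := by
    obtain ⟨b, rfl⟩ := Ideal.mem_span_singleton'.mp hz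
    rw [dp_eq]
    obtain ⟨a, ha⟩ := Ideal.mem_span_singleton'.mp
      (γ.dpow_mem hn (Ideal.mem_span_singleton_self x))
    rw [← ha, map_mul]
    exact Ideal.mul_mem_left _ _ (Ideal.mul_mem_left _ _ (Ideal.mem_span_singleton_self _))
  dpow_add {n z z'} hz hz' := by
    obtain ⟨b, rfl⟩ := Ideal.mem_span_singleton'.mp hz
    obtain ⟨b', rfl⟩ := Ideal.mem_span_singleton'.mp hz'
    rw [← add_mul, dp_eq, Commute.add_pow' (Commute.all b b'), Finset.sum_mul]
    refine Finset.sum_congr rfl fun k hk => ?_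
    rw [dp_eq, dp_eq]
    have hkn : k.1 + k.2 = n := Finset.HasAntidiagonal.mem_antidiagonal.mp hk
    have := γ.mul_dpow (m := k.1) (n := k.2) (Ideal.mem_span_singleton_self x)
    calc n.choose k.1 • (b ^ k.1 * b' ^ k.2) * f (γ.dpow n x)
        = b ^ k.1 * b' ^ k.2 * f ((n.choose k.1 : A) * γ.dpow n x) := by
          rw [map_mul, map_natCast, nsmul_eq_mul]; ring
      _ = b ^ k.1 * b' ^ k.2 * f (γ.dpow k.1 x * γ.dpow k.2 x) := by rw [this, hkn]
      _ = _ := by rw [map_mul]; ring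
  dpow_mul {n a z} hz := by
    obtain ⟨b, rfl⟩ := Ideal.mem_span_singleton'.mp hz
    rw [← mul_assoc, dp_eq, dp_eq, mul_pow, mul_assoc]
  mul_dpow {m n z} hz := by
    obtain ⟨b, rfl⟩ := Ideal.mem_span_singleton'.mp hz
    rw [dp_eq, dp_eq, dp_eq]
    have := γ.mul_dpow (m := m) (n := n) (Ideal.mem_span_singleton_self x)
    calc b ^ m * f (γ.dpow m x) * (b ^ n * f (γ.dpow n x))
        = b ^ (m+n) * f (γ.dpow m x * γ.dpow n x) := by rw [map_mul]; ring
      _ = b ^ (m+n) * f (((m+n).choose m : A) * γ.dpow (m+n) x) := by rw [this]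
      _ = _ := by rw [map_mul, map_natCast]; ring
  dpow_comp {m n z} hn hz := by
    obtain ⟨b, rfl⟩ := Ideal.mem_span_singleton'.mp hz
    have hx := Ideal.mem_span_singleton_self x
    obtain ⟨a, ha⟩ := Ideal.mem_span_singleton'.mp (γ.dpow_mem hn hx)
    rw [dp_eq, dp_eq]
    have h1 : b ^ n * f (γ.dpow n x) = (b ^ n * f a) * f x := by rw [← ha, map_mul]; ring
    rw [h1, dp_eq]
    have h2 : γ.dpow m (γ.dpow n x) = a ^ m * γ.dpow m x := by rw [← ha, γ.dpow_mul hx]
    have h3 := γ.dpow_comp (m := m) hn hx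
    calc (b ^ n * f a) ^ m * f (γ.dpow m x)
        = b ^ (m * n) * f (a ^ m * γ.dpow m x) := by rw [map_mul, map_pow]; ring
      _ = b ^ (m * n) * f ((Nat.uniformBell m n : A) * γ.dpow (m * n) x) := by rw [← h2, h3]
      _ = _ := by rw [map_mul, map_natCast]; ring

theorem main [Algebra A B] (x : A) (γ : DividedPowers (Ideal.span {x})) :
    ∃ δ : DividedPowers ((Ideal.span {x}).map (algebraMap A B)),
      γ.IsDPMorphism δ (algebraMap A B) := by
  have hJ : (Ideal.span {x}).map (algebraMap A B) = Ideal.span {algebraMap A B x} := by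
    rw [Ideal.map_span, Set.image_singleton]
  suffices h : ∀ J : Ideal B, J = Ideal.span {algebraMap A B x} →
      ∃ δ : DividedPowers J, γ.IsDPMorphism δ (algebraMap A B) from h _ hJ
  rintro J rfl
  refine ⟨delta (algebraMap A B) x γ, hJ.le, ?_⟩
  intro n a ha
  obtain ⟨c, rfl⟩ := Ideal.mem_span_singleton'.mp ha
  rw [map_mul]
  show dp (algebraMap A B) x γ n _ = _
  rw [dp_eq, γ.dpow_mul (Ideal.mem_span_singleton_self x), map_mul, map_pow]

end Groth.Agent.H3Dq
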