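import Mathlib
import Groth.Prelude.Def_Disc

namespace Groth.Agent.H3Ds

universe u v

theorem main2216 {A : Type u} {B : Type v} [CommRing A]
    [CommRing B] [Algebra A B] {ι : Type} [Fintype ι] [DecidableEq ι]
    (b : Module.Basis ι A B) (x : B) (hx : x ∈ Disc.differentSet A B) :
    Algebra.norm A x ∈ Ideal.span {Algebra.discr A b} := by
  classical
  choose c hc using fun i => hx (b.coord i)
  let Y : Matrix ι ι A := Matrix.of fun i k => b.repr (c i) k
  have hX : Algebra.leftMulMatrix b x = Y * Algebra.traceMatrix A b := by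
    ext i j
    rw [Algebra.leftMulMatrix_eq_repr_mul, Matrix.mul_apply]
    have h1 := hc i (b j)
    rw [Module.Basis.coord_apply] at h1
    rw [h1]
    conv_lhs => rw [← b.sum_repr (c i)]
    rw [Finset.sum_mul, map_sum]
    refine Finset.sum_congr rfl fun k _ => ?_
    rw [smul_mul_assoc, map_smul, smul_eq_mul, Algebra.traceMatrix_apply,
      Algebra.traceForm_apply]
    rfl
  rw [Algebra.norm_eq_matrix_det b, hX, Matrix.det_mul, Algebra.discr_def]
  exact Ideal.mem_span_singleton'.mpr ⟨Y.det, rfl⟩

end Groth.Agent.H3Ds
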