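import Mathlib
import Groth.Prelude.Def_Disc

open TensorProduct

namespace Groth.Agent.H3Ds

universe u v w

variable {A : Type u} {B : Type v} [CommRing A] [CommRing B] [Algebra A B]

noncomputable def pair (l : Disc.Omega A B) : B ⊗[A] B →ₗ[A] B :=
  TensorProduct.lift ((LinearMap.lsmul A B).comp l.toLinearMap)

theorem pair_tmul (l : Disc.Omega A B) (x y : B) :
    pair l (x ⊗ₜ[A] y) = l.toLinearMap x • y := by
  simp [pair]

def toLMHom : Disc.Omega A B →+ (B →ₗ[A] A) where
  toFun := Disc.Omega.toLinearMap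
  map_zero' := rfl
  map_add' _ _ := rfl

theorem sum_toLinearMap {κ : Type*} (s : Finset κ) (f : κ → Disc.Omega A B) :
    (∑ i ∈ s, f i).toLinearMap = ∑ i ∈ s, (f i).toLinearMap :=
  map_sum toLMHom f s

variable {ι : Type w} [Fintype ι] [DecidableEq ι] (b : Module.Basis ι A B)

noncomputable def dual (i : ι) : Disc.Omega A B := ⟨b.coord i⟩

theorem expand (ξ : B ⊗[A] B) : ξ = ∑ i, b i ⊗ₜ[A] pair (dual b i) ξ := by
  induction ξ using TensorProduct.induction_on with
  | zero => simp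
  | tmul x y =>
    simp only [pair_tmul, dual, Module.Basis.coord_apply]
    conv_lhs => rw [← b.sum_repr x, TensorProduct.sum_tmul]
    refine Finset.sum_congr rfl fun i _ => ?_
    rw [TensorProduct.smul_tmul]
  | add x y hx hy =>
    conv_lhs => rw [hx, hy]
    rw [← Finset.sum_add_distrib]
    refine Finset.sum_congr rfl fun i _ => ?_
    rw [map_add, TensorProduct.tmul_add]

theorem omega_expand (l : Disc.Omega A B) :
    l = ∑ i, algebraMap A B (l.toLinearMap (b i)) • dual b i := by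
  apply Disc.Omega.ext
  apply LinearMap.ext
  intro x
  rw [sum_toLinearMap, LinearMap.sum_apply]
  conv_lhs => rw [← b.sum_repr x, map_sum]
  refine Finset.sum_congr rfl fun i _ => ?_
  rw [Disc.Omega.smul_toLinearMap_apply, map_smul, smul_eq_mul]
  change _ = b.coord i (algebraMap A B (l.toLinearMap (b i)) * x)
  rw [← Algebra.smul_def, map_smul, smul_eq_mul, Module.Basis.coord_apply, mul_comm]

theorem phi_expand (Φ : Disc.Omega A B →ₗ[B] B) (l : Disc.Omega A B) :
    Φ l = ∑ i, l.toLinearMap (b i) • Φ (dual b i) := by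
  conv_lhs => rw [omega_expand b l, map_sum]
  refine Finset.sum_congr rfl fun i _ => ?_
  rw [map_smul, smul_eq_mul, Algebra.smul_def]

noncomputable def xi0 (Φ : Disc.Omega A B →ₗ[B] B) : B ⊗[A] B :=
  ∑ i, b i ⊗ₜ[A] Φ (dual b i)

theorem pair_xi0 (Φ : Disc.Omega A B →ₗ[B] B) (l : Disc.Omega A B) :
    pair l (xi0 b Φ) = Φ l := by
  rw [xi0, map_sum, phi_expand b Φ l]
  refine Finset.sum_congr rfl fun i _ => ?_
  rw [pair_tmul]

theorem xi0_mem (Φ : Disc.Omega A B →ₗ[B] B) :
    xi0 b Φ ∈ Submodule.annihilator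
      (RingHom.ker (Algebra.TensorProduct.lmul' (S := B) A)) := by
  have hker : RingHom.ker (Algebra.TensorProduct.lmul' (S := B) A) =
      Ideal.span (Set.range fun s : B => (1 : B) ⊗ₜ[A] s - s ⊗ₜ[A] (1 : B)) :=
    (KaehlerDifferential.span_range_eq_ideal A B).symm
  rw [hker, Ideal.span, Submodule.mem_annihilator_span]
  rintro ⟨_, s, rfl⟩
  change xi0 b Φ * ((1 : B) ⊗ₜ[A] s - s ⊗ₜ[A] (1 : B)) = 0
  rw [mul_sub, sub_eq_zero, xi0, Finset.sum_mul, Finset.sum_mul]
  simp only [Algebra.TensorProduct.tmul_mul_tmul, mul_one]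
  have h1 : ∀ i, (b i * s) ⊗ₜ[A] Φ (dual b i) =
      ∑ j, b j ⊗ₜ[A] (b.repr (b i * s) j • Φ (dual b i)) := by
    intro i
    conv_lhs => rw [← b.sum_repr (b i * s), TensorProduct.sum_tmul]
    refine Finset.sum_congr rfl fun j _ => ?_
    rw [TensorProduct.smul_tmul]
  simp_rw [h1]
  rw [Finset.sum_comm]
  refine Finset.sum_congr rfl fun j _ => ?_
  rw [← TensorProduct.tmul_sum]
  congr 1
  have h2 := phi_expand b Φ (s • dual b j)
  rw [map_smul, smul_eq_mul] at h2
  rw [mul_comm, h2]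
  refine Finset.sum_congr rfl fun i _ => ?_
  congr 1
  rw [Disc.Omega.smul_toLinearMap_apply, mul_comm]
  rfl

include b in
theorem main2228_aux (Φ : Disc.Omega A B →ₗ[B] B) :
    ∃! ξ : B ⊗[A] B,
      ξ ∈ Submodule.annihilator (RingHom.ker (Algebra.TensorProduct.lmul' (S := B) A)) ∧
        ∀ l : Disc.Omega A B,
          Φ l = TensorProduct.lift ((LinearMap.lsmul A B).comp l.toLinearMap) ξ := by
  refine ⟨xi0 b Φ, ⟨xi0_mem b Φ, fun l => (pair_xi0 b Φ l).symm⟩, ?_⟩
  rintro ξ ⟨-, hξ⟩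
  rw [expand b ξ, xi0]
  refine Finset.sum_congr rfl fun i _ => ?_
  congr 1
  exact (hξ (dual b i)).symm

theorem main2228 {A B : Type u} [CommRing A] [CommRing B] [Algebra A B]
    [Module.Finite A B] [Module.Free A B] (Φ : Disc.Omega A B →ₗ[B] B) :
    ∃! ξ : B ⊗[A] B,
      ξ ∈ Submodule.annihilator (RingHom.ker (Algebra.TensorProduct.lmul' (S := B) A)) ∧
        ∀ l : Disc.Omega A B,
          Φ l = TensorProduct.lift ((LinearMap.lsmul A B).comp l.toLinearMap) ξ := by
  classical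
  exact main2228_aux (Module.Free.chooseBasis A B) Φ

end Groth.Agent.H3Ds
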