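import Mathlib
import Groth.Prelude.Def_Disc
import Groth.Agent.Lib.helper3.DsB

open TensorProduct

namespace Groth.Agent.H3Ds

universe u v w

variable {A : Type u} {B : Type v} [CommRing A] [CommRing B] [Algebra A B]

theorem pair_add (l l' : Disc.Omega A B) (ξ : B ⊗[A] B) :
    pair (l + l') ξ = pair l ξ + pair l' ξ := by
  induction ξ using TensorProduct.induction_on with
  | zero => simp
  | tmul x y =>
    rw [pair_tmul, pair_tmul, pair_tmul, Disc.Omega.add_toLinearMap, LinearMap.add_apply,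
      add_smul]
  | add x y hx hy =>
    rw [map_add, map_add, map_add, hx, hy]
    abel

theorem pair_smul_left (s : B) (l : Disc.Omega A B) (ξ : B ⊗[A] B) :
    pair (s • l) ξ = pair l ((s ⊗ₜ[A] (1 : B)) * ξ) := by
  induction ξ using TensorProduct.induction_on with
  | zero => simp
  | tmul x y =>
    rw [Algebra.TensorProduct.tmul_mul_tmul, pair_tmul, pair_tmul,
      Disc.Omega.smul_toLinearMap_apply, one_mul]
  | add x y hx hy =>
    rw [mul_add, map_add, map_add, hx, hy]

theorem pair_mul_right (s : B) (l : Disc.Omega A B) (ξ : B ⊗[A] B) :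
    pair l (((1 : B) ⊗ₜ[A] s) * ξ) = s * pair l ξ := by
  induction ξ using TensorProduct.induction_on with
  | zero => simp
  | tmul x y =>
    rw [Algebra.TensorProduct.tmul_mul_tmul, pair_tmul, pair_tmul, one_mul, mul_smul_comm]
  | add x y hx hy =>
    rw [mul_add, map_add, map_add, hx, hy, mul_add]

theorem J_comm {ξ : B ⊗[A] B}
    (hξ : ξ ∈ Submodule.annihilator (RingHom.ker (Algebra.TensorProduct.lmul' (S := B) A)))
    (s : B) : (s ⊗ₜ[A] (1 : B)) * ξ = ((1 : B) ⊗ₜ[A] s) * ξ := by
  have hz : (1 : B) ⊗ₜ[A] s - s ⊗ₜ[A] (1 : B) ∈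
      RingHom.ker (Algebra.TensorProduct.lmul' (S := B) A) := by
    rw [RingHom.mem_ker, map_sub, Algebra.TensorProduct.lmul'_apply_tmul,
      Algebra.TensorProduct.lmul'_apply_tmul, one_mul, mul_one, sub_self]
  have h := Submodule.mem_annihilator.mp hξ _ hz
  rw [smul_eq_mul, mul_sub, sub_eq_zero] at h
  rw [mul_comm _ ξ, mul_comm _ ξ]
  exact h.symm

noncomputable def phiOf (ξ : B ⊗[A] B)
    (hξ : ξ ∈ Submodule.annihilator (RingHom.ker (Algebra.TensorProduct.lmul' (S := B) A))) :
    Disc.Omega A B →ₗ[B] B where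
  toFun l := pair l ξ
  map_add' l l' := pair_add l l' ξ
  map_smul' s l := by
    rw [RingHom.id_apply, smul_eq_mul, pair_smul_left, J_comm hξ s, pair_mul_right]

variable {ι : Type w} [Fintype ι] [DecidableEq ι] (b : Module.Basis ι A B)

theorem trace_eq_sum [Module.Free A B] [Module.Finite A B] :
    Disc.Omega.trace A B = ∑ j, b j • dual b j := by
  apply Disc.Omega.ext
  apply LinearMap.ext
  intro x
  rw [sum_toLinearMap, LinearMap.sum_apply]
  change Algebra.trace A B x = _
  rw [Algebra.trace_eq_matrix_trace b, Matrix.trace]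
  refine Finset.sum_congr rfl fun j _ => ?_
  rw [Matrix.diag_apply, Algebra.leftMulMatrix_eq_repr_mul, Disc.Omega.smul_toLinearMap_apply,
    mul_comm]
  rfl

theorem mu_xi0 [Module.Free A B] [Module.Finite A B] (Φ : Disc.Omega A B →ₗ[B] B) :
    Algebra.TensorProduct.lmul' (S := B) A (xi0 b Φ) = Φ (Disc.Omega.trace A B) := by
  rw [trace_eq_sum b, map_sum, xi0, map_sum]
  refine Finset.sum_congr rfl fun j _ => ?_
  rw [Algebra.TensorProduct.lmul'_apply_tmul, map_smul, smul_eq_mul]

include b in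
theorem main2215_aux [Module.Finite A B] [Module.Free A B] :
    (Disc.noetherDifferent A B : Set B) =
      Set.range (fun φ : Disc.Omega A B →ₗ[B] B => φ (Disc.Omega.trace A B)) := by
  have hsurj : Function.Surjective (Algebra.TensorProduct.lmul' (S := B) A) :=
    fun x => ⟨x ⊗ₜ[A] (1 : B), by simp⟩
  ext y
  simp only [SetLike.mem_coe, Set.mem_range]
  rw [Disc.noetherDifferent, Ideal.mem_map_iff_of_surjective _ hsurj]
  constructor
  · rintro ⟨ξ, hξ, rfl⟩
    refine ⟨phiOf ξ hξ, ?_⟩
    rw [← mu_xi0 b (phiOf ξ hξ)]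
    congr 1
    exact (expand b ξ).symm
  · rintro ⟨Φ, rfl⟩
    exact ⟨xi0 b Φ, xi0_mem b Φ, mu_xi0 b Φ⟩

theorem main2215 {A : Type u} {B : Type v} [CommRing A]
    [CommRing B] [Algebra A B] [Module.Finite A B] [Module.Free A B] :
    (Disc.noetherDifferent A B : Set B) =
      Set.range (fun φ : Disc.Omega A B →ₗ[B] B => φ (Disc.Omega.trace A B)) := by
  classical
  exact main2215_aux (Module.Free.chooseBasis A B)

end Groth.Agent.H3Ds
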