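import Mathlib
import Groth.Prelude.Def_Disc

open TensorProduct

namespace Groth.Agent.H3Ds

universe u v

variable {A : Type u} {B : Type v} [CommRing A] [CommRing B] [Algebra A B]

theorem kd_smul_eq (y : B) (w : Ω[B⁄A]) : y • w = (y ⊗ₜ[A] (1 : B)) • w := by
  have h : y ⊗ₜ[A] (1 : B) = y • (1 : B ⊗[A] B) := by
    rw [Algebra.TensorProduct.one_def, TensorProduct.smul_tmul', smul_eq_mul, mul_one]
  rw [h, smul_one_smul]

theorem kd_smul_fromIdeal (y : B) (z : B ⊗[A] B) (hz : z ∈ KaehlerDifferential.ideal A B) :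
    y • KaehlerDifferential.fromIdeal A B ⟨z, hz⟩ = 0 ↔
      (y ⊗ₜ[A] (1 : B)) * z ∈ (KaehlerDifferential.ideal A B) ^ 2 := by
  rw [kd_smul_eq, ← map_smul]
  exact Ideal.toCotangent_eq_zero _ _

theorem mem_ann_iff (y : B) :
    y ∈ Module.annihilator B (Ω[B⁄A]) ↔
      ∀ z ∈ KaehlerDifferential.ideal A B,
        (y ⊗ₜ[A] (1 : B)) * z ∈ (KaehlerDifferential.ideal A B) ^ 2 := by
  rw [Module.mem_annihilator]
  constructor
  · intro h z hz
    exact (kd_smul_fromIdeal y z hz).mp (h _)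
  · intro h w
    obtain ⟨⟨z, hz⟩, rfl⟩ := KaehlerDifferential.fromIdeal_surjective A B w
    exact (kd_smul_fromIdeal y z hz).mpr (h z hz)

theorem lmul'_surj : Function.Surjective (Algebra.TensorProduct.lmul' (S := B) A) :=
  fun x => ⟨x ⊗ₜ[A] (1 : B), by simp⟩

theorem nd_le_ann : Disc.noetherDifferent A B ≤ Module.annihilator B (Ω[B⁄A]) := by
  intro y hy
  rw [Disc.noetherDifferent, Ideal.mem_map_iff_of_surjective _ lmul'_surj] at hy
  obtain ⟨ξ, hξ, rfl⟩ := hy
  rw [mem_ann_iff]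
  intro z hz
  have h0 : ξ * z = 0 := Submodule.mem_annihilator.mp hξ z hz
  have h1 : ξ - (Algebra.TensorProduct.lmul' (S := B) A ξ) ⊗ₜ[A] (1 : B) ∈
      KaehlerDifferential.ideal A B := by
    rw [RingHom.mem_ker, map_sub, Algebra.TensorProduct.lmul'_apply_tmul, mul_one, sub_self]
  have h2 : ((Algebra.TensorProduct.lmul' (S := B) A ξ) ⊗ₜ[A] (1 : B)) * z =
      -((ξ - (Algebra.TensorProduct.lmul' (S := B) A ξ) ⊗ₜ[A] (1 : B)) * z) := by
    rw [sub_mul, h0, zero_sub, neg_neg]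
  rw [h2, pow_two]
  exact neg_mem (Ideal.mul_mem_mul h1 hz)

theorem pow_mem_nd [Algebra.FiniteType A B] {y : B}
    (hy : y ∈ Module.annihilator B (Ω[B⁄A])) :
    ∃ n : ℕ, y ^ n ∈ Disc.noetherDifferent A B := by
  rw [mem_ann_iff] at hy
  have hfg : (KaehlerDifferential.ideal A B).FG := KaehlerDifferential.ideal_fg A B
  haveI : Module.Finite (B ⊗[A] B) (KaehlerDifferential.ideal A B) :=
    Module.Finite.iff_fg.mpr hfg
  have hrange : LinearMap.range (algebraMap (B ⊗[A] B)
      (Module.End (B ⊗[A] B) (KaehlerDifferential.ideal A B)) (y ⊗ₜ[A] (1 : B))) ≤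
      (KaehlerDifferential.ideal A B) •
        (⊤ : Submodule (B ⊗[A] B) (KaehlerDifferential.ideal A B)) := by
    rintro _ ⟨⟨z, hz⟩, rfl⟩
    rw [Submodule.mem_smul_top_iff]
    have h3 := hy z hz
    rw [pow_two] at h3
    exact h3
  obtain ⟨p, hmonic, -, hcoeff, hp⟩ :=
    LinearMap.exists_monic_and_natDegree_eq_and_coeff_mem_pow_and_aeval_eq_zero (B ⊗[A] B)
      _ (KaehlerDifferential.ideal A B) hrange
  rw [Polynomial.aeval_algebraMap_apply, Polynomial.coe_aeval_eq_eval] at hp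
  have he : p.eval (y ⊗ₜ[A] (1 : B)) ∈ Submodule.annihilator (KaehlerDifferential.ideal A B) := by
    rw [Submodule.mem_annihilator]
    intro z hz
    have h4 := LinearMap.congr_fun hp ⟨z, hz⟩
    exact congrArg Subtype.val h4
  refine ⟨p.natDegree, ?_⟩
  have hmu : Algebra.TensorProduct.lmul' (S := B) A (p.eval (y ⊗ₜ[A] (1 : B))) =
      y ^ p.natDegree := by
    rw [Polynomial.eval_eq_sum_range, map_sum, Finset.sum_range_succ, hmonic.coeff_natDegree,
      one_mul, map_pow, Algebra.TensorProduct.lmul'_apply_tmul, mul_one]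
    rw [Finset.sum_eq_zero, zero_add]
    intro i hi
    have hi' : i < p.natDegree := Finset.mem_range.mp hi
    have h5 : p.coeff i ∈ KaehlerDifferential.ideal A B :=
      Ideal.pow_le_self (by omega) (hcoeff i)
    rw [map_mul, RingHom.mem_ker.mp h5, zero_mul]
  rw [← hmu, Disc.noetherDifferent]
  exact Ideal.mem_map_of_mem _ he

theorem main2196 [Algebra.FiniteType A B] :
    {q : PrimeSpectrum B | Disc.noetherDifferent A B ≤ q.asIdeal} =
      (Algebra.unramifiedLocus A B)ᶜ := by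
  rw [Algebra.unramifiedLocus_eq_compl_support, compl_compl, Module.support_eq_zeroLocus]
  ext q
  simp only [Set.mem_ofPred_eq, PrimeSpectrum.mem_zeroLocus, SetLike.coe_subset_coe]
  constructor
  · intro h y hy
    obtain ⟨n, hn⟩ := pow_mem_nd hy
    exact q.2.mem_of_pow_mem n (h hn)
  · intro h
    exact nd_le_ann.trans h

end Groth.Agent.H3Ds
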