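import Mathlib
import Groth.Prelude.Def_Disc
import Groth.Agent.Lib.helper3.DsC

open TensorProduct

namespace Groth.Agent.H3Ds

universe u v

theorem rank_one_identity {R : Type u} {M : Type v} [CommRing R] [AddCommGroup M] [Module R M]
    [Module.Invertible R M] (Φ : M →ₗ[R] R) (m m' : M) : Φ m • m' = Φ m' • m := by
  obtain ⟨s, hs, hfree⟩ := Module.Invertible.exists_finset_free_localization (R := R) (M := M)
  rw [← sub_eq_zero]
  have hmem : Φ m • m' - Φ m' • m ∈ (⊥ : Submodule R M) := by
    apply Submodule.mem_of_span_eq_top_of_smul_pow_mem (⊥ : Submodule R M) (s : Set R) hs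
    rintro ⟨r, hr⟩
    haveI := hfree r hr
    obtain ⟨e⟩ := (Module.Invertible.free_iff_linearEquiv (R := Localization.Away r)
      (M := LocalizedModule.Away r M)).mp inferInstance
    let ι := LocalizedModule.mkLinearMap (Submonoid.powers r) M
    let Φ' : LocalizedModule.Away r M →ₗ[Localization.Away r] Localization.Away r :=
      LinearMap.extendScalarsOfIsLocalization (Submonoid.powers r) _
        (IsLocalizedModule.map (Submonoid.powers r) ι (Algebra.linearMap R (Localization.Away r)) Φ)
    have hΦ' : ∀ x : M, Φ' (ι x) = algebraMap R (Localization.Away r) (Φ x) := by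
      intro x
      exact IsLocalizedModule.map_apply (Submonoid.powers r) ι
        (Algebra.linearMap R (Localization.Away r)) Φ x
    have hgen : ∀ a : LocalizedModule.Away r M, a = e a • e.symm 1 := by
      intro a
      rw [← map_smul, smul_eq_mul, mul_one, e.symm_apply_apply]
    have hsym : ∀ a b : LocalizedModule.Away r M, Φ' a • b = Φ' b • a := by
      intro a b
      have ha := hgen a
      have hb := hgen b
      have h1 : Φ' a = e a * Φ' (e.symm 1) := by
        conv_lhs => rw [ha, map_smul, smul_eq_mul]
      have h2 : Φ' b = e b * Φ' (e.symm 1) := by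
        conv_lhs => rw [hb, map_smul, smul_eq_mul]
      rw [h1, h2]
      conv_lhs => rw [hb, smul_smul]
      conv_rhs => rw [ha, smul_smul]
      congr 1
      ring
    have h3 := hsym (ι m) (ι m')
    rw [hΦ', hΦ', algebraMap_smul, algebraMap_smul, ← map_smul, ← map_smul] at h3
    obtain ⟨⟨_, n, rfl⟩, hn⟩ := IsLocalizedModule.exists_of_eq (S := Submonoid.powers r) h3
    refine ⟨n, ?_⟩
    rw [Submodule.mem_bot, smul_sub, sub_eq_zero]
    exact hn
  simpa using hmem

variable {A : Type u} {B : Type u} [CommRing A] [CommRing B] [Algebra A B]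

theorem main2221 [Module.Finite A B] [Module.Free A B]
    [Module.Invertible B (Disc.Omega A B)] :
    Disc.differentSet A B = (Disc.noetherDifferent A B : Set B) := by
  have hnd := main2215 (A := A) (B := B)
  ext x
  constructor
  · intro hx
    have key : ∀ t : Module.Dual B (Disc.Omega A B) ⊗[B] (Disc.Omega A B),
        contractLeft B (Disc.Omega A B) t * x ∈ Disc.noetherDifferent A B := by
      intro t
      induction t using TensorProduct.induction_on with
      | zero => simp
      | tmul Φ φ =>
        obtain ⟨c, hc⟩ := hx φ.toLinearMap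
        have h1 : x • φ = c • Disc.Omega.trace A B := by
          apply Disc.Omega.ext
          apply LinearMap.ext
          intro y
          exact hc y
        have h2 : Φ (Disc.Omega.trace A B) ∈ (Disc.noetherDifferent A B : Set B) := by
          rw [hnd]
          exact ⟨Φ, rfl⟩
        have h3 : contractLeft B (Disc.Omega A B) (Φ ⊗ₜ[B] φ) * x = c * Φ (Disc.Omega.trace A B) := by
          rw [contractLeft_apply, mul_comm, ← smul_eq_mul, ← map_smul, h1, map_smul, smul_eq_mul]
        rw [h3]
        exact Ideal.mul_mem_left _ c h2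
      | add t t' ht ht' =>
        rw [map_add, add_mul]
        exact add_mem ht ht'
    obtain ⟨t, ht⟩ := (Module.Invertible.bijective (R := B) (M := Disc.Omega A B)).2 1
    have h4 := key t
    rw [ht, one_mul] at h4
    exact h4
  · intro hx
    have hx' : x ∈ (Disc.noetherDifferent A B : Set B) := hx
    rw [hnd] at hx'
    obtain ⟨Φ, rfl⟩ := hx'
    intro φ
    refine ⟨Φ ⟨φ⟩, fun y => ?_⟩
    have h5 := rank_one_identity Φ (Disc.Omega.trace A B) ⟨φ⟩
    have h6 := congrArg (fun l : Disc.Omega A B => l.toLinearMap y) h5
    exact h6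

end Groth.Agent.H3Ds
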