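import Mathlib
universe u
namespace Groth.Agent.H3Dv

theorem main19383 (V : Type u) [CommRing V] [IsDomain V] [IsDiscreteValuationRing V] [HenselianLocalRing V]
    (B : Type u) [CommRing B] [Algebra V B] [IsNoetherianRing B] :
    Module.Flat V B ↔
      Module.Flat V (AdicCompletion ((IsLocalRing.maximalIdeal V).map (algebraMap V B)) B) := by
  obtain ⟨I, hI⟩ : ∃ I, I = (IsLocalRing.maximalIdeal V).map (algebraMap V B) := ⟨_, rfl⟩
  rw [← hI]
  constructor
  · intro h
    exact Module.Flat.trans V B (AdicCompletion I B)
  · intro h
    obtain ⟨ϖ, hϖ⟩ := IsDiscreteValuationRing.exists_irreducible V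
    have hIs : I = Ideal.span {algebraMap V B ϖ} := by
      rw [hI, hϖ.maximalIdeal_eq, Ideal.map_span, Set.image_singleton]
    haveI : Module.IsTorsionFree V B := by
      refine Module.IsTorsionFree.of_smul_eq_zero (fun r m hrm => ?_)
      by_cases hr : r = 0
      · exact Or.inl hr
      right
      have h1 : AdicCompletion.of I B m = 0 := by
        have : r • AdicCompletion.of I B m = 0 := by
          rw [← LinearMap.map_smul_of_tower, hrm, map_zero]
        exact (smul_eq_zero.mp this).resolve_left hr
      have h2 : m ∈ (⨅ i : ℕ, I ^ i • ⊤ : Submodule B B) := by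
        rw [Submodule.mem_iInf]
        intro n
        have := AdicCompletion.eval_of I B n m
        rw [h1, map_zero] at this
        exact (Submodule.Quotient.mk_eq_zero _).mp this.symm
      obtain ⟨⟨x, hx⟩, hxm⟩ := (Ideal.mem_iInf_smul_pow_eq_bot_iff I m).mp h2
      obtain ⟨n, u, rfl⟩ := IsDiscreteValuationRing.eq_unit_mul_pow_irreducible hr hϖ
      rw [hIs, Ideal.mem_span_singleton'] at hx
      obtain ⟨b, rfl⟩ := hx
      have h3 : (algebraMap V B ϖ) ^ n * m = 0 := by
        have : (u : V) • (ϖ ^ n • m) = 0 := by rw [smul_smul]; exact hrm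
        have h4 : ϖ ^ n • m = 0 := by
          have := congrArg (fun z => ((u⁻¹ : Vˣ) : V) • z) this
          simpa [smul_smul] using this
        rw [Algebra.smul_def, map_pow] at h4
        exact h4
      have h5 : ∀ k : ℕ, (b * algebraMap V B ϖ) ^ k * m = m := by
        intro k
        induction k with
        | zero => simp
        | succ k ih =>
          rw [pow_succ, mul_assoc]
          simp only [smul_eq_mul] at hxm
          rw [hxm, ih]
      rw [← h5 n, mul_pow, mul_assoc, h3, mul_zero]
    infer_instance

end Groth.Agent.H3Dv
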