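import Mathlib
set_option autoImplicit false
universe u
open TensorProduct

namespace Groth.Agent.H3Epi


theorem bijective_of_faithfullyFlat_of_isEpi (R S : Type*) [CommRing R] [CommRing S] [Algebra R S]
    [Module.FaithfullyFlat R S] [Algebra.IsEpi R S] : Function.Bijective (algebraMap R S) := by
  have hμ := Algebra.IsEpi.injective_lift_mul (R := R) (A := S)
  set μ : S ⊗[R] S →ₗ[R] S := TensorProduct.lift (LinearMap.mul R S) with hμdef
  set g : S ⊗[R] R →ₗ[R] S ⊗[R] S := (Algebra.linearMap R S).lTensor S with hg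
  have hcomp : μ ∘ₗ g = (TensorProduct.rid R S).toLinearMap := by
    apply TensorProduct.ext'
    intro s r
    simp [μ, g, Algebra.smul_def, mul_comm]
  have hbij : Function.Bijective (μ ∘ₗ g) := by
    rw [hcomp]; exact (TensorProduct.rid R S).bijective
  have hgbij : Function.Bijective g := by
    constructor
    · intro x y hxy
      apply hbij.1
      simp only [LinearMap.comp_apply, hxy]
    · intro y
      obtain ⟨x, hx⟩ := hbij.2 (μ y)
      exact ⟨x, hμ hx⟩
  have := (Module.FaithfullyFlat.lTensor_bijective_iff_bijective R S (Algebra.linearMap R S)).1 hgbij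
  exact this

theorem isEpi_over_field (k S : Type*) [Field k] [CommRing S] [Algebra k S] [Algebra.IsEpi k S] :
    Subsingleton S ∨ Function.Bijective (algebraMap k S) := by
  rcases subsingleton_or_nontrivial S with h | h
  · exact Or.inl h
  · exact Or.inr (bijective_of_faithfullyFlat_of_isEpi k S)



theorem isEpi_iff_linear (R S : Type u) [CommRing R] [CommRing S] [Algebra R S] :
    Algebra.IsEpi R S ↔
      ∀ (N₁ N₂ : Type u) [AddCommGroup N₁] [Module S N₁] [Module R N₁] [IsScalarTower R S N₁]
        [AddCommGroup N₂] [Module S N₂] [Module R N₂] [IsScalarTower R S N₂] (φ : N₁ →ₗ[R] N₂),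
        ∀ (s : S) (x : N₁), φ (s • x) = s • φ x := by
  constructor
  · intro h N₁ N₂ _ _ _ _ _ _ _ _ φ s x
    let B : S →ₗ[R] S →ₗ[R] N₂ := LinearMap.mk₂ R (fun a t => a • φ (t • x))
      (fun a b t => add_smul a b _)
      (fun r a t => smul_assoc r a _)
      (fun a t t' => by simp only [add_smul, map_add, smul_add])
      (fun r a t => by
        simp only [smul_assoc, map_smul]
        rw [smul_comm])
    have h1 := (Algebra.isEpi_iff_forall_one_tmul_eq R S).1 h s
    have h2 := congrArg (TensorProduct.lift B) h1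
    simp only [TensorProduct.lift.tmul, B, LinearMap.mk₂_apply, one_smul] at h2
    exact h2
  · intro h
    rw [Algebra.isEpi_iff_forall_one_tmul_eq]
    intro s
    have := h S (S ⊗[R] S) (TensorProduct.mk R S S 1) s 1
    simp only [TensorProduct.mk_apply, smul_eq_mul, mul_one] at this
    rw [this, TensorProduct.smul_tmul', smul_eq_mul, mul_one]



theorem isEpi_baseChange (R R' S : Type*) [CommRing R] [CommRing R'] [CommRing S]
    [Algebra R R'] [Algebra R S] [Algebra.IsEpi R S] : Algebra.IsEpi R' (R' ⊗[R] S) := by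
  rw [Algebra.isEpi_iff_forall_one_tmul_eq]
  let ι : S →ₗ[R] R' ⊗[R] S := TensorProduct.mk R R' S 1
  let ψ : S ⊗[R] S →ₗ[R] (R' ⊗[R] S) ⊗[R'] (R' ⊗[R] S) :=
    TensorProduct.lift (LinearMap.mk₂ R (fun s t => (ι s) ⊗ₜ[R'] (ι t))
      (fun a b t => by rw [map_add, add_tmul])
      (fun r a t => by rw [map_smul, TensorProduct.smul_tmul'])
      (fun a t t' => by rw [map_add, tmul_add])
      (fun r a t => by rw [map_smul, TensorProduct.tmul_smul]))
  have hψ : ∀ s t : S, ψ (s ⊗ₜ[R] t) = (ι s) ⊗ₜ[R'] (ι t) := fun s t => by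
    simp only [ψ, TensorProduct.lift.tmul, LinearMap.mk₂_apply]
  have hι1 : ι 1 = (1 : R' ⊗[R] S) := rfl
  have key : ∀ s : S, (1 : R' ⊗[R] S) ⊗ₜ[R'] (ι s) = (ι s) ⊗ₜ[R'] (1 : R' ⊗[R] S) := by
    intro s
    have h1 := (Algebra.isEpi_iff_forall_one_tmul_eq R S).1 inferInstance s
    have h2 := congrArg ψ h1
    rw [hψ, hψ, hι1] at h2
    exact h2
  intro x
  induction x using TensorProduct.induction_on with
  | zero => rw [tmul_zero, zero_tmul]
  | tmul a s =>
    have : a ⊗ₜ[R] s = a • ι s := by
      simp only [ι, TensorProduct.mk_apply, TensorProduct.smul_tmul', smul_eq_mul, mul_one]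
    rw [this, TensorProduct.tmul_smul, ← TensorProduct.smul_tmul', key]
  | add x y hx hy => rw [tmul_add, add_tmul, hx, hy]


theorem comap_injective_of_isEpi (R S : Type u) [CommRing R] [CommRing S] [Algebra R S]
    [Algebra.IsEpi R S] :
    Function.Injective (PrimeSpectrum.comap (algebraMap R S)) ∧
      ∀ (p : Ideal R) [p.IsPrime],
        Subsingleton (p.Fiber S) ∨ Function.Bijective (algebraMap p.ResidueField (p.Fiber S)) := by
  have part2 : ∀ (p : Ideal R) [p.IsPrime],
      Subsingleton (p.Fiber S) ∨ Function.Bijective (algebraMap p.ResidueField (p.Fiber S)) := by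
    intro p _
    have : Algebra.IsEpi p.ResidueField (p.Fiber S) := isEpi_baseChange R p.ResidueField S
    exact isEpi_over_field p.ResidueField (p.Fiber S)
  refine ⟨?_, part2⟩
  intro q₁ q₂ h
  set p := PrimeSpectrum.comap (algebraMap R S) q₁ with hp
  have hsub : Subsingleton (PrimeSpectrum (p.asIdeal.Fiber S)) := by
    rcases part2 p.asIdeal with h1 | h1
    · exact ⟨fun a b => (a.isPrime.ne_top (Ideal.eq_top_of_isUnit_mem _ (Submodule.zero_mem _)
        (by rw [Subsingleton.elim (0 : p.asIdeal.Fiber S) 1]; exact isUnit_one))).elim⟩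
    · refine ⟨fun a b => ?_⟩
      have hbot : ∀ c : PrimeSpectrum (p.asIdeal.Fiber S), c.asIdeal = ⊥ := by
        intro c
        rw [eq_bot_iff]
        intro x hx
        obtain ⟨y, rfl⟩ := h1.2 x
        by_contra hne
        have hy : y ≠ 0 := by
          intro hy; apply hne; rw [hy, map_zero]; exact Submodule.zero_mem _
        have hu : IsUnit (algebraMap p.asIdeal.ResidueField (p.asIdeal.Fiber S) y) :=
          (IsUnit.mk0 y hy).map _
        exact c.isPrime.ne_top (Ideal.eq_top_of_isUnit_mem _ hx hu)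
      ext1
      rw [hbot a, hbot b]
  let e := PrimeSpectrum.preimageEquivFiber R S p
  have h1 : q₁ ∈ PrimeSpectrum.comap (algebraMap R S) ⁻¹' {p} := rfl
  have h2 : q₂ ∈ PrimeSpectrum.comap (algebraMap R S) ⁻¹' {p} := h.symm
  have := e.injective (Subsingleton.elim (e ⟨q₁, h1⟩) (e ⟨q₂, h2⟩))
  exact congrArg Subtype.val this

end Groth.Agent.H3Epi
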