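import Mathlib
set_option autoImplicit false

namespace Groth.Agent.H3RootD

/-- Farkas' lemma over an ordered field, in the form for linear functionals. -/
theorem farkas_functional {K V κ : Type*} [Field K] [LinearOrder K] [IsStrictOrderedRing K]
    [AddCommGroup V] [Module K V] [DecidableEq κ] (s : Finset κ) :
    ∀ (lam : κ → V →ₗ[K] K) (mu : V →ₗ[K] K),
      (∀ x : V, (∀ i ∈ s, 0 ≤ lam i x) → 0 ≤ mu x) →
      ∃ c : κ → K, (∀ i, 0 ≤ c i) ∧ mu = ∑ i ∈ s, c i • lam i := by
  induction s using Finset.induction_on with
  | empty =>
    intro lam mu h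
    refine ⟨fun _ => 0, fun _ => le_refl _, ?_⟩
    rw [Finset.sum_empty]
    ext x
    have h1 := h x (by simp)
    have h2 := h (-x) (by simp)
    rw [map_neg] at h2
    simp only [LinearMap.zero_apply]
    linarith
  | insert a s ha ih =>
    intro lam mu h
    by_cases hcase : ∀ x : V, (∀ i ∈ s, 0 ≤ lam i x) → 0 ≤ mu x
    · obtain ⟨c, hc0, hc⟩ := ih lam mu hcase
      refine ⟨Function.update c a 0, fun i => ?_, ?_⟩
      · by_cases hia : i = a
        · rw [hia, Function.update_self]
        · rw [Function.update_of_ne hia]; exact hc0 i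
      · rw [Finset.sum_insert ha, Function.update_self, zero_smul, zero_add, hc]
        refine Finset.sum_congr rfl fun i hi => ?_
        rw [Function.update_of_ne (fun h => ha (by rw [h] at hi; exact hi))]
    · push Not at hcase
      obtain ⟨x₀, hx₀, hmu₀⟩ := hcase
      have hla : lam a x₀ < 0 := by
        by_contra hn
        push Not at hn
        have := h x₀ (fun i hi => by
          rcases Finset.mem_insert.mp hi with rfl | hi'
          · exact hn
          · exact hx₀ i hi')
        linarith
      set t : K := -(lam a x₀)⁻¹ with ht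
      have htpos : 0 < t := by
        rw [ht, neg_pos, inv_lt_zero]; exact hla
      set x₁ : V := t • x₀ with hx₁
      have hax₁ : lam a x₁ = -1 := by
        rw [hx₁, map_smul, smul_eq_mul, ht, neg_mul, inv_mul_cancel₀ hla.ne]
      have hix₁ : ∀ i ∈ s, 0 ≤ lam i x₁ := by
        intro i hi
        rw [hx₁, map_smul, smul_eq_mul]
        exact mul_nonneg htpos.le (hx₀ i hi)
      have hmux₁ : mu x₁ < 0 := by
        rw [hx₁, map_smul, smul_eq_mul]
        exact mul_neg_of_pos_of_neg htpos hmu₀
      have hih := ih (fun i => lam i + (lam i x₁) • lam a) (mu + (mu x₁) • lam a) (by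
        intro x hx
        have hz := h (x + (lam a x) • x₁) (by
          intro i hi
          rcases Finset.mem_insert.mp hi with rfl | hi'
          · rw [map_add, map_smul, smul_eq_mul, hax₁]; linarith
          · have := hx i hi'
            simp only [LinearMap.add_apply, LinearMap.smul_apply, smul_eq_mul] at this
            rw [map_add, map_smul, smul_eq_mul]
            linarith [mul_comm (lam a x) (lam i x₁)])
        rw [map_add, map_smul, smul_eq_mul] at hz
        simp only [LinearMap.add_apply, LinearMap.smul_apply, smul_eq_mul]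
        linarith [mul_comm (lam a x) (mu x₁)])
      obtain ⟨c, hc0, hc⟩ := hih
      refine ⟨Function.update c a (∑ i ∈ s, c i * lam i x₁ - mu x₁), fun i => ?_, ?_⟩
      · by_cases hia : i = a
        · rw [hia, Function.update_self]
          have : 0 ≤ ∑ i ∈ s, c i * lam i x₁ :=
            Finset.sum_nonneg fun i hi => mul_nonneg (hc0 i) (hix₁ i hi)
          linarith
        · rw [Function.update_of_ne hia]; exact hc0 i
      · rw [Finset.sum_insert ha, Function.update_self]
        have hsum : ∑ i ∈ s, Function.update c a (∑ i ∈ s, c i * lam i x₁ - mu x₁) i • lam i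
            = ∑ i ∈ s, c i • lam i := by
          refine Finset.sum_congr rfl fun i hi => ?_
          rw [Function.update_of_ne (fun h => ha (by rw [h] at hi; exact hi))]
        rw [hsum]
        have hc' : mu = ∑ i ∈ s, c i • (lam i + lam i x₁ • lam a) - (mu x₁) • lam a := by
          rw [← hc]; abel
        have e1 : ∑ i ∈ s, c i • (lam i + lam i x₁ • lam a)
            = ∑ i ∈ s, c i • lam i + (∑ i ∈ s, c i * lam i x₁) • lam a := by
          rw [Finset.sum_smul, ← Finset.sum_add_distrib]
          refine Finset.sum_congr rfl fun i _ => ?_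
          rw [smul_add, smul_smul]
        rw [e1] at hc'
        ext x
        have hx := congrArg (fun f => f x) hc'
        simp only [LinearMap.sub_apply, LinearMap.add_apply, LinearMap.smul_apply, smul_eq_mul] at hx ⊢
        rw [hx]
        ring

end Groth.Agent.H3RootD

namespace Groth.Agent.H3RootD
open RootPairing

theorem base_ext {ι R M N : Type*} [CommRing R] [AddCommGroup M] [Module R M]
    [AddCommGroup N] [Module R N] {P : RootPairing ι R M N} (b b' : P.Base)
    (h : b.support = b'.support) : b = b' := by
  cases b; cases b'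
  simp only at h
  subst h
  rfl

theorem finite_base {ι R M N : Type*} [CommRing R] [AddCommGroup M] [Module R M]
    [AddCommGroup N] [Module R N] [Finite ι] (P : RootPairing ι R M N) : Finite P.Base :=
  Finite.of_injective (fun b : P.Base => b.support) (fun b b' h => base_ext b b' h)

/-- Criterion for membership in the convex hull of finitely many points, via Farkas' lemma. -/
theorem mem_convexHull_of_forall_exists {ι R M N : Type*} [Field R] [LinearOrder R]
    [IsStrictOrderedRing R] [AddCommGroup M] [Module R M] [AddCommGroup N] [Module R N]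
    (P : RootPairing ι R M N) {κ : Type*} [Finite κ] (C : Set κ) (v : κ → N) (y : N)
    (h : ∀ ξ : M, ∃ i ∈ C, P.toLinearMap ξ (v i) ≤ P.toLinearMap ξ y) :
    y ∈ convexHull R (v '' C) := by
  classical
  have := Fintype.ofFinite κ
  let lam : κ → (M × R) →ₗ[R] R := fun i => (P.toLinearMap.flip (v i)).coprod LinearMap.id
  let mu : (M × R) →ₗ[R] R := (P.toLinearMap.flip y).coprod LinearMap.id
  obtain ⟨c, hc0, hc⟩ := farkas_functional (C.toFinset) lam mu (by
    intro x hx
    obtain ⟨i, hi, hle⟩ := h x.1
    have := hx i (by rw [Set.mem_toFinset]; exact hi)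
    simp only [lam, mu, LinearMap.coprod_apply, LinearMap.flip_apply, LinearMap.id_apply] at this ⊢
    linarith)
  have h1 : ∑ i ∈ C.toFinset, c i = 1 := by
    have := congrArg (fun f => f ((0 : M), (1 : R))) hc
    simp only [lam, mu, LinearMap.coprod_apply, LinearMap.flip_apply, LinearMap.id_apply,
      LinearMap.sum_apply, LinearMap.smul_apply, map_zero, zero_add,
      smul_eq_mul, mul_one] at this
    exact this.symm
  have h2 : y = ∑ i ∈ C.toFinset, c i • v i := by
    apply P.flip.toPerfPair.injective
    ext ξ
    have := congrArg (fun f => f (ξ, (0 : R))) hc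
    simp only [lam, mu, LinearMap.coprod_apply, LinearMap.flip_apply, LinearMap.id_apply,
      LinearMap.sum_apply, LinearMap.smul_apply, add_zero, smul_eq_mul] at this
    change P.toLinearMap ξ y = P.toLinearMap ξ (∑ i ∈ C.toFinset, c i • v i)
    rw [this, map_sum]
    refine Finset.sum_congr rfl fun i _ => ?_
    rw [map_smul, smul_eq_mul]
  rw [h2]
  refine (convex_convexHull R _).sum_mem (fun i _ => hc0 i) h1 (fun i hi => ?_)
  rw [Set.mem_toFinset] at hi
  exact subset_convexHull R _ ⟨i, hi, rfl⟩

end Groth.Agent.H3RootD
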