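import Mathlib

set_option autoImplicit false
universe u v w
open TensorProduct

namespace Groth.Agent.H3Fb

section
variable {A : Type u} (B : Type v) [CommRing A] [CommRing B] [Algebra A B]
  {M : Type w} {N : Type w} [AddCommGroup M] [Module A M] [AddCommGroup N] [Module A N]

theorem range_baseChange (f : M →ₗ[A] N) :
    LinearMap.range (f.baseChange B) = (LinearMap.range f).baseChange B := by
  apply le_antisymm
  · rintro _ ⟨t, rfl⟩
    induction t using TensorProduct.induction_on with
    | zero => simp
    | add x y hx hy => rw [map_add]; exact Submodule.add_mem _ hx hy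
    | tmul b m =>
      rw [LinearMap.baseChange_tmul]
      exact Submodule.tmul_mem_baseChange_of_mem b ⟨m, rfl⟩
  · rw [Submodule.baseChange_eq_span, Submodule.span_le]
    rintro _ ⟨_, ⟨m, rfl⟩, rfl⟩
    exact ⟨(1 : B) ⊗ₜ m, by simp⟩

theorem map_baseChange (f : M →ₗ[A] N) (X : Submodule A M) :
    (X.baseChange B).map (f.baseChange B) = (X.map f).baseChange B := by
  rw [Submodule.baseChange_eq_span, Submodule.baseChange_eq_span, Submodule.map_span]
  congr 1
  ext y
  constructor
  · rintro ⟨_, ⟨x, hx, rfl⟩, rfl⟩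
    exact ⟨f x, ⟨x, hx, rfl⟩, by simp⟩
  · rintro ⟨_, ⟨x, hx, rfl⟩, rfl⟩
    exact ⟨(1 : B) ⊗ₜ x, ⟨x, hx, rfl⟩, by simp⟩

theorem smul_top_baseChange (I : Ideal A) :
    (I • (⊤ : Submodule A N)).baseChange B =
      (I.map (algebraMap A B)) • (⊤ : Submodule B (B ⊗[A] N)) := by
  apply le_antisymm
  · rw [Submodule.baseChange_eq_span, Submodule.span_le]
    rintro _ ⟨y, hy, rfl⟩
    refine Submodule.smul_induction_on hy (fun a ha n _ => ?_) (fun x z hx hz => ?_)
    · have : TensorProduct.mk A B N 1 (a • n) = algebraMap A B a • ((1 : B) ⊗ₜ[A] n) := by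
        simp only [TensorProduct.mk_apply, TensorProduct.tmul_smul]
        rw [algebraMap_smul]
      rw [this]
      exact Submodule.smul_mem_smul (Ideal.mem_map_of_mem _ ha) trivial
    · rw [map_add]
      exact Submodule.add_mem _ hx hz
  · rw [Submodule.smul_le]
    rintro b hb y -
    rw [Ideal.map] at hb
    induction hb using Submodule.span_induction with
    | mem c hc =>
      obtain ⟨a, ha, rfl⟩ := hc
      induction y using TensorProduct.induction_on with
      | zero => simp
      | add x z hx hz => rw [smul_add]; exact Submodule.add_mem _ hx hz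
      | tmul b' n =>
        rw [algebraMap_smul, ← TensorProduct.tmul_smul]
        exact Submodule.tmul_mem_baseChange_of_mem b' (Submodule.smul_mem_smul ha trivial)
    | zero => simp
    | add c d _ _ hc hd => rw [add_smul]; exact Submodule.add_mem _ hc hd
    | smul c d _ hd => rw [smul_eq_mul, mul_smul]; exact Submodule.smul_mem _ c hd

theorem baseChange_inf [Module.Flat A B] (p q : Submodule A N) :
    (p ⊓ q).baseChange B = p.baseChange B ⊓ q.baseChange B := by
  apply le_antisymm
  · exact le_inf (Submodule.baseChange_mono B inf_le_left) (Submodule.baseChange_mono B inf_le_right)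
  · rintro x ⟨hxp, hxq⟩
    obtain ⟨t, rfl⟩ := hxp
    have hq0 : ∀ z ∈ q.baseChange B, (q.mkQ.baseChange B) z = 0 := by
      rintro _ ⟨s, rfl⟩
      rw [← LinearMap.comp_apply, ← LinearMap.baseChange_comp]
      have : q.mkQ ∘ₗ q.subtype = 0 := by
        refine LinearMap.ext fun y => ?_
        simp
      rw [this, LinearMap.baseChange_zero, LinearMap.zero_apply]
    set g : p →ₗ[A] N ⧸ q := q.mkQ ∘ₗ p.subtype with hg
    have hgt : (g.lTensor B) t = 0 := by
      have h1 := hq0 _ hxq
      rw [← LinearMap.comp_apply, ← LinearMap.baseChange_comp] at h1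
      rw [← LinearMap.baseChange_eq_ltensor]
      exact h1
    have hex := Module.Flat.lTensor_exact B (LinearMap.exact_subtype_ker_map g)
    obtain ⟨t', ht'⟩ := (hex t).mp hgt
    -- the map ker g → p ⊓ q
    let ι : LinearMap.ker g →ₗ[A] (p ⊓ q : Submodule A N) :=
      LinearMap.codRestrict (p ⊓ q) (p.subtype ∘ₗ (LinearMap.ker g).subtype) (by
        intro k
        refine ⟨k.1.2, ?_⟩
        have : q.mkQ (p.subtype k.1) = 0 := k.2
        rw [Submodule.mkQ_apply, Submodule.Quotient.mk_eq_zero] at this
        exact this)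
    have hι : (p ⊓ q).subtype ∘ₗ ι = p.subtype ∘ₗ (LinearMap.ker g).subtype := rfl
    refine ⟨(ι.baseChange B) t', ?_⟩
    rw [← LinearMap.comp_apply, ← LinearMap.baseChange_comp, hι, LinearMap.baseChange_comp,
      LinearMap.comp_apply]
    congr 1

end

theorem main6911 {A B : Type u} [CommRing A] [CommRing B]
    [Algebra A B] [Module.Flat A B] (I : Ideal A) {M N : Type u} [AddCommGroup M] [Module A M]
    [AddCommGroup N] [Module A N] (f : M →ₗ[A] N) (c : ℕ)
    (hf : (∀ n : ℕ, c ≤ n → LinearMap.range f ⊓ (I ^ n • (⊤ : Submodule A N)) ≤ Submodule.map f (I ^ (n - c) • (⊤ : Submodule A M)))) :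
    ∀ n : ℕ, c ≤ n →
      LinearMap.range (f.baseChange B) ⊓ ((I.map (algebraMap A B)) ^ n • (⊤ : Submodule B (B ⊗[A] N))) ≤
        Submodule.map (f.baseChange B) ((I.map (algebraMap A B)) ^ (n - c) • (⊤ : Submodule B (B ⊗[A] M))) := by
  intro n hn
  rw [range_baseChange, ← Ideal.map_pow, ← Ideal.map_pow, ← smul_top_baseChange, ← smul_top_baseChange,
    ← baseChange_inf, map_baseChange]
  exact Submodule.baseChange_mono B (hf n hn)

end Groth.Agent.H3Fb
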