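import Mathlib
import Groth.Agent.Lib.helper3.FcA

open TensorProduct

namespace Groth.Agent.H3Fd

universe u

section loc
variable (k A : Type u) [Field k] [CommRing A] [Algebra k A] [Module.Finite k A] [IsLocalRing A]
  (Ω : Type u) [Field Ω] [Algebra k Ω]

include k in
theorem ker_eq (f : A →ₐ[k] Ω) : RingHom.ker f.toRingHom = IsLocalRing.maximalIdeal A := by
  haveI : IsArtinianRing A := IsArtinianRing.of_finite k A
  haveI : (RingHom.ker f.toRingHom).IsPrime := RingHom.ker_isPrime _
  haveI : (RingHom.ker f.toRingHom).IsMaximal := inferInstance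
  exact IsLocalRing.eq_maximalIdeal inferInstance

noncomputable def phi (g : IsLocalRing.ResidueField A →ₐ[k] Ω) : A →ₐ[k] Ω :=
  g.comp (IsScalarTower.toAlgHom k A (IsLocalRing.ResidueField A))

theorem phi_bij : Function.Bijective (phi k A Ω) := by
  have hsurj : Function.Surjective (IsScalarTower.toAlgHom k A (IsLocalRing.ResidueField A)) :=
    IsLocalRing.residue_surjective
  constructor
  · intro g g' h
    apply AlgHom.ext
    intro x
    obtain ⟨a, rfl⟩ := hsurj x
    exact DFunLike.congr_fun h a
  · intro f
    have hk : RingHom.ker (IsScalarTower.toAlgHom k A (IsLocalRing.ResidueField A)).toRingHom ≤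
        RingHom.ker f.toRingHom := by
      rw [ker_eq k A Ω f]
      intro a ha
      rw [RingHom.mem_ker] at ha
      exact (IsLocalRing.residue_eq_zero_iff a).mp ha
    exact ⟨AlgHom.liftOfSurjective _ hsurj f hk, AlgHom.liftOfSurjective_comp _ hsurj f hk⟩

theorem card_loc [IsAlgClosed Ω] :
    Nat.card (A →ₐ[k] Ω) = Field.finSepDegree k (IsLocalRing.ResidueField A) := by
  haveI : Module.Finite k (IsLocalRing.ResidueField A) :=
    Module.Finite.of_surjective
      (IsScalarTower.toAlgHom k A (IsLocalRing.ResidueField A)).toLinearMap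
      IsLocalRing.residue_surjective
  rw [Field.finSepDegree_eq_of_isAlgClosed k _ Ω]
  exact (Nat.card_congr (Equiv.ofBijective _ (phi_bij k A Ω))).symm

end loc

theorem main10863 (k A k' : Type u) [Field k] [CommRing A] [Algebra k A]
    [Module.Finite k A] [IsLocalRing A] [Field k'] [Algebra k k'] :
    Field.finSepDegree k (IsLocalRing.ResidueField A) =
      ∑ᶠ m : MaximalSpectrum (k' ⊗[k] A),
        Field.finSepDegree k' (IsLocalRing.ResidueField (Localization.AtPrime m.asIdeal)) := by
  haveI : Module.Finite k' (k' ⊗[k] A) := inferInstance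
  haveI : IsArtinianRing (k' ⊗[k] A) := IsArtinianRing.of_finite k' _
  rw [← card_loc k A (AlgebraicClosure k'),
    Nat.card_congr (Algebra.TensorProduct.liftEquivRight k k' A (AlgebraicClosure k')),
    H3Fc.card_algHom k' (k' ⊗[k] A) (AlgebraicClosure k')]
  exact finsum_eq_of_bijective IsArtinianRing.primeSpectrumEquivMaximalSpectrum
    (Equiv.bijective _) (fun p => rfl)

end Groth.Agent.H3Fd
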