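import Mathlib

set_option autoImplicit false
universe u

namespace Groth.Agent.H3DirLim

open Function

section
variable {R : Type u} [CommRing R] {ι : Type u} [Preorder ι] [Nonempty ι] [IsDirected ι (· ≤ ·)]
  (G : ι → Type u) [∀ i, CommRing (G i)] [∀ i, Algebra R (G i)] (f : ∀ i j, i ≤ j → G i →+* G j)
  [DirectedSystem G fun i j h => f i j h]

local notation "S'" => Ring.DirectLimit G fun i j h => f i j h
local notation "of'" => Ring.DirectLimit.of G fun i j h => f i j h

lemma of_comp_algebraMap_eq (hcompat : ∀ i j (h : i ≤ j), (f i j h).comp (algebraMap R (G i)) =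
    algebraMap R (G j)) (i j : ι) (r : R) :
    of' i (algebraMap R (G i) r) = of' j (algebraMap R (G j) r) := by
  obtain ⟨k, hik, hjk⟩ := exists_ge_ge i j
  have h1 : of' k (f i k hik (algebraMap R (G i) r)) = of' i (algebraMap R (G i) r) :=
    Ring.DirectLimit.of_f (G := G) (f := fun i j h => f i j h) hik _
  have h2 : of' k (f j k hjk (algebraMap R (G j) r)) = of' j (algebraMap R (G j) r) :=
    Ring.DirectLimit.of_f (G := G) (f := fun i j h => f i j h) hjk _
  have h3 : f i k hik (algebraMap R (G i) r) = algebraMap R (G k) r :=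
    RingHom.congr_fun (hcompat i k hik) r
  have h4 : f j k hjk (algebraMap R (G j) r) = algebraMap R (G k) r :=
    RingHom.congr_fun (hcompat j k hjk) r
  rw [← h1, ← h2, h3, h4]

lemma exists_common_lift {l : ℕ} (x : Fin l → S') :
    ∃ (j : ι) (x' : Fin l → G j), ∀ k, of' j (x' k) = x k := by
  have hex : ∀ k : Fin l, ∃ (i : ι) (g : G i), of' i g = x k :=
    fun k => Ring.DirectLimit.exists_of (x k)
  choose idx g hg using hex
  obtain ⟨i₀, hi₀⟩ := Finite.exists_le idx
  refine ⟨i₀, fun k => f (idx k) i₀ (hi₀ k) (g k), fun k => ?_⟩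
  rw [← hg k]
  exact Ring.DirectLimit.of_f (G := G) (f := fun i j h => f i j h) (hi₀ k) (g k)

end

theorem main6321 {R : Type u} [CommRing R] {ι : Type u} [Preorder ι] [Nonempty ι]
    [IsDirected ι (· ≤ ·)] (G : ι → Type u) [∀ i, CommRing (G i)] [∀ i, Algebra R (G i)]
    (f : ∀ i j, i ≤ j → G i →+* G j) [DirectedSystem G fun i j h => f i j h]
    (hcompat : ∀ i j (h : i ≤ j), (f i j h).comp (algebraMap R (G i)) = algebraMap R (G j))
    (hff : ∀ i, (algebraMap R (G i)).FaithfullyFlat) (i : ι) :
    ((Ring.DirectLimit.of G (fun i j h => f i j h) i).comp (algebraMap R (G i))).FaithfullyFlat := by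
  have hffM : ∀ j, Module.FaithfullyFlat R (G j) := fun j =>
    RingHom.faithfullyFlat_algebraMap_iff.mp (hff j)
  unfold RingHom.FaithfullyFlat
  letI : Algebra R (Ring.DirectLimit G fun i j h => f i j h) :=
    ((Ring.DirectLimit.of G (fun i j h => f i j h) i).comp (algebraMap R (G i))).toAlgebra
  have hsmul : ∀ (r : R) (s : Ring.DirectLimit G fun i j h => f i j h) (j : ι),
      r • s = Ring.DirectLimit.of G (fun i j h => f i j h) j (algebraMap R (G j) r) * s := by
    intro r s j
    rw [Algebra.smul_def]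
    congr 1
    exact of_comp_algebraMap_eq G f hcompat i j r
  have hflat : Module.Flat R (Ring.DirectLimit G fun i j h => f i j h) := by
    rw [Module.Flat.iff_forall_isTrivialRelation]
    intro l c x hcx
    obtain ⟨j, x', hx'⟩ := exists_common_lift G f x
    have h0 : Ring.DirectLimit.of G (fun i j h => f i j h) j (∑ k, algebraMap R (G j) (c k) * x' k)
        = 0 := by
      rw [map_sum, ← hcx]
      refine Finset.sum_congr rfl fun k _ => ?_
      rw [map_mul, hx', hsmul _ _ j]
    obtain ⟨j', hjj', hz⟩ := Ring.DirectLimit.of.zero_exact h0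
    have hrel : ∑ k, c k • (f j j' hjj' (x' k)) = 0 := by
      rw [← hz, map_sum]
      refine Finset.sum_congr rfl fun k _ => ?_
      rw [map_mul, Algebra.smul_def]
      congr 1
      exact (RingHom.congr_fun (hcompat j j' hjj') (c k)).symm
    haveI := (hffM j').toFlat
    obtain ⟨n, a, y, hxy, hay⟩ := Module.Flat.isTrivialRelation_of_sum_smul_eq_zero
      (R := R) (M := G j') (f := c) (x := fun k => f j j' hjj' (x' k)) (by exact hrel)
    refine ⟨n, a, fun m => Ring.DirectLimit.of G (fun i j h => f i j h) j' (y m), ?_, hay⟩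
    intro k
    have h1 : x k = Ring.DirectLimit.of G (fun i j h => f i j h) j' (f j j' hjj' (x' k)) := by
      rw [← hx' k]
      exact (Ring.DirectLimit.of_f (G := G) (f := fun i j h => f i j h) hjj' (x' k)).symm
    have h2 : f j j' hjj' (x' k) = ∑ m, a k m • y m := hxy k
    rw [h1, h2, map_sum]
    refine Finset.sum_congr rfl fun m _ => ?_
    rw [Algebra.smul_def, map_mul, hsmul _ _ j']
  refine { toFlat := hflat, submodule_ne_top := ?_ }
  intro m hm htop
  have hP : ∀ s ∈ m • (⊤ : Submodule R (Ring.DirectLimit G fun i j h => f i j h)),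
      ∃ (j : ι) (y : G j), y ∈ m.map (algebraMap R (G j)) ∧
        Ring.DirectLimit.of G (fun i j h => f i j h) j y = s := by
    intro s hs
    induction hs using Submodule.smul_induction_on' with
    | smul r hr s _ =>
      obtain ⟨j, y, rfl⟩ := Ring.DirectLimit.exists_of s
      refine ⟨j, algebraMap R (G j) r * y, Ideal.mul_mem_right _ _ (Ideal.mem_map_of_mem _ hr), ?_⟩
      rw [map_mul, hsmul _ _ j]
    | add s _ t _ hs ht =>
      obtain ⟨j, y, hy, rfl⟩ := hs
      obtain ⟨j', y', hy', rfl⟩ := ht
      obtain ⟨k, hjk, hj'k⟩ := exists_ge_ge j j'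
      have hmap : ∀ (a b : ι) (hab : a ≤ b) (z : G a), z ∈ m.map (algebraMap R (G a)) →
          f a b hab z ∈ m.map (algebraMap R (G b)) := by
        intro a b hab z hz
        have := Ideal.mem_map_of_mem (f a b hab) hz
        rwa [Ideal.map_map, hcompat a b hab] at this
      refine ⟨k, f j k hjk y + f j' k hj'k y', Ideal.add_mem _ (hmap _ _ _ _ hy) (hmap _ _ _ _ hy'),
        ?_⟩
      rw [map_add]
      congr 1
      · exact Ring.DirectLimit.of_f (G := G) (f := fun i j h => f i j h) hjk y
      · exact Ring.DirectLimit.of_f (G := G) (f := fun i j h => f i j h) hj'k y'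
  obtain ⟨j, y, hy, hy1⟩ := hP 1 (by rw [htop]; trivial)
  have h0 : Ring.DirectLimit.of G (fun i j h => f i j h) j (y - 1) = 0 := by
    rw [map_sub, hy1, map_one, sub_self]
  obtain ⟨j', hjj', hz⟩ := Ring.DirectLimit.of.zero_exact h0
  rw [map_sub, map_one, sub_eq_zero] at hz
  have h1 : (1 : G j') ∈ m.map (algebraMap R (G j')) := by
    rw [← hz]
    have := Ideal.mem_map_of_mem (f j j' hjj') hy
    rwa [Ideal.map_map, hcompat j j' hjj'] at this
  have h2 : m.map (algebraMap R (G j')) = ⊤ := (Ideal.eq_top_iff_one _).mpr h1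
  apply (hffM j').submodule_ne_top hm
  rw [Ideal.smul_top_eq_map, h2]
  rfl

end Groth.Agent.H3DirLim
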