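import Mathlib
import Groth.Agent.Lib.helper3.CpA

set_option autoImplicit false
universe u v w

namespace Groth.Agent.H3Fil

open Groth.Agent.H3Cpl

/-- filtered completeness argument -/
theorem filtered_lift {S : Type u} [CommRing S] (J : Ideal S)
    {P : Type v} [AddCommGroup P] [Module S P] [IsPrecomplete J P]
    {M : Type w} [AddCommGroup M] [Module S M] (φ : P →ₗ[S] M) (G : ℕ → Submodule S M)
    (hG : ∀ k, G (k + 1) ≤ G k)
    (h1 : ∀ k, ∀ y ∈ G k, ∃ w ∈ J ^ k • (⊤ : Submodule S P), y - φ w ∈ G (k + 1))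
    (h2 : ∀ k, ∀ w ∈ J ^ k • (⊤ : Submodule S P), φ w ∈ G k)
    (h3 : ∀ y, (∀ k, y ∈ G k) → y = 0)
    (k₀ : ℕ) (y : M) (hy : y ∈ G k₀) :
    ∃ w ∈ J ^ k₀ • (⊤ : Submodule S P), φ w = y := by
  have hGa : ∀ m n, m ≤ n → G n ≤ G m := by
    intro m n hmn
    induction n, hmn using Nat.le_induction with
    | base => exact le_rfl
    | succ n _ ih => exact (hG n).trans ih
  have hJa : ∀ m n, m ≤ n → J ^ n • (⊤ : Submodule S P) ≤ J ^ m • (⊤ : Submodule S P) :=
    fun m n hmn => Submodule.smul_mono_left (Ideal.pow_le_pow_right hmn)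
  have step : ∀ (n : ℕ) (s : P), ∃ s' : P, y - φ s ∈ G (k₀ + n) →
      (s' - s ∈ J ^ (k₀ + n) • (⊤ : Submodule S P) ∧ y - φ s' ∈ G (k₀ + n + 1)) := by
    intro n s
    by_cases hs : y - φ s ∈ G (k₀ + n)
    · obtain ⟨w, hw, hw2⟩ := h1 _ _ hs
      refine ⟨s + w, fun _ => ⟨by simpa using hw, ?_⟩⟩
      have : y - φ (s + w) = y - φ s - φ w := by rw [map_add]; abel
      rw [this]
      exact hw2
    · exact ⟨s, fun h => absurd h hs⟩
  choose stp hstp using step
  let s : ℕ → P := fun n => Nat.rec (motive := fun _ => P) 0 (fun n s => stp n s) n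
  have hs0 : s 0 = 0 := rfl
  have hss : ∀ n, s (n + 1) = stp n (s n) := fun n => rfl
  have hinv : ∀ n, y - φ (s n) ∈ G (k₀ + n) := by
    intro n
    induction n with
    | zero => simpa [hs0] using hy
    | succ n ih =>
      rw [hss]
      exact (hstp n (s n) ih).2
  have hinc : ∀ n, s (n + 1) - s n ∈ J ^ (k₀ + n) • (⊤ : Submodule S P) := by
    intro n
    rw [hss]
    exact (hstp n (s n) (hinv n)).1
  have hsk : ∀ n, s n ∈ J ^ k₀ • (⊤ : Submodule S P) := by
    intro n
    induction n with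
    | zero => rw [hs0]; exact Submodule.zero_mem _
    | succ n ih =>
      have : s (n + 1) = s n + (s (n + 1) - s n) := by abel
      rw [this]
      exact Submodule.add_mem _ ih (hJa _ _ (Nat.le_add_right _ _) (hinc n))
  have hcau : ∀ m n, m ≤ n → s n - s m ∈ J ^ m • (⊤ : Submodule S P) := by
    intro m n hmn
    induction n, hmn using Nat.le_induction with
    | base => rw [sub_self]; exact Submodule.zero_mem _
    | succ n hmn ih =>
      have : s (n + 1) - s m = (s (n + 1) - s n) + (s n - s m) := by abel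
      rw [this]
      exact Submodule.add_mem _ (hJa _ _ (by omega) (hinc n)) ih
  obtain ⟨b, hb⟩ := IsPrecomplete.prec' (I := J) s (by
    intro m n hmn
    rw [SModEq.sub_mem]
    have := hcau m n hmn
    rw [← neg_sub]
    exact Submodule.neg_mem _ this)
  have hb' : ∀ n, b - s n ∈ J ^ n • (⊤ : Submodule S P) := by
    intro n
    have := hb n
    rw [SModEq.sub_mem] at this
    rw [← neg_sub]
    exact Submodule.neg_mem _ this
  refine ⟨b, ?_, ?_⟩
  · have : b = (b - s k₀) + s k₀ := by abel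
    rw [this]
    exact Submodule.add_mem _ (hb' k₀) (hsk k₀)
  · have : y - φ b = 0 := by
      apply h3
      intro n
      have e : y - φ b = (y - φ (s n)) - φ (b - s n) := by rw [map_sub]; abel
      rw [e]
      exact Submodule.sub_mem _ (hGa _ _ (Nat.le_add_left _ _) (hinv n)) (h2 n _ (hb' n))
    exact (sub_eq_zero.mp this).symm

end Groth.Agent.H3Fil
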