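import Mathlib
import Groth.Agent.Lib.helper3.FiA

set_option autoImplicit false
universe u v w

namespace Groth.Agent.H3Fil

open Groth.Agent.H3Cpl

theorem key {S : Type u} [CommRing S] (J : Ideal S) [IsPrecomplete J S]
    {M : Type v} [AddCommGroup M] [Module S M]
    (F : ℤ → Submodule S M) (hF : Antitone F)
    (hJ : ∀ p : ℤ, J • F p ≤ F (p + 1)) (hsep : ⨅ p : ℤ, F p = ⊥)
    (p₁ : ℤ) (hp₁ : ∀ p : ℤ, p₁ ≤ p → F (p + 1) = J • F p ⊔ F (p + 2))
    (p : ℤ) (hp : p₁ ≤ p) (hfg : (Submodule.map (F (p + 1)).mkQ (F p)).FG) :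
    (F p).FG ∧ F (p + 1) = J • F p := by
  classical
  obtain ⟨r, z, hz⟩ := Submodule.fg_iff_exists_fin_generating_family.mp hfg
  have hzmem : ∀ i, z i ∈ Submodule.map (F (p + 1)).mkQ (F p) := by
    intro i
    rw [← hz]
    exact Submodule.subset_span ⟨i, rfl⟩
  choose x hxF hxz using hzmem
  let φ : (Fin r → S) →ₗ[S] M := Fintype.linearCombination S x
  have hrange : LinearMap.range φ = Submodule.span S (Set.range x) :=
    Fintype.range_linearCombination S x
  have hrangeF : LinearMap.range φ ≤ F p := by
    rw [hrange, Submodule.span_le]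
    rintro _ ⟨i, rfl⟩
    exact hxF i
  have hN : F p ≤ LinearMap.range φ ⊔ F (p + 1) := by
    intro y hy
    have h1 : (F (p + 1)).mkQ y ∈ Submodule.map (F (p + 1)).mkQ (F p) := ⟨y, hy, rfl⟩
    rw [← hz] at h1
    have h2 : Set.range z = (F (p + 1)).mkQ '' Set.range x := by
      ext w
      constructor
      · rintro ⟨i, rfl⟩
        exact ⟨x i, ⟨i, rfl⟩, hxz i⟩
      · rintro ⟨_, ⟨i, rfl⟩, rfl⟩
        exact ⟨i, (hxz i).symm⟩
    rw [h2, ← Submodule.map_span, ← hrange] at h1
    obtain ⟨n, hn, hny⟩ := h1
    have h3 : y - n ∈ F (p + 1) := by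
      have : (F (p + 1)).mkQ (y - n) = 0 := by rw [map_sub, hny, sub_self]
      rwa [Submodule.mkQ_apply, Submodule.Quotient.mk_eq_zero] at this
    have : y = n + (y - n) := by abel
    rw [this]
    exact Submodule.add_mem_sup hn h3
  -- powers
  have hJk : ∀ (q : ℤ) (k : ℕ), J ^ k • F q ≤ F (q + k) := by
    intro q k
    induction k with
    | zero => simp
    | succ k ih =>
      rw [pow_succ', mul_smul]
      have e : q + ((k + 1 : ℕ) : ℤ) = q + k + 1 := by push_cast; ring
      rw [e]
      exact (Submodule.smul_mono le_rfl ih).trans (hJ _)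
  have hstep : ∀ k : ℕ, F (p + k) ≤ J ^ k • LinearMap.range φ ⊔ F (p + k + 1) := by
    intro k
    induction k with
    | zero => simpa using hN
    | succ k ih =>
      have e : p + ((k + 1 : ℕ) : ℤ) = p + k + 1 := by push_cast; ring
      rw [e, hp₁ (p + k) (by omega)]
      have e2 : p + (k : ℤ) + 1 + 1 = p + k + 2 := by ring
      rw [e2]
      refine sup_le ?_ le_sup_right
      calc J • F (p + k) ≤ J • (J ^ k • LinearMap.range φ ⊔ F (p + k + 1)) :=
            Submodule.smul_mono le_rfl ih
        _ = J ^ (k + 1) • LinearMap.range φ ⊔ J • F (p + k + 1) := by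
            rw [Submodule.smul_sup, ← mul_smul, ← pow_succ']
        _ ≤ J ^ (k + 1) • LinearMap.range φ ⊔ F (p + k + 2) := by
            refine sup_le_sup_left ?_ _
            have := hJ (p + k + 1)
            rwa [e2] at this
  have hsm : ∀ k : ℕ, J ^ k • LinearMap.range φ =
      Submodule.map φ (J ^ k • (⊤ : Submodule S (Fin r → S))) := by
    intro k
    rw [Submodule.map_smul'', Submodule.map_top]
  haveI : IsPrecomplete J (Fin r → S) := precomplete_pi J
  have hlift := filtered_lift J φ (fun k : ℕ => F (p + k))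
    (fun k => hF (by push_cast; omega))
    (by
      intro k y hy
      have := hstep k hy
      rw [Submodule.mem_sup] at this
      obtain ⟨a, ha, b, hb, hab⟩ := this
      rw [hsm] at ha
      obtain ⟨w, hw, rfl⟩ := ha
      refine ⟨w, hw, ?_⟩
      have e : p + ((k + 1 : ℕ) : ℤ) = p + k + 1 := by push_cast; ring
      rw [e, ← hab]
      simpa using hb)
    (by
      intro k w hw
      have h1 : φ w ∈ J ^ k • LinearMap.range φ := by
        rw [hsm]
        exact ⟨w, hw, rfl⟩
      exact hJk p k (Submodule.smul_mono le_rfl hrangeF h1))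
    (by
      intro y hy
      have : y ∈ ⨅ q : ℤ, F q := by
        rw [Submodule.mem_iInf]
        intro q
        rcases le_total q p with h | h
        · have := hy 0
          simp only [Nat.cast_zero, add_zero] at this
          exact hF h this
        · obtain ⟨k, hk⟩ := Int.eq_ofNat_of_zero_le (sub_nonneg.mpr h)
          have := hy k
          rw [← hk] at this
          simpa using this
      rw [hsep] at this
      exact this)
  constructor
  · have : F p = LinearMap.range φ := by
      refine le_antisymm ?_ hrangeF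
      intro y hy
      obtain ⟨w, -, hw⟩ := hlift 0 y (by simpa using hy)
      exact ⟨w, hw⟩
    rw [this, hrange]
    exact Submodule.fg_span (Set.finite_range x)
  · refine le_antisymm ?_ (hJ p)
    intro y hy
    obtain ⟨w, hw, hwy⟩ := hlift 1 y (by simpa using hy)
    have h1 : φ w ∈ J ^ 1 • LinearMap.range φ := by
      rw [hsm]
      exact ⟨w, hw, rfl⟩
    rw [pow_one] at h1
    rw [← hwy]
    exact Submodule.smul_mono le_rfl hrangeF h1

end Groth.Agent.H3Fil
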