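import Mathlib
import Groth.Agent.Lib.helper3.FiB

set_option autoImplicit false
universe u v w

namespace Groth.Agent.H3Fil

theorem main8353 {S : Type u} [CommRing S] [IsNoetherianRing S]
    (J : Ideal S) [IsAdicComplete J S] {M : Type u} [AddCommGroup M] [Module S M]
    (F : ℤ → Submodule S M) (hF : Antitone F) (hcod : ∃ p₀ : ℤ, F p₀ = ⊤)
    (hJ : ∀ p : ℤ, J • F p ≤ F (p + 1)) (hsep : ⨅ p : ℤ, F p = ⊥) :
    (Module.Finite S M ∧ ∃ p₁ : ℤ, ∀ p : ℤ, p₁ ≤ p → J • F p = F (p + 1)) ↔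
      ((∀ p : ℤ, (Submodule.map (F (p + 1)).mkQ (F p)).FG) ∧
        ∃ p₁ : ℤ, ∀ p : ℤ, p₁ ≤ p → F (p + 1) = J • F p ⊔ F (p + 2)) := by
  constructor
  · rintro ⟨hfin, p₁, hp₁⟩
    haveI := hfin
    refine ⟨fun p => ?_, p₁, fun p hp => ?_⟩
    · exact Submodule.FG.map _ (IsNoetherian.noetherian (F p))
    · refine le_antisymm ?_ (sup_le (hJ p) (hF (by omega)))
      rw [hp₁ p hp]
      exact le_sup_left
  · rintro ⟨hfg, p₁, hp₁⟩
    have hk := fun p hp => key J F hF hJ hsep p₁ hp₁ p hp (hfg p)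
    refine ⟨?_, p₁, fun p hp => (hk p hp).2.symm⟩
    have hall : ∀ p : ℤ, (F p).FG := by
      intro p
      rcases le_total p₁ p with h | h
      · exact (hk p h).1
      · induction p, h using Int.le_induction_down with
        | base => exact (hk p₁ le_rfl).1
        | pred q hq ih =>
          have h1 := hfg (q - 1)
          rw [sub_add_cancel] at h1
          apply Submodule.fg_of_fg_map_of_fg_inf_ker (F q).mkQ h1
          rw [Submodule.ker_mkQ, inf_eq_right.mpr (hF (by omega))]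
          exact ih
    obtain ⟨p₀, hp₀⟩ := hcod
    rw [Module.finite_def, ← hp₀]
    exact hall p₀

end Groth.Agent.H3Fil
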