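import Mathlib
import Groth.Prelude.Def_Fitting
import Groth.Agent.Lib.helper3.FittA
import Groth.Agent.Lib.helper3.FittB

set_option autoImplicit false
open Matrix

namespace Groth.Agent.H3Fitt

universe u v
variable {R : Type u} [CommRing R] {M : Type v} [AddCommGroup M] [Module R M]

/-- `p × p` minors of matrices with rows in `N`. -/
def minSet {n : ℕ} (N : Set (Fin n → R)) (p : ℕ) : Set R :=
  {d | ∃ (z : Fin p → (Fin n → R)) (e : Fin p → Fin n),
    (∀ j, z j ∈ N) ∧ d = (Matrix.of fun a b => z b (e a)).det}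

def Jm {n : ℕ} (N : Set (Fin n → R)) (p : ℕ) : Ideal R := Ideal.span (minSet N p)

lemma Jm_image_le {n n' : ℕ} (N : Set (Fin n → R)) (g : Fin n' → Fin n) (p : ℕ) :
    Jm ((fun v : Fin n → R => v ∘ g) '' N) p ≤ Jm N p := by
  refine Ideal.span_le.mpr ?_
  rintro d ⟨z, e, hz, rfl⟩
  choose z' hz' hz'' using hz
  refine Ideal.subset_span ⟨z', g ∘ e, hz', ?_⟩
  congr 1
  ext a b
  simp only [Matrix.of_apply, Function.comp_apply]
  rw [← hz'' b]
  rfl

/-- Laplace expansion along the last rows. -/
lemma det_mem_Jm : ∀ (d n p : ℕ) (_ : n = p + d) (N : Set (Fin n → R))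
    (a : Matrix (Fin n) (Fin n) R), (∀ i : Fin n, (i : ℕ) < p → a i ∈ N) → a.det ∈ Jm N p := by
  intro d
  induction d with
  | zero =>
    intro n p h N a ha
    obtain rfl : n = p := by omega
    refine Ideal.subset_span ⟨a, id, fun j => ha j j.2, ?_⟩
    rw [← Matrix.det_transpose]
    rfl
  | succ d ih =>
    intro n p h N a ha
    obtain rfl : n = (p + d) + 1 := by omega
    rw [Matrix.det_succ_row a (Fin.last _)]
    refine Ideal.sum_mem _ fun j _ => Ideal.mul_mem_left _ _ ?_
    rw [Fin.succAbove_last]
    refine Jm_image_le N j.succAbove p ?_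
    refine ih (p + d) p rfl _ _ ?_
    intro i hi
    exact ⟨a (Fin.castSucc i), ha _ (by simpa using hi), rfl⟩

lemma sign_mul_mem {n : ℕ} (σ : Equiv.Perm (Fin n)) {J : Ideal R} {r : R}
    (h : ((Equiv.Perm.sign σ : ℤ) : R) * r ∈ J) : r ∈ J := by
  have h2 : r = ((Equiv.Perm.sign σ : ℤ) : R) * (((Equiv.Perm.sign σ : ℤ) : R) * r) := by
    rw [← mul_assoc, ← Int.cast_mul]
    have : ((Equiv.Perm.sign σ : ℤ)) * (Equiv.Perm.sign σ : ℤ) = 1 := by
      rw [← Units.val_mul, Int.units_mul_self]; rfl
    rw [this]; simp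
  rw [h2]
  exact Ideal.mul_mem_left _ _ h

/-- a minor of relation rows is (up to sign) a determinant in `D`. -/
lemma minor_mem_D {n : ℕ} (x : Fin n → M) (k : ℕ) (z : Fin (n - k) → (Fin n → R))
    (e : Fin (n - k) → Fin n) (hz : ∀ j, ∑ i, z j i • x i = 0) :
    (Matrix.of fun a b => z b (e a)).det ∈ D R x k := by
  classical
  by_cases he : Function.Injective e
  · have hpn : n - k ≤ n := Nat.sub_le _ _
    let f : Fin n → Fin n := fun i => if h : (i : ℕ) < n - k then e ⟨i, h⟩ else i
    let s : Finset (Fin n) := Finset.univ.filter fun i => (i : ℕ) < n - k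
    have hfs : Set.InjOn f s := by
      intro i hi j hj hij
      simp only [s, Finset.coe_filter, Finset.mem_univ, true_and, Set.mem_ofPred_eq] at hi hj
      simp only [f, hi, hj, dif_pos] at hij
      have := he hij
      exact Fin.ext (by simpa using congrArg Fin.val this)
    obtain ⟨g, hg⟩ := Finset.exists_equiv_extend_of_card_eq (α := Fin n) (β := Fin n)
      (t := Finset.univ) (by simp) (s := s) (f := f) (Finset.subset_univ _) hfs
    let σ : Equiv.Perm (Fin n) := g.trans (Equiv.subtypeUnivEquiv Finset.mem_univ)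
    have hσ : ∀ i : Fin n, ∀ h : (i : ℕ) < n - k, σ i = e ⟨i, h⟩ := by
      intro i h
      have := hg i (by simp [s, h])
      simp only [σ, Equiv.trans_apply, Equiv.subtypeUnivEquiv_apply, this, f, h, dif_pos]
    let A : Matrix (Fin n) (Fin n) R := Matrix.of fun i j =>
      if h : (i : ℕ) < n - k then z ⟨i, h⟩ j else if j = σ i then 1 else 0
    have hA : A.det ∈ D R x k := by
      apply det_mem_D
      intro i hi
      rw [← hz ⟨i, hi⟩]
      refine Finset.sum_congr rfl fun j _ => ?_
      simp only [A, Matrix.of_apply, hi, dif_pos]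
    have hB : (A.submatrix id σ).det ∈ D R x k := by
      rw [Matrix.det_permute']
      exact Ideal.mul_mem_left _ _ hA
    rw [Matrix.twoBlockTriangular_det (A.submatrix id σ) (fun i => (i : ℕ) < n - k)] at hB
    · have h2 : (Matrix.toSquareBlockProp (A.submatrix id σ) fun i => ¬ (i : ℕ) < n - k) = 1 := by
        ext i j
        simp only [Matrix.toSquareBlockProp_def, Matrix.of_apply, Matrix.submatrix_apply, id_eq, A,
          i.2, dif_neg, not_false_eq_true, Matrix.one_apply, EmbeddingLike.apply_eq_iff_eq]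
        by_cases hij : i = j
        · subst hij; simp
        · have : (j : Fin n) ≠ i := fun h => hij (Subtype.ext h.symm)
          simp [hij, this]
      rw [h2, Matrix.det_one, mul_one] at hB
      let ε : Fin (n - k) ≃ {i : Fin n // (i : ℕ) < n - k} :=
        { toFun := fun b => ⟨Fin.castLE hpn b, b.2⟩
          invFun := fun i => ⟨i.1, i.2⟩
          left_inv := fun b => by simp
          right_inv := fun i => by simp }
      rw [← Matrix.det_submatrix_equiv_self ε, ← Matrix.det_transpose] at hB
      convert hB using 2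
      ext a b
      have hb : ((Fin.castLE hpn b : Fin n) : ℕ) < n - k := b.2
      simp only [Matrix.of_apply, Matrix.transpose_apply, Matrix.submatrix_apply,
        Matrix.toSquareBlockProp_def, id_eq, A, ε, Equiv.coe_fn_mk, hb, dif_pos]
      rw [hσ (Fin.castLE hpn a) a.2]
      rfl
    · intro i hi j hj
      simp only [Matrix.submatrix_apply, id_eq, A, Matrix.of_apply, hi, dif_neg, not_false_eq_true,
        EmbeddingLike.apply_eq_iff_eq]
      rw [if_neg]
      rintro rfl
      exact hi hj
  · have : (Matrix.of fun a b => z b (e a)).det = 0 := by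
      rw [Function.Injective] at he
      push Not at he
      obtain ⟨a, a', hee, hne⟩ := he
      refine Matrix.det_zero_of_row_eq hne ?_
      funext b
      simp [hee]
    rw [this]
    exact Ideal.zero_mem _

theorem D_eq_span_minors {n : ℕ} (x : Fin n → M) (k : ℕ) :
    D R x k = Ideal.span {d | ∃ (z : Fin (n - k) → (Fin n → R)) (e : Fin (n - k) → Fin n),
      (∀ j, ∑ i, z j i • x i = 0) ∧ d = (Matrix.of fun a b => z b (e a)).det} := by
  apply le_antisymm
  · rw [D_le_iff]
    intro a ha
    have := det_mem_Jm (n - (n - k)) n (n - k) (by omega) {v : Fin n → R | ∑ i, v i • x i = 0} a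
      (fun i hi => ha i hi)
    exact this
  · refine Ideal.span_le.mpr ?_
    rintro d ⟨z, e, hz, rfl⟩
    exact minor_mem_D x k z e hz

end Groth.Agent.H3Fitt
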