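import Mathlib
import Groth.Prelude.Def_Fitting
import Groth.Agent.Lib.helper3.FittA
import Groth.Agent.Lib.helper3.FittB
import Groth.Agent.Lib.helper3.FittD
import Groth.Agent.Lib.helper3.FittF
import Groth.Agent.Lib.helper3.FittH

set_option autoImplicit false
open Matrix TensorProduct

namespace Groth.Agent.H3Fitt

universe u v w

section general
variable {R : Type u} [CommRing R] {M : Type v} [AddCommGroup M] [Module R M]

lemma ideal_congr {M' : Type w} [AddCommGroup M'] [Module R M'] (e : M ≃ₗ[R] M') (k : ℕ) :
    Fitt.ideal R M k = Fitt.ideal R M' k :=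
  le_antisymm (ideal_mono_of_surjective e.toLinearMap e.surjective k)
    (ideal_mono_of_surjective e.symm.toLinearMap e.symm.surjective k)

lemma ideal_basis_eq_bot {d : ℕ} (b : Module.Basis (Fin d) R M) {k : ℕ} (h : k < d) :
    Fitt.ideal R M k = ⊥ := by
  rw [ideal_eq_D b b.span_eq, eq_bot_iff, D_le_iff]
  intro a ha
  rw [Ideal.mem_bot]
  have h0 : (⟨0, by omega⟩ : Fin d).1 < d - k := by simp; omega
  have hrow := ha ⟨0, by omega⟩ h0
  have := Fintype.linearIndependent_iff.mp b.linearIndependent _ hrow
  exact Matrix.det_eq_zero_of_row_eq_zero ⟨0, by omega⟩ this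

lemma ideal_basis_eq_top {d : ℕ} (b : Module.Basis (Fin d) R M) {k : ℕ} (h : d ≤ k) :
    Fitt.ideal R M k = ⊤ :=
  ideal_eq_top_of_span b b.span_eq h

lemma exists_det_notMem {k : ℕ} {p : Ideal R} (h : ¬ Fitt.ideal R M k ≤ p) :
    ∃ (n : ℕ) (x : Fin n → M) (a : Matrix (Fin n) (Fin n) R),
      Submodule.span R (Set.range x) = ⊤ ∧
      (∀ i : Fin n, (i : ℕ) < n - k → ∑ j, a i j • x j = 0) ∧ a.det ∉ p := by
  by_contra hcon
  push Not at hcon
  apply h
  refine Ideal.span_le.mpr ?_
  rintro d ⟨n, x, a, hx, ha, rfl⟩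
  exact hcon n x a hx ha

lemma exists_gens_of_isUnit_det {S : Type*} {N : Type*} [CommRing S] [Algebra R S]
    [AddCommGroup N] [Module R N] [Module S N] [IsScalarTower R S N]
    (φ : M →ₗ[R] N) (hφ : Submodule.span S (Set.range φ) = ⊤) {n : ℕ} (x : Fin n → M)
    (hx : Submodule.span R (Set.range x) = ⊤) (k : ℕ) (a : Matrix (Fin n) (Fin n) R)
    (ha : ∀ i : Fin n, (i : ℕ) < n - k → ∑ j, a i j • x j = 0)
    (hu : IsUnit (algebraMap R S a.det)) :
    ∃ g : Fin k → N, Submodule.span S (Set.range g) = ⊤ := by
  classical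
  let x' : Fin n → N := fun j => φ (x j)
  let a' : Matrix (Fin n) (Fin n) S := (algebraMap R S).mapMatrix a
  have ha' : ∀ i : Fin n, (i : ℕ) < n - k → ∑ j, a' i j • x' j = 0 := by
    intro i hi
    have : ∀ j, a' i j • x' j = φ (a i j • x j) := by
      intro j
      simp only [a', x', RingHom.mapMatrix_apply, Matrix.map_apply, algebraMap_smul, map_smul]
    simp only [this]
    rw [← map_sum, ha i hi, map_zero]
  let w : Fin n → N := fun l => ∑ i, a' l i • x' i
  apply exists_fin_k_of_span_le (k := k) w
  rw [eq_top_iff, ← hφ]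
  refine Submodule.span_le.mpr ?_
  rintro _ ⟨m, rfl⟩
  have hm : m ∈ Submodule.span R (Set.range x) := by rw [hx]; trivial
  induction hm using Submodule.span_induction with
  | mem y hy =>
    obtain ⟨j, rfl⟩ := hy
    have hdet : a'.det = algebraMap R S a.det := by
      simp only [a']; rw [← RingHom.map_det]
    have h1 := det_smul_eq_free a' ha' j
    rw [hdet] at h1
    have h2 : x' j = hu.unit⁻¹.1 • (algebraMap R S a.det • x' j) := by
      rw [smul_smul]; simp
    show x' j ∈ _
    rw [h2, h1]
    refine Submodule.smul_mem _ _ (Submodule.sum_mem _ fun l _ => ?_)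
    split_ifs with h
    · exact Submodule.smul_mem _ _ (Submodule.subset_span ⟨l, h, rfl⟩)
    · simp
  | zero => simp
  | add y z _ _ hy hz => rw [map_add]; exact Submodule.add_mem _ hy hz
  | smul r y _ hy =>
    rw [map_smul, ← algebraMap_smul S r (φ y)]
    exact Submodule.smul_mem _ _ hy

lemma span_range_mkLinearMap (T : Submonoid R) :
    Submodule.span (Localization T) (Set.range (LocalizedModule.mkLinearMap T M)) = ⊤ := by
  rw [eq_top_iff]
  rintro z -
  induction z using LocalizedModule.induction_on with
  | h m s =>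
    have : LocalizedModule.mk m s = Localization.mk 1 s • LocalizedModule.mk m (1 : T) := by
      rw [LocalizedModule.mk_smul_mk]; simp
    rw [this]
    exact Submodule.smul_mem _ _ (Submodule.subset_span ⟨m, rfl⟩)

end general

section same
variable {R : Type u} [CommRing R] (M : Type u) [AddCommGroup M] [Module R M] [Module.Finite R M]

lemma ideal_localizedModule (T : Submonoid R) (k : ℕ) :
    Fitt.ideal (Localization T) (LocalizedModule T M) k =
      (Fitt.ideal R M k).map (algebraMap R (Localization T)) := by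
  have e : Localization T ⊗[R] M ≃ₗ[Localization T] LocalizedModule T M :=
    (IsLocalizedModule.isBaseChange T (Localization T) (LocalizedModule.mkLinearMap T M)).equiv
  rw [← ideal_congr e k, ideal_baseChange]

theorem not_le_iff_finrank (k : ℕ) (p : Ideal R) [p.IsPrime] :
    ¬ Fitt.ideal R M k ≤ p ↔ Module.finrank p.ResidueField (p.ResidueField ⊗[R] M) ≤ k := by
  have hbc := ideal_baseChange (R := R) (M := M) p.ResidueField k
  have hker : Fitt.ideal R M k ≤ p ↔ (Fitt.ideal R M k).map (algebraMap R p.ResidueField) = ⊥ := by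
    rw [Ideal.map_eq_bot_iff_le_ker, Ideal.ker_algebraMap_residueField]
  rw [hker, ← hbc]
  let b := Module.finBasis p.ResidueField (p.ResidueField ⊗[R] M)
  constructor
  · intro h
    by_contra hlt
    push Not at hlt
    exact h (ideal_basis_eq_bot b hlt)
  · intro h
    rw [ideal_basis_eq_top b h]
    exact top_ne_bot

theorem not_le_iff_atPrime (k : ℕ) (p : Ideal R) [p.IsPrime] :
    ¬ Fitt.ideal R M k ≤ p ↔
      ∃ g : Fin k → LocalizedModule p.primeCompl M,
        Submodule.span (Localization.AtPrime p) (Set.range g) = ⊤ := by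
  constructor
  · intro h
    obtain ⟨n, x, a, hx, ha, hdet⟩ := exists_det_notMem h
    refine exists_gens_of_isUnit_det (S := Localization.AtPrime p)
      (LocalizedModule.mkLinearMap p.primeCompl M) (span_range_mkLinearMap _) x hx k a ha ?_
    exact IsLocalization.map_units (Localization.AtPrime p) (⟨a.det, hdet⟩ : p.primeCompl)
  · rintro ⟨g, hg⟩ hle
    have h1 : Fitt.ideal (Localization.AtPrime p) (LocalizedModule p.primeCompl M) k = ⊤ :=
      ideal_eq_top_of_span g hg le_rfl
    rw [ideal_localizedModule] at h1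
    have := (IsLocalization.map_algebraMap_ne_top_iff_disjoint p.primeCompl
      (Localization.AtPrime p) (Fitt.ideal R M k)).mpr ?_
    · exact this h1
    · rw [Set.disjoint_left]
      intro r hr hr'
      exact hr (hle hr')

theorem not_le_iff_away (k : ℕ) (p : Ideal R) [p.IsPrime] :
    ¬ Fitt.ideal R M k ≤ p ↔ ∃ f : R, f ∉ p ∧
      ∃ g : Fin k → LocalizedModule (Submonoid.powers f) M,
        Submodule.span (Localization.Away f) (Set.range g) = ⊤ := by
  constructor
  · intro h
    obtain ⟨n, x, a, hx, ha, hdet⟩ := exists_det_notMem h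
    refine ⟨a.det, hdet, ?_⟩
    refine exists_gens_of_isUnit_det (S := Localization.Away a.det)
      (LocalizedModule.mkLinearMap (Submonoid.powers a.det) M) (span_range_mkLinearMap _) x hx k a ha ?_
    exact IsLocalization.map_units (Localization.Away a.det)
      (⟨a.det, Submonoid.mem_powers _⟩ : Submonoid.powers a.det)
  · rintro ⟨f, hf, g, hg⟩ hle
    have h1 : Fitt.ideal (Localization.Away f) (LocalizedModule (Submonoid.powers f) M) k = ⊤ :=
      ideal_eq_top_of_span g hg le_rfl
    rw [ideal_localizedModule] at h1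
    have := (IsLocalization.map_algebraMap_ne_top_iff_disjoint (Submonoid.powers f)
      (Localization.Away f) (Fitt.ideal R M k)).mpr ?_
    · exact this h1
    · rw [Set.disjoint_left]
      rintro r ⟨m, rfl⟩ hr'
      exact hf (Ideal.IsPrime.mem_of_pow_mem inferInstance m (hle hr'))

end same

end Groth.Agent.H3Fitt
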