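import Mathlib
import Groth.Prelude.Def_Fitting
import Groth.Agent.Lib.helper3.FittA
import Groth.Agent.Lib.helper3.FittB
import Groth.Agent.Lib.helper3.FittG
import Groth.Agent.Lib.helper3.FittH
import Groth.Agent.Lib.helper3.FittI

set_option autoImplicit false
open Matrix TensorProduct

namespace Groth.Agent.H3Fitt

universe u v w

section general
variable {R : Type u} [CommRing R] {M : Type v} [AddCommGroup M] [Module R M]

lemma coeff_mem_D {n : ℕ} (x : Fin n → M) (k : ℕ) (hk : n - k = 1) (v : Fin n → R)
    (hv : ∑ i, v i • x i = 0) (t0 : Fin n) : v t0 ∈ D R x k := by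
  have := minor_mem_D x k (fun _ => v) (fun _ => t0) (fun _ => hv)
  generalize n - k = q at this hk
  subst hk
  simpa using this

/-- a spanning family of `n` elements is a basis as soon as `Fit_{n-1} = 0`. -/
lemma linearIndependent_of_ideal_eq_bot {n : ℕ} (x : Fin n → M)
    (hx : Submodule.span R (Set.range x) = ⊤) (h : Fitt.ideal R M (n - 1) = ⊥) :
    LinearIndependent R x := by
  rw [Fintype.linearIndependent_iff]
  intro v hv t0
  have hn : 0 < n := Nat.lt_of_le_of_lt (Nat.zero_le _) t0.2
  have := D_le_ideal hx (n - 1) (coeff_mem_D x (n - 1) (by omega) v hv t0)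
  rw [h] at this
  simpa using this

lemma nontrivial_away_of_notMem {p : Ideal R} [p.IsPrime] {f : R} (hf : f ∉ p) :
    Nontrivial (Localization.Away f) := by
  rw [← not_subsingleton_iff_nontrivial,
    IsLocalization.subsingleton_iff (M := Submonoid.powers f) (S := Localization.Away f)]
  rintro ⟨m, hm⟩
  apply hf
  have : f ^ m ∈ p := by simp only at hm; rw [hm]; exact p.zero_mem
  exact Ideal.IsPrime.mem_of_pow_mem inferInstance m this

end general

section same
variable {R : Type u} [CommRing R] (M : Type u) [AddCommGroup M] [Module R M] [Module.Finite R M]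

theorem locallyFree_iff (r : ℕ) :
    (∀ (p : Ideal R) [p.IsPrime], ∃ f : R, f ∉ p ∧
      Module.Free (Localization.Away f) (LocalizedModule (Submonoid.powers f) M) ∧
        Module.finrank (Localization.Away f) (LocalizedModule (Submonoid.powers f) M) = r) ↔
    ((∀ k, k < r → Fitt.ideal R M k = ⊥) ∧ (∀ k, r ≤ k → Fitt.ideal R M k = ⊤)) := by
  constructor
  · intro h
    constructor
    · intro k hk
      rw [eq_bot_iff]
      intro d hd
      rw [Ideal.mem_bot]
      let Ann : Ideal R := Ideal.span {d} |>.annihilator
      have hAnn : ∀ c, c ∈ (Ideal.span {d}).annihilator ↔ c * d = 0 := by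
        intro c
        rw [Submodule.mem_annihilator_span_singleton]
        rfl
      have htop : (Ideal.span {d}).annihilator = ⊤ := by
        by_contra hne
        obtain ⟨p, hp, hle⟩ := Ideal.exists_le_maximal _ hne
        have := hp.isPrime
        obtain ⟨f, hf, hfree, hrank⟩ := h p
        have := nontrivial_away_of_notMem hf
        let b := Module.finBasisOfFinrankEq (Localization.Away f)
          (LocalizedModule (Submonoid.powers f) M) hrank
        have h0 := ideal_basis_eq_bot b hk
        rw [ideal_localizedModule] at h0
        have hd0 : algebraMap R (Localization.Away f) d = 0 := by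
          have : algebraMap R (Localization.Away f) d ∈
              (Fitt.ideal R M k).map (algebraMap R (Localization.Away f)) :=
            Ideal.mem_map_of_mem _ hd
          rw [h0] at this
          simpa using this
        rw [IsLocalization.map_eq_zero_iff (Submonoid.powers f)] at hd0
        obtain ⟨⟨_, m, rfl⟩, hm⟩ := hd0
        have : f ^ m ∈ p := hle ((hAnn _).mpr hm)
        exact hf (Ideal.IsPrime.mem_of_pow_mem inferInstance m this)
      have : (1 : R) ∈ (Ideal.span {d}).annihilator := by rw [htop]; trivial
      rw [hAnn, one_mul] at this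
      exact this
    · intro k hk
      rw [eq_top_iff]
      refine le_trans ?_ (ideal_antitone R M hk)
      rw [top_le_iff]
      by_contra hne
      obtain ⟨p, hp, hle⟩ := Ideal.exists_le_maximal _ hne
      have := hp.isPrime
      obtain ⟨f, hf, hfree, hrank⟩ := h p
      have := nontrivial_away_of_notMem hf
      let b := Module.finBasisOfFinrankEq (Localization.Away f)
        (LocalizedModule (Submonoid.powers f) M) hrank
      exact (not_le_iff_away M r p).mpr ⟨f, hf, b, b.span_eq⟩ hle
  · rintro ⟨h1, h2⟩ p hp
    have hr : ¬ Fitt.ideal R M r ≤ p := by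
      rw [h2 r le_rfl]
      intro h
      exact hp.ne_top (top_le_iff.mp h)
    obtain ⟨f, hf, g, hg⟩ := (not_le_iff_away M r p).mp hr
    refine ⟨f, hf, ?_⟩
    have := nontrivial_away_of_notMem hf
    have hli : LinearIndependent (Localization.Away f) g := by
      rcases Nat.eq_zero_or_pos r with h0 | hpos
      · subst h0
        exact linearIndependent_empty_type
      · apply linearIndependent_of_ideal_eq_bot g hg
        rw [ideal_localizedModule, h1 (r - 1) (by omega), Ideal.map_bot]
    let b : Module.Basis (Fin r) (Localization.Away f) (LocalizedModule (Submonoid.powers f) M) :=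
      Module.Basis.mk hli (by rw [hg])
    refine ⟨Module.Free.of_basis b, ?_⟩
    rw [Module.finrank_eq_card_basis b, Fintype.card_fin]

end same

end Groth.Agent.H3Fitt
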