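import Mathlib
import Groth.Prelude.Def_Fitting
import Groth.Prelude.Def_BlowUp2
import Groth.Prelude.Def_FlatCA
import Groth.Agent.Lib.helper3.FittA
import Groth.Agent.Lib.helper3.FittB
import Groth.Agent.Lib.helper3.FittF
import Groth.Agent.Lib.helper3.FittH
import Groth.Agent.Lib.helper3.FittI
import Groth.Agent.Lib.helper3.FittJ

set_option autoImplicit false
open Matrix TensorProduct

namespace Groth.Agent.H3Fitt

universe u v w

section general
variable {R : Type u} [CommRing R]

lemma exists_pow_mul_eq_zero_of_local (a c : R)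
    (h : ∀ (p : Ideal R) [p.IsPrime], a ∉ p → ∃ s : R, s ∉ p ∧ s * c = 0) :
    ∃ N : ℕ, a ^ N * c = 0 := by
  have hAnn : ∀ s, s ∈ (Ideal.span {c}).annihilator ↔ s * c = 0 := by
    intro s
    rw [Submodule.mem_annihilator_span_singleton]
    rfl
  have : a ∈ ((Ideal.span {c}).annihilator).radical := by
    rw [Ideal.radical_eq_sInf, Ideal.mem_sInf]
    rintro J ⟨hle, hJ⟩
    by_contra haJ
    obtain ⟨s, hs, hsc⟩ := h J haJ
    exact hs (hle ((hAnn s).mpr hsc))
  obtain ⟨N, hN⟩ := this
  exact ⟨N, (hAnn _).mp hN⟩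

lemma mem_powTorsion_iff {S : Type u} [CommRing S] (x : S) {N : Type u} [AddCommGroup N]
    [Module S N] (z : N) : z ∈ FlatCA.powTorsion S x N ↔ ∃ m : ℕ, x ^ m • z = 0 := by
  unfold FlatCA.powTorsion
  let f : ℕ →o Submodule S N :=
    { toFun := fun m => Submodule.torsionBy S N (x ^ m)
      monotone' := by
        intro m m' hmm' z hz
        rw [Submodule.mem_torsionBy_iff] at hz ⊢
        obtain ⟨d, rfl⟩ := Nat.exists_eq_add_of_le hmm'
        rw [pow_add, mul_comm, mul_smul, hz, smul_zero] }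
  have := Submodule.mem_iSup_of_chain f z
  simp only [f, OrderHom.coe_mk, Submodule.mem_torsionBy_iff] at this
  exact this

end general

section strict
variable {R : Type u} [CommRing R] (M : Type u) [AddCommGroup M] [Module R M] [Module.Finite R M]

/-- vanishing of lower Fitting ideals of a strict transform -/
theorem strictTransform_ideal_eq_bot (j : ℕ) (a : R) (R₁ : Type u) [CommRing R₁] [Algebra R R₁]
    (hnzd : ∀ r : R₁, algebraMap R R₁ a * r = 0 → r = 0)
    (hc : ∀ c ∈ Fitt.ideal R M j, ∃ N : ℕ, a ^ N * c = 0) :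
    Fitt.ideal R₁ ((R₁ ⊗[R] M) ⧸ FlatCA.powTorsion R₁ (algebraMap R R₁ a) (R₁ ⊗[R] M)) j = ⊥ := by
  classical
  obtain ⟨n, x, hx⟩ := Module.Finite.exists_fin (R := R) (M := M)
  set a₁ := algebraMap R R₁ a with ha₁
  set T := FlatCA.powTorsion R₁ a₁ (R₁ ⊗[R] M) with hT
  have hx₁ := span_one_tmul M x hx R₁
  let x₁ : Fin n → R₁ ⊗[R] M := fun i => (1 : R₁) ⊗ₜ[R] x i
  have hxb : Submodule.span R₁ (Set.range (fun i => T.mkQ (x₁ i))) = ⊤ := by
    have : Set.range (fun i => T.mkQ (x₁ i)) = T.mkQ '' Set.range x₁ := by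
      rw [← Set.range_comp]; rfl
    rw [this, ← Submodule.map_span, hx₁, Submodule.map_top, Submodule.range_mkQ]
  -- powers of a₁ are nonzerodivisors
  have hpow : ∀ (m : ℕ) (r : R₁), a₁ ^ m * r = 0 → r = 0 := by
    intro m
    induction m with
    | zero => intro r h; simpa using h
    | succ m ih =>
      intro r h
      rw [pow_succ, mul_assoc] at h
      exact hnzd r (ih _ h)
  -- elements of the extended ideal are killed by powers of a₁
  have hkill : ∀ e ∈ (Fitt.ideal R M j).map (algebraMap R R₁), ∃ N : ℕ, a₁ ^ N * e = 0 := by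
    intro e he
    induction he using Submodule.span_induction with
    | mem e he =>
      obtain ⟨c, hcI, rfl⟩ := he
      obtain ⟨N, hN⟩ := hc c hcI
      refine ⟨N, ?_⟩
      rw [ha₁, ← map_pow, ← map_mul, hN, map_zero]
    | zero => exact ⟨0, by simp⟩
    | add e e' _ _ h1 h2 =>
      obtain ⟨N1, h1⟩ := h1
      obtain ⟨N2, h2⟩ := h2
      refine ⟨N1 + N2, ?_⟩
      have e1 : a₁ ^ (N1 + N2) * e = a₁ ^ N2 * (a₁ ^ N1 * e) := by ring
      have e2 : a₁ ^ (N1 + N2) * e' = a₁ ^ N1 * (a₁ ^ N2 * e') := by ring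
      rw [mul_add, e1, e2, h1, h2, mul_zero, mul_zero, add_zero]
    | smul r e _ h1 =>
      obtain ⟨N1, h1⟩ := h1
      refine ⟨N1, ?_⟩
      rw [smul_eq_mul, mul_left_comm, h1, mul_zero]
  rw [ideal_eq_D _ hxb, eq_bot_iff, D_le_iff]
  intro A' hA'
  rw [Ideal.mem_bot]
  -- exponents
  have hex : ∀ l : Fin n, ∃ N : ℕ, (l : ℕ) < n - j → a₁ ^ N • ∑ i, A' l i • x₁ i = 0 := by
    intro l
    by_cases hl : (l : ℕ) < n - j
    · have h0 := hA' l hl
      have h1 : T.mkQ (∑ i, A' l i • x₁ i) = 0 := by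
        rw [map_sum, ← h0]
        refine Finset.sum_congr rfl fun i _ => ?_
        rw [map_smul]
      rw [Submodule.mkQ_apply, Submodule.Quotient.mk_eq_zero, hT, mem_powTorsion_iff] at h1
      obtain ⟨N, hN⟩ := h1
      exact ⟨N, fun _ => hN⟩
    · exact ⟨0, fun h => absurd h hl⟩
  choose Nl hNl using hex
  let N := ∑ l, Nl l
  have hN : ∀ l : Fin n, (l : ℕ) < n - j → a₁ ^ N • ∑ i, A' l i • x₁ i = 0 := by
    intro l hl
    have : N = (N - Nl l) + Nl l := by
      have : Nl l ≤ N := Finset.single_le_sum (f := Nl) (fun _ _ => Nat.zero_le _) (Finset.mem_univ l)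
      omega
    rw [this, pow_add, mul_smul, hNl l hl, smul_zero]
  let v : Fin n → R₁ := fun l => if (l : ℕ) < n - j then a₁ ^ N else 1
  let B : Matrix (Fin n) (Fin n) R₁ := Matrix.of fun l i => v l * A' l i
  have hB : B.det ∈ D R₁ x₁ j := by
    apply det_mem_D
    intro l hl
    have := hN l hl
    rw [Finset.smul_sum] at this
    rw [← this]
    refine Finset.sum_congr rfl fun i _ => ?_
    simp only [B, v, Matrix.of_apply, hl, if_true, mul_smul]
  rw [← ideal_eq_D _ hx₁, ideal_baseChange] at hB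
  obtain ⟨N', hN'⟩ := hkill _ hB
  rw [Matrix.det_mul_column] at hN'
  have h1 := hpow N' _ hN'
  -- the product is a nonzerodivisor
  have hprod : ∀ r : R₁, (∏ l, v l) * r = 0 → r = 0 := by
    refine Finset.prod_induction v (fun y => ∀ r : R₁, y * r = 0 → r = 0) ?_ ?_ ?_
    · intro y y' hy hy' r h
      rw [mul_assoc] at h
      exact hy' r (hy _ h)
    · intro r h; simpa using h
    · intro l _ r h
      simp only [v] at h
      split_ifs at h
      · exact hpow N r h
      · simpa using h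
  exact hprod _ h1

theorem strictTransform_locallyFree (k : ℕ)
    (hfree : ∀ (p : Ideal R) [p.IsPrime], ¬ Fitt.ideal R M k ≤ p →
      Module.Free (Localization.AtPrime p) (LocalizedModule p.primeCompl M) ∧
        Module.finrank (Localization.AtPrime p) (LocalizedModule p.primeCompl M) = k)
    (a : R) (ha : a ∈ Fitt.ideal R M k) (R₁ : Type u) [CommRing R₁] [Algebra R R₁]
    (e : R₁ ≃ₐ[R] ↥(BlowUp.affineAlgebra R (Fitt.ideal R M k) a)) :
    ∀ (p' : Ideal R₁) [p'.IsPrime], ∃ g : R₁, g ∉ p' ∧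
      Module.Free (Localization.Away g) (LocalizedModule (Submonoid.powers g) ((R₁ ⊗[R] M) ⧸ FlatCA.powTorsion R₁ (algebraMap R R₁ a) (R₁ ⊗[R] M))) ∧
      Module.finrank (Localization.Away g) (LocalizedModule (Submonoid.powers g) ((R₁ ⊗[R] M) ⧸ FlatCA.powTorsion R₁ (algebraMap R R₁ a) (R₁ ⊗[R] M))) = k := by
  refine (locallyFree_iff ((R₁ ⊗[R] M) ⧸ FlatCA.powTorsion R₁ (algebraMap R R₁ a) (R₁ ⊗[R] M)) k).mpr ⟨?_, ?_⟩
  · intro j hj
    refine strictTransform_ideal_eq_bot M j a R₁ (blowup_nzd _ a R₁ e) ?_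
    intro c hcI
    refine exists_pow_mul_eq_zero_of_local a c ?_
    intro p hp hap
    have hnle : ¬ Fitt.ideal R M k ≤ p := fun h => hap (h ha)
    obtain ⟨hfr, hrank⟩ := hfree p hnle
    let b := Module.finBasisOfFinrankEq (Localization.AtPrime p)
      (LocalizedModule p.primeCompl M) hrank
    have h0 := ideal_basis_eq_bot b hj
    rw [ideal_localizedModule] at h0
    have hd0 : algebraMap R (Localization.AtPrime p) c = 0 := by
      have : algebraMap R (Localization.AtPrime p) c ∈
          (Fitt.ideal R M j).map (algebraMap R (Localization.AtPrime p)) :=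
        Ideal.mem_map_of_mem _ hcI
      rw [h0] at this
      simpa using this
    rw [IsLocalization.map_eq_zero_iff p.primeCompl] at hd0
    obtain ⟨⟨s, hs⟩, hm⟩ := hd0
    exact ⟨s, hs, hm⟩
  · intro j hj
    have h := strictTransform_ideal_eq_top M k a ha R₁ e
    rw [eq_top_iff, ← h]
    exact ideal_antitone _ _ hj

end strict

end Groth.Agent.H3Fitt
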