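import Mathlib
import Groth.Prelude.Def_Fitting
import Groth.Prelude.Def_BlowUp2
import Groth.Prelude.Def_FlatCA
import Groth.Agent.Lib.helper3.FittA
import Groth.Agent.Lib.helper3.FittB
import Groth.Agent.Lib.helper3.FittD
import Groth.Agent.Lib.helper3.FittE
import Groth.Agent.Lib.helper3.FittF
import Groth.Agent.Lib.helper3.FittH
import Groth.Agent.Lib.helper3.FittI
import Groth.Agent.Lib.helper3.FittJ
import Groth.Agent.Lib.helper3.FittK

set_option autoImplicit false
open Matrix TensorProduct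

namespace Groth.Agent.H3Fitt

universe u v w

section general
variable {R : Type u} [CommRing R]

/-- the ideal of determinants of matrices whose first `n - k` rows lie in a submodule `K`. -/
def DK {n : ℕ} (K : Submodule R (Fin n → R)) (k : ℕ) : Ideal R :=
  Ideal.span {d | ∃ A : Matrix (Fin n) (Fin n) R,
    (∀ l : Fin n, (l : ℕ) < n - k → A l ∈ K) ∧ d = A.det}

lemma det_mem_DK {n : ℕ} {K : Submodule R (Fin n → R)} {k : ℕ} (A : Matrix (Fin n) (Fin n) R)
    (hA : ∀ l : Fin n, (l : ℕ) < n - k → A l ∈ K) : A.det ∈ DK K k :=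
  Ideal.subset_span ⟨A, hA, rfl⟩

lemma adjugate_mem_DK {n : ℕ} {K : Submodule R (Fin n → R)} {k : ℕ}
    (A : Matrix (Fin n) (Fin n) R)
    (hA : ∀ l : Fin n, (l : ℕ) < n - k → A l ∈ K) (j l : Fin n) (hl : n - k ≤ (l : ℕ)) :
    A.adjugate j l ∈ DK K k := by
  rw [Matrix.adjugate_apply]
  apply det_mem_DK
  intro i hi
  have hne : i ≠ l := by
    intro e; subst e; omega
  rw [Matrix.updateRow_ne hne]
  exact hA i hi

lemma DK_fg {n : ℕ} (k : ℕ) (Z : Finset (Fin n → R)) :
    (DK (Submodule.span R (Z : Set (Fin n → R))) k).FG := by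
  classical
  let S : Fin n → Set (Fin n → R) := fun i =>
    if (i : ℕ) < n - k then (Z : Set (Fin n → R)) else Set.range (fun j : Fin n => Pi.single j (1 : R))
  have hSfin : ∀ i, (S i).Finite := by
    intro i
    simp only [S]
    split_ifs
    · exact Z.finite_toSet
    · exact Set.finite_range _
  let T : Set R := Matrix.det '' {a : Matrix (Fin n) (Fin n) R | ∀ i, a i ∈ S i}
  have hT : T.Finite := (Set.Finite.pi' hSfin).image _
  have : DK (Submodule.span R (Z : Set (Fin n → R))) k = Ideal.span T := by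
    apply le_antisymm
    · refine Ideal.span_le.mpr ?_
      rintro _ ⟨A, hA, rfl⟩
      refine det_mem_of_rows_mem_span (Ideal.span T) S ?_ A ?_
      · intro b hb
        exact Ideal.subset_span ⟨b, hb, rfl⟩
      · intro i
        simp only [S]
        split_ifs with hi
        · exact hA i hi
        · have : Submodule.span R (Set.range fun j : Fin n => Pi.single j (1 : R)) = ⊤ :=
            (Pi.basisFun R (Fin n)).span_eq ▸ by
              congr 1
              ext v
              simp [Pi.basisFun_apply]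
          rw [this]; trivial
    · refine Ideal.span_le.mpr ?_
      rintro _ ⟨a, ha, rfl⟩
      apply det_mem_DK
      intro i hi
      have := ha i
      simp only [S, hi, if_true] at this
      exact Submodule.subset_span this
  rw [this]
  exact Submodule.fg_span hT

end general

section strict
variable {R : Type u} [CommRing R] (M : Type u) [AddCommGroup M] [Module R M]

/-- general form of the "`Fit_k` of the strict transform is the unit ideal" argument. -/
theorem strict_top_general {n : ℕ} (x : Fin n → M) (hx : Submodule.span R (Set.range x) = ⊤)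
    (k : ℕ) (K : Submodule R (Fin n → R)) (hK : ∀ v ∈ K, ∑ i, v i • x i = 0)
    (R₁ : Type u) [CommRing R₁] [Algebra R R₁] (T : Submodule R₁ (R₁ ⊗[R] M))
    (j₀ : R) (hj₀ : j₀ ∈ DK K k)
    (hnzd : ∀ r : R₁, algebraMap R R₁ j₀ * r = 0 → r = 0)
    (hdiv : ∀ d ∈ DK K k, ∃ u : R₁, algebraMap R R₁ d = algebraMap R R₁ j₀ * u)
    (hT : ∀ z : R₁ ⊗[R] M, algebraMap R R₁ j₀ • z = 0 → z ∈ T) :
    Fitt.ideal R₁ ((R₁ ⊗[R] M) ⧸ T) k = ⊤ := by
  classical
  by_contra hne
  obtain ⟨q, hq, hle⟩ := Ideal.exists_le_maximal _ hne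
  have hqp : q.IsPrime := hq.isPrime
  set j₁ := algebraMap R R₁ j₀ with hj₁
  have key : ∃ A : Matrix (Fin n) (Fin n) R,
      (∀ l : Fin n, (l : ℕ) < n - k → A l ∈ K) ∧
        ∃ u : R₁, u ∉ q ∧ algebraMap R R₁ A.det = j₁ * u := by
    by_contra hcon
    push Not at hcon
    let J : Ideal R := Ideal.comap (algebraMap R R₁) (Ideal.span {j₁} * q)
    have hDJ : DK K k ≤ J := by
      refine Ideal.span_le.mpr ?_
      rintro _ ⟨A, hA, rfl⟩
      obtain ⟨u, hu⟩ := hdiv A.det (det_mem_DK A hA)
      have huq : u ∈ q := by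
        by_contra h
        exact hcon A hA u h hu
      show A.det ∈ J
      rw [Ideal.mem_comap, Ideal.mem_span_singleton_mul]
      exact ⟨u, huq, hu.symm⟩
    have haJ : j₀ ∈ J := hDJ hj₀
    rw [Ideal.mem_comap, Ideal.mem_span_singleton_mul] at haJ
    obtain ⟨u', hu'q, hu'⟩ := haJ
    have h0 : j₁ * (1 - u') = 0 := by rw [mul_sub, mul_one, hu', sub_self]
    have h1 := hnzd _ h0
    have : u' = 1 := (sub_eq_zero.mp h1).symm
    rw [this] at hu'q
    exact hq.ne_top ((Ideal.eq_top_iff_one _).mpr hu'q)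
  obtain ⟨A, hA, u, huq, hdet⟩ := key
  have hArel : ∀ i : Fin n, (i : ℕ) < n - k → ∑ j, A i j • x j = 0 := fun i hi => hK _ (hA i hi)
  have hpow : u ^ n ∈ Fitt.ideal R₁ ((R₁ ⊗[R] M) ⧸ T) k := by
    refine pow_mem_ideal_quotient (fun j => (1 : R₁) ⊗ₜ[R] x j) (span_one_tmul M x hx R₁) k _ j₁ u hT
      ((algebraMap R R₁).mapMatrix A) ?_ ?_ ?_
    · intro i hi
      exact map_rel M x R₁ (A i) (hArel i hi)
    · rw [← RingHom.map_det]; exact hdet
    · intro j l hl
      rw [← RingHom.map_adjugate]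
      exact hdiv _ (adjugate_mem_DK A hA j l hl)
  exact huq (hqp.mem_of_pow_mem n (hle hpow))

end strict

end Groth.Agent.H3Fitt
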