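import Mathlib
import Groth.Prelude.Def_Fitting
import Groth.Prelude.Def_BlowUp2
import Groth.Prelude.Def_FlatCA
import Groth.Agent.Lib.helper3.FittA
import Groth.Agent.Lib.helper3.FittB
import Groth.Agent.Lib.helper3.FittF
import Groth.Agent.Lib.helper3.FittH
import Groth.Agent.Lib.helper3.FittI
import Groth.Agent.Lib.helper3.FittJ
import Groth.Agent.Lib.helper3.FittK
import Groth.Agent.Lib.helper3.FittL

set_option autoImplicit false
open Matrix TensorProduct

namespace Groth.Agent.H3Fitt

universe u

variable {R : Type u} [CommRing R] (M : Type u) [AddCommGroup M] [Module R M] [Module.Finite R M]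

theorem exists_ideal_blowup (f : R) (r : ℕ)
    (hf : ∀ (p : Ideal R) [p.IsPrime], f ∉ p → ∃ g : R, g ∉ p ∧ g ∈ (Ideal.span {f}).radical ∧
      Module.Free (Localization.Away g) (LocalizedModule (Submonoid.powers g) M) ∧
        Module.finrank (Localization.Away g) (LocalizedModule (Submonoid.powers g) M) = r) :
    ∃ I : Ideal R, I.FG ∧ I.radical = (Ideal.span {f}).radical ∧ ∀ a ∈ I, ∀ (R₁ : Type u) [CommRing R₁] [Algebra R R₁] (e : R₁ ≃ₐ[R] ↥(BlowUp.affineAlgebra R I a)),
      ∀ (p' : Ideal R₁) [p'.IsPrime], ∃ g : R₁, g ∉ p' ∧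
        Module.Free (Localization.Away g) (LocalizedModule (Submonoid.powers g) ((R₁ ⊗[R] M) ⧸ FlatCA.powTorsion R₁ (algebraMap R R₁ a) (R₁ ⊗[R] M))) ∧
        Module.finrank (Localization.Away g) (LocalizedModule (Submonoid.powers g) ((R₁ ⊗[R] M) ⧸ FlatCA.powTorsion R₁ (algebraMap R R₁ a) (R₁ ⊗[R] M))) = r := by
  classical
  obtain ⟨n, x, hx⟩ := Module.Finite.exists_fin (R := R) (M := M)
  have hrad : f ∈ (Fitt.ideal R M r).radical := by
    rw [Ideal.radical_eq_sInf, Ideal.mem_sInf]
    rintro p ⟨hle, hp⟩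
    by_contra hfp
    obtain ⟨g, hg, -, hfree, hrank⟩ := hf p hfp
    have := nontrivial_away_of_notMem hg
    let b := Module.finBasisOfFinrankEq (Localization.Away g)
      (LocalizedModule (Submonoid.powers g) M) hrank
    exact (not_le_iff_away M r p).mpr ⟨g, hg, b, b.span_eq⟩ hle
  obtain ⟨N, hN⟩ := hrad
  rw [ideal_eq_D x hx] at hN
  unfold D at hN
  obtain ⟨T, hTsub, hT⟩ := Submodule.mem_span_finite_of_mem_span hN
  have hch : ∀ t : T, ∃ A : Matrix (Fin n) (Fin n) R,
      (∀ i : Fin n, (i : ℕ) < n - r → ∑ j, A i j • x j = 0) ∧ (t : R) = A.det := fun t => hTsub t.2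
  choose A hA hAdet using hch
  let Z : Finset (Fin n → R) := Finset.univ.biUnion fun t : T =>
    (Finset.univ.filter fun l : Fin n => (l : ℕ) < n - r).image fun l => A t l
  let K : Submodule R (Fin n → R) := Submodule.span R (Z : Set (Fin n → R))
  have hK : ∀ v ∈ K, ∑ i, v i • x i = 0 := by
    intro v hv
    induction hv using Submodule.span_induction with
    | mem v hv =>
      simp only [Z, Finset.coe_biUnion, Finset.coe_univ, Set.mem_univ, Set.iUnion_true,
        Set.mem_iUnion, Finset.coe_image, Finset.coe_filter, Finset.mem_univ, true_and,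
        Set.mem_image, Set.mem_ofPred_eq] at hv
      obtain ⟨t, l, hl, rfl⟩ := hv
      exact hA t l hl
    | zero => simp
    | add v w _ _ hv hw =>
      simp only [Pi.add_apply, add_smul, Finset.sum_add_distrib, hv, hw, add_zero]
    | smul c v _ hv =>
      simp only [Pi.smul_apply, smul_eq_mul, mul_smul]
      rw [← Finset.smul_sum, hv, smul_zero]
  have hJfg : (DK K r).FG := DK_fg r Z
  have hfN : f ^ N ∈ DK K r := by
    have hle : Submodule.span R (T : Set R) ≤ DK K r := by
      refine Submodule.span_le.mpr ?_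
      intro t ht
      have := hAdet ⟨t, ht⟩
      simp only at this
      rw [this]
      apply det_mem_DK
      intro l hl
      refine Submodule.subset_span ?_
      simp only [Z, Finset.coe_biUnion, Finset.coe_univ, Set.mem_univ, Set.iUnion_true,
        Set.mem_iUnion, Finset.coe_image, Finset.coe_filter, Finset.mem_univ, true_and,
        Set.mem_image, Set.mem_ofPred_eq]
      exact ⟨⟨t, ht⟩, l, hl, rfl⟩
    exact hle hT
  refine ⟨Ideal.span {f} * DK K r, Submodule.FG.mul (Submodule.fg_span_singleton f) hJfg, ?_, ?_⟩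
  · apply le_antisymm
    · exact Ideal.radical_mono Ideal.mul_le_left
    · rw [Ideal.radical_le_radical_iff, Ideal.span_singleton_le_iff_mem]
      refine ⟨N + 1, ?_⟩
      rw [pow_succ']
      exact Ideal.mul_mem_mul (Ideal.mem_span_singleton_self f) hfN
  · intro a ha R₁ _ _ e
    obtain ⟨j₀, hj₀, rfl⟩ := Ideal.mem_span_singleton_mul.mp ha
    have hnzd := blowup_nzd _ (f * j₀) R₁ e
    have hnzf : ∀ t : R₁, algebraMap R R₁ f * t = 0 → t = 0 := by
      intro t ht
      apply hnzd
      rw [map_mul, mul_comm (algebraMap R R₁ f), mul_assoc, ht, mul_zero]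
    have hnzj : ∀ t : R₁, algebraMap R R₁ j₀ * t = 0 → t = 0 := by
      intro t ht
      apply hnzd
      rw [map_mul, mul_assoc, ht, mul_zero]
    have hdiv : ∀ d ∈ DK K r, ∃ u : R₁, algebraMap R R₁ d = algebraMap R R₁ j₀ * u := by
      intro d hd
      obtain ⟨u, hu⟩ := blowup_div _ (f * j₀) R₁ e (f * d)
        (Ideal.mul_mem_mul (Ideal.mem_span_singleton_self f) hd)
      refine ⟨u, ?_⟩
      have : algebraMap R R₁ f * (algebraMap R R₁ d - algebraMap R R₁ j₀ * u) = 0 := by
        rw [mul_sub, ← map_mul, hu, map_mul]; ring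
      exact sub_eq_zero.mp (hnzf _ this)
    have htop : Fitt.ideal R₁ ((R₁ ⊗[R] M) ⧸ FlatCA.powTorsion R₁ (algebraMap R R₁ (f * j₀)) (R₁ ⊗[R] M)) r = ⊤ := by
      refine strict_top_general M x hx r K hK R₁ _ j₀ hj₀ hnzj hdiv ?_
      intro z hz
      rw [mem_powTorsion_iff]
      refine ⟨1, ?_⟩
      rw [pow_one, map_mul, mul_smul, hz, smul_zero]
    refine (locallyFree_iff ((R₁ ⊗[R] M) ⧸ FlatCA.powTorsion R₁ (algebraMap R R₁ (f * j₀)) (R₁ ⊗[R] M)) r).mpr ⟨?_, ?_⟩
    · intro j hj
      refine strictTransform_ideal_eq_bot M j (f * j₀) R₁ hnzd ?_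
      intro c hcI
      refine exists_pow_mul_eq_zero_of_local (f * j₀) c ?_
      intro p hp hap
      have hfp : f ∉ p := fun h => hap (Ideal.mul_mem_right _ _ h)
      obtain ⟨g, hg, -, hfree, hrank⟩ := hf p hfp
      have := nontrivial_away_of_notMem hg
      let b := Module.finBasisOfFinrankEq (Localization.Away g)
        (LocalizedModule (Submonoid.powers g) M) hrank
      have h0 := ideal_basis_eq_bot b hj
      rw [ideal_localizedModule] at h0
      have hd0 : algebraMap R (Localization.Away g) c = 0 := by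
        have : algebraMap R (Localization.Away g) c ∈
            (Fitt.ideal R M j).map (algebraMap R (Localization.Away g)) :=
          Ideal.mem_map_of_mem _ hcI
        rw [h0] at this
        simpa using this
      rw [IsLocalization.map_eq_zero_iff (Submonoid.powers g)] at hd0
      obtain ⟨⟨_, m, rfl⟩, hm⟩ := hd0
      exact ⟨g ^ m, fun h => hg (Ideal.IsPrime.mem_of_pow_mem inferInstance m h), hm⟩
    · intro j hj
      rw [eq_top_iff, ← htop]
      exact ideal_antitone _ _ hj

end Groth.Agent.H3Fitt
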