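import Mathlib
import Groth.Prelude.Def_Fitting
import Groth.Agent.Lib.helper3.FittA
import Groth.Agent.Lib.helper3.FittB
import Groth.Agent.Lib.helper3.FittG

set_option autoImplicit false
open Matrix

namespace Groth.Agent.H3Fitt

universe u v
variable {R : Type u} [CommRing R] {M : Type v} [AddCommGroup M] [Module R M]

/-- flexible membership: any index type, relation rows in any positions. -/
lemma det_mem_ideal_of_rows {ι : Type*} [Fintype ι] [DecidableEq ι] (x : ι → M)
    (hx : Submodule.span R (Set.range x) = ⊤) (k : ℕ) (A : Matrix ι ι R) (T : Finset ι)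
    (hT : Fintype.card ι ≤ T.card + k) (hA : ∀ i ∈ T, ∑ j, A i j • x j = 0) :
    A.det ∈ Fitt.ideal R M k := by
  classical
  set n := Fintype.card ι with hn
  let g₀ : Fin n ≃ ι := (Fintype.equivFin ι).symm
  have hcard : Fintype.card (Fin (n - k)) ≤ Fintype.card T := by
    rw [Fintype.card_fin, Fintype.card_coe]; omega
  obtain ⟨emb⟩ := Function.Embedding.nonempty_of_card_le hcard
  let f : Fin n → ι := fun i => if h : (i : ℕ) < n - k then (emb ⟨i, h⟩ : ι) else g₀ i
  let s : Finset (Fin n) := Finset.univ.filter fun i => (i : ℕ) < n - k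
  have hfs : Set.InjOn f s := by
    intro i hi j hj hij
    simp only [s, Finset.coe_filter, Finset.mem_univ, true_and, Set.mem_ofPred_eq] at hi hj
    simp only [f, hi, hj, dif_pos] at hij
    have := emb.injective (Subtype.ext hij)
    exact Fin.ext (by simpa using congrArg Fin.val this)
  obtain ⟨g', hg'⟩ := Finset.exists_equiv_extend_of_card_eq (α := Fin n) (β := ι)
    (t := Finset.univ) (by simp [hn]) (s := s) (f := f) (Finset.subset_univ _) hfs
  let g : Fin n ≃ ι := g'.trans (Equiv.subtypeUnivEquiv Finset.mem_univ)
  have hg : ∀ i : Fin n, (i : ℕ) < n - k → g i ∈ T := by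
    intro i h
    have := hg' i (by simp [s, h])
    have h2 : g i = f i := by
      simp only [g, Equiv.trans_apply, Equiv.subtypeUnivEquiv_apply, this]
    rw [h2]
    simp only [f, h, dif_pos]
    exact (emb ⟨i, h⟩).2
  have hy : Submodule.span R (Set.range (x ∘ g)) = ⊤ := by
    rw [Set.range_comp, g.surjective.range_eq, Set.image_univ, hx]
  have hdet : (A.submatrix g g).det = A.det := Matrix.det_submatrix_equiv_self g A
  rw [← hdet]
  refine D_le_ideal hy k (det_mem_D _ ?_)
  intro i hi
  rw [← hA (g i) (hg i hi), ← Equiv.sum_comp g]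
  rfl

/-- description of the Fitting ideal over any finite index type -/
lemma ideal_le_of_forall_rows {ι : Type*} [Fintype ι] [DecidableEq ι] (x : ι → M)
    (hx : Submodule.span R (Set.range x) = ⊤) (k : ℕ) (J : Ideal R)
    (h : ∀ (A : Matrix ι ι R) (T : Finset ι), Fintype.card ι ≤ T.card + k →
      (∀ i ∈ T, ∑ j, A i j • x j = 0) → A.det ∈ J) :
    Fitt.ideal R M k ≤ J := by
  classical
  set n := Fintype.card ι with hn
  let e : ι ≃ Fin n := Fintype.equivFin ι
  have hy : Submodule.span R (Set.range (x ∘ e.symm)) = ⊤ := by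
    rw [Set.range_comp, e.symm.surjective.range_eq, Set.image_univ, hx]
  rw [ideal_eq_D _ hy, D_le_iff]
  intro A hA
  have hdet : (A.submatrix e e).det = A.det := Matrix.det_submatrix_equiv_self e A
  rw [← hdet]
  refine h _ (Finset.univ.filter fun i => (e i : ℕ) < n - k) ?_ ?_
  · have : (Finset.univ.filter fun i : ι => (e i : ℕ) < n - k).card =
        (Finset.univ.filter fun i : Fin n => (i : ℕ) < n - k).card := by
      refine Finset.card_bij (fun i _ => e i) ?_ ?_ ?_
      · intro i hi; simpa using hi
      · intro i _ j _ h; exact e.injective h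
      · intro j hj
        exact ⟨e.symm j, by simpa using hj, by simp⟩
    rw [this]
    have h2 : (Finset.univ.filter fun i : Fin n => (i : ℕ) < n - k).card = n - k := by
      rw [Fin.card_filter_val_lt]
      exact Nat.min_eq_right (Nat.sub_le _ _)
    omega
  · intro i hi
    simp only [Finset.mem_filter, Finset.mem_univ, true_and] at hi
    rw [← hA (e i) hi, ← Equiv.sum_comp e]
    refine Finset.sum_congr rfl fun j _ => ?_
    simp

end Groth.Agent.H3Fitt
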