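import Mathlib
import Groth.Prelude.Def_Fitting
import Groth.Agent.Lib.helper3.FittA
import Groth.Agent.Lib.helper3.FittB
import Groth.Agent.Lib.helper3.FittN

set_option autoImplicit false
open Matrix

namespace Groth.Agent.H3Fitt

universe u v
variable {R : Type u} [CommRing R] {M : Type v} [AddCommGroup M] [Module R M]
  {M' : Type v} [AddCommGroup M'] [Module R M']

/-- the combined generating family of a product -/
def sumGen {n n' : ℕ} (x : Fin n → M) (x' : Fin n' → M') : Fin n ⊕ Fin n' → M × M' :=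
  Sum.elim (fun i => (x i, 0)) (fun i => (0, x' i))

lemma span_sumGen {n n' : ℕ} (x : Fin n → M) (x' : Fin n' → M')
    (hx : Submodule.span R (Set.range x) = ⊤) (hx' : Submodule.span R (Set.range x') = ⊤) :
    Submodule.span R (Set.range (sumGen x x')) = ⊤ := by
  unfold sumGen
  rw [Set.Sum.elim_range, Submodule.span_union]
  have h1 : Set.range (fun i => ((x i, 0) : M × M')) = LinearMap.inl R M M' '' Set.range x := by
    rw [← Set.range_comp]; rfl
  have h2 : Set.range (fun i => ((0, x' i) : M × M')) = LinearMap.inr R M M' '' Set.range x' := by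
    rw [← Set.range_comp]; rfl
  rw [h1, h2, ← Submodule.map_span, ← Submodule.map_span, hx, hx', Submodule.map_top,
    Submodule.map_top, LinearMap.sup_range_inl_inr]

lemma sum_sumGen {n n' : ℕ} (x : Fin n → M) (x' : Fin n' → M') (w : Fin n ⊕ Fin n' → R) :
    ∑ j, w j • sumGen x x' j = (∑ j, w (Sum.inl j) • x j, ∑ j, w (Sum.inr j) • x' j) := by
  rw [Fintype.sum_sum_type]
  simp only [sumGen, Sum.elim_inl, Sum.elim_inr, Prod.smul_mk, smul_zero]
  rw [Prod.ext_iff]
  constructor
  · simp [Prod.fst_sum]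
  · simp [Prod.snd_sum]

lemma mul_le_prod (k k' : ℕ) [Module.Finite R M] [Module.Finite R M'] :
    Fitt.ideal R M k * Fitt.ideal R M' k' ≤ Fitt.ideal R (M × M') (k + k') := by
  classical
  obtain ⟨n, x, hx⟩ := Module.Finite.exists_fin (R := R) (M := M)
  obtain ⟨n', x', hx'⟩ := Module.Finite.exists_fin (R := R) (M := M')
  rw [ideal_eq_D x hx, ideal_eq_D x' hx']
  unfold D
  rw [Ideal.span_mul_span']
  refine Ideal.span_le.mpr ?_
  rintro _ ⟨d, ⟨A, hA, rfl⟩, d', ⟨A', hA', rfl⟩, rfl⟩
  have hdet : (Matrix.fromBlocks A 0 0 A').det = A.det * A'.det := by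
    rw [Matrix.det_fromBlocks_zero₂₁]
  show A.det * A'.det ∈ _
  rw [← hdet]
  refine det_mem_ideal_of_rows (sumGen x x') (span_sumGen x x' hx hx') (k + k') _
    ((Finset.univ.filter fun i : Fin n => (i : ℕ) < n - k).disjSum
      (Finset.univ.filter fun i : Fin n' => (i : ℕ) < n' - k')) ?_ ?_
  · rw [Finset.card_disjSum, Fin.card_filter_val_lt, Fin.card_filter_val_lt, Fintype.card_sum,
      Fintype.card_fin, Fintype.card_fin]
    omega
  · intro i hi
    rw [sum_sumGen]
    rw [Finset.mem_disjSum] at hi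
    rcases hi with ⟨i0, hi0, rfl⟩ | ⟨i0, hi0, rfl⟩
    · simp only [Finset.mem_filter, Finset.mem_univ, true_and] at hi0
      simp only [Matrix.fromBlocks_apply₁₁, Matrix.fromBlocks_apply₁₂, Matrix.zero_apply, zero_smul,
        Finset.sum_const_zero, hA i0 hi0]
      rfl
    · simp only [Finset.mem_filter, Finset.mem_univ, true_and] at hi0
      simp only [Matrix.fromBlocks_apply₂₁, Matrix.fromBlocks_apply₂₂, Matrix.zero_apply, zero_smul,
        Finset.sum_const_zero, hA' i0 hi0]
      rfl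


lemma sign_mul_mem' {ι : Type*} [Fintype ι] [DecidableEq ι] (σ : Equiv.Perm ι) {J : Ideal R} {r : R}
    (h : ((Equiv.Perm.sign σ : ℤ) : R) * r ∈ J) : r ∈ J := by
  have h2 : r = ((Equiv.Perm.sign σ : ℤ) : R) * (((Equiv.Perm.sign σ : ℤ) : R) * r) := by
    rw [← mul_assoc, ← Int.cast_mul]
    have : ((Equiv.Perm.sign σ : ℤ)) * (Equiv.Perm.sign σ : ℤ) = 1 := by
      rw [← Units.val_mul, Int.units_mul_self]; rfl
    rw [this]; simp
  rw [h2]
  exact Ideal.mul_mem_left _ _ h

/-- zero pattern forcing a vanishing determinant -/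
lemma det_eq_zero_of_pattern {n n' : ℕ} (B : Matrix (Fin n ⊕ Fin n') (Fin n ⊕ Fin n') R)
    (P : Finset (Fin n ⊕ Fin n'))
    (h1 : ∀ i ∈ P, ∀ j', B i (Sum.inr j') = 0) (h2 : ∀ i, i ∉ P → ∀ j, B i (Sum.inl j) = 0)
    (hP : P.card ≠ n) : B.det = 0 := by
  classical
  rw [Matrix.det_apply]
  refine Finset.sum_eq_zero fun σ _ => ?_
  have : ∏ i, B (σ i) i = 0 := by
    by_contra hne
    have hall : ∀ i, B (σ i) i ≠ 0 := by
      intro i h0
      exact hne (Finset.prod_eq_zero (Finset.mem_univ i) h0)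
    apply hP
    have hPeq : P = Finset.univ.image (fun j : Fin n => σ (Sum.inl j)) := by
      ext r
      simp only [Finset.mem_image, Finset.mem_univ, true_and]
      constructor
      · intro hr
        obtain ⟨c, rfl⟩ := σ.surjective r
        rcases c with j | j'
        · exact ⟨j, rfl⟩
        · exact absurd (h1 _ hr j') (hall _)
      · rintro ⟨j, rfl⟩
        by_contra hnot
        exact hall _ (h2 _ hnot j)
    rw [hPeq, Finset.card_image_of_injective _ (fun a b h => Sum.inl_injective (σ.injective h))]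
    simp
  rw [this, smul_zero]

lemma det_mem_sum_of_pure {n n' : ℕ} (x : Fin n → M) (x' : Fin n' → M')
    (hx : Submodule.span R (Set.range x) = ⊤) (hx' : Submodule.span R (Set.range x') = ⊤)
    (l : ℕ) (B : Matrix (Fin n ⊕ Fin n') (Fin n ⊕ Fin n') R) (T : Finset (Fin n ⊕ Fin n'))
    (hT : n + n' ≤ T.card + l) (P : Finset (Fin n ⊕ Fin n'))
    (h1 : ∀ i ∈ P, ∃ v : Fin n → R, B i = Sum.elim v (0 : Fin n' → R) ∧ (i ∈ T → ∑ j, v j • x j = 0))
    (h2 : ∀ i, i ∉ P → ∃ v' : Fin n' → R, B i = Sum.elim (0 : Fin n → R) v' ∧ (i ∈ T → ∑ j, v' j • x' j = 0)) :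
    B.det ∈ ∑ k ∈ Finset.range (l + 1), Fitt.ideal R M k * Fitt.ideal R M' (l - k) := by
  classical
  have hz1 : ∀ i ∈ P, ∀ j', B i (Sum.inr j') = 0 := by
    intro i hi j'
    obtain ⟨v, hv, -⟩ := h1 i hi
    rw [hv]; rfl
  have hz2 : ∀ i, i ∉ P → ∀ j, B i (Sum.inl j) = 0 := by
    intro i hi j
    obtain ⟨v, hv, -⟩ := h2 i hi
    rw [hv]; rfl
  by_cases hP : P.card = n
  · have hc1 : Fintype.card {i // i ∈ P} = n := by rw [Fintype.card_coe, hP]
    have hc2 : Fintype.card {i // i ∉ P} = n' := by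
      rw [Fintype.card_subtype_compl, Fintype.card_coe, hP, Fintype.card_sum, Fintype.card_fin,
        Fintype.card_fin]
      omega
    let e₁ : Fin n ≃ {i // i ∈ P} := (Fintype.equivFinOfCardEq hc1).symm
    let e₂ : Fin n' ≃ {i // i ∉ P} := (Fintype.equivFinOfCardEq hc2).symm
    let ρ : Equiv.Perm (Fin n ⊕ Fin n') := (Equiv.sumCongr e₁ e₂).trans (Equiv.sumCompl (· ∈ P))
    have hρ1 : ∀ i, ρ (Sum.inl i) ∈ P := fun i => (e₁ i).2
    have hρ2 : ∀ i, ρ (Sum.inr i) ∉ P := fun i => (e₂ i).2
    let A : Matrix (Fin n) (Fin n) R := Matrix.of fun i j => B (ρ (Sum.inl i)) (Sum.inl j)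
    let A' : Matrix (Fin n') (Fin n') R := Matrix.of fun i j => B (ρ (Sum.inr i)) (Sum.inr j)
    have hblock : B.submatrix ρ id = Matrix.fromBlocks A 0 0 A' := by
      ext i j
      rcases i with i | i <;> rcases j with j | j
      · rfl
      · simp only [Matrix.submatrix_apply, id_eq, Matrix.fromBlocks_apply₁₂, Matrix.zero_apply]
        exact hz1 _ (hρ1 i) j
      · simp only [Matrix.submatrix_apply, id_eq, Matrix.fromBlocks_apply₂₁, Matrix.zero_apply]
        exact hz2 _ (hρ2 i) j
      · rfl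
    have hdet : ((Equiv.Perm.sign ρ : ℤ) : R) * B.det = A.det * A'.det := by
      rw [← Matrix.det_permute, hblock, Matrix.det_fromBlocks_zero₂₁]
    apply sign_mul_mem' ρ
    rw [hdet]
    let T₁ : Finset (Fin n) := Finset.univ.filter fun i => ρ (Sum.inl i) ∈ T
    let T₂ : Finset (Fin n') := Finset.univ.filter fun i => ρ (Sum.inr i) ∈ T
    have hcard : T.card = T₁.card + T₂.card := by
      rw [← Finset.card_disjSum, ← Finset.card_map ρ.symm.toEmbedding]
      congr 1
      ext c
      simp only [Finset.mem_map_equiv, Equiv.symm_symm, Finset.mem_disjSum]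
      rcases c with i | i
      · simp [T₁]
      · simp [T₂]
    have h1c : T₁.card ≤ n := by simpa using Finset.card_le_univ T₁
    have h2c : T₂.card ≤ n' := by simpa using Finset.card_le_univ T₂
    have hA : A.det ∈ Fitt.ideal R M (n - T₁.card) := by
      refine det_mem_ideal_of_rows x hx _ A T₁ (by simp; omega) ?_
      intro i hi
      simp only [T₁, Finset.mem_filter, Finset.mem_univ, true_and] at hi
      obtain ⟨v, hv, hrel⟩ := h1 _ (hρ1 i)
      have : ∀ j, A i j = v j := by
        intro j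
        simp only [A, Matrix.of_apply, hv, Sum.elim_inl]
      simp only [this]
      exact hrel hi
    have hA' : A'.det ∈ Fitt.ideal R M' (n' - T₂.card) := by
      refine det_mem_ideal_of_rows x' hx' _ A' T₂ (by simp; omega) ?_
      intro i hi
      simp only [T₂, Finset.mem_filter, Finset.mem_univ, true_and] at hi
      obtain ⟨v, hv, hrel⟩ := h2 _ (hρ2 i)
      have : ∀ j, A' i j = v j := by
        intro j
        simp only [A', Matrix.of_apply, hv, Sum.elim_inr]
      simp only [this]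
      exact hrel hi
    have hk : n - T₁.card ∈ Finset.range (l + 1) := by
      rw [Finset.mem_range]; omega
    have hle : Fitt.ideal R M (n - T₁.card) * Fitt.ideal R M' (l - (n - T₁.card)) ≤
        ∑ k ∈ Finset.range (l + 1), Fitt.ideal R M k * Fitt.ideal R M' (l - k) := by
      rw [Ideal.sum_eq_sup]
      exact Finset.le_sup (f := fun k => Fitt.ideal R M k * Fitt.ideal R M' (l - k)) hk
    apply hle
    refine Ideal.mul_mem_mul hA (ideal_antitone R M' ?_ hA')
    omega
  · rw [det_eq_zero_of_pattern B P hz1 hz2 hP]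
    exact Ideal.zero_mem _

theorem prod_le_sum [Module.Finite R M] [Module.Finite R M'] (l : ℕ) :
    Fitt.ideal R (M × M') l ≤
      ∑ k ∈ Finset.range (l + 1), Fitt.ideal R M k * Fitt.ideal R M' (l - k) := by
  classical
  obtain ⟨n, x, hx⟩ := Module.Finite.exists_fin (R := R) (M := M)
  obtain ⟨n', x', hx'⟩ := Module.Finite.exists_fin (R := R) (M := M')
  refine ideal_le_of_forall_rows (sumGen x x') (span_sumGen x x' hx hx') l _ ?_
  intro B T hT hB
  have hT' : n + n' ≤ T.card + l := by simpa using hT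
  let S : (Fin n ⊕ Fin n') → Set ((Fin n ⊕ Fin n') → R) := fun i =>
    {w | (∃ v : Fin n → R, w = Sum.elim v (0 : Fin n' → R) ∧ (i ∈ T → ∑ j, v j • x j = 0)) ∨
      (∃ v' : Fin n' → R, w = Sum.elim (0 : Fin n → R) v' ∧ (i ∈ T → ∑ j, v' j • x' j = 0))}
  refine det_mem_of_rows_mem_span _ S ?_ B ?_
  · intro b hb
    let P : Finset (Fin n ⊕ Fin n') := Finset.univ.filter fun i =>
      ∃ v : Fin n → R, b i = Sum.elim v (0 : Fin n' → R) ∧ (i ∈ T → ∑ j, v j • x j = 0)
    refine det_mem_sum_of_pure x x' hx hx' l b T hT' P ?_ ?_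
    · intro i hi
      simpa [P] using hi
    · intro i hi
      have hi' : ¬ ∃ v : Fin n → R, b i = Sum.elim v (0 : Fin n' → R) ∧ (i ∈ T → ∑ j, v j • x j = 0) := by
        simpa [P] using hi
      exact (hb i).resolve_left hi'
  · intro i
    have hsplit : B i = Sum.elim (fun j => B i (Sum.inl j)) (0 : Fin n' → R) + Sum.elim (0 : Fin n → R) (fun j => B i (Sum.inr j)) := by
      funext c
      rcases c with j | j <;> simp
    have hrel : i ∈ T → (∑ j, B i (Sum.inl j) • x j = 0 ∧ ∑ j, B i (Sum.inr j) • x' j = 0) := by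
      intro hi
      have := hB i hi
      rw [sum_sumGen, Prod.mk_eq_zero] at this
      exact this
    rw [hsplit]
    refine Submodule.add_mem _ (Submodule.subset_span (Or.inl ⟨_, rfl, fun hi => (hrel hi).1⟩))
      (Submodule.subset_span (Or.inr ⟨_, rfl, fun hi => (hrel hi).2⟩))

theorem ideal_prod [Module.Finite R M] [Module.Finite R M'] (l : ℕ) :
    Fitt.ideal R (M × M') l =
      ∑ k ∈ Finset.range (l + 1), Fitt.ideal R M k * Fitt.ideal R M' (l - k) := by
  apply le_antisymm (prod_le_sum l)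
  rw [Ideal.sum_eq_sup]
  refine Finset.sup_le fun k hk => ?_
  rw [Finset.mem_range] at hk
  have := mul_le_prod (R := R) (M := M) (M' := M') k (l - k)
  have h2 : k + (l - k) = l := by omega
  rwa [h2] at this

end Groth.Agent.H3Fitt
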