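import Mathlib
import Groth.Prelude.Def_Fitting
import Groth.Agent.Lib.helper3.FittA
import Groth.Agent.Lib.helper3.FittB
import Groth.Agent.Lib.helper3.FittD
import Groth.Agent.Lib.helper3.FittE
import Groth.Agent.Lib.helper3.FittI
import Groth.Agent.Lib.helper3.FittJ

set_option autoImplicit false
open Matrix

namespace Groth.Agent.H3Fitt

universe u v
variable {R : Type u} [CommRing R]

section
variable {M : Type v} [AddCommGroup M] [Module R M]

/-- `Fit_k (M / T) = ⊤` when `Fit_k M = (f)` with `f` a nonzerodivisor and `T ⊇ M[f]`. -/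
theorem quotient_top_of_principal [Module.Finite R M] (k : ℕ) (f : R) (hf0 : f ∈ nonZeroDivisors R)
    (hf : Fitt.ideal R M k = Ideal.span {f}) (T : Submodule R M)
    (hT : ∀ z : M, f • z = 0 → z ∈ T) : Fitt.ideal R (M ⧸ T) k = ⊤ := by
  classical
  obtain ⟨n, x, hx⟩ := Module.Finite.exists_fin (R := R) (M := M)
  rw [ideal_eq_D x hx] at hf
  by_contra hne
  obtain ⟨q, hq, hle⟩ := Ideal.exists_le_maximal _ hne
  have hqp : q.IsPrime := hq.isPrime
  have key : ∃ A : Matrix (Fin n) (Fin n) R,
      (∀ i : Fin n, (i : ℕ) < n - k → ∑ j, A i j • x j = 0) ∧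
        ∃ u : R, u ∉ q ∧ A.det = f * u := by
    by_contra hcon
    push Not at hcon
    have hDJ : D R x k ≤ Ideal.span {f} * q := by
      rw [D_le_iff]
      intro A hA
      have h1 : A.det ∈ Ideal.span {f} := by rw [← hf]; exact det_mem_D A hA
      obtain ⟨u, hu⟩ := Ideal.mem_span_singleton'.mp h1
      have huq : u ∈ q := by
        by_contra h
        exact hcon A hA u h (by rw [← hu, mul_comm])
      rw [Ideal.mem_span_singleton_mul]
      exact ⟨u, huq, by rw [← hu, mul_comm]⟩
    have hfJ : f ∈ Ideal.span {f} * q := hDJ (by rw [hf]; exact Ideal.mem_span_singleton_self f)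
    rw [Ideal.mem_span_singleton_mul] at hfJ
    obtain ⟨u', hu'q, hu'⟩ := hfJ
    have h0 : f * (1 - u') = 0 := by rw [mul_sub, mul_one, hu', sub_self]
    have h1 : 1 - u' = 0 := (mul_left_mem_nonZeroDivisors_eq_zero_iff hf0).mp h0
    have : u' = 1 := (sub_eq_zero.mp h1).symm
    rw [this] at hu'q
    exact hq.ne_top ((Ideal.eq_top_iff_one _).mpr hu'q)
  obtain ⟨A, hA, u, huq, hdet⟩ := key
  have hpow : u ^ n ∈ Fitt.ideal R (M ⧸ T) k := by
    refine pow_mem_ideal_quotient x hx k T f u hT A hA hdet ?_
    intro j l hl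
    have : A.adjugate j l ∈ Ideal.span {f} := by
      rw [← hf]; exact adjugate_mem_D A hA j l hl
    obtain ⟨c, hc⟩ := Ideal.mem_span_singleton'.mp this
    exact ⟨c, by rw [← hc, mul_comm]⟩
  exact huq (hqp.mem_of_pow_mem n (hle hpow))

/-- `Fit_j (N / T) = ⊥` when `T` is `a`-power torsion, `a` a nonzerodivisor and `Fit_j N` is
`a`-power torsion. -/
theorem quotient_bot_of_torsion [Module.Finite R M] (j : ℕ) (a : R) (ha : a ∈ nonZeroDivisors R)
    (T : Submodule R M) (hT : ∀ z ∈ T, ∃ m : ℕ, a ^ m • z = 0)
    (hc : ∀ c ∈ Fitt.ideal R M j, ∃ N : ℕ, a ^ N * c = 0) :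
    Fitt.ideal R (M ⧸ T) j = ⊥ := by
  classical
  obtain ⟨n, x, hx⟩ := Module.Finite.exists_fin (R := R) (M := M)
  have hxb : Submodule.span R (Set.range (fun i => T.mkQ (x i))) = ⊤ := by
    have : Set.range (fun i => T.mkQ (x i)) = T.mkQ '' Set.range x := by
      rw [← Set.range_comp]; rfl
    rw [this, ← Submodule.map_span, hx, Submodule.map_top, Submodule.range_mkQ]
  have hpow : ∀ (m : ℕ) (r : R), a ^ m * r = 0 → r = 0 := by
    intro m r h
    have := pow_mem ha m
    exact (mul_left_mem_nonZeroDivisors_eq_zero_iff this).mp h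
  rw [ideal_eq_D _ hxb, eq_bot_iff, D_le_iff]
  intro A' hA'
  rw [Ideal.mem_bot]
  have hex : ∀ l : Fin n, ∃ N : ℕ, (l : ℕ) < n - j → a ^ N • ∑ i, A' l i • x i = 0 := by
    intro l
    by_cases hl : (l : ℕ) < n - j
    · have h0 := hA' l hl
      have h1 : T.mkQ (∑ i, A' l i • x i) = 0 := by
        rw [map_sum, ← h0]
        refine Finset.sum_congr rfl fun i _ => ?_
        rw [map_smul]
      rw [Submodule.mkQ_apply, Submodule.Quotient.mk_eq_zero] at h1
      obtain ⟨N, hN⟩ := hT _ h1
      exact ⟨N, fun _ => hN⟩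
    · exact ⟨0, fun h => absurd h hl⟩
  choose Nl hNl using hex
  let N := ∑ l, Nl l
  have hN : ∀ l : Fin n, (l : ℕ) < n - j → a ^ N • ∑ i, A' l i • x i = 0 := by
    intro l hl
    have : N = (N - Nl l) + Nl l := by
      have : Nl l ≤ N := Finset.single_le_sum (f := Nl) (fun _ _ => Nat.zero_le _) (Finset.mem_univ l)
      omega
    rw [this, pow_add, mul_smul, hNl l hl, smul_zero]
  let v : Fin n → R := fun l => if (l : ℕ) < n - j then a ^ N else 1
  let B : Matrix (Fin n) (Fin n) R := Matrix.of fun l i => v l * A' l i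
  have hB : B.det ∈ D R x j := by
    apply det_mem_D
    intro l hl
    have := hN l hl
    rw [Finset.smul_sum] at this
    rw [← this]
    refine Finset.sum_congr rfl fun i _ => ?_
    simp only [B, v, Matrix.of_apply, hl, if_true, mul_smul]
  rw [← ideal_eq_D _ hx] at hB
  obtain ⟨N', hN'⟩ := hc _ hB
  rw [Matrix.det_mul_column] at hN'
  have h1 := hpow N' _ hN'
  have hprod : ∀ r : R, (∏ l, v l) * r = 0 → r = 0 := by
    refine Finset.prod_induction v (fun y => ∀ r : R, y * r = 0 → r = 0) ?_ ?_ ?_
    · intro y y' hy hy' r h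
      rw [mul_assoc] at h
      exact hy' r (hy _ h)
    · intro r h; simpa using h
    · intro l _ r h
      simp only [v] at h
      split_ifs at h
      · exact hpow N r h
      · simpa using h
  exact hprod _ h1

end

section
variable (P : Type u) [AddCommGroup P] [Module R P] [Module.Finite R P]

/-- a finite module with the Fitting ideals of a locally free module of rank `k` is projective. -/
theorem projective_of_fitting (k : ℕ) (h1 : ∀ j, j < k → Fitt.ideal R P j = ⊥)
    (h2 : ∀ j, k ≤ j → Fitt.ideal R P j = ⊤) : Module.Projective R P := by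
  have hloc := (locallyFree_iff P k).mpr ⟨h1, h2⟩
  let s : Set R := {g | Module.Free (Localization.Away g) (LocalizedModule (Submonoid.powers g) P)}
  have hs : Ideal.span s = ⊤ := by
    by_contra hne
    obtain ⟨p, hp, hle⟩ := Ideal.exists_le_maximal _ hne
    have := hp.isPrime
    obtain ⟨g, hg, hfree, -⟩ := hloc p
    exact hg (hle (Ideal.subset_span hfree))
  have hfp : Module.FinitePresentation R P := by
    refine Module.FinitePresentation.of_localizationSpan s hs ?_
    rintro ⟨g, hg⟩
    have : Module.Free (Localization.Away g) (LocalizedModule (Submonoid.powers g) P) := hg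
    exact Module.finitePresentation_of_projective _ _
  refine Module.projective_of_localization_maximal ?_
  intro I hI
  have hIp := hI.isPrime
  have hr : ¬ Fitt.ideal R P k ≤ I := by
    rw [h2 k le_rfl]
    intro h
    exact hIp.ne_top (top_le_iff.mp h)
  obtain ⟨g, hg⟩ := (not_le_iff_atPrime P k I).mp hr
  have hli : LinearIndependent (Localization.AtPrime I) g := by
    rcases Nat.eq_zero_or_pos k with h0 | hpos
    · subst h0
      exact linearIndependent_empty_type
    · apply linearIndependent_of_ideal_eq_bot g hg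
      rw [ideal_localizedModule, h1 (k - 1) (by omega), Ideal.map_bot]
  let b : Module.Basis (Fin k) (Localization.AtPrime I) (LocalizedModule I.primeCompl P) :=
    Module.Basis.mk hli (by rw [hg])
  have := Module.Free.of_basis b
  infer_instance

end

end Groth.Agent.H3Fitt
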