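import Mathlib
import Groth.Prelude.Def_Fitting
import Groth.Agent.Lib.helper3.FittA
import Groth.Agent.Lib.helper3.FittB

set_option autoImplicit false
open Matrix

namespace Groth.Agent.H3Fitt

universe u v
variable {R : Type u} [CommRing R] {N : Type v} [AddCommGroup N] [Module R N]

lemma cramer_row {m : ℕ} (A : Matrix (Fin m) (Fin m) R) (v : Fin m → R) :
    A.det • v = ∑ i, (A.updateRow i v).det • A i := by
  have h := Matrix.mulVec_cramer Aᵀ v
  rw [Matrix.det_transpose] at h
  rw [← h]
  funext j
  simp only [Matrix.mulVec, dotProduct, Matrix.transpose_apply, Matrix.cramer_transpose_apply,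
    Finset.sum_apply, Pi.smul_apply, smul_eq_mul]
  refine Finset.sum_congr rfl fun i _ => ?_
  rw [mul_comm]

/-- If `Fit_0 N = (f)` with `f` a nonzerodivisor, the module of relations among any finite generating
family is projective. -/
theorem ker_projective_of_fitting_zero (f : R) (hf0 : f ∈ nonZeroDivisors R)
    (hf : Fitt.ideal R N 0 = Ideal.span {f}) {m : ℕ} (y : Fin m → N)
    (hy : Submodule.span R (Set.range y) = ⊤) :
    Module.Projective R (LinearMap.ker (Fintype.linearCombination R y)) := by
  classical
  rw [ideal_eq_D y hy] at hf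
  have hcancel : ∀ a b : R, f * a = f * b → a = b := by
    intro a b h
    exact (mul_cancel_left_mem_nonZeroDivisors hf0).mp h
  have hfmem : f ∈ Submodule.span R (detSet R y 0) := by
    have : f ∈ D R y 0 := by rw [hf]; exact Ideal.mem_span_singleton_self f
    exact this
  obtain ⟨T, hTsub, hTf⟩ := Submodule.mem_span_finite_of_mem_span hfmem
  rw [Submodule.mem_span_finset'] at hTf
  obtain ⟨g, hg⟩ := hTf
  have hch : ∀ t : T, ∃ A : Matrix (Fin m) (Fin m) R,
      (∀ i : Fin m, (i : ℕ) < m - 0 → ∑ j, A i j • y j = 0) ∧ (t : R) = A.det := fun t => hTsub t.2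
  choose A hA hAdet using hch
  have hrel : ∀ (t : T) (i : Fin m), ∑ j, A t i j • y j = 0 := fun t i => hA t i (by simp)
  have hmemK : ∀ (t : T) (i : Fin m), A t i ∈ LinearMap.ker (Fintype.linearCombination R y) := by
    intro t i
    rw [LinearMap.mem_ker, Fintype.linearCombination_apply]
    exact hrel t i
  have hu : ∀ t : T, ∃ u : R, (t : R) = f * u := by
    intro t
    have : (t : R) ∈ Ideal.span {f} := by
      rw [← hf, hAdet t]; exact det_mem_D _ (hA t)
    obtain ⟨u, hu⟩ := Ideal.mem_span_singleton'.mp this
    exact ⟨u, by rw [← hu, mul_comm]⟩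
  choose u hu using hu
  have hsum : ∑ t : T, g t * u t = 1 := by
    apply hcancel
    rw [mul_one, Finset.mul_sum]
    conv_rhs => rw [← hg]
    refine Finset.sum_congr rfl fun t _ => ?_
    rw [smul_eq_mul, hu t]; ring
  set K := LinearMap.ker (Fintype.linearCombination R y) with hK
  have hex : ∀ (t : T) (i : Fin m) (v : K),
      ∃ c : R, ((A t).updateRow i (v : Fin m → R)).det = f * c := by
    intro t i v
    have : ((A t).updateRow i (v : Fin m → R)).det ∈ Ideal.span {f} := by
      rw [← hf]
      apply det_mem_D
      intro l _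
      by_cases hl : l = i
      · subst hl
        simp only [Matrix.updateRow_self]
        have h3 : (v : Fin m → R) ∈ LinearMap.ker (Fintype.linearCombination R y) := v.2
        rw [LinearMap.mem_ker, Fintype.linearCombination_apply] at h3
        exact h3
      · simp only [Matrix.updateRow_ne hl]
        exact hrel t l
    obtain ⟨c, hc⟩ := Ideal.mem_span_singleton'.mp this
    exact ⟨c, by rw [← hc, mul_comm]⟩
  choose c hc using hex
  let ci : T → Fin m → (K →ₗ[R] R) := fun t i =>
    { toFun := c t i
      map_add' := by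
        intro v w
        apply hcancel
        rw [mul_add, ← hc, ← hc, ← hc]
        exact Matrix.det_updateRow_add _ _ _ _
      map_smul' := by
        intro r v
        apply hcancel
        rw [RingHom.id_apply, smul_eq_mul, mul_left_comm, ← hc, ← hc]
        exact Matrix.det_updateRow_smul _ _ _ _ }
  have hkey : ∀ (t : T) (v : K), u t • (v : Fin m → R) = ∑ i, c t i v • A t i := by
    intro t v
    have h1 := cramer_row (A t) (v : Fin m → R)
    rw [← hAdet t, hu t] at h1
    funext j
    apply hcancel
    have h2 := congrFun h1 j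
    simp only [Pi.smul_apply, smul_eq_mul, Finset.sum_apply] at h2 ⊢
    rw [← mul_assoc, h2, Finset.mul_sum]
    refine Finset.sum_congr rfl fun i _ => ?_
    rw [hc t i v]; ring
  let F := (T × Fin m) → R
  let imap : K →ₗ[R] F := LinearMap.pi fun p => ci p.1 p.2
  let smap : F →ₗ[R] K := ∑ p : T × Fin m,
    g p.1 • ((LinearMap.proj p : F →ₗ[R] R).smulRight (⟨A p.1 p.2, hmemK p.1 p.2⟩ : K))
  refine Module.Projective.of_split imap smap ?_
  ext v : 1
  apply Subtype.ext
  simp only [LinearMap.comp_apply, LinearMap.id_apply]
  have hval : ((smap (imap v) : K) : Fin m → R) =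
      ∑ p : T × Fin m, (g p.1 * c p.1 p.2 v) • A p.1 p.2 := by
    simp only [smap, imap, LinearMap.sum_apply, LinearMap.smul_apply, LinearMap.smulRight_apply,
      LinearMap.proj_apply, LinearMap.pi_apply]
    rw [Submodule.coe_sum]
    refine Finset.sum_congr rfl fun p _ => ?_
    simp only [Submodule.coe_smul, mul_smul]
    rfl
  rw [hval, Fintype.sum_prod_type]
  calc ∑ t : T, ∑ i, (g t * c t i v) • A t i = ∑ t : T, g t • (u t • (v : Fin m → R)) := by
        refine Finset.sum_congr rfl fun t _ => ?_
        rw [hkey t v, Finset.smul_sum]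
        refine Finset.sum_congr rfl fun i _ => ?_
        rw [mul_smul]
    _ = (∑ t : T, g t * u t) • (v : Fin m → R) := by
        rw [Finset.sum_smul]
        refine Finset.sum_congr rfl fun t _ => ?_
        rw [mul_smul]
    _ = (v : Fin m → R) := by rw [hsum, one_smul]

end Groth.Agent.H3Fitt
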