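import Mathlib
import Groth.Prelude.Def_Fitting
import Groth.Agent.Lib.helper3.FittA
import Groth.Agent.Lib.helper3.FittB
import Groth.Agent.Lib.helper3.FittI
import Groth.Agent.Lib.helper3.FittJ
import Groth.Agent.Lib.helper3.FittO
import Groth.Agent.Lib.helper3.FittP
import Groth.Agent.Lib.helper3.FittQ

set_option autoImplicit false
open Matrix CategoryTheory

namespace Groth.Agent.H3Fitt

universe u
variable {R : Type u} [CommRing R]

lemma smul_eq_zero_of_projective (P : Type u) [AddCommGroup P] [Module R P] [Module.Projective R P]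
    (r : R) (hr : r ∈ nonZeroDivisors R) (p : P) (h : r • p = 0) : p = 0 := by
  obtain ⟨σ, hσ⟩ := Module.projective_def'.mp (inferInstance : Module.Projective R P)
  have h1 : σ p = 0 := by
    have h2 : r • σ p = 0 := by rw [← map_smul, h, map_zero]
    ext a
    have h3 := congrArg (fun φ : P →₀ R => φ a) h2
    simp only [Finsupp.smul_apply, smul_eq_mul, Finsupp.zero_apply] at h3
    rw [Finsupp.zero_apply]
    exact (mul_left_mem_nonZeroDivisors_eq_zero_iff hr).mp h3
  have h4 := congrArg (fun φ : P →ₗ[R] P => φ p) hσ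
  simp only [LinearMap.comp_apply, LinearMap.id_apply] at h4
  rw [← h4, h1, map_zero]

variable (M : Type u) [AddCommGroup M] [Module R M] [Module.FinitePresentation R M]

theorem projdim_split (k : ℕ) (f : R) (hf0 : f ∈ nonZeroDivisors R)
    (hf : Fitt.ideal R M k = Ideal.span {f}) (hk : k = 0 ∨ Fitt.ideal R M (k - 1) = ⊥) :
    HasProjectiveDimensionLT (ModuleCat.of R M) 2 ∧
    (∀ x : M, (∃ n : ℕ, f ^ n • x = 0) ↔ f • x = 0) ∧
    HasProjectiveDimensionLT (ModuleCat.of R ↥(LinearMap.ker (f • (LinearMap.id : M →ₗ[R] M)))) 2 ∧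
    (∀ (p : Ideal R) [p.IsPrime], ∃ g : R, g ∉ p ∧
      Module.Free (Localization.Away g)
          (LocalizedModule (Submonoid.powers g) (M ⧸ LinearMap.ker (f • (LinearMap.id : M →ₗ[R] M)))) ∧
        Module.finrank (Localization.Away g)
          (LocalizedModule (Submonoid.powers g) (M ⧸ LinearMap.ker (f • (LinearMap.id : M →ₗ[R] M)))) = k) ∧
    Nonempty (M ≃ₗ[R] (M ⧸ LinearMap.ker (f • (LinearMap.id : M →ₗ[R] M))) ×
      ↥(LinearMap.ker (f • (LinearMap.id : M →ₗ[R] M)))) := by
  classical
  have hMfin : Module.Finite R M := inferInstance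
  set M' := LinearMap.ker (f • (LinearMap.id : M →ₗ[R] M)) with hM'
  have hmemM' : ∀ z : M, z ∈ M' ↔ f • z = 0 := by
    intro z
    rw [hM', LinearMap.mem_ker]
    rfl
  have hbot : ∀ j, j < k → Fitt.ideal R (M ⧸ M') j = ⊥ := by
    intro j hj
    refine quotient_bot_of_torsion j f hf0 M' ?_ ?_
    · intro z hz
      exact ⟨1, by rw [pow_one]; exact (hmemM' z).mp hz⟩
    · intro c hc
      have hk' : Fitt.ideal R M (k - 1) = ⊥ := by
        rcases hk with h | h
        · omega
        · exact h
      have : c ∈ Fitt.ideal R M (k - 1) := ideal_antitone R M (by omega) hc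
      rw [hk', Ideal.mem_bot] at this
      exact ⟨0, by rw [this, mul_zero]⟩
  have htopk : Fitt.ideal R (M ⧸ M') k = ⊤ :=
    quotient_top_of_principal k f hf0 hf M' (fun z hz => (hmemM' z).mpr hz)
  have htop : ∀ j, k ≤ j → Fitt.ideal R (M ⧸ M') j = ⊤ := by
    intro j hj
    rw [eq_top_iff, ← htopk]
    exact ideal_antitone _ _ hj
  have hproj : Module.Projective R (M ⧸ M') := projective_of_fitting (M ⧸ M') k hbot htop
  have hloc := (locallyFree_iff (M ⧸ M') k).mpr ⟨hbot, htop⟩
  obtain ⟨s, hs⟩ := Module.projective_lifting_property M'.mkQ LinearMap.id (Submodule.mkQ_surjective M')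
  have hs' : ∀ p, M'.mkQ (s p) = p := fun p => by
    have := congrArg (fun φ : (M ⧸ M') →ₗ[R] (M ⧸ M') => φ p) hs
    simpa using this
  have hmem : ∀ m : M, ((LinearMap.id : M →ₗ[R] M) - s ∘ₗ M'.mkQ) m ∈ M' := by
    intro m
    rw [← Submodule.Quotient.mk_eq_zero M', ← Submodule.mkQ_apply]
    simp only [LinearMap.sub_apply, LinearMap.id_apply, LinearMap.comp_apply, map_sub, hs', sub_self]
  let π' : M →ₗ[R] M' := LinearMap.codRestrict M' ((LinearMap.id : M →ₗ[R] M) - s ∘ₗ M'.mkQ) hmem
  have hmkQ0 : ∀ t : M', M'.mkQ (t : M) = 0 := fun t => by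
    rw [Submodule.mkQ_apply, Submodule.Quotient.mk_eq_zero]; exact t.2
  have hπ' : ∀ m : M, ((π' m : M') : M) = m - s (M'.mkQ m) := fun m => rfl
  let e : M ≃ₗ[R] (M ⧸ M') × M' :=
    { LinearMap.prod M'.mkQ π' with
      invFun := fun pt => s pt.1 + (pt.2 : M)
      left_inv := by
        intro m
        show s (M'.mkQ m) + ((π' m : M') : M) = m
        rw [hπ']; abel
      right_inv := by
        rintro ⟨p, t⟩
        show (M'.mkQ (s p + (t : M)), π' (s p + (t : M))) = (p, t)
        have h1 : M'.mkQ (s p + (t : M)) = p := by rw [map_add, hs', hmkQ0, add_zero]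
        refine Prod.ext h1 ?_
        apply Subtype.ext
        show ((π' (s p + (t : M)) : M') : M) = t
        rw [hπ', h1]; abel }
  have htors : ∀ x : M, (∃ n : ℕ, f ^ n • x = 0) ↔ f • x = 0 := by
    intro x
    constructor
    · rintro ⟨n, hn⟩
      have h1 : f ^ n • M'.mkQ x = 0 := by rw [← map_smul, hn, map_zero]
      have h2 := smul_eq_zero_of_projective (M ⧸ M') (f ^ n) (pow_mem hf0 n) _ h1
      rw [Submodule.mkQ_apply, Submodule.Quotient.mk_eq_zero] at h2
      exact (hmemM' x).mp h2
    · intro h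
      exact ⟨1, by rw [pow_one]; exact h⟩
  have hM'fin : Module.Finite R M' := by
    refine Module.Finite.of_surjective π' ?_
    intro t
    refine ⟨t, ?_⟩
    apply Subtype.ext
    simp [π', hmkQ0]
  have hfit0 : Fitt.ideal R M' 0 = Ideal.span {f} := by
    have h := ideal_prod (R := R) (M := M ⧸ M') (M' := M') k
    rw [← ideal_congr e k, hf] at h
    rw [h, Finset.sum_eq_single k]
    · rw [htopk, Nat.sub_self, Ideal.top_mul]
    · intro i hi hik
      rw [Finset.mem_range] at hi
      rw [hbot i (by omega), Ideal.bot_mul]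
      rfl
    · intro h; exact absurd (Finset.mem_range.mpr (Nat.lt_succ_self k)) h
  obtain ⟨m, y, hy⟩ := Module.Finite.exists_fin (R := R) (M := M')
  have hKproj := ker_projective_of_fitting_zero f hf0 hfit0 y hy
  let l : (Fin m → R) →ₗ[R] M' := Fintype.linearCombination R y
  have hl : Function.Surjective l := by
    rw [← LinearMap.range_eq_top, Fintype.range_linearCombination, hy]
  have hpdM' : HasProjectiveDimensionLT (ModuleCat.of R M') 2 := by
    have hS := LinearMap.shortExact_shortComplexKer hl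
    have hproj2 : Projective (l.shortComplexKer).X₂ :=
      (IsProjective.iff_projective (Fin m → R)).mp inferInstance
    have hproj1 : Projective (l.shortComplexKer).X₁ :=
      (IsProjective.iff_projective (LinearMap.ker l)).mp hKproj
    have h1 : HasProjectiveDimensionLT (l.shortComplexKer).X₁ (0 + 1) := inferInstance
    exact (hS.hasProjectiveDimensionLT_X₃_iff 0 hproj2).mpr h1
  have hpdM : HasProjectiveDimensionLT (ModuleCat.of R M) 2 := by
    have hmk : Function.Surjective M'.mkQ := Submodule.mkQ_surjective M'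
    have hS := LinearMap.shortExact_shortComplexKer hmk
    have hprojP : Projective (ModuleCat.of R (M ⧸ M')) :=
      (IsProjective.iff_projective (M ⧸ M')).mp hproj
    have h3 : HasProjectiveDimensionLT (M'.mkQ.shortComplexKer).X₃ 2 :=
      hasProjectiveDimensionLT_of_ge (ModuleCat.of R (M ⧸ M')) 1 2 (by omega)
    have h1 : HasProjectiveDimensionLT (M'.mkQ.shortComplexKer).X₁ 2 := by
      have eK : M' ≃ₗ[R] LinearMap.ker M'.mkQ := LinearEquiv.ofEq _ _ (Submodule.ker_mkQ M').symm
      exact hasProjectiveDimensionLT_of_iso eK.toModuleIso 2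
    exact hS.hasProjectiveDimensionLT_X₂ 2 h1 h3
  exact ⟨hpdM, htors, hpdM', hloc, ⟨e⟩⟩

end Groth.Agent.H3Fitt
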