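import Mathlib

namespace Groth.Agent.H3Sn

universe u v
open Function
open scoped Pointwise

theorem dim_aux (d : WithBot ℕ∞) (h : d + 1 ≤ 1) : d ≤ 0 := by
  induction d using WithBot.recBotCoe with
  | bot => exact bot_le
  | coe n =>
    have h' : ((n + 1 : ℕ∞) : WithBot ℕ∞) ≤ ((1 : ℕ∞) : WithBot ℕ∞) := by exact_mod_cast h
    rw [WithBot.coe_le_coe] at h'
    have hn : n = 0 := by
      by_cases htop : n = ⊤
      · rw [htop] at h'; simp at h'
      · have := (ENat.add_one_le_iff htop).mp h'
        exact Order.lt_one_iff.mp this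
    rw [hn]; rfl

section general
variable {A : Type u} [CommRing A]

theorem length_eq_range_add_range {X Y Z : Type v} [AddCommGroup X] [Module A X]
    [AddCommGroup Y] [Module A Y] [AddCommGroup Z] [Module A Z]
    (f : X →ₗ[A] Y) (g : Y →ₗ[A] Z) (h : Exact f g) :
    Module.length A Y =
      Module.length A (LinearMap.range f) + Module.length A (LinearMap.range g) := by
  refine Module.length_eq_add_of_exact (LinearMap.range f).subtype g.rangeRestrict
    (Submodule.subtype_injective _) (LinearMap.surjective_rangeRestrict g) ?_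
  intro y
  constructor
  · intro hy
    have hgy : g y = 0 := congrArg Subtype.val hy
    obtain ⟨x, rfl⟩ := (h y).mp hgy
    exact ⟨⟨f x, ⟨x, rfl⟩⟩, rfl⟩
  · rintro ⟨⟨_, ⟨x, rfl⟩⟩, rfl⟩
    apply Subtype.ext
    exact h.apply_apply_eq_zero x

theorem ne_top_left {a b : ℕ∞} (h : a + b ≠ ⊤) : a ≠ ⊤ := fun ha => h (by rw [ha, top_add])
theorem ne_top_right {a b : ℕ∞} (h : a + b ≠ ⊤) : b ≠ ⊤ := fun hb => h (by rw [hb, add_top])

theorem six_term {X₁ X₂ X₃ X₄ X₅ X₆ : Type v}
    [AddCommGroup X₁] [Module A X₁] [AddCommGroup X₂] [Module A X₂]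
    [AddCommGroup X₃] [Module A X₃] [AddCommGroup X₄] [Module A X₄]
    [AddCommGroup X₅] [Module A X₅] [AddCommGroup X₆] [Module A X₆]
    (f₁ : X₁ →ₗ[A] X₂) (f₂ : X₂ →ₗ[A] X₃) (f₃ : X₃ →ₗ[A] X₄) (f₄ : X₄ →ₗ[A] X₅)
    (f₅ : X₅ →ₗ[A] X₆)
    (h₁ : Injective f₁) (e₂ : Exact f₁ f₂) (e₃ : Exact f₂ f₃) (e₄ : Exact f₃ f₄)
    (e₅ : Exact f₄ f₅) (h₆ : Surjective f₅)
    (n₂ : Module.length A X₂ ≠ ⊤) (n₃ : Module.length A X₃ ≠ ⊤)
    (n₄ : Module.length A X₄ ≠ ⊤) (n₅ : Module.length A X₅ ≠ ⊤) :
    ((Module.length A X₅).toNat : ℤ) - (Module.length A X₂).toNat =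
      ((Module.length A X₄).toNat : ℤ) - (Module.length A X₁).toNat +
      (((Module.length A X₆).toNat : ℤ) - (Module.length A X₃).toNat) := by
  have l₁ : Module.length A X₁ = Module.length A (LinearMap.range f₁) :=
    (LinearEquiv.ofInjective f₁ h₁).length_eq
  have l₂ := length_eq_range_add_range f₁ f₂ e₂
  have l₃ := length_eq_range_add_range f₂ f₃ e₃
  have l₄ := length_eq_range_add_range f₃ f₄ e₄
  have l₅ := length_eq_range_add_range f₄ f₅ e₅
  have l₆ : Module.length A (LinearMap.range f₅) = Module.length A X₆ :=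
    (LinearEquiv.ofTop _ (LinearMap.range_eq_top.mpr h₆)).length_eq
  rw [l₂] at n₂
  rw [l₃] at n₃
  rw [l₄] at n₄
  rw [l₅] at n₅
  obtain ⟨m₁, hm₁⟩ := ENat.ne_top_iff_exists.mp (ne_top_left n₂)
  obtain ⟨m₂, hm₂⟩ := ENat.ne_top_iff_exists.mp (ne_top_right n₂)
  obtain ⟨m₃, hm₃⟩ := ENat.ne_top_iff_exists.mp (ne_top_right n₃)
  obtain ⟨m₄, hm₄⟩ := ENat.ne_top_iff_exists.mp (ne_top_right n₄)
  obtain ⟨m₅, hm₅⟩ := ENat.ne_top_iff_exists.mp (ne_top_right n₅)
  rw [l₁, l₂, l₃, l₄, l₅, ← l₆, ← hm₁, ← hm₂, ← hm₃, ← hm₄, ← hm₅]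
  simp only [← Nat.cast_add, ENat.toNat_natCast]
  push_cast
  ring

end general

section local1
variable {A : Type u} [CommRing A] [IsNoetherianRing A] [IsLocalRing A]

theorem length_ne_top_of_smul_eq_zero (hdim : ringKrullDim A = 1) (t : A)
    (ht : t ∈ nonZeroDivisors A)
    (X : Type v) [AddCommGroup X] [Module A X] [Module.Finite A X] (hX : ∀ x : X, t • x = 0) :
    Module.length A X ≠ ⊤ := by
  have hdim0 : ringKrullDim (A ⧸ Ideal.span {t}) ≤ 0 := by
    have := ringKrullDim_quotient_succ_le_of_nonZeroDivisor ht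
    rw [hdim] at this
    exact dim_aux _ this
  haveI : Ring.KrullDimLE 0 (A ⧸ Ideal.span {t}) := Ring.krullDimLE_iff.mpr (by simpa using hdim0)
  haveI : IsArtinianRing (A ⧸ Ideal.span {t}) := IsNoetherianRing.isArtinianRing_of_krullDimLE_zero
  have htors : Module.IsTorsionBySet A X (Ideal.span {t} : Set A) := by
    rintro x ⟨a, ha⟩
    obtain ⟨c, rfl⟩ := Ideal.mem_span_singleton'.mp ha
    show (c * t) • x = 0
    rw [mul_smul, hX, smul_zero]
  letI : Module (A ⧸ Ideal.span {t}) X := htors.module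
  haveI : IsScalarTower A (A ⧸ Ideal.span {t}) X := htors.isScalarTower
  haveI : Module.Finite (A ⧸ Ideal.span {t}) X := Module.Finite.of_restrictScalars_finite A _ X
  rw [Module.length_eq_of_surjective (S := A) (R := A ⧸ Ideal.span {t})
    Ideal.Quotient.mk_surjective]
  exact Module.length_ne_top

variable (t : A)

/-- multiplication by t -/
abbrev T (N : Type v) [AddCommGroup N] [Module A N] : N →ₗ[A] N := t • LinearMap.id

theorem exact_T_mkQ (N : Type v) [AddCommGroup N] [Module A N] :
    Exact (T t N) (t • (⊤ : Submodule A N)).mkQ := by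
  rw [LinearMap.exact_iff, Submodule.ker_mkQ]
  ext x
  rw [Submodule.mem_smul_pointwise_iff_exists, LinearMap.mem_range]
  constructor
  · rintro ⟨b, _, rfl⟩
    exact ⟨b, rfl⟩
  · rintro ⟨b, rfl⟩
    exact ⟨b, trivial, rfl⟩

theorem main (hdim : ringKrullDim A = 1) (ht : t ∈ nonZeroDivisors A)
    {M' M M'' : Type v} [AddCommGroup M'] [Module A M'] [AddCommGroup M] [Module A M]
    [AddCommGroup M''] [Module A M'']
    [Module.Finite A M'] [Module.Finite A M] [Module.Finite A M'']
    (i : M' →ₗ[A] M) (p : M →ₗ[A] M'')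
    (hi : Injective i) (hp : Surjective p) (hex : Exact i p) :
    ((Module.length A (QuotSMulTop t M)).toNat : ℤ) -
        (Module.length A (LinearMap.ker (t • (LinearMap.id : M →ₗ[A] M)))).toNat =
      (((Module.length A (QuotSMulTop t M')).toNat : ℤ) -
        (Module.length A (LinearMap.ker (t • (LinearMap.id : M' →ₗ[A] M')))).toNat) +
      (((Module.length A (QuotSMulTop t M'')).toNat : ℤ) -
        (Module.length A (LinearMap.ker (t • (LinearMap.id : M'' →ₗ[A] M'')))).toNat) := by
  have h₁ : i ∘ₗ T t M' = T t M ∘ₗ i := by ext x; simp [T]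
  have h₂ : p ∘ₗ T t M = T t M'' ∘ₗ p := by ext x; simp [T]
  have hι' := LinearMap.exact_subtype_ker_map (T t M')
  have hι := LinearMap.exact_subtype_ker_map (T t M)
  have hι'' := LinearMap.exact_subtype_ker_map (T t M'')
  have hπ' := exact_T_mkQ t M'
  have hπ := exact_T_mkQ t M
  have hπ'' := exact_T_mkQ t M''
  let Fi : LinearMap.ker (T t M') →ₗ[A] LinearMap.ker (T t M) :=
    i.restrict (fun x hx => by
      rw [LinearMap.mem_ker] at hx ⊢
      have := LinearMap.congr_fun h₁ x
      simp only [LinearMap.comp_apply] at this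
      rw [← this, hx, map_zero])
  let Fp : LinearMap.ker (T t M) →ₗ[A] LinearMap.ker (T t M'') :=
    p.restrict (fun x hx => by
      rw [LinearMap.mem_ker] at hx ⊢
      have := LinearMap.congr_fun h₂ x
      simp only [LinearMap.comp_apply] at this
      rw [← this, hx, map_zero])
  let Gi : QuotSMulTop t M' →ₗ[A] QuotSMulTop t M :=
    Submodule.mapQ _ _ i (by
      intro x hx
      rw [Submodule.mem_smul_pointwise_iff_exists] at hx
      obtain ⟨b, _, rfl⟩ := hx
      rw [Submodule.mem_comap, map_smul]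
      exact Submodule.smul_mem_pointwise_smul _ _ _ trivial)
  let Gp : QuotSMulTop t M →ₗ[A] QuotSMulTop t M'' :=
    Submodule.mapQ _ _ p (by
      intro x hx
      rw [Submodule.mem_smul_pointwise_iff_exists] at hx
      obtain ⟨b, _, rfl⟩ := hx
      rw [Submodule.mem_comap, map_smul]
      exact Submodule.smul_mem_pointwise_smul _ _ _ trivial)
  let δ := SnakeLemma.δ' (T t M') (T t M) (T t M'') i p hex i p hex h₁ h₂
    (LinearMap.ker (T t M'')).subtype hι'' (t • (⊤ : Submodule A M')).mkQ hπ' hp hi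
  have e₃ : Exact Fp δ :=
    SnakeLemma.exact_δ'_right (T t M') (T t M) (T t M'') i p hex i p hex h₁ h₂
      (LinearMap.ker (T t M)).subtype hι (LinearMap.ker (T t M'')).subtype hι''
      (t • (⊤ : Submodule A M')).mkQ hπ' hp hi Fp (by ext x; rfl)
      (Submodule.subtype_injective _)
  have e₄ : Exact δ Gi :=
    SnakeLemma.exact_δ'_left (T t M') (T t M) (T t M'') i p hex i p hex h₁ h₂
      (LinearMap.ker (T t M'')).subtype hι'' (t • (⊤ : Submodule A M')).mkQ hπ'
      (t • (⊤ : Submodule A M)).mkQ hπ hp hi Gi (by ext x; rfl)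
      (Submodule.mkQ_surjective _)
  have hFi : Injective Fi := by
    intro x y hxy
    apply Subtype.ext
    apply hi
    exact congrArg Subtype.val hxy
  have e₂ : Exact Fi Fp := by
    intro y
    constructor
    · intro hy
      have hpy : p y.1 = 0 := congrArg Subtype.val hy
      obtain ⟨x, hx⟩ := (hex y.1).mp hpy
      have hxk : x ∈ LinearMap.ker (T t M') := by
        rw [LinearMap.mem_ker]
        apply hi
        have := LinearMap.congr_fun h₁ x
        simp only [LinearMap.comp_apply] at this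
        rw [this, hx, map_zero]
        exact y.2
      exact ⟨⟨x, hxk⟩, Subtype.ext hx⟩
    · rintro ⟨x, rfl⟩
      apply Subtype.ext
      exact hex.apply_apply_eq_zero x.1
  have hGp : Surjective Gp := by
    intro y
    induction y using Submodule.Quotient.induction_on with
    | H y =>
      obtain ⟨x, rfl⟩ := hp y
      exact ⟨Submodule.Quotient.mk x, rfl⟩
  have e₅ : Exact Gi Gp := by
    intro y
    constructor
    · intro hy
      induction y using Submodule.Quotient.induction_on with
      | H y =>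
        have hy' : p y ∈ t • (⊤ : Submodule A M'') := (Submodule.Quotient.mk_eq_zero _).mp hy
        rw [Submodule.mem_smul_pointwise_iff_exists] at hy'
        obtain ⟨b, _, hb⟩ := hy'
        obtain ⟨c, rfl⟩ := hp b
        have hker : p (y - t • c) = 0 := by rw [map_sub, map_smul, hb, sub_self]
        obtain ⟨x, hx⟩ := (hex _).mp hker
        refine ⟨Submodule.Quotient.mk x, ?_⟩
        show Submodule.Quotient.mk (i x) = Submodule.Quotient.mk y
        rw [hx, Submodule.Quotient.mk_sub, sub_eq_self, Submodule.Quotient.mk_eq_zero]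
        exact Submodule.smul_mem_pointwise_smul _ _ _ trivial
    · rintro ⟨x, rfl⟩
      induction x using Submodule.Quotient.induction_on with
      | H x =>
        show Submodule.Quotient.mk (p (i x)) = 0
        rw [hex.apply_apply_eq_zero x, Submodule.Quotient.mk_zero]
  have kill_ker : ∀ (N : Type v) [AddCommGroup N] [Module A N] (x : LinearMap.ker (T t N)),
      t • x = 0 := by
    intro N _ _ x
    apply Subtype.ext
    exact x.2
  have kill_quot : ∀ (N : Type v) [AddCommGroup N] [Module A N] (x : QuotSMulTop t N),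
      t • x = 0 := by
    intro N _ _ x
    induction x using Submodule.Quotient.induction_on with
    | H x =>
      rw [← Submodule.Quotient.mk_smul, Submodule.Quotient.mk_eq_zero]
      exact Submodule.smul_mem_pointwise_smul _ _ _ trivial
  have := six_term Fi Fp δ Gi Gp hFi e₂ e₃ e₄ e₅ hGp
    (length_ne_top_of_smul_eq_zero hdim t ht _ (kill_ker M))
    (length_ne_top_of_smul_eq_zero hdim t ht _ (kill_ker M''))
    (length_ne_top_of_smul_eq_zero hdim t ht _ (kill_quot M'))
    (length_ne_top_of_smul_eq_zero hdim t ht _ (kill_quot M))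
  exact this

end local1

end Groth.Agent.H3Sn
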