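import Mathlib
import Groth.Agent.Lib.helper3.SnA

namespace Groth.Agent.H3Sn

universe u v
open Function
open scoped Pointwise

section gen
variable {A : Type u} [CommRing A] [IsNoetherianRing A] [IsLocalRing A] (t : A)

theorem main_gen (hfl : ∀ (X : Type v) [AddCommGroup X] [Module A X] [Module.Finite A X],
      (∀ x : X, t • x = 0) → Module.length A X ≠ ⊤)
    {M' M M'' : Type v} [AddCommGroup M'] [Module A M'] [AddCommGroup M] [Module A M]
    [AddCommGroup M''] [Module A M'']
    [Module.Finite A M'] [Module.Finite A M] [Module.Finite A M'']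
    (i : M' →ₗ[A] M) (p : M →ₗ[A] M'')
    (hi : Injective i) (hp : Surjective p) (hex : Exact i p) :
    ((Module.length A (QuotSMulTop t M)).toNat : ℤ) -
        (Module.length A (LinearMap.ker (t • (LinearMap.id : M →ₗ[A] M)))).toNat =
      (((Module.length A (QuotSMulTop t M')).toNat : ℤ) -
        (Module.length A (LinearMap.ker (t • (LinearMap.id : M' →ₗ[A] M')))).toNat) +
      (((Module.length A (QuotSMulTop t M'')).toNat : ℤ) -
        (Module.length A (LinearMap.ker (t • (LinearMap.id : M'' →ₗ[A] M'')))).toNat) := by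
  have h₁ : i ∘ₗ T t M' = T t M ∘ₗ i := by ext x; simp [T]
  have h₂ : p ∘ₗ T t M = T t M'' ∘ₗ p := by ext x; simp [T]
  have hι' := LinearMap.exact_subtype_ker_map (T t M')
  have hι := LinearMap.exact_subtype_ker_map (T t M)
  have hι'' := LinearMap.exact_subtype_ker_map (T t M'')
  have hπ' := exact_T_mkQ t M'
  have hπ := exact_T_mkQ t M
  have hπ'' := exact_T_mkQ t M''
  let Fi : LinearMap.ker (T t M') →ₗ[A] LinearMap.ker (T t M) :=
    i.restrict (fun x hx => by
      rw [LinearMap.mem_ker] at hx ⊢
      have := LinearMap.congr_fun h₁ x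
      simp only [LinearMap.comp_apply] at this
      rw [← this, hx, map_zero])
  let Fp : LinearMap.ker (T t M) →ₗ[A] LinearMap.ker (T t M'') :=
    p.restrict (fun x hx => by
      rw [LinearMap.mem_ker] at hx ⊢
      have := LinearMap.congr_fun h₂ x
      simp only [LinearMap.comp_apply] at this
      rw [← this, hx, map_zero])
  let Gi : QuotSMulTop t M' →ₗ[A] QuotSMulTop t M :=
    Submodule.mapQ _ _ i (by
      intro x hx
      rw [Submodule.mem_smul_pointwise_iff_exists] at hx
      obtain ⟨b, _, rfl⟩ := hx
      rw [Submodule.mem_comap, map_smul]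
      exact Submodule.smul_mem_pointwise_smul _ _ _ trivial)
  let Gp : QuotSMulTop t M →ₗ[A] QuotSMulTop t M'' :=
    Submodule.mapQ _ _ p (by
      intro x hx
      rw [Submodule.mem_smul_pointwise_iff_exists] at hx
      obtain ⟨b, _, rfl⟩ := hx
      rw [Submodule.mem_comap, map_smul]
      exact Submodule.smul_mem_pointwise_smul _ _ _ trivial)
  let δ := SnakeLemma.δ' (T t M') (T t M) (T t M'') i p hex i p hex h₁ h₂
    (LinearMap.ker (T t M'')).subtype hι'' (t • (⊤ : Submodule A M')).mkQ hπ' hp hi
  have e₃ : Exact Fp δ :=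
    SnakeLemma.exact_δ'_right (T t M') (T t M) (T t M'') i p hex i p hex h₁ h₂
      (LinearMap.ker (T t M)).subtype hι (LinearMap.ker (T t M'')).subtype hι''
      (t • (⊤ : Submodule A M')).mkQ hπ' hp hi Fp (by ext x; rfl)
      (Submodule.subtype_injective _)
  have e₄ : Exact δ Gi :=
    SnakeLemma.exact_δ'_left (T t M') (T t M) (T t M'') i p hex i p hex h₁ h₂
      (LinearMap.ker (T t M'')).subtype hι'' (t • (⊤ : Submodule A M')).mkQ hπ'
      (t • (⊤ : Submodule A M)).mkQ hπ hp hi Gi (by ext x; rfl)
      (Submodule.mkQ_surjective _)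
  have hFi : Injective Fi := by
    intro x y hxy
    apply Subtype.ext
    apply hi
    exact congrArg Subtype.val hxy
  have e₂ : Exact Fi Fp := by
    intro y
    constructor
    · intro hy
      have hpy : p y.1 = 0 := congrArg Subtype.val hy
      obtain ⟨x, hx⟩ := (hex y.1).mp hpy
      have hxk : x ∈ LinearMap.ker (T t M') := by
        rw [LinearMap.mem_ker]
        apply hi
        have := LinearMap.congr_fun h₁ x
        simp only [LinearMap.comp_apply] at this
        rw [this, hx, map_zero]
        exact y.2
      exact ⟨⟨x, hxk⟩, Subtype.ext hx⟩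
    · rintro ⟨x, rfl⟩
      apply Subtype.ext
      exact hex.apply_apply_eq_zero x.1
  have hGp : Surjective Gp := by
    intro y
    induction y using Submodule.Quotient.induction_on with
    | H y =>
      obtain ⟨x, rfl⟩ := hp y
      exact ⟨Submodule.Quotient.mk x, rfl⟩
  have e₅ : Exact Gi Gp := by
    intro y
    constructor
    · intro hy
      induction y using Submodule.Quotient.induction_on with
      | H y =>
        have hy' : p y ∈ t • (⊤ : Submodule A M'') := (Submodule.Quotient.mk_eq_zero _).mp hy
        rw [Submodule.mem_smul_pointwise_iff_exists] at hy'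
        obtain ⟨b, _, hb⟩ := hy'
        obtain ⟨c, rfl⟩ := hp b
        have hker : p (y - t • c) = 0 := by rw [map_sub, map_smul, hb, sub_self]
        obtain ⟨x, hx⟩ := (hex _).mp hker
        refine ⟨Submodule.Quotient.mk x, ?_⟩
        show Submodule.Quotient.mk (i x) = Submodule.Quotient.mk y
        rw [hx, Submodule.Quotient.mk_sub, sub_eq_self, Submodule.Quotient.mk_eq_zero]
        exact Submodule.smul_mem_pointwise_smul _ _ _ trivial
    · rintro ⟨x, rfl⟩
      induction x using Submodule.Quotient.induction_on with
      | H x =>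
        show Submodule.Quotient.mk (p (i x)) = 0
        rw [hex.apply_apply_eq_zero x, Submodule.Quotient.mk_zero]
  have kill_ker : ∀ (N : Type v) [AddCommGroup N] [Module A N] (x : LinearMap.ker (T t N)),
      t • x = 0 := by
    intro N _ _ x
    apply Subtype.ext
    exact x.2
  have kill_quot : ∀ (N : Type v) [AddCommGroup N] [Module A N] (x : QuotSMulTop t N),
      t • x = 0 := by
    intro N _ _ x
    induction x using Submodule.Quotient.induction_on with
    | H x =>
      rw [← Submodule.Quotient.mk_smul, Submodule.Quotient.mk_eq_zero]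
      exact Submodule.smul_mem_pointwise_smul _ _ _ trivial
  have := six_term Fi Fp δ Gi Gp hFi e₂ e₃ e₄ e₅ hGp
    (hfl _ (kill_ker M))
    (hfl _ (kill_ker M''))
    (hfl _ (kill_quot M'))
    (hfl _ (kill_quot M))
  exact this

end gen

end Groth.Agent.H3Sn
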