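import Mathlib
import Groth.Agent.Lib.helper3.SnE

namespace Groth.Agent.H3Sn

universe u
open Function
open scoped Pointwise

variable {A : Type u} [CommRing A] [IsNoetherianRing A] [IsLocalRing A]

theorem prime_min_or_max (hA : ringKrullDim A = 1) (p : Ideal A) [p.IsPrime] :
    p ∈ minimalPrimes A ∨ p = IsLocalRing.maximalIdeal A := by
  haveI : Ring.KrullDimLE 1 A := Ring.krullDimLE_iff.mpr (by rw [hA]; rfl)
  rcases Ring.krullDimLE_one_iff.mp inferInstance p inferInstance with h | h
  · exact Or.inl h
  · exact Or.inr (IsLocalRing.eq_maximalIdeal h)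

theorem max_not_minimal (hA : ringKrullDim A = 1) :
    IsLocalRing.maximalIdeal A ∉ minimalPrimes A := by
  intro hmin
  have hK : Ring.KrullDimLE 0 A := Ring.KrullDimLE.mk₀ (fun I hI => by
    have hle : I ≤ IsLocalRing.maximalIdeal A := IsLocalRing.le_maximalIdeal hI.ne_top
    have hge := hmin.2 ⟨hI, bot_le⟩ hle
    have heq : I = IsLocalRing.maximalIdeal A := le_antisymm hle hge
    rw [heq]; infer_instance)
  have h0 := Ring.krullDimLE_iff.mp hK
  rw [hA] at h0
  exact absurd h0 (by norm_num)

theorem fl_of_notMem (hA : ringKrullDim A = 1) (a : A) (ha : ∀ p ∈ minimalPrimes A, a ∉ p)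
    (X : Type u) [AddCommGroup X] [Module A X] [Module.Finite A X] (hX : ∀ x : X, a • x = 0) :
    Module.length A X ≠ ⊤ := by
  haveI : Ring.KrullDimLE 0 (A ⧸ Ideal.span {a}) := Ring.KrullDimLE.mk₀ (fun I hI => by
    haveI := hI
    have haP : a ∈ I.comap (Ideal.Quotient.mk (Ideal.span {a})) := by
      rw [Ideal.mem_comap, Ideal.Quotient.eq_zero_iff_mem.mpr (Ideal.mem_span_singleton_self a)]
      exact I.zero_mem
    have hmap : (I.comap (Ideal.Quotient.mk (Ideal.span {a}))).map (Ideal.Quotient.mk _) = I :=
      Ideal.map_comap_of_surjective _ Ideal.Quotient.mk_surjective I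
    rcases prime_min_or_max hA (I.comap (Ideal.Quotient.mk (Ideal.span {a}))) with h | h
    · exact absurd haP (ha _ h)
    · have hmax : (I.comap (Ideal.Quotient.mk (Ideal.span {a}))).IsMaximal := by
        rw [h]; infer_instance
      rcases Ideal.map_eq_top_or_isMaximal_of_surjective (Ideal.Quotient.mk (Ideal.span {a}))
        Ideal.Quotient.mk_surjective hmax with h' | h'
      · exact absurd (hmap.symm.trans h') hI.ne_top
      · rw [← hmap]; exact h')
  haveI : IsArtinianRing (A ⧸ Ideal.span {a}) := IsNoetherianRing.isArtinianRing_of_krullDimLE_zero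
  have htors : Module.IsTorsionBySet A X (Ideal.span {a} : Set A) := by
    rintro x ⟨b, hb⟩
    obtain ⟨c, rfl⟩ := Ideal.mem_span_singleton'.mp hb
    show (c * a) • x = 0
    rw [mul_smul, hX, smul_zero]
  letI : Module (A ⧸ Ideal.span {a}) X := htors.module
  haveI : IsScalarTower A (A ⧸ Ideal.span {a}) X := htors.isScalarTower
  haveI : Module.Finite (A ⧸ Ideal.span {a}) X := Module.Finite.of_restrictScalars_finite A _ X
  rw [Module.length_eq_of_surjective (S := A) (R := A ⧸ Ideal.span {a})
    Ideal.Quotient.mk_surjective]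
  exact Module.length_ne_top

def minSet (A : Type u) [CommRing A] : Set (PrimeSpectrum A) :=
  {p | p.asIdeal ∈ minimalPrimes A}

omit [IsLocalRing A] in
theorem minSet_finite : (minSet A).Finite :=
  (minimalPrimes.finite_of_isNoetherianRing A).preimage (fun p _ q _ h => PrimeSpectrum.ext h)

noncomputable def rho (a : A) (M : Type u) [AddCommGroup M] [Module A M] : ℕ∞ :=
  ∑ᶠ p ∈ minSet A,
    Module.length (Localization.AtPrime p.asIdeal) (LocalizedModule p.asIdeal.primeCompl M) *
      Module.length A (A ⧸ (p.asIdeal ⊔ Ideal.span {a}))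

omit [IsNoetherianRing A] [IsLocalRing A] in
theorem loc_length_add (p : Ideal A) [p.IsPrime] {M' M M'' : Type u}
    [AddCommGroup M'] [Module A M'] [AddCommGroup M] [Module A M] [AddCommGroup M''] [Module A M'']
    (i : M' →ₗ[A] M) (q : M →ₗ[A] M'') (hi : Injective i) (hq : Surjective q) (hex : Exact i q) :
    Module.length (Localization.AtPrime p) (LocalizedModule p.primeCompl M) =
      Module.length (Localization.AtPrime p) (LocalizedModule p.primeCompl M') +
      Module.length (Localization.AtPrime p) (LocalizedModule p.primeCompl M'') :=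
  Module.length_eq_add_of_exact (LocalizedModule.map p.primeCompl i)
    (LocalizedModule.map p.primeCompl q) (LocalizedModule.map_injective _ _ hi)
    (LocalizedModule.map_surjective _ _ hq) (LocalizedModule.map_exact p.primeCompl _ _ hex)

omit [IsLocalRing A] in
theorem rho_add (a : A) {M' M M'' : Type u}
    [AddCommGroup M'] [Module A M'] [AddCommGroup M] [Module A M] [AddCommGroup M''] [Module A M'']
    (i : M' →ₗ[A] M) (q : M →ₗ[A] M'') (hi : Injective i) (hq : Surjective q) (hex : Exact i q) :
    rho a M = rho a M' + rho a M'' := by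
  unfold rho
  rw [← finsum_mem_add_distrib minSet_finite]
  refine finsum_mem_congr rfl (fun p _ => ?_)
  haveI := p.2
  rw [loc_length_add p.asIdeal i q hi hq hex, add_mul]

omit [IsNoetherianRing A] [IsLocalRing A] in
theorem loc_length_zero (p : Ideal A) [p.IsPrime] (N : Type u) [AddCommGroup N] [Module A N]
    (s : A) (hs : s ∉ p) (hN : ∀ x : N, s • x = 0) :
    Module.length (Localization.AtPrime p) (LocalizedModule p.primeCompl N) = 0 := by
  rw [Module.length_eq_zero_iff, LocalizedModule.subsingleton_iff]
  exact fun x => ⟨s, hs, hN x⟩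

omit [IsNoetherianRing A] [IsLocalRing A] in
theorem lenK_equiv (t : A) {N N' : Type u} [AddCommGroup N] [Module A N]
    [AddCommGroup N'] [Module A N'] (e : N ≃ₗ[A] N') :
    Module.length A (LinearMap.ker (t • (LinearMap.id : N →ₗ[A] N))) =
      Module.length A (LinearMap.ker (t • (LinearMap.id : N' →ₗ[A] N'))) := by
  have hK : Submodule.map e.toLinearMap (LinearMap.ker (t • (LinearMap.id : N →ₗ[A] N))) =
      LinearMap.ker (t • (LinearMap.id : N' →ₗ[A] N')) := by
    ext y
    simp only [Submodule.mem_map, LinearMap.mem_ker, LinearMap.smul_apply, LinearMap.id_apply,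
      LinearEquiv.coe_coe]
    constructor
    · rintro ⟨x, hx, rfl⟩
      rw [← map_smul, hx, map_zero]
    · intro hy
      refine ⟨e.symm y, ?_, e.apply_symm_apply y⟩
      rw [← map_smul, hy, map_zero]
  exact ((e.submoduleMap _).trans (LinearEquiv.ofEq _ _ hK)).length_eq

omit [IsNoetherianRing A] [IsLocalRing A] in
theorem lenC_equiv (t : A) {N N' : Type u} [AddCommGroup N] [Module A N]
    [AddCommGroup N'] [Module A N'] (e : N ≃ₗ[A] N') :
    Module.length A (QuotSMulTop t N) = Module.length A (QuotSMulTop t N') := by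
  have hC : Submodule.map e.toLinearMap (t • (⊤ : Submodule A N)) =
      t • (⊤ : Submodule A N') := by
    ext y
    simp only [Submodule.mem_map, Submodule.mem_smul_pointwise_iff_exists, Submodule.mem_top,
      true_and, LinearEquiv.coe_coe]
    constructor
    · rintro ⟨_, ⟨b, rfl⟩, rfl⟩
      exact ⟨e b, (map_smul e t b).symm⟩
    · rintro ⟨b, rfl⟩
      exact ⟨t • e.symm b, ⟨e.symm b, rfl⟩, by rw [map_smul, e.apply_symm_apply]⟩
  exact (Submodule.Quotient.equiv _ _ e hC).length_eq

omit [IsNoetherianRing A] [IsLocalRing A] in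
theorem rho_equiv (a : A) {N N' : Type u} [AddCommGroup N] [Module A N]
    [AddCommGroup N'] [Module A N'] (e : N ≃ₗ[A] N') : rho a N = rho a N' := by
  unfold rho
  refine finsum_mem_congr rfl (fun p _ => ?_)
  haveI := p.2
  congr 1
  exact (IsLocalizedModule.mapEquiv p.asIdeal.primeCompl
    (LocalizedModule.mkLinearMap p.asIdeal.primeCompl N)
    (LocalizedModule.mkLinearMap p.asIdeal.primeCompl N') (Localization.AtPrime p.asIdeal)
    e).length_eq

end Groth.Agent.H3Sn
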