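import Mathlib
import Groth.Agent.Lib.helper3.SnF

namespace Groth.Agent.H3Sn

universe u
open Function
open scoped Pointwise

variable {A : Type u} [CommRing A]

theorem loc_length_quot_self (q : Ideal A) [q.IsPrime] :
    Module.length (Localization.AtPrime q) (LocalizedModule q.primeCompl (A ⧸ q)) = 1 := by
  rw [Module.length_eq_one_iff, isSimpleModule_iff]
  haveI : Nontrivial (LocalizedModule q.primeCompl (A ⧸ q)) := by
    by_contra hnt
    rw [not_nontrivial_iff_subsingleton, LocalizedModule.subsingleton_iff] at hnt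
    obtain ⟨r, hr, hr1⟩ := hnt (Submodule.Quotient.mk 1)
    rw [← Submodule.Quotient.mk_smul, Submodule.Quotient.mk_eq_zero, smul_eq_mul, mul_one] at hr1
    exact hr hr1
  refine ⟨fun P => ?_⟩
  have hgi := (Submodule.localized'gi (Localization.AtPrime q) q.primeCompl
    (LocalizedModule.mkLinearMap q.primeCompl (A ⧸ q))).l_u_eq P
  by_cases h : Submodule.comap (LocalizedModule.mkLinearMap q.primeCompl (A ⧸ q))
      (P.restrictScalars A) = ⊥
  · left; rw [← hgi, h]; exact Submodule.localized'_bot _ _ _
  · right
    rw [← hgi]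
    have htop : Submodule.comap (LocalizedModule.mkLinearMap q.primeCompl (A ⧸ q))
        (P.restrictScalars A) = ⊤ := by
      obtain ⟨y, hy, hy0⟩ := (Submodule.ne_bot_iff _).mp h
      induction y using Submodule.Quotient.induction_on with
      | H y =>
        have hyq : y ∉ q := fun hq => hy0 ((Submodule.Quotient.mk_eq_zero _).mpr hq)
        have hy' : LocalizedModule.mk (Submodule.Quotient.mk y : A ⧸ q) (1 : q.primeCompl) ∈ P := hy
        rw [eq_top_iff]
        intro z _
        induction z using Submodule.Quotient.induction_on with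
        | H z =>
          show LocalizedModule.mk (Submodule.Quotient.mk z : A ⧸ q) (1 : q.primeCompl) ∈ P
          have hmem := P.smul_mem (Localization.mk z ⟨y, hyq⟩ : Localization.AtPrime q) hy'
          rw [LocalizedModule.mk_smul_mk] at hmem
          have heq : LocalizedModule.mk (z • (Submodule.Quotient.mk y : A ⧸ q))
              ((⟨y, hyq⟩ : q.primeCompl) * 1) =
              LocalizedModule.mk (Submodule.Quotient.mk z : A ⧸ q) (1 : q.primeCompl) := by
            rw [LocalizedModule.mk_eq]
            refine ⟨1, ?_⟩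
            simp only [one_smul, mul_one]
            rw [← Submodule.Quotient.mk_smul, ← Submodule.Quotient.mk_smul, smul_eq_mul]
            exact congrArg Submodule.Quotient.mk (mul_comm z y)
          rw [heq] at hmem
          exact hmem
    rw [htop]; exact Submodule.localized'_top _ _ _

variable [IsNoetherianRing A] [IsLocalRing A]

theorem base_max (hA : ringKrullDim A = 1) (a : A) :
    Module.length A (QuotSMulTop a (A ⧸ IsLocalRing.maximalIdeal A)) =
      Module.length A (LinearMap.ker (a • (LinearMap.id :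
        (A ⧸ IsLocalRing.maximalIdeal A) →ₗ[A] _))) + rho a (A ⧸ IsLocalRing.maximalIdeal A) := by
  have hrho : rho a (A ⧸ IsLocalRing.maximalIdeal A) = 0 := by
    unfold rho
    apply finsum_mem_eq_zero_of_forall_eq_zero
    intro p hp
    haveI := p.2
    have hne : p.asIdeal ≠ IsLocalRing.maximalIdeal A := fun h => max_not_minimal hA (h ▸ hp)
    have hle : p.asIdeal ≤ IsLocalRing.maximalIdeal A := IsLocalRing.le_maximalIdeal p.2.ne_top
    obtain ⟨s, hsm, hsp⟩ := Set.not_subset.mp
      (fun hsub : (IsLocalRing.maximalIdeal A : Set A) ⊆ p.asIdeal => hne (le_antisymm hle hsub))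
    rw [loc_length_zero p.asIdeal _ s hsp (fun x => by
      induction x using Submodule.Quotient.induction_on with
      | H x =>
        rw [← Submodule.Quotient.mk_smul, Submodule.Quotient.mk_eq_zero, smul_eq_mul]
        exact Ideal.mul_mem_right _ _ hsm), zero_mul]
  rw [hrho, add_zero]
  by_cases ham : a ∈ IsLocalRing.maximalIdeal A
  · have hkill : ∀ x : A ⧸ IsLocalRing.maximalIdeal A, a • x = 0 := by
      intro x
      induction x using Submodule.Quotient.induction_on with
      | H x =>
        rw [← Submodule.Quotient.mk_smul, Submodule.Quotient.mk_eq_zero, smul_eq_mul]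
        exact Ideal.mul_mem_right _ _ ham
    have hker : LinearMap.ker (a • (LinearMap.id :
        (A ⧸ IsLocalRing.maximalIdeal A) →ₗ[A] _)) = ⊤ := by
      rw [eq_top_iff]
      intro x _
      rw [LinearMap.mem_ker]
      exact hkill x
    have hbot : a • (⊤ : Submodule A (A ⧸ IsLocalRing.maximalIdeal A)) = ⊥ := by
      rw [eq_bot_iff]
      intro x hx
      rw [Submodule.mem_smul_pointwise_iff_exists] at hx
      obtain ⟨b, _, rfl⟩ := hx
      rw [hkill b]
      exact Submodule.zero_mem _
    rw [(LinearEquiv.ofTop _ hker).length_eq, (Submodule.quotEquivOfEqBot _ hbot).length_eq]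
  · have hu : IsUnit a := by
      rwa [IsLocalRing.mem_maximalIdeal, mem_nonunits_iff, not_not] at ham
    obtain ⟨b, hb⟩ := hu.exists_left_inv
    have hker : LinearMap.ker (a • (LinearMap.id :
        (A ⧸ IsLocalRing.maximalIdeal A) →ₗ[A] _)) = ⊥ := by
      rw [eq_bot_iff]
      intro x hx
      rw [LinearMap.mem_ker] at hx
      have hx' : a • x = 0 := hx
      rw [Submodule.mem_bot]
      calc x = (b * a) • x := by rw [hb, one_smul]
        _ = 0 := by rw [mul_smul, hx', smul_zero]
    have htop : a • (⊤ : Submodule A (A ⧸ IsLocalRing.maximalIdeal A)) = ⊤ := by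
      rw [eq_top_iff]
      intro x _
      rw [Submodule.mem_smul_pointwise_iff_exists]
      refine ⟨b • x, trivial, ?_⟩
      rw [smul_smul, mul_comm, hb, one_smul]
    have h1 : Module.length A (LinearMap.ker (a • (LinearMap.id :
        (A ⧸ IsLocalRing.maximalIdeal A) →ₗ[A] _))) = 0 := by
      rw [hker]; exact Module.length_eq_zero
    have h2 : Module.length A (QuotSMulTop a (A ⧸ IsLocalRing.maximalIdeal A)) = 0 := by
      rw [Module.length_eq_zero_iff]
      exact Submodule.Quotient.subsingleton_iff.mpr htop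
    rw [h1, h2]

theorem base_min (a : A) (q : PrimeSpectrum A) (hq : q ∈ minSet A) (haq : a ∉ q.asIdeal) :
    Module.length A (QuotSMulTop a (A ⧸ q.asIdeal)) =
      Module.length A (LinearMap.ker (a • (LinearMap.id : (A ⧸ q.asIdeal) →ₗ[A] _))) +
        rho a (A ⧸ q.asIdeal) := by
  haveI := q.2
  have hker : LinearMap.ker (a • (LinearMap.id : (A ⧸ q.asIdeal) →ₗ[A] _)) = ⊥ := by
    rw [eq_bot_iff]
    intro x hx
    rw [LinearMap.mem_ker] at hx
    induction x using Submodule.Quotient.induction_on with
    | H x =>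
      have hx' : a • (Submodule.Quotient.mk x : A ⧸ q.asIdeal) = 0 := hx
      rw [← Submodule.Quotient.mk_smul, Submodule.Quotient.mk_eq_zero, smul_eq_mul] at hx'
      rcases Ideal.IsPrime.mem_or_mem inferInstance hx' with h | h
      · exact absurd h haq
      · rw [Submodule.mem_bot]
        exact (Submodule.Quotient.mk_eq_zero _).mpr h
  have h1 : Module.length A (LinearMap.ker (a • (LinearMap.id : (A ⧸ q.asIdeal) →ₗ[A] _))) = 0 := by
    rw [hker]; exact Module.length_eq_zero
  have hmap : a • (⊤ : Submodule A (A ⧸ q.asIdeal)) =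
      Submodule.map (Submodule.mkQ q.asIdeal) (Ideal.span {a}) := by
    ext x
    rw [Submodule.mem_smul_pointwise_iff_exists, Submodule.mem_map]
    constructor
    · rintro ⟨y, _, rfl⟩
      induction y using Submodule.Quotient.induction_on with
      | H y =>
        refine ⟨a * y, Ideal.mul_mem_right _ _ (Ideal.mem_span_singleton_self a), ?_⟩
        rfl
    · rintro ⟨w, hw, rfl⟩
      obtain ⟨c, rfl⟩ := Ideal.mem_span_singleton'.mp hw
      refine ⟨Submodule.Quotient.mk c, trivial, ?_⟩
      show Submodule.Quotient.mk (a • c) = Submodule.Quotient.mk (c * a)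
      rw [smul_eq_mul, mul_comm]
  have h2 : Module.length A (QuotSMulTop a (A ⧸ q.asIdeal)) =
      Module.length A (A ⧸ (q.asIdeal ⊔ Ideal.span {a})) :=
    ((Submodule.quotEquivOfEq _ _ hmap).trans
      (Submodule.quotientQuotientEquivQuotientSup q.asIdeal (Ideal.span {a}))).length_eq
  have hrho : rho a (A ⧸ q.asIdeal) = Module.length A (A ⧸ (q.asIdeal ⊔ Ideal.span {a})) := by
    unfold rho
    rw [finsum_mem_def, finsum_eq_single _ q (fun p hp => ?_), Set.indicator_of_mem hq,
      loc_length_quot_self, one_mul]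
    by_cases hpm : p ∈ minSet A
    · rw [Set.indicator_of_mem hpm]
      haveI := p.2
      have hnle : ¬ (q.asIdeal : Set A) ⊆ p.asIdeal := by
        intro hsub
        have := hpm.2 ⟨q.2, bot_le⟩ hsub
        exact hp (PrimeSpectrum.ext (le_antisymm this hsub))
      obtain ⟨s, hsq, hsp⟩ := Set.not_subset.mp hnle
      rw [loc_length_zero p.asIdeal _ s hsp (fun x => by
        induction x using Submodule.Quotient.induction_on with
        | H x =>
          rw [← Submodule.Quotient.mk_smul, Submodule.Quotient.mk_eq_zero, smul_eq_mul]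
          exact Ideal.mul_mem_right _ _ hsq), zero_mul]
    · rw [Set.indicator_of_notMem hpm]
  rw [h1, h2, hrho, zero_add]

theorem main0616 (hA : ringKrullDim A = 1) (M : Type u) [AddCommGroup M]
    [Module A M] [hM : Module.Finite A M] (a : A) (ha : ∀ p ∈ minimalPrimes A, a ∉ p) :
    Module.length A (QuotSMulTop a M) =
      Module.length A (LinearMap.ker (a • (LinearMap.id : M →ₗ[A] M))) + rho a M := by
  induction hM using IsNoetherianRing.induction_on_isQuotientEquivQuotientPrime A with
  | subsingleton N =>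
    have h1 : Module.length A (QuotSMulTop a N) = 0 := Module.length_eq_zero
    have h2 : Module.length A (LinearMap.ker (a • (LinearMap.id : N →ₗ[A] N))) = 0 :=
      Module.length_eq_zero
    have h3 : rho a N = 0 := by
      unfold rho
      apply finsum_mem_eq_zero_of_forall_eq_zero
      intro p _
      haveI := p.2
      have : Module.length (Localization.AtPrime p.asIdeal)
          (LocalizedModule p.asIdeal.primeCompl N) = 0 := Module.length_eq_zero
      rw [this, zero_mul]
    rw [h1, h2, h3, add_zero]
  | quotient N p e =>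
    rw [lenC_equiv a e, lenK_equiv a e, rho_equiv a e]
    haveI := p.2
    rcases prime_min_or_max hA p.asIdeal with h | h
    · exact base_min a p h (ha _ h)
    · rw [h]; exact base_max hA a
  | exact N₁ N₂ N₃ f g hf hg hfg h1 h3 =>
    have hfl := fl_of_notMem hA a ha
    have hz := main_gen a hfl f g hf hg hfg
    have kill_ker : ∀ (N : Type u) [AddCommGroup N] [Module A N]
        (x : LinearMap.ker (a • (LinearMap.id : N →ₗ[A] N))), a • x = 0 := by
      intro N _ _ x
      apply Subtype.ext
      exact x.2
    have kill_quot : ∀ (N : Type u) [AddCommGroup N] [Module A N] (x : QuotSMulTop a N),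
        a • x = 0 := by
      intro N _ _ x
      induction x using Submodule.Quotient.induction_on with
      | H x =>
        rw [← Submodule.Quotient.mk_smul, Submodule.Quotient.mk_eq_zero]
        exact Submodule.smul_mem_pointwise_smul _ _ _ trivial
    obtain ⟨c₁, hc₁⟩ := ENat.ne_top_iff_exists.mp (hfl _ (kill_quot N₁))
    obtain ⟨c₂, hc₂⟩ := ENat.ne_top_iff_exists.mp (hfl _ (kill_quot N₂))
    obtain ⟨c₃, hc₃⟩ := ENat.ne_top_iff_exists.mp (hfl _ (kill_quot N₃))
    obtain ⟨k₁, hk₁⟩ := ENat.ne_top_iff_exists.mp (hfl _ (kill_ker N₁))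
    obtain ⟨k₂, hk₂⟩ := ENat.ne_top_iff_exists.mp (hfl _ (kill_ker N₂))
    obtain ⟨k₃, hk₃⟩ := ENat.ne_top_iff_exists.mp (hfl _ (kill_ker N₃))
    rw [← hc₁, ← hk₁] at h1
    rw [← hc₃, ← hk₃] at h3
    have hr1 : rho a N₁ ≠ ⊤ := fun h => by rw [h, add_top] at h1; exact ENat.natCast_ne_top _ h1
    have hr3 : rho a N₃ ≠ ⊤ := fun h => by rw [h, add_top] at h3; exact ENat.natCast_ne_top _ h3
    obtain ⟨r₁, hr₁⟩ := ENat.ne_top_iff_exists.mp hr1
    obtain ⟨r₃, hr₃⟩ := ENat.ne_top_iff_exists.mp hr3
    rw [← hr₁] at h1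
    rw [← hr₃] at h3
    rw [← hc₁, ← hc₂, ← hc₃, ← hk₁, ← hk₂, ← hk₃] at hz
    simp only [ENat.toNat_natCast] at hz
    rw [rho_add a f g hf hg hfg, ← hc₂, ← hk₂, ← hr₁, ← hr₃]
    have e1 : c₁ = k₁ + r₁ := by exact_mod_cast h1
    have e3 : c₃ = k₃ + r₃ := by exact_mod_cast h3
    have : c₂ = k₂ + (r₁ + r₃) := by omega
    rw [this]; push_cast; rfl

theorem result0616 (hA : ringKrullDim A = 1) (M : Type u) [AddCommGroup M]
    [Module A M] [Module.Finite A M] (a : A) (ha : ∀ p ∈ minimalPrimes A, a ∉ p) :
    Module.length A (M ⧸ a • (⊤ : Submodule A M)) =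
      Module.length A (LinearMap.ker (LinearMap.lsmul A M a)) +
      ∑ᶠ (p : PrimeSpectrum A) (_ : p.asIdeal ∈ minimalPrimes A),
        Module.length (Localization.AtPrime p.asIdeal) (LocalizedModule p.asIdeal.primeCompl M) *
          Module.length A (A ⧸ (p.asIdeal ⊔ Ideal.span {a})) := by
  have hl : LinearMap.lsmul A M a = a • (LinearMap.id : M →ₗ[A] M) := by
    ext x; rfl
  rw [hl]
  exact main0616 hA M a ha

end Groth.Agent.H3Sn
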