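import Mathlib
import Groth.Agent.Lib.helper3.SnG
import Groth.Prelude.Def_CycAlg

namespace Groth.Agent.H3Fl

universe u v
open Function

variable {A : Type u} [CommRing A]

theorem loc_length_add' (p : Ideal A) [p.IsPrime] {M' M M'' : Type v}
    [AddCommGroup M'] [Module A M'] [AddCommGroup M] [Module A M] [AddCommGroup M''] [Module A M'']
    (i : M' →ₗ[A] M) (q : M →ₗ[A] M'') (hi : Injective i) (hq : Surjective q) (hex : Exact i q) :
    Module.length (Localization.AtPrime p) (LocalizedModule p.primeCompl M) =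
      Module.length (Localization.AtPrime p) (LocalizedModule p.primeCompl M') +
      Module.length (Localization.AtPrime p) (LocalizedModule p.primeCompl M'') :=
  Module.length_eq_add_of_exact (LocalizedModule.map p.primeCompl i)
    (LocalizedModule.map p.primeCompl q) (LocalizedModule.map_injective _ _ hi)
    (LocalizedModule.map_surjective _ _ hq) (LocalizedModule.map_exact p.primeCompl _ _ hex)

theorem loc_length_equiv (p : Ideal A) [p.IsPrime] {N : Type v} {N' : Type*}
    [AddCommGroup N] [Module A N] [AddCommGroup N'] [Module A N'] (e : N ≃ₗ[A] N') :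
    Module.length (Localization.AtPrime p) (LocalizedModule p.primeCompl N) =
      Module.length (Localization.AtPrime p) (LocalizedModule p.primeCompl N') :=
  (LinearEquiv.ofBijective (LocalizedModule.map p.primeCompl e.toLinearMap)
    ⟨LocalizedModule.map_injective _ _ e.injective,
      LocalizedModule.map_surjective _ _ e.surjective⟩).length_eq

theorem self_mem_support_quot (q : PrimeSpectrum A) : q ∈ Module.support A (A ⧸ q.asIdeal) := by
  rw [Module.mem_support_iff']
  refine ⟨1, fun r hr h => hr ?_⟩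
  rw [Algebra.smul_def, mul_one] at h
  exact Ideal.Quotient.eq_zero_iff_mem.mp h

theorem loc_fl [IsNoetherianRing A] (p : Ideal A) [p.IsPrime] (N : Type v) [AddCommGroup N]
    [Module A N] [hN : Module.Finite A N] :
    (∀ q : PrimeSpectrum A, q ∈ Module.support A N → ¬ (q.asIdeal < p)) →
    Module.length (Localization.AtPrime p) (LocalizedModule p.primeCompl N) ≠ ⊤ := by
  induction hN using IsNoetherianRing.induction_on_isQuotientEquivQuotientPrime A with
  | subsingleton N =>
    intro _
    have : Module.length (Localization.AtPrime p) (LocalizedModule p.primeCompl N) = 0 :=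
      Module.length_eq_zero
    rw [this]; exact ENat.zero_ne_top
  | quotient N q e =>
    intro hmin
    rw [loc_length_equiv p e]
    by_cases hqp : q.asIdeal ≤ p
    · have hq : q ∈ Module.support A N := by
        rw [e.support_eq]; exact self_mem_support_quot q
      have heq : q.asIdeal = p := eq_of_le_of_not_lt hqp (hmin q hq)
      subst heq
      rw [Groth.Agent.H3Sn.loc_length_quot_self]
      exact ENat.one_ne_top
    · obtain ⟨s, hsq, hsp⟩ := SetLike.not_le_iff_exists.mp hqp
      rw [Groth.Agent.H3Sn.loc_length_zero p (A ⧸ q.asIdeal) s hsp (fun x => by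
        induction x using Submodule.Quotient.induction_on with
        | H x =>
          rw [← Submodule.Quotient.mk_smul, Submodule.Quotient.mk_eq_zero, smul_eq_mul]
          exact Ideal.mul_mem_right _ _ hsq)]
      exact ENat.zero_ne_top
  | exact N₁ N₂ N₃ f g hf hg hfg h1 h3 =>
    intro hmin
    rw [loc_length_add' p f g hf hg hfg]
    exact WithTop.add_ne_top.mpr
      ⟨h1 (fun q hq => hmin q (Module.support_subset_of_injective f hf hq)),
        h3 (fun q hq => hmin q (Module.support_subset_of_surjective g hg hq))⟩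

theorem fl_of_support [IsNoetherianRing A] [IsLocalRing A] (N : Type v) [AddCommGroup N]
    [Module A N] [hN : Module.Finite A N] :
    (∀ q : PrimeSpectrum A, q ∈ Module.support A N → q.asIdeal = IsLocalRing.maximalIdeal A) →
    Module.length A N ≠ ⊤ := by
  induction hN using IsNoetherianRing.induction_on_isQuotientEquivQuotientPrime A with
  | subsingleton N =>
    intro _
    have : Module.length A N = 0 := Module.length_eq_zero
    rw [this]; exact ENat.zero_ne_top
  | quotient N q e =>
    intro hsup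
    have hq : q ∈ Module.support A N := by
      rw [e.support_eq]; exact self_mem_support_quot q
    rw [e.length_eq, hsup q hq]
    have : Module.length A (A ⧸ IsLocalRing.maximalIdeal A) = 1 := by
      rw [Module.length_eq_one_iff, isSimpleModule_iff_isCoatom]
      exact Ideal.isMaximal_def.mp inferInstance
    rw [this]; exact ENat.one_ne_top
  | exact N₁ N₂ N₃ f g hf hg hfg h1 h3 =>
    intro hsup
    rw [Module.length_eq_add_of_exact f g hf hg hfg]
    exact WithTop.add_ne_top.mpr
      ⟨h1 (fun q hq => hsup q (Module.support_subset_of_injective f hf hq)),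
        h3 (fun q hq => hsup q (Module.support_subset_of_surjective g hg hq))⟩

theorem quot_fl [IsNoetherianRing A] [IsLocalRing A] {M : Type v} [AddCommGroup M] [Module A M]
    [Module.Finite A M] (hdim : Module.supportDim A M ≤ 1) (θ : M →ₗ[A] M) (hθ : Injective θ) :
    Module.length A (M ⧸ LinearMap.range θ) ≠ ⊤ := by
  apply fl_of_support
  intro q hqC
  by_contra hne
  haveI := q.2
  have hqM : q ∈ Module.support A M :=
    Module.support_subset_of_surjective _ (Submodule.mkQ_surjective (LinearMap.range θ)) hqC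
  have hqm : q ≤ IsLocalRing.closedPoint A := IsLocalRing.le_maximalIdeal q.2.ne_top
  have hmM : IsLocalRing.closedPoint A ∈ Module.support A M := Module.mem_support_mono hqm hqM
  have hminmax := Order.krullDim_le_one_iff.mp hdim ⟨q, hqM⟩
  have hnotmax : ¬ IsMax (⟨q, hqM⟩ : Module.support A M) := by
    intro hmax
    have h1 : (⟨IsLocalRing.closedPoint A, hmM⟩ : Module.support A M) ≤ ⟨q, hqM⟩ := hmax hqm
    have h2 : IsLocalRing.closedPoint A ≤ q := h1
    exact hne (congrArg PrimeSpectrum.asIdeal (le_antisymm hqm h2))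
  have hmin : IsMin (⟨q, hqM⟩ : Module.support A M) := hminmax.resolve_right hnotmax
  have hfl := loc_fl q.asIdeal M (fun q' hq' hlt => by
    have hle : (⟨q', hq'⟩ : Module.support A M) ≤ ⟨q, hqM⟩ := le_of_lt hlt
    have hge : q ≤ q' := hmin hle
    exact absurd (lt_of_lt_of_le hlt hge) (lt_irrefl _))
  have hfin : IsFiniteLength (Localization.AtPrime q.asIdeal)
      (LocalizedModule q.asIdeal.primeCompl M) := Module.length_ne_top_iff.mp hfl
  obtain ⟨_, hArt⟩ := isFiniteLength_iff_isNoetherian_isArtinian.mp hfin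
  have hsurj : Surjective (LocalizedModule.map q.asIdeal.primeCompl θ) :=
    IsArtinian.surjective_of_injective_endomorphism _ (LocalizedModule.map_injective _ _ hθ)
  have hex := LocalizedModule.map_exact q.asIdeal.primeCompl θ (LinearMap.range θ).mkQ
    (LinearMap.exact_map_mkQ_range θ)
  have hπ := LocalizedModule.map_surjective q.asIdeal.primeCompl (LinearMap.range θ).mkQ
    (Submodule.mkQ_surjective _)
  have hsub : Subsingleton (LocalizedModule q.asIdeal.primeCompl (M ⧸ LinearMap.range θ)) := by
    refine ⟨fun x y => ?_⟩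
    have h0 : ∀ z : LocalizedModule q.asIdeal.primeCompl (M ⧸ LinearMap.range θ), z = 0 := by
      intro z
      obtain ⟨w, rfl⟩ := hπ z
      obtain ⟨v, rfl⟩ := hsurj w
      exact (hex _).mpr ⟨v, rfl⟩
    rw [h0 x, h0 y]
  exact (Module.notMem_support_iff.mpr hsub) hqC

theorem main6476 [IsNoetherianRing A] [IsLocalRing A] {M : Type v} [AddCommGroup M] [Module A M]
    [Module.Finite A M] (hdim : Module.supportDim A M = 1) (φ ψ : M →ₗ[A] M)
    (hφ : Function.Injective φ) (hψ : Function.Injective ψ)
    (hcomm : Submodule.map φ (LinearMap.range ψ) = Submodule.map ψ (LinearMap.range φ))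
    (φ' ψ' : (M ⧸ LinearMap.range (φ ∘ₗ ψ)) →ₗ[A] (M ⧸ LinearMap.range (φ ∘ₗ ψ)))
    (hφ' : φ' ∘ₗ (LinearMap.range (φ ∘ₗ ψ)).mkQ = (LinearMap.range (φ ∘ₗ ψ)).mkQ ∘ₗ φ)
    (hψ' : ψ' ∘ₗ (LinearMap.range (φ ∘ₗ ψ)).mkQ = (LinearMap.range (φ ∘ₗ ψ)).mkQ ∘ₗ ψ) :
    Module.length A (M ⧸ LinearMap.range (φ ∘ₗ ψ)) < ⊤ ∧ CycAlg.IsPeriodic φ' ψ' ∧
      Subsingleton (CycAlg.perH φ' ψ') ∧ Subsingleton (CycAlg.perH ψ' φ') := by
  have hφm : ∀ m : M, φ' (Submodule.Quotient.mk m) = Submodule.Quotient.mk (φ m) :=
    fun m => LinearMap.congr_fun hφ' m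
  have hψm : ∀ m : M, ψ' (Submodule.Quotient.mk m) = Submodule.Quotient.mk (ψ m) :=
    fun m => LinearMap.congr_fun hψ' m
  have hmem1 : ∀ m : M, φ (ψ m) ∈ LinearMap.range (φ ∘ₗ ψ) := fun m => ⟨m, rfl⟩
  have hmem2 : ∀ m : M, ψ (φ m) ∈ LinearMap.range (φ ∘ₗ ψ) := by
    intro m
    have h1 : ψ (φ m) ∈ Submodule.map ψ (LinearMap.range φ) := ⟨φ m, ⟨m, rfl⟩, rfl⟩
    rw [← hcomm] at h1
    obtain ⟨y, ⟨m', rfl⟩, hy⟩ := h1
    exact ⟨m', hy⟩
  have hrange : ∀ x ∈ LinearMap.range (φ ∘ₗ ψ), ∃ m'' : M, x = ψ (φ m'') := by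
    rintro x ⟨m', rfl⟩
    have h1 : φ (ψ m') ∈ Submodule.map φ (LinearMap.range ψ) := ⟨ψ m', ⟨m', rfl⟩, rfl⟩
    rw [hcomm] at h1
    obtain ⟨y, ⟨m'', rfl⟩, hy⟩ := h1
    exact ⟨m'', hy.symm⟩
  refine ⟨lt_top_iff_ne_top.mpr (quot_fl hdim.le _ (hφ.comp hψ)), ⟨?_, ?_⟩, ?_, ?_⟩
  · refine LinearMap.ext fun x => ?_
    induction x using Submodule.Quotient.induction_on with
    | H m =>
      rw [LinearMap.comp_apply, hψm, hφm, LinearMap.zero_apply]
      exact (Submodule.Quotient.mk_eq_zero _).mpr (hmem1 m)
  · refine LinearMap.ext fun x => ?_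
    induction x using Submodule.Quotient.induction_on with
    | H m =>
      rw [LinearMap.comp_apply, hφm, hψm, LinearMap.zero_apply]
      exact (Submodule.Quotient.mk_eq_zero _).mpr (hmem2 m)
  · rw [Submodule.Quotient.subsingleton_iff, eq_top_iff]
    rintro ⟨x, hx⟩ -
    show x ∈ LinearMap.range ψ'
    induction x using Submodule.Quotient.induction_on with
    | H m =>
      rw [LinearMap.mem_ker, hφm, Submodule.Quotient.mk_eq_zero] at hx
      obtain ⟨m', hm'⟩ := hx
      have : m = ψ m' := (hφ hm').symm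
      exact ⟨Submodule.Quotient.mk m', by rw [hψm, this]⟩
  · rw [Submodule.Quotient.subsingleton_iff, eq_top_iff]
    rintro ⟨x, hx⟩ -
    show x ∈ LinearMap.range φ'
    induction x using Submodule.Quotient.induction_on with
    | H m =>
      rw [LinearMap.mem_ker, hψm, Submodule.Quotient.mk_eq_zero] at hx
      obtain ⟨m'', hm''⟩ := hrange _ hx
      have : m = φ m'' := hψ hm''
      exact ⟨Submodule.Quotient.mk m'', by rw [hφm, this]⟩

end Groth.Agent.H3Fl
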