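import Mathlib
import Groth.Agent.Lib.helper3.FlA

set_option autoImplicit false
universe u

namespace Groth.Agent.H3LocCrit

open TensorProduct Function

variable {R S M : Type u} [CommRing R] [CommRing S] [Algebra R S] (I : Ideal R)
  [AddCommGroup M] [Module S M] [Module R M] [IsScalarTower R S M]

/-- the comparison map `I ⊗[R] M → IS ⊗[S] M` -/
noncomputable def theta : I ⊗[R] M →ₗ[R] (I.map (algebraMap R S)) ⊗[S] M :=
  TensorProduct.lift (LinearMap.mk₂ R
    (fun (i : I) (m : M) =>
      (⟨algebraMap R S i, Ideal.mem_map_of_mem _ i.2⟩ : I.map (algebraMap R S)) ⊗ₜ[S] m)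
    (by
      intro i i' m
      rw [← add_tmul]
      congr 1
      apply Subtype.ext
      simp)
    (by
      intro r i m
      rw [TensorProduct.smul_tmul']
      congr 1
      apply Subtype.ext
      simp [Algebra.smul_def])
    (by
      intro i m m'
      rw [tmul_add])
    (by
      intro r i m
      rw [TensorProduct.tmul_smul]))

@[simp] lemma theta_tmul (i : I) (m : M) : theta (S := S) I (i ⊗ₜ[R] m) =
    (⟨algebraMap R S i, Ideal.mem_map_of_mem _ i.2⟩ : I.map (algebraMap R S)) ⊗ₜ[S] m := by
  simp [theta]

lemma theta_surjective : Surjective (theta (S := S) (M := M) I) := by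
  rw [← LinearMap.range_eq_top, eq_top_iff]
  rintro t -
  induction t using TensorProduct.induction_on with
  | zero => exact Submodule.zero_mem _
  | add a b ha hb => exact Submodule.add_mem _ ha hb
  | tmul a m =>
    obtain ⟨a, ha⟩ := a
    revert m
    have ha' : a ∈ Submodule.span S ((algebraMap R S) '' (I : Set R)) := ha
    refine Submodule.span_induction (p := fun a ha => ∀ m : M,
      (⟨a, ha⟩ : I.map (algebraMap R S)) ⊗ₜ[S] m ∈ LinearMap.range (theta (S := S) (M := M) I))
      ?_ ?_ ?_ ?_ ha'
    · rintro _ ⟨i, hi, rfl⟩ m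
      exact ⟨(⟨i, hi⟩ : I) ⊗ₜ[R] m, by simp⟩
    · intro m
      have : (⟨0, Submodule.zero_mem _⟩ : I.map (algebraMap R S)) = 0 := rfl
      rw [this, zero_tmul]
      exact Submodule.zero_mem _
    · intro a b ha hb iha ihb m
      have : (⟨a + b, Submodule.add_mem _ ha hb⟩ : I.map (algebraMap R S))
          = ⟨a, ha⟩ + ⟨b, hb⟩ := rfl
      rw [this, add_tmul]
      exact Submodule.add_mem _ (iha m) (ihb m)
    · intro s a ha iha m
      have : (⟨s • a, Submodule.smul_mem _ s ha⟩ : I.map (algebraMap R S))
          = s • ⟨a, ha⟩ := rfl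
      rw [this, TensorProduct.smul_tmul]
      exact iha (s • m)

theorem main400 (hI : IsNilpotent I) [Module.Flat R M]
    (h : Module.Flat (S ⧸ I.map (algebraMap R S)) ((S ⧸ I.map (algebraMap R S)) ⊗[S] M)) :
    Module.Flat S M := by
  have hnil : IsNilpotent (I.map (algebraMap R S)) := by
    obtain ⟨n, hn⟩ := hI
    exact ⟨n, by rw [← Ideal.map_pow, hn]; simp⟩
  apply flat_of_nilpotent (I.map (algebraMap R S)) hnil
  have hR : Injective (LinearMap.rTensor M (Submodule.subtype I)) :=
    Module.Flat.rTensor_preserves_injective_linearMap _ I.subtype_injective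
  have hcomm : ∀ t : I ⊗[R] M,
      TensorProduct.lid S M ((LinearMap.rTensor M (Submodule.subtype (I.map (algebraMap R S))))
        (theta I t)) = TensorProduct.lid R M ((LinearMap.rTensor M (Submodule.subtype I)) t) := by
    intro t
    induction t using TensorProduct.induction_on with
    | zero => simp
    | add a b ha hb => simp only [map_add, ha, hb]
    | tmul i m => simp
  rw [injective_iff_map_eq_zero]
  intro t ht
  obtain ⟨t', rfl⟩ := theta_surjective I t
  have h1 := hcomm t'
  rw [ht, map_zero] at h1
  have h2 : (LinearMap.rTensor M (Submodule.subtype I)) t' = 0 :=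
    (TensorProduct.lid R M).injective (by rw [← h1, map_zero])
  have h3 : t' = 0 := hR (by rw [h2, map_zero])
  rw [h3, map_zero]

end Groth.Agent.H3LocCrit
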