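import Mathlib
import Groth.Agent.Lib.helper3.FlB

set_option autoImplicit false
universe u v w x y

namespace Groth.Agent.H3LocCrit

open TensorProduct Function

section cancel

variable {A : Type u} [CommRing A] {B : Type v} [CommRing B] [Algebra A B]
  {N : Type w} [AddCommGroup N] [Module A N] [Module B N] [IsScalarTower A B N]
  {K : Type x} {F : Type y} [AddCommGroup K] [Module A K] [AddCommGroup F] [Module A F]

lemma cancel_comm (ι : K →ₗ[A] F) (t : N ⊗[B] (B ⊗[A] K)) :
    AlgebraTensorModule.cancelBaseChange A B B N F ((ι.baseChange B).lTensor N t)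
      = (ι.lTensor N) (AlgebraTensorModule.cancelBaseChange A B B N K t) := by
  induction t using TensorProduct.induction_on with
  | zero => simp
  | add a b ha hb => simp only [map_add, ha, hb]
  | tmul n s =>
    induction s using TensorProduct.induction_on with
    | zero => simp
    | add a b ha hb => simp only [tmul_add, map_add, ha, hb]
    | tmul b k => simp

lemma injective_lTensor_baseChange_iff (ι : K →ₗ[A] F) :
    Injective ((ι.baseChange B).lTensor N) ↔ Injective (ι.lTensor N) := by
  constructor
  · intro h
    rw [injective_iff_map_eq_zero]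
    intro x hx
    obtain ⟨t, rfl⟩ := (AlgebraTensorModule.cancelBaseChange A B B N K).surjective x
    rw [← cancel_comm] at hx
    have h1 : (ι.baseChange B).lTensor N t = 0 :=
      (AlgebraTensorModule.cancelBaseChange A B B N F).injective (by rw [hx, map_zero])
    have h2 : t = 0 := h (by rw [h1, map_zero])
    rw [h2, map_zero]
  · intro h
    rw [injective_iff_map_eq_zero]
    intro t ht
    have h1 := cancel_comm (N := N) (B := B) ι t
    rw [ht, map_zero] at h1
    have h2 : AlgebraTensorModule.cancelBaseChange A B B N K t = 0 := h (by rw [← h1, map_zero])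
    exact (AlgebraTensorModule.cancelBaseChange A B B N K).injective (by rw [h2, map_zero])

end cancel

theorem main4891 {A B : Type u} [CommRing A] [CommRing B] [Algebra A B]
    (J : Ideal A) (hJ : IsNilpotent J) (M : Type u) [AddCommGroup M] [Module B M] [Module A M]
    [IsScalarTower A B M]
    (hc1 : Module.Flat A M)
    (hc2 : Module.Flat (B ⧸ J.map (algebraMap A B)) ((B ⧸ J.map (algebraMap A B)) ⊗[B] M))
    (hd2 : ∀ m : Ideal B, m.IsMaximal → J.map (algebraMap A B) ≤ m →
      (m • (⊤ : Submodule B M)) ≠ ⊤) :
    Module.Flat A B := by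
  haveI : Module.Flat B M := main400 J hJ hc2
  have hle : ∀ m : Ideal B, m.IsMaximal → J.map (algebraMap A B) ≤ m := by
    intro m hm x hx
    have hnil : IsNilpotent (J.map (algebraMap A B)) := by
      obtain ⟨n, hn⟩ := hJ
      exact ⟨n, by rw [← Ideal.map_pow, hn]; simp⟩
    obtain ⟨n, hn⟩ := hnil
    have h1 : x ^ n ∈ (J.map (algebraMap A B)) ^ n := Ideal.pow_mem_pow hx n
    rw [hn] at h1
    have h2 : x ^ n ∈ m := by
      have : x ^ n = 0 := h1
      rw [this]; exact m.zero_mem
    exact hm.isPrime.mem_of_pow_mem n h2
  haveI : Module.FaithfullyFlat B M := ⟨fun m hm => hd2 m hm (hle m hm)⟩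
  rw [Module.Flat.iff_lTensor_injective']
  intro 𝔞
  have h1 : Injective (𝔞.subtype.lTensor M) :=
    Module.Flat.lTensor_preserves_injective_linearMap _ 𝔞.subtype_injective
  rw [← injective_lTensor_baseChange_iff (B := B),
    Module.FaithfullyFlat.lTensor_injective_iff_injective] at h1
  exact h1

end Groth.Agent.H3LocCrit
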