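import Mathlib
import Groth.Agent.Lib.helper3.ArtA

set_option autoImplicit false
universe u

namespace Groth.Agent.H3Nil

open TensorProduct Groth.Agent.H3Art

variable {A : Type u} [CommRing A] (J : Ideal A) {M : Type u} [AddCommGroup M] [Module A M]
  {I : Type u} (b : Module.Basis I (A ⧸ J) ((A ⧸ J) ⊗[A] M))

lemma exists_one_tmul (v : (A ⧸ J) ⊗[A] M) : ∃ x : M, (1 : A ⧸ J) ⊗ₜ[A] x = v :=
  TensorProduct.mk_surjective A M (A ⧸ J) Ideal.Quotient.mk_surjective v

noncomputable def lift (i : I) : M := (exists_one_tmul J (b i)).choose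

lemma lift_spec (i : I) : (1 : A ⧸ J) ⊗ₜ[A] lift J b i = b i :=
  (exists_one_tmul J (b i)).choose_spec

noncomputable def phi : (I →₀ A) →ₗ[A] M := Finsupp.linearCombination A (lift J b)

lemma mem_smul_top_of_one_tmul_eq_zero (y : M) (hy : (1 : A ⧸ J) ⊗ₜ[A] y = 0) :
    y ∈ J • (⊤ : Submodule A M) := by
  have := congrArg (TensorProduct.quotTensorEquivQuotSMul M J) hy
  rw [map_zero] at this
  have h3 : TensorProduct.quotTensorEquivQuotSMul M J ((1 : A ⧸ J) ⊗ₜ[A] y)
      = Submodule.Quotient.mk y := by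
    have := TensorProduct.quotTensorEquivQuotSMul_mk_tmul (M := M) J 1 y
    rwa [one_smul] at this
  rw [h3, Submodule.Quotient.mk_eq_zero] at this
  exact this

lemma phi_surjective (n : ℕ) (hJ : J ^ n = ⊥) : Function.Surjective (phi J b) := by
  rw [← LinearMap.range_eq_top]
  apply nil_nakayama J n hJ
  intro y _
  -- write 1 ⊗ y in the basis
  have hrep : (1 : A ⧸ J) ⊗ₜ[A] y = ∑ i ∈ (b.repr ((1 : A ⧸ J) ⊗ₜ[A] y)).support,
      (b.repr ((1 : A ⧸ J) ⊗ₜ[A] y) i) • b i := by
    conv_lhs => rw [← b.linearCombination_repr ((1 : A ⧸ J) ⊗ₜ[A] y)]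
    rw [Finsupp.linearCombination_apply, Finsupp.sum]
  set s := (b.repr ((1 : A ⧸ J) ⊗ₜ[A] y)).support with hs
  choose a ha using fun i : I => Ideal.Quotient.mk_surjective (b.repr ((1 : A ⧸ J) ⊗ₜ[A] y) i)
  have h1 : (1 : A ⧸ J) ⊗ₜ[A] (y - ∑ i ∈ s, a i • lift J b i) = 0 := by
    rw [tmul_sub, tmul_sum, hrep, sub_eq_zero]
    apply Finset.sum_congr rfl
    intro i _
    rw [← ha i, tmul_smul, lift_spec]
    rfl
  have h2 := mem_smul_top_of_one_tmul_eq_zero J _ h1
  have h3 : ∑ i ∈ s, a i • lift J b i ∈ LinearMap.range (phi J b) := by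
    apply Submodule.sum_mem
    intro i _
    apply Submodule.smul_mem
    exact ⟨Finsupp.single i 1, by simp [phi]⟩
  have : y = ∑ i ∈ s, a i • lift J b i + (y - ∑ i ∈ s, a i • lift J b i) := by abel
  rw [this]
  exact Submodule.add_mem_sup h3 h2

/-- coordinate functionals -/
noncomputable def psi (j : I) : M →ₗ[A] (A ⧸ J) :=
  ((b.coord j).restrictScalars A) ∘ₗ (TensorProduct.mk A (A ⧸ J) M 1)

lemma psi_lift [DecidableEq I] (i j : I) : psi J b j (lift J b i) = if i = j then 1 else 0 := by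
  simp only [psi, LinearMap.comp_apply, LinearMap.restrictScalars_apply, TensorProduct.mk_apply,
    lift_spec]
  rw [Module.Basis.coord_apply, Module.Basis.repr_self, Finsupp.single_apply]

section baseChange

variable {B : Type u} [CommRing B] [Algebra A B] {N : Type u} [AddCommGroup N] [Module A N]
  [Module B N] [IsScalarTower A B N] (g : M →ₗ[A] N)

variable (B) in
noncomputable def phiB : (I →₀ B) →ₗ[B] N := Finsupp.linearCombination B (fun i => g (lift J b i))

noncomputable def iota (B : Type u) [CommRing B] [Algebra A B] : (I →₀ A) →ₗ[A] (I →₀ B) :=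
  Finsupp.mapRange.linearMap (Algebra.linearMap A B)

lemma phiB_iota (f : I →₀ A) : phiB J b B g (iota B f) = g (phi J b f) := by
  have : ((phiB J b B g).restrictScalars A) ∘ₗ (iota B) = g ∘ₗ (phi J b) := by
    apply Finsupp.lhom_ext'
    intro i
    apply LinearMap.ext_ring
    simp [phiB, iota, phi]
  exact LinearMap.congr_fun this f

variable {g} (hg : IsBaseChange B g)
include hg

lemma phiB_surjective (n : ℕ) (hJ : J ^ n = ⊥) : Function.Surjective (phiB J b B g) := by
  intro y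
  refine hg.inductionOn y (fun y => ∃ f, phiB J b B g f = y) ⟨0, map_zero _⟩ ?_ ?_ ?_
  · intro z
    obtain ⟨f, rfl⟩ := phi_surjective J b n hJ z
    exact ⟨iota B f, phiB_iota J b g f⟩
  · rintro s y ⟨f, rfl⟩
    exact ⟨s • f, map_smul _ _ _⟩
  · rintro y₁ y₂ ⟨f₁, rfl⟩ ⟨f₂, rfl⟩
    exact ⟨f₁ + f₂, map_add _ _ _⟩

lemma ker_phiB_le : LinearMap.ker (phiB J b B g) ≤
    (J.map (algebraMap A B)) • (⊤ : Submodule B (I →₀ B)) := by
  classical
  set 𝔞 : Ideal B := J.map (algebraMap A B) with h𝔞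
  let c : (A ⧸ J) →ₗ[A] (B ⧸ 𝔞) := Submodule.liftQ J (Algebra.linearMap A (B ⧸ 𝔞)) (by
    intro r hr
    rw [LinearMap.mem_ker, Algebra.linearMap_apply, IsScalarTower.algebraMap_apply A B (B ⧸ 𝔞)]
    exact Ideal.Quotient.eq_zero_iff_mem.mpr (Ideal.mem_map_of_mem _ hr))
  have hc1 : c 1 = 1 := by
    have : c (Submodule.Quotient.mk (1 : A)) = Algebra.linearMap A (B ⧸ 𝔞) 1 :=
      Submodule.liftQ_apply _ _ _
    rw [Algebra.linearMap_apply, map_one] at this
    exact this
  let ψ' : I → (N →ₗ[B] (B ⧸ 𝔞)) := fun j => hg.lift (c ∘ₗ psi J b j)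
  have hψ' : ∀ i j, ψ' j (g (lift J b i)) = if i = j then 1 else 0 := by
    intro i j
    simp only [ψ']
    rw [hg.lift_eq, LinearMap.comp_apply, psi_lift]
    split_ifs
    · exact hc1
    · exact map_zero c
  have hcoord : ∀ j, (ψ' j) ∘ₗ (phiB J b B g)
      = (Ideal.Quotient.mkₐ B 𝔞).toLinearMap ∘ₗ (Finsupp.lapply j) := by
    intro j
    apply Finsupp.lhom_ext'
    intro i
    apply LinearMap.ext_ring
    simp only [LinearMap.comp_apply, Finsupp.lsingle_apply, phiB, Finsupp.linearCombination_single,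
      one_smul, hψ', Finsupp.lapply_apply, Finsupp.single_apply, AlgHom.toLinearMap_apply]
    split_ifs <;> simp
  intro y hy
  have hyj : ∀ j, y j ∈ 𝔞 := by
    intro j
    have := LinearMap.congr_fun (hcoord j) y
    simp only [LinearMap.comp_apply, LinearMap.mem_ker.mp hy, map_zero, Finsupp.lapply_apply,
      AlgHom.toLinearMap_apply, Ideal.Quotient.mkₐ_eq_mk] at this
    exact Ideal.Quotient.eq_zero_iff_mem.mp this.symm
  rw [← Finsupp.sum_single y]
  apply Submodule.sum_mem
  intro j _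
  have : Finsupp.single j (y j) = (y j) • Finsupp.single j (1 : B) := by
    rw [Finsupp.smul_single, smul_eq_mul, mul_one]
  rw [this]
  exact Submodule.smul_mem_smul (hyj j) trivial

lemma phiB_injective_of_flat (n : ℕ) (hJ : J ^ n = ⊥) [Module.Flat B N] :
    Function.Injective (phiB J b B g) := by
  have h𝔞n : (J.map (algebraMap A B)) ^ n = ⊥ := by
    rw [← Ideal.map_pow, hJ, Ideal.map_bot]
  exact inj_of_flat_nil _ n h𝔞n (phiB J b B g) (phiB_surjective J b hg n hJ) (ker_phiB_le J b hg)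

end baseChange

end Groth.Agent.H3Nil
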