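import Mathlib
import Groth.Agent.Lib.helper3.FlC
import Groth.Agent.Lib.helper3.NilA

set_option autoImplicit false
universe u

namespace Groth.Agent.H3LocCrit

open TensorProduct Function

section

variable {R S M : Type u} [CommRing R] [CommRing S] [Algebra R S] (I : Ideal R)
  [AddCommGroup M] [Module S M] [Module R M] [IsScalarTower R S M]

lemma theta_comm (t : I ⊗[R] M) :
    TensorProduct.lid S M ((LinearMap.rTensor M (Submodule.subtype (I.map (algebraMap R S))))
      (theta I t)) = TensorProduct.lid R M ((LinearMap.rTensor M (Submodule.subtype I)) t) := by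
  induction t using TensorProduct.induction_on with
  | zero => simp
  | add a b ha hb => simp only [map_add, ha, hb]
  | tmul i m => simp

end

theorem main6349 (R : Type u) [CommRing R] (I : Ideal R) (M : Type u)
    [AddCommGroup M] [Module R M] [Module.Flat (R ⧸ I) ((R ⧸ I) ⊗[R] M)]
    (htor : Injective ((Submodule.subtype I).rTensor M)) (n : ℕ) (hn : 1 ≤ n) :
    Module.Flat (R ⧸ I ^ n) ((R ⧸ I ^ n) ⊗[R] M) := by
  set Rn := R ⧸ I ^ n with hRn
  set Mn := Rn ⊗[R] M with hMn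
  set Ī : Ideal Rn := I.map (algebraMap R Rn) with hĪ
  have hnil : IsNilpotent Ī := by
    refine ⟨n, ?_⟩
    rw [hĪ, ← Ideal.map_pow, Ideal.zero_eq_bot, Ideal.map_eq_bot_iff_le_ker]
    intro a ha
    rw [RingHom.mem_ker]
    exact Ideal.Quotient.eq_zero_iff_mem.mpr ha
  -- (1) flatness modulo Ī
  have hflat : Module.Flat (Rn ⧸ Ī) ((Rn ⧸ Ī) ⊗[Rn] Mn) := by
    have h0 : ∀ a ∈ I, algebraMap R (Rn ⧸ Ī) a = 0 := by
      intro a ha
      rw [IsScalarTower.algebraMap_apply R Rn (Rn ⧸ Ī)]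
      exact Ideal.Quotient.eq_zero_iff_mem.mpr (Ideal.mem_map_of_mem _ ha)
    letI : Algebra (R ⧸ I) (Rn ⧸ Ī) :=
      (Ideal.Quotient.lift I (algebraMap R (Rn ⧸ Ī)) h0).toAlgebra
    haveI : IsScalarTower R (R ⧸ I) (Rn ⧸ Ī) := IsScalarTower.of_algebraMap_eq (fun r => rfl)
    let e₁ := AlgebraTensorModule.cancelBaseChange R (R ⧸ I) (Rn ⧸ Ī) (Rn ⧸ Ī) M
    let e₂ := AlgebraTensorModule.cancelBaseChange R Rn (Rn ⧸ Ī) (Rn ⧸ Ī) M
    haveI : Module.Flat (Rn ⧸ Ī) ((Rn ⧸ Ī) ⊗[R] M) := Module.Flat.of_linearEquiv e₁.symm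
    exact Module.Flat.of_linearEquiv e₂
  -- (2) Tor vanishing
  apply flat_of_nilpotent Ī hnil
  let κ : M →ₗ[R] Mn := TensorProduct.mk R Rn M 1
  have hκ : Surjective κ := TensorProduct.mk_surjective R M Rn Ideal.Quotient.mk_surjective
  let μ : I ⊗[R] M →ₗ[R] M := (TensorProduct.lid R M).toLinearMap ∘ₗ (Submodule.subtype I).rTensor M
  have hμ : Injective μ := by
    simp only [μ, LinearMap.coe_comp, LinearEquiv.coe_coe]
    exact (TensorProduct.lid R M).injective.comp htor
  have hle : I ^ n ≤ I := Ideal.pow_le_self (by omega)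
  let j : ↥(I ^ n) →ₗ[R] I := Submodule.inclusion hle
  -- naturality of κ
  have hnat : ∀ t : I ⊗[R] M,
      TensorProduct.lid R Mn ((LinearMap.rTensor Mn (Submodule.subtype I)) (κ.lTensor I t))
        = κ (μ t) := by
    intro t
    induction t using TensorProduct.induction_on with
    | zero => simp
    | add a b ha hb => simp only [map_add, ha, hb]
    | tmul i m => simp [μ, κ]
  -- elements of I^n • ⊤ come from I^n ⊗ M
  have hpow : ∀ y ∈ (I ^ n) • (⊤ : Submodule R M), ∃ t'' : ↥(I ^ n) ⊗[R] M, μ (j.rTensor M t'') = y := by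
    intro y hy
    refine Submodule.smul_induction_on hy ?_ ?_
    · intro a ha m _
      exact ⟨(⟨a, ha⟩ : ↥(I ^ n)) ⊗ₜ[R] m, by simp [μ, j]⟩
    · rintro y z ⟨t1, rfl⟩ ⟨t2, rfl⟩
      exact ⟨t1 + t2, by simp only [map_add]⟩
  -- α kills I^n ⊗ M
  have hkill : ∀ t'' : ↥(I ^ n) ⊗[R] M, theta (S := Rn) (M := Mn) I (κ.lTensor I (j.rTensor M t'')) = 0 := by
    intro t''
    induction t'' using TensorProduct.induction_on with
    | zero => simp
    | add a b ha hb => simp only [map_add, ha, hb, add_zero]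
    | tmul a m =>
      simp only [LinearMap.rTensor_tmul, LinearMap.lTensor_tmul, theta_tmul]
      have : (⟨algebraMap R Rn (j a), Ideal.mem_map_of_mem _ (j a).2⟩ : Ī) = 0 := by
        apply Subtype.ext
        show algebraMap R Rn (a : R) = 0
        exact Ideal.Quotient.eq_zero_iff_mem.mpr a.2
      rw [this, zero_tmul]
  rw [injective_iff_map_eq_zero]
  intro s hs
  obtain ⟨u, rfl⟩ := theta_surjective (S := Rn) (M := Mn) I s
  obtain ⟨t, rfl⟩ := LinearMap.lTensor_surjective I hκ u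
  have h1 := theta_comm (S := Rn) (M := Mn) I (κ.lTensor I t)
  rw [hs, map_zero, hnat] at h1
  have h2 : μ t ∈ (I ^ n) • (⊤ : Submodule R M) :=
    Groth.Agent.H3Nil.mem_smul_top_of_one_tmul_eq_zero (I ^ n) (μ t) h1.symm
  obtain ⟨t'', ht''⟩ := hpow _ h2
  have h3 : t = j.rTensor M t'' := hμ ht''.symm
  rw [h3, hkill]

end Groth.Agent.H3LocCrit
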