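import Mathlib
import Groth.Agent.Lib.helper3.FlA

set_option autoImplicit false
universe u v w x y

namespace Groth.Agent.H3LocCrit

open TensorProduct Function

section L1

variable {A : Type u} [CommRing A] (B : Type v) [CommRing B] [Algebra A B]
  (N : Type w) [AddCommGroup N] [Module A N]
  {P : Type x} {Q : Type y} [AddCommGroup P] [AddCommGroup Q] [Module A P] [Module B P]
  [IsScalarTower A B P] [Module A Q] [Module B Q] [IsScalarTower A B Q]

lemma cancel_comm_r (f : P →ₗ[B] Q) (t : P ⊗[B] (B ⊗[A] N)) :
    AlgebraTensorModule.cancelBaseChange A B B Q N (f.rTensor (B ⊗[A] N) t)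
      = ((f.restrictScalars A).rTensor N) (AlgebraTensorModule.cancelBaseChange A B B P N t) := by
  induction t using TensorProduct.induction_on with
  | zero => simp
  | add a b ha hb => simp only [map_add, ha, hb]
  | tmul n s =>
    induction s using TensorProduct.induction_on with
    | zero => simp
    | add a b ha hb => simp only [tmul_add, map_add, ha, hb]
    | tmul b k => simp

lemma rTensor_injective_of_flat_baseChange [Module.Flat B (B ⊗[A] N)]
    (f : P →ₗ[B] Q) (hf : Injective f) :
    Injective ((f.restrictScalars A).rTensor N) := by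
  have h1 : Injective (f.rTensor (B ⊗[A] N)) :=
    Module.Flat.rTensor_preserves_injective_linearMap f hf
  rw [injective_iff_map_eq_zero]
  intro x hx
  obtain ⟨t, rfl⟩ := (AlgebraTensorModule.cancelBaseChange A B B P N).surjective x
  rw [← cancel_comm_r] at hx
  have h2 : f.rTensor (B ⊗[A] N) t = 0 :=
    (AlgebraTensorModule.cancelBaseChange A B B Q N).injective (by rw [hx, map_zero])
  have h3 : t = 0 := h1 (by rw [h2, map_zero])
  rw [h3, map_zero]

end L1

end Groth.Agent.H3LocCrit
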