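import Mathlib
import Groth.Agent.Lib.helper3.FlE

set_option autoImplicit false
universe u v w x y

namespace Groth.Agent.H3LocCrit

open TensorProduct Function

section G

variable {A : Type u} [CommRing A] (B : Type v) [CommRing B] [Algebra A B]
  (N : Type w) [AddCommGroup N] [Module A N]

theorem flat_of_sq_zero_of_injective (hinj : Injective (algebraMap A B)) (J : Ideal A)
    (hJ : J ^ 2 = ⊥) [Module.Flat (A ⧸ J) ((A ⧸ J) ⊗[A] N)] [Module.Flat B (B ⊗[A] N)] :
    Module.Flat A N := by
  apply flat_of_nilpotent J ⟨2, hJ⟩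
  obtain ⟨JB, hJB⟩ : ∃ JB : Ideal B, JB = J.map (algebraMap A B) := ⟨_, rfl⟩
  have hJB2 : JB ^ 2 = ⊥ := by rw [hJB, ← Ideal.map_pow, hJ, Ideal.map_bot]
  have htJ : Module.IsTorsionBySet A J J := by
    rintro ⟨x, hx⟩ ⟨a, ha⟩
    apply Subtype.ext
    show a * x = 0
    have : a * x ∈ J ^ 2 := by rw [pow_two]; exact Ideal.mul_mem_mul ha hx
    rw [hJ] at this
    exact this
  have htJB : Module.IsTorsionBySet A JB J := by
    rintro ⟨x, hx⟩ ⟨a, ha⟩
    apply Subtype.ext
    show a • x = 0
    rw [Algebra.smul_def]
    have : algebraMap A B a * x ∈ JB ^ 2 := by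
      rw [pow_two]
      exact Ideal.mul_mem_mul (by rw [hJB]; exact Ideal.mem_map_of_mem _ ha) hx
    rw [hJB2] at this
    exact this
  letI := htJ.module
  haveI : IsScalarTower A (A ⧸ J) J := htJ.isScalarTower
  letI := htJB.module
  haveI : IsScalarTower A (A ⧸ J) JB := htJB.isScalarTower
  let g : J →ₗ[A] JB :=
    { toFun := fun x => ⟨algebraMap A B x, by rw [hJB]; exact Ideal.mem_map_of_mem _ x.2⟩
      map_add' := fun x y => by apply Subtype.ext; simp
      map_smul' := fun a x => by
        apply Subtype.ext
        simp [Algebra.smul_def] }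
  have hg : Injective g := by
    intro x y hxy
    apply Subtype.ext
    apply hinj
    exact congrArg Subtype.val hxy
  let g' : J →ₗ[A ⧸ J] JB :=
    { toFun := g
      map_add' := g.map_add
      map_smul' := fun c x => by
        obtain ⟨a, rfl⟩ := Ideal.Quotient.mk_surjective c
        have h1 : (Ideal.Quotient.mk J a) • x = a • x := by
          rw [← Ideal.Quotient.algebraMap_eq, algebraMap_smul]
        have h2 : (Ideal.Quotient.mk J a) • g x = a • g x := by
          rw [← Ideal.Quotient.algebraMap_eq, algebraMap_smul]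
        simp only [RingHom.id_apply]
        rw [h1, h2, map_smul] }
  have i1 : Injective ((g'.restrictScalars A).rTensor N) :=
    rTensor_injective_of_flat_baseChange (A ⧸ J) N g' hg
  have i2 : Injective (((Submodule.subtype JB).restrictScalars A).rTensor N) :=
    rTensor_injective_of_flat_baseChange B N (Submodule.subtype JB) (Submodule.subtype_injective _)
  have hcomp : ((Algebra.linearMap A B).rTensor N) ∘ₗ (J.subtype.rTensor N)
      = (((Submodule.subtype JB).restrictScalars A).rTensor N) ∘ₗ
        ((g'.restrictScalars A).rTensor N) := by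
    rw [← LinearMap.rTensor_comp, ← LinearMap.rTensor_comp]
    congr 1
  have i3 : Injective (((Algebra.linearMap A B).rTensor N) ∘ₗ (J.subtype.rTensor N)) := by
    rw [hcomp]
    exact i2.comp i1
  exact Injective.of_comp i3

end G

end Groth.Agent.H3LocCrit
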