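import Mathlib
import Groth.Agent.Lib.helper3.FlF

set_option autoImplicit false
universe u v w x y

namespace Groth.Agent.H3LocCrit

open TensorProduct Function

theorem main6384 (R R' : Type u) [CommRing R] [CommRing R'] [Algebra R R']
    (I : Ideal R) (M : Type u) [AddCommGroup M] [Module R M] [Module.Flat (R ⧸ I) ((R ⧸ I) ⊗[R] M)]
    [Module.Flat R' (R' ⊗[R] M)] :
    Module.Flat (R ⧸ ((I ^ 2).map (algebraMap R R')).comap (algebraMap R R'))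
      ((R ⧸ ((I ^ 2).map (algebraMap R R')).comap (algebraMap R R')) ⊗[R] M) := by
  obtain ⟨K, hK⟩ : ∃ K : Ideal R', K = (I ^ 2).map (algebraMap R R') := ⟨_, rfl⟩
  rw [← hK]
  obtain ⟨I₂, hI₂⟩ : ∃ I₂ : Ideal R, I₂ = K.comap (algebraMap R R') := ⟨_, rfl⟩
  rw [← hI₂]
  have hle : I₂ ≤ K.comap (algebraMap R R') := hI₂.le
  letI : Algebra (R ⧸ I₂) (R' ⧸ K) := (Ideal.quotientMap K (algebraMap R R') hle).toAlgebra
  haveI : IsScalarTower R (R ⧸ I₂) (R' ⧸ K) := IsScalarTower.of_algebraMap_eq (fun r => rfl)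
  have hinj : Injective (algebraMap (R ⧸ I₂) (R' ⧸ K)) := by
    apply Ideal.quotientMap_injective'
    exact hI₂.ge
  obtain ⟨J, hJdef⟩ : ∃ J : Ideal (R ⧸ I₂), J = I.map (algebraMap R (R ⧸ I₂)) := ⟨_, rfl⟩
  have hJ : J ^ 2 = ⊥ := by
    rw [hJdef, ← Ideal.map_pow]
    apply Ideal.map_mk_eq_bot_of_le
    rw [hI₂, hK]
    exact Ideal.le_comap_map
  have hIJ : I ≤ J.comap (algebraMap R (R ⧸ I₂)) := by
    rw [hJdef]; exact Ideal.le_comap_map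
  letI : Algebra (R ⧸ I) ((R ⧸ I₂) ⧸ J) :=
    (Ideal.quotientMap J (algebraMap R (R ⧸ I₂)) hIJ).toAlgebra
  haveI : IsScalarTower R (R ⧸ I) ((R ⧸ I₂) ⧸ J) := IsScalarTower.of_algebraMap_eq (fun r => rfl)
  haveI : Module.Flat ((R ⧸ I₂) ⧸ J) (((R ⧸ I₂) ⧸ J) ⊗[R ⧸ I₂] ((R ⧸ I₂) ⊗[R] M)) := by
    let e1 := AlgebraTensorModule.cancelBaseChange R (R ⧸ I) ((R ⧸ I₂) ⧸ J) ((R ⧸ I₂) ⧸ J) M
    let e2 := AlgebraTensorModule.cancelBaseChange R (R ⧸ I₂) ((R ⧸ I₂) ⧸ J) ((R ⧸ I₂) ⧸ J) M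
    exact Module.Flat.of_linearEquiv (e2.trans e1.symm)
  haveI : Module.Flat (R' ⧸ K) ((R' ⧸ K) ⊗[R ⧸ I₂] ((R ⧸ I₂) ⊗[R] M)) := by
    let e3 := AlgebraTensorModule.cancelBaseChange R (R ⧸ I₂) (R' ⧸ K) (R' ⧸ K) M
    let e4 := AlgebraTensorModule.cancelBaseChange R R' (R' ⧸ K) (R' ⧸ K) M
    exact Module.Flat.of_linearEquiv (e3.trans e4.symm)
  exact flat_of_sq_zero_of_injective (R' ⧸ K) ((R ⧸ I₂) ⊗[R] M) hinj J hJ

end Groth.Agent.H3LocCrit
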