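import Mathlib
import Groth.Agent.Lib.helper3.FlG

set_option autoImplicit false
universe u v w x y

namespace Groth.Agent.H3LocCrit

open TensorProduct Function

section seq

variable (R R' : Type u) [CommRing R] [CommRing R'] [Algebra R R']

/-- the sequence `I₁ = I`, `I_{n+1} = φ⁻¹(φ(I_n²)R')` -/
noncomputable def iter (I : Ideal R) : ℕ → Ideal R
  | 0 => I
  | n + 1 => (((iter I n) ^ 2).map (algebraMap R R')).comap (algebraMap R R')

lemma map_iter_le (I : Ideal R) (n : ℕ) :
    (iter R R' I n).map (algebraMap R R') ≤ (I.map (algebraMap R R')) ^ (2 ^ n) := by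
  induction n with
  | zero => simp [iter]
  | succ n ih =>
    calc (iter R R' I (n + 1)).map (algebraMap R R')
        ≤ ((iter R R' I n) ^ 2).map (algebraMap R R') := Ideal.map_comap_le
      _ = ((iter R R' I n).map (algebraMap R R')) ^ 2 := Ideal.map_pow _ _ _
      _ ≤ ((I.map (algebraMap R R')) ^ (2 ^ n)) ^ 2 := Ideal.pow_right_mono ih 2
      _ = (I.map (algebraMap R R')) ^ (2 ^ (n + 1)) := by rw [← pow_mul, pow_succ]

lemma flat_iter (I : Ideal R) (M : Type u) [AddCommGroup M] [Module R M]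
    [Module.Flat (R ⧸ I) ((R ⧸ I) ⊗[R] M)] [Module.Flat R' (R' ⊗[R] M)] (n : ℕ) :
    Module.Flat (R ⧸ iter R R' I n) ((R ⧸ iter R R' I n) ⊗[R] M) := by
  induction n with
  | zero => exact inferInstanceAs (Module.Flat (R ⧸ I) ((R ⧸ I) ⊗[R] M))
  | succ n ih =>
    haveI := ih
    exact main6384 R R' (iter R R' I n) M

theorem main6352 (hinj : Function.Injective (algebraMap R R')) (I : Ideal R) (hI : IsNilpotent I)
    (M : Type u) [AddCommGroup M] [Module R M] [Module.Flat (R ⧸ I) ((R ⧸ I) ⊗[R] M)]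
    [Module.Flat R' (R' ⊗[R] M)] : Module.Flat R M := by
  obtain ⟨k, hk⟩ := hI
  obtain ⟨n, hn⟩ : ∃ n : ℕ, k ≤ 2 ^ n := ⟨k, Nat.lt_two_pow_self.le⟩
  have h1 : (iter R R' I n).map (algebraMap R R') = ⊥ := by
    rw [eq_bot_iff]
    refine (map_iter_le R R' I n).trans ?_
    refine (Ideal.pow_le_pow_right hn).trans ?_
    rw [← Ideal.map_pow, hk, Ideal.zero_eq_bot, Ideal.map_bot]
  have h2 : iter R R' I n = ⊥ := by
    rw [eq_bot_iff]
    intro x hx
    have : algebraMap R R' x ∈ (iter R R' I n).map (algebraMap R R') := Ideal.mem_map_of_mem _ hx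
    rw [h1] at this
    have h3 : algebraMap R R' x = 0 := this
    exact hinj (by rw [h3, map_zero])
  haveI := flat_iter R R' I M n
  obtain ⟨L, hL⟩ : ∃ L : Ideal R, L = iter R R' I n := ⟨_, rfl⟩
  rw [← hL] at h2 this
  subst h2
  apply flat_of_nilpotent (⊥ : Ideal R) ⟨1, pow_one _⟩
  haveI : Subsingleton ((⊥ : Ideal R) ⊗[R] M) := by
    haveI : Subsingleton ((⊥ : Ideal R)) := inferInstance
    infer_instance
  exact Function.injective_of_subsingleton _

end seq

end Groth.Agent.H3LocCrit
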