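import Mathlib
import Groth.Agent.Lib.helper3.FlA

set_option autoImplicit false
universe u v w x

namespace Groth.Agent.H3LocCrit

open TensorProduct Function

section tor

variable {A : Type u} [CommRing A] (I : Ideal A) {M : Type v} [AddCommGroup M] [Module A M]

theorem lTensor_injective_of_killed
    [Module.Flat (A ⧸ I) ((A ⧸ I) ⊗[A] M)]
    (htor : Injective (LinearMap.rTensor M (Submodule.subtype I)))
    {K : Type w} {F : Type x} [AddCommGroup K] [Module A K] [AddCommGroup F] [Module A F]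
    [Module.Flat A F] (ι : K →ₗ[A] F) (π : F →ₗ[A] M) (hι : Injective ι) (hex : Exact ι π)
    (hπ : Surjective π) (k : ℕ) (N : Type u) [AddCommGroup N] [Module A N]
    (hN : ∀ a ∈ I ^ k, ∀ x : N, a • x = 0) : Injective (ι.lTensor N) := by
  have hιA : Injective (ι.lTensor A) :=
    Module.Flat.lTensor_preserves_injective_linearMap ι hι
  have hbc : Injective (ι.lTensor (A ⧸ I)) :=
    lTensor_injective_of_exact_of_exact_of_rTensor_injective
      (f₁ := I.subtype) (f₂ := I.mkQ) (g₁ := ι) (g₂ := π)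
      (LinearMap.exact_subtype_mkQ I) (Submodule.mkQ_surjective I) hex hπ htor hιA
  induction k generalizing N with
  | zero =>
    haveI : Subsingleton N := ⟨fun x y => by
      have h1 := hN 1 (by simp) x
      have h2 := hN 1 (by simp) y
      rw [one_smul] at h1 h2
      rw [h1, h2]⟩
    exact Function.injective_of_subsingleton _
  | succ k ih =>
    let N' : Submodule A N := I • ⊤
    apply inj_ext ι N'.subtype N'.mkQ N'.subtype_injective (LinearMap.exact_subtype_mkQ N')
      (Submodule.mkQ_surjective N')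
    · apply ih
      rintro a ha ⟨x, hx⟩
      apply Subtype.ext
      show a • x = 0
      refine Submodule.smul_induction_on hx ?_ ?_
      · intro b hb y _
        rw [smul_smul]
        exact hN (a * b) (by rw [pow_succ]; exact Ideal.mul_mem_mul ha hb) y
      · intro y z hy hz
        rw [smul_add, hy, hz, add_zero]
    · have htors : Module.IsTorsionBySet A (N ⧸ N') I := by
        rintro x ⟨a, ha⟩
        obtain ⟨y, rfl⟩ := Submodule.mkQ_surjective N' x
        show a • N'.mkQ y = 0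
        rw [← map_smul, Submodule.mkQ_apply, Submodule.Quotient.mk_eq_zero]
        exact Submodule.smul_mem_smul ha trivial
      letI := htors.module
      haveI : IsScalarTower A (A ⧸ I) (N ⧸ N') := htors.isScalarTower
      exact inj_of_module_quot I ι π hex hπ hbc (N ⧸ N')

/-- vanishing of the first Tor against modules killed by a power of `I`, in the form of an
injectivity statement -/
theorem lTensor_injective_of_coker_killed
    [Module.Flat (A ⧸ I) ((A ⧸ I) ⊗[A] M)]
    (htor : Injective (LinearMap.rTensor M (Submodule.subtype I)))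
    {P : Type u} {Q : Type u} {C : Type u} [AddCommGroup P] [Module A P] [AddCommGroup Q]
    [Module A Q] [AddCommGroup C] [Module A C] (g : P →ₗ[A] Q) (g₂ : Q →ₗ[A] C)
    (hg : Injective g) (hgex : Exact g g₂) (hg₂ : Surjective g₂) (n : ℕ)
    (hkill : ∀ a ∈ I ^ n, ∀ y : C, a • y = 0) :
    Injective (g.lTensor M) := by
  have hπ : Surjective (Finsupp.linearCombination A (id : M → M)) := fun m =>
    ⟨Finsupp.single m 1, by rw [Finsupp.linearCombination_single, one_smul]; rfl⟩
  obtain ⟨π, hπdef⟩ : ∃ π : (M →₀ A) →ₗ[A] M, π = Finsupp.linearCombination A (id : M → M) :=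
    ⟨_, rfl⟩
  rw [← hπdef] at hπ
  obtain ⟨K, hK⟩ : ∃ K : Submodule A (M →₀ A), K = LinearMap.ker π := ⟨_, rfl⟩
  obtain ⟨ι, hι⟩ : ∃ ι : K →ₗ[A] (M →₀ A), ι = K.subtype := ⟨_, rfl⟩
  have hex : Exact ι π := by
    rw [hι, hK]
    exact LinearMap.exact_subtype_ker_map π
  have hιinj : Injective ι := by
    rw [hι]; exact Submodule.subtype_injective _
  have h1 : Injective (ι.rTensor C) := by
    have h0 := lTensor_injective_of_killed I htor (K := ↥K) (F := M →₀ A) ι π hιinj hex hπ
    have h1 := h0 n C hkill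
    rw [← LinearMap.lTensor_inj_iff_rTensor_inj]
    exact h1
  have h2 : Injective (g.lTensor (M →₀ A)) :=
    Module.Flat.lTensor_preserves_injective_linearMap _ hg
  have key := @lTensor_injective_of_exact_of_exact_of_rTensor_injective A _ ↥K (M →₀ A) M P Q C
    _ _ _ _ _ _ _ _ _ _ _ _ ι π g g₂ hex hπ hgex hg₂
  have key2 := key h1
  exact key2 h2

/-- `M ⊗ (𝔞 / 𝔞 ∩ Iⁿ) → M ⊗ A/Iⁿ` is injective -/
theorem lTensor_mapQ_injective
    [Module.Flat (A ⧸ I) ((A ⧸ I) ⊗[A] M)]
    (htor : Injective (LinearMap.rTensor M (Submodule.subtype I)))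
    (𝔞 : Ideal A) (n : ℕ) :
    Injective ((Submodule.mapQ (Submodule.comap 𝔞.subtype (I ^ n)) (I ^ n) 𝔞.subtype
      le_rfl).lTensor M) := by
  obtain ⟨g, hg⟩ : ∃ g : (𝔞 ⧸ Submodule.comap 𝔞.subtype (I ^ n)) →ₗ[A] (A ⧸ I ^ n),
    g = Submodule.mapQ (Submodule.comap 𝔞.subtype (I ^ n)) (I ^ n) 𝔞.subtype le_rfl := ⟨_, rfl⟩
  rw [← hg]
  have hginj : Injective g := by
    rw [injective_iff_map_eq_zero]
    intro y hy
    obtain ⟨a, rfl⟩ := Submodule.mkQ_surjective _ y
    rw [hg, Submodule.mkQ_apply, Submodule.mapQ_apply, Submodule.Quotient.mk_eq_zero] at hy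
    rw [Submodule.mkQ_apply, Submodule.Quotient.mk_eq_zero]
    exact hy
  have hkill : ∀ a ∈ I ^ n, ∀ y : (A ⧸ I ^ n) ⧸ LinearMap.range g, a • y = 0 := by
    intro a ha y
    obtain ⟨z, rfl⟩ := Submodule.mkQ_surjective _ y
    obtain ⟨r, rfl⟩ := Submodule.mkQ_surjective _ z
    rw [← map_smul, ← map_smul]
    have : (I ^ n).mkQ (a • r) = 0 := by
      rw [Submodule.mkQ_apply, Submodule.Quotient.mk_eq_zero, smul_eq_mul]
      exact Ideal.mul_mem_right _ _ ha
    rw [this, map_zero]
  exact lTensor_injective_of_coker_killed I htor g (LinearMap.range g).mkQ hginj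
    (LinearMap.exact_map_mkQ_range g) (Submodule.mkQ_surjective _) n hkill

/-- an element of `M ⊗ 𝔞` dying in `M ⊗ A` comes from `M ⊗ (𝔞 ∩ Iⁿ)` -/
theorem mem_range_of_lTensor_subtype_eq_zero
    [Module.Flat (A ⧸ I) ((A ⧸ I) ⊗[A] M)]
    (htor : Injective (LinearMap.rTensor M (Submodule.subtype I)))
    (𝔞 : Ideal A) (n : ℕ) (x : M ⊗[A] 𝔞) (hx : (𝔞.subtype.lTensor M) x = 0) :
    x ∈ LinearMap.range ((Submodule.comap 𝔞.subtype (I ^ n)).subtype.lTensor M) := by
  have hcomm : (Submodule.mapQ (Submodule.comap 𝔞.subtype (I ^ n)) (I ^ n) 𝔞.subtype le_rfl) ∘ₗ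
      (Submodule.comap 𝔞.subtype (I ^ n)).mkQ = (I ^ n).mkQ ∘ₗ 𝔞.subtype := by
    apply LinearMap.ext
    intro a
    rfl
  have h1 : ((Submodule.mapQ (Submodule.comap 𝔞.subtype (I ^ n)) (I ^ n) 𝔞.subtype
      le_rfl).lTensor M) (((Submodule.comap 𝔞.subtype (I ^ n)).mkQ.lTensor M) x) = 0 := by
    rw [← LinearMap.comp_apply, ← LinearMap.lTensor_comp, hcomm, LinearMap.lTensor_comp,
      LinearMap.comp_apply, hx, map_zero]
  have h2 : ((Submodule.comap 𝔞.subtype (I ^ n)).mkQ.lTensor M) x = 0 :=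
    lTensor_mapQ_injective I htor 𝔞 n (by rw [h1, map_zero])
  exact (lTensor_exact M (LinearMap.exact_subtype_mkQ (Submodule.comap 𝔞.subtype (I ^ n)))
    (Submodule.mkQ_surjective _) x).mp h2

end tor

end Groth.Agent.H3LocCrit
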