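import Mathlib
import Groth.Agent.Lib.helper3.FlI

set_option autoImplicit false
universe u v w x

namespace Groth.Agent.H3LocCrit

open TensorProduct Function

section AR

variable {A : Type u} [CommRing A] (I : Ideal A) {M : Type v} [AddCommGroup M] [Module A M]

lemma range_lTensor_le_smul_top (𝔞 : Ideal A) (L : Ideal A) (N' : Submodule A 𝔞)
    (hN' : ∀ b ∈ N', (b : A) ∈ L • 𝔞) :
    LinearMap.range (N'.subtype.lTensor M) ≤ L • (⊤ : Submodule A (M ⊗[A] 𝔞)) := by
  rintro _ ⟨t, rfl⟩
  induction t using TensorProduct.induction_on with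
  | zero => rw [map_zero]; exact Submodule.zero_mem _
  | add a b ha hb => rw [map_add]; exact Submodule.add_mem _ ha hb
  | tmul m b =>
    rw [LinearMap.lTensor_tmul]
    have h1 : (N'.subtype b : A) ∈ L • 𝔞 := hN' b b.2
    have h2 : L • 𝔞 = (L • (⊤ : Submodule A 𝔞)).map 𝔞.subtype := by
      rw [Submodule.map_smul'', Submodule.map_top, Submodule.range_subtype]
    rw [h2] at h1
    obtain ⟨b', hb', hbb'⟩ := h1
    have h3 : b' = N'.subtype b := Subtype.ext hbb'
    rw [← h3]
    refine Submodule.smul_induction_on hb' ?_ ?_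
    · intro r hr a _
      rw [TensorProduct.tmul_smul]
      exact Submodule.smul_mem_smul hr trivial
    · intro y z hy hz
      rw [TensorProduct.tmul_add]
      exact Submodule.add_mem _ hy hz

end AR

section main

theorem flat_of_local_criterion {R : Type u} (S : Type u) {M : Type u} [CommRing R] [CommRing S]
    [IsLocalRing R] [IsLocalRing S]
    [IsNoetherianRing R] [IsNoetherianRing S] [Algebra R S] [IsLocalHom (algebraMap R S)]
    [AddCommGroup M] [Module R M] [Module S M] [IsScalarTower R S M] [Module.Finite S M]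
    (I : Ideal R) (hI : I ≠ ⊤)
    (h1 : Injective (LinearMap.rTensor M (Submodule.subtype I)))
    [Module.Flat (R ⧸ I) ((R ⧸ I) ⊗[R] M)] : Module.Flat R M := by
  rw [Module.Flat.iff_lTensor_injective']
  intro 𝔞
  rw [injective_iff_map_eq_zero]
  intro x hx
  obtain ⟨c, hc⟩ := Ideal.exists_pow_inf_eq_pow_smul I (𝔞 : Submodule R R)
  have hmem : ∀ k : ℕ, x ∈ I ^ k • (⊤ : Submodule R (M ⊗[R] 𝔞)) := by
    intro k
    have h2 := mem_range_of_lTensor_subtype_eq_zero I h1 𝔞 (k + c) x hx
    refine range_lTensor_le_smul_top 𝔞 (I ^ k) _ ?_ h2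
    intro b hb
    have h3 : (b : R) ∈ I ^ (k + c) • (⊤ : Submodule R R) ⊓ 𝔞 := by
      refine ⟨?_, b.2⟩
      rw [smul_eq_mul, Ideal.mul_top]
      exact hb
    rw [hc (k + c) (by omega), Nat.add_sub_cancel] at h3
    exact Submodule.smul_mono le_rfl inf_le_right h3
  haveI : Module.Finite S (M ⊗[R] 𝔞) :=
    Module.Finite.equiv (AlgebraTensorModule.cancelBaseChange R S S M 𝔞)
  have hJ : I.map (algebraMap R S) ≠ ⊤ := by
    have h4 : (IsLocalRing.maximalIdeal R).map (algebraMap R S) ≤ IsLocalRing.maximalIdeal S :=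
      ((IsLocalRing.local_hom_TFAE (algebraMap R S)).out 0 2).mp ‹_›
    intro h5
    have h6 : I.map (algebraMap R S) ≤ IsLocalRing.maximalIdeal S :=
      (Ideal.map_mono (IsLocalRing.le_maximalIdeal hI)).trans h4
    rw [h5] at h6
    exact (IsLocalRing.maximalIdeal.isMaximal S).ne_top (top_le_iff.mp h6)
  have hkr := Ideal.iInf_pow_smul_eq_bot_of_isLocalRing (M := M ⊗[R] 𝔞) (I.map (algebraMap R S)) hJ
  have hx' : x ∈ (⨅ i : ℕ, (I.map (algebraMap R S)) ^ i • ⊤ : Submodule S (M ⊗[R] 𝔞)) := by
    rw [Submodule.mem_iInf]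
    intro k
    refine Submodule.smul_induction_on (hmem k) ?_ ?_
    · intro r hr y _
      rw [← algebraMap_smul S r y]
      refine Submodule.smul_mem_smul ?_ trivial
      rw [← Ideal.map_pow]
      exact Ideal.mem_map_of_mem _ hr
    · intro y z hy hz
      exact Submodule.add_mem _ hy hz
  rw [hkr] at hx'
  exact hx'

end main

end Groth.Agent.H3LocCrit
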