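import Mathlib
import Groth.Agent.Lib.helper3.FlJ
import Groth.Agent.Lib.helper3.FlC

set_option autoImplicit false
universe u

namespace Groth.Agent.H3LocCrit

open TensorProduct Function

section

variable {R S M : Type u} [CommRing R] [CommRing S] [Algebra R S] (I : Ideal R)
  [AddCommGroup M] [Module S M] [Module R M] [IsScalarTower R S M]

lemma rTensor_map_injective [Module.Flat R M] :
    Injective (LinearMap.rTensor M (Submodule.subtype (I.map (algebraMap R S)))) := by
  have hR : Injective (LinearMap.rTensor M (Submodule.subtype I)) :=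
    Module.Flat.rTensor_preserves_injective_linearMap _ I.subtype_injective
  have hcomm : ∀ t : I ⊗[R] M,
      TensorProduct.lid S M ((LinearMap.rTensor M (Submodule.subtype (I.map (algebraMap R S))))
        (theta I t)) = TensorProduct.lid R M ((LinearMap.rTensor M (Submodule.subtype I)) t) := by
    intro t
    induction t using TensorProduct.induction_on with
    | zero => simp
    | add a b ha hb => simp only [map_add, ha, hb]
    | tmul i m => simp
  rw [injective_iff_map_eq_zero]
  intro t ht
  obtain ⟨t', rfl⟩ := theta_surjective I t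
  have h1 := hcomm t'
  rw [ht, map_zero] at h1
  have h2 : (LinearMap.rTensor M (Submodule.subtype I)) t' = 0 :=
    (TensorProduct.lid R M).injective (by rw [← h1, map_zero])
  have h3 : t' = 0 := hR (by rw [h2, map_zero])
  rw [h3, map_zero]

lemma flat_of_faithfullyFlat_module [Module.Flat R M] [Module.FaithfullyFlat S M] :
    Module.Flat R S := by
  rw [Module.Flat.iff_lTensor_injective']
  intro 𝔞
  have h1 : Injective (𝔞.subtype.lTensor M) :=
    Module.Flat.lTensor_preserves_injective_linearMap _ 𝔞.subtype_injective
  rw [← injective_lTensor_baseChange_iff (B := S),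
    Module.FaithfullyFlat.lTensor_injective_iff_injective] at h1
  exact h1

end

theorem main392 {R S S' M : Type u} [CommRing R] [CommRing S] [CommRing S'] [IsLocalRing R]
    [IsLocalRing S] [IsLocalRing S']
    [IsNoetherianRing R] [IsNoetherianRing S] [IsNoetherianRing S'] [Algebra R S] [Algebra S S']
    [Algebra R S'] [IsScalarTower R S S']
    [IsLocalHom (algebraMap R S)] [IsLocalHom (algebraMap S S')]
    [AddCommGroup M] [Module S' M] [Module S M] [Module R M] [IsScalarTower S S' M]
    [IsScalarTower R S M]
    [Module.Finite S' M] [Nontrivial M] [Module.Flat R M]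
    (h : Module.Flat (S ⧸ ((IsLocalRing.maximalIdeal R).map (algebraMap R S)))
      ((S ⧸ ((IsLocalRing.maximalIdeal R).map (algebraMap R S))) ⊗[S] M)) :
    Module.Flat R S ∧ Module.Flat S M := by
  have hJ : (IsLocalRing.maximalIdeal R).map (algebraMap R S) ≠ ⊤ := by
    have h4 : (IsLocalRing.maximalIdeal R).map (algebraMap R S) ≤ IsLocalRing.maximalIdeal S :=
      ((IsLocalRing.local_hom_TFAE (algebraMap R S)).out 0 2).mp ‹_›
    intro h5
    rw [h5] at h4
    exact (IsLocalRing.maximalIdeal.isMaximal S).ne_top (top_le_iff.mp h4)
  haveI hflat : Module.Flat S M :=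
    flat_of_local_criterion (R := S) S' ((IsLocalRing.maximalIdeal R).map (algebraMap R S)) hJ
      (rTensor_map_injective (IsLocalRing.maximalIdeal R))
  refine ⟨?_, hflat⟩
  haveI : Module.FaithfullyFlat S M := by
    refine ⟨fun m hm => ?_⟩
    intro htop
    have hm' : m = IsLocalRing.maximalIdeal S := IsLocalRing.eq_maximalIdeal hm
    have h4 : (IsLocalRing.maximalIdeal S).map (algebraMap S S') ≤ IsLocalRing.maximalIdeal S' :=
      ((IsLocalRing.local_hom_TFAE (algebraMap S S')).out 0 2).mp ‹_›
    have h5 : (⊤ : Submodule S' M) ≤ (m.map (algebraMap S S')) • (⊤ : Submodule S' M) := by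
      intro x _
      have hx : x ∈ m • (⊤ : Submodule S M) := by rw [htop]; trivial
      refine Submodule.smul_induction_on hx ?_ ?_
      · intro r hr y _
        rw [← algebraMap_smul S' r y]
        exact Submodule.smul_mem_smul (Ideal.mem_map_of_mem _ hr) trivial
      · intro y z hy hz
        exact Submodule.add_mem _ hy hz
    have h6 : (⊤ : Submodule S' M) = ⊥ :=
      Submodule.eq_bot_of_le_smul_of_le_jacobson_bot (m.map (algebraMap S S')) ⊤
        Module.Finite.fg_top h5
        ((hm' ▸ h4).trans (IsLocalRing.maximalIdeal_le_jacobson _))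
    obtain ⟨x, y, hxy⟩ := exists_pair_ne M
    apply hxy
    have hx : x ∈ (⊤ : Submodule S' M) := trivial
    have hy : y ∈ (⊤ : Submodule S' M) := trivial
    rw [h6, Submodule.mem_bot] at hx hy
    rw [hx, hy]
  exact flat_of_faithfullyFlat_module (R := R) (S := S) (M := M)

end Groth.Agent.H3LocCrit
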