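import Mathlib
import Groth.Agent.Lib.helper3.FlH

set_option autoImplicit false
universe u v w x

namespace Groth.Agent.H3LocCrit

open TensorProduct Function

section cover

variable {S : Type u} [CommRing S] {ι : Type v} (e : ι → S)
  (hspan : Ideal.span (Set.range e) = ⊤) (B : ι → Type x) [∀ i, CommRing (B i)]
  [∀ i, Algebra S (B i)] [∀ i, IsLocalization.Away (e i) (B i)]
  (N : Type w) [AddCommGroup N] [Module S N]

include hspan in
theorem flat_of_away_cover (h : ∀ i, Module.Flat (B i) (B i ⊗[S] N)) : Module.Flat S N := by
  classical
  have hch : ∀ r : Set.range e, e (Classical.choose r.2) = r.1 := fun r => Classical.choose_spec r.2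
  haveI : ∀ r : Set.range e, IsLocalizedModule.Away r.1
      (TensorProduct.mk S (B (Classical.choose r.2)) N 1) := by
    intro r
    have h1 : IsLocalizedModule (Submonoid.powers (e (Classical.choose r.2)))
        (TensorProduct.mk S (B (Classical.choose r.2)) N 1) :=
      (isLocalizedModule_iff_isBaseChange (S := Submonoid.powers (e (Classical.choose r.2)))
        (A := B (Classical.choose r.2)) _).mpr (TensorProduct.isBaseChange S N _)
    rw [hch r] at h1
    exact h1
  refine Module.flat_of_isLocalized_span (R := S) S N (Set.range e) hspan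
    (fun r => B (Classical.choose r.2) ⊗[S] N)
    (fun r => TensorProduct.mk S (B (Classical.choose r.2)) N 1) ?_
  intro r
  haveI : Module.Flat S (B (Classical.choose r.2)) :=
    IsLocalization.flat (B (Classical.choose r.2)) (Submonoid.powers (e (Classical.choose r.2)))
  haveI := h (Classical.choose r.2)
  exact Module.Flat.trans S (B (Classical.choose r.2)) _

end cover

section pi

variable {ι : Type v} [Finite ι] (B : ι → Type u) [∀ i, CommRing (B i)]
  (N : Type w) [AddCommGroup N] [Module (Π i, B i) N]

theorem flat_pi [∀ i, Algebra (Π i, B i) (B i)]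
    (halg : ∀ i, algebraMap (Π i, B i) (B i) = Pi.evalRingHom B i)
    (h : ∀ i, Module.Flat (B i) (B i ⊗[Π i, B i] N)) : Module.Flat (Π i, B i) N := by
  classical
  cases nonempty_fintype ι
  haveI : ∀ i, IsLocalization.Away (Pi.single i 1 : Π i, B i) (B i) := by
    intro i
    apply IsLocalization.away_of_isIdempotentElem_of_mul
    · show (Pi.single i 1 : Π i, B i) * Pi.single i 1 = Pi.single i 1
      rw [← Pi.single_mul, one_mul]
    · intro x y
      rw [halg]
      simp only [Pi.evalRingHom_apply]
      constructor
      · intro hxy
        ext j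
        by_cases hj : j = i
        · subst hj; simp [hxy]
        · simp [Pi.single_eq_of_ne hj]
      · intro hxy
        have := congrFun hxy i
        simpa using this
    · rw [halg]
      intro b
      exact ⟨Pi.single i b, by simp⟩
  refine flat_of_away_cover (fun i => (Pi.single i 1 : Π i, B i)) ?_ B N h
  rw [Ideal.eq_top_iff_one]
  have h1 : (1 : Π i, B i) = ∑ i, Pi.single i 1 := (Finset.univ_sum_single 1).symm
  rw [h1]
  exact Ideal.sum_mem _ (fun i _ => Ideal.subset_span ⟨i, rfl⟩)

end pi

end Groth.Agent.H3LocCrit
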