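import Mathlib
import Groth.Agent.Lib.helper3.FlL

set_option autoImplicit false
universe u v w x

namespace Groth.Agent.H3LocCrit

open TensorProduct Function

section assoc

variable (A : Type u) [CommRing A]

instance instIsPrimeAss (p : associatedPrimes A A) : p.1.IsPrime := IsAssociatedPrime.isPrime p.2

lemma algebraMap_pi_ass_injective [IsNoetherianRing A] :
    Injective (algebraMap A (Π p : associatedPrimes A A, Localization.AtPrime p.1)) := by
  rw [injective_iff_map_eq_zero]
  intro x hx
  by_contra hne
  obtain ⟨P, hP, hle⟩ := exists_le_isAssociatedPrime_of_isNoetherianRing A x hne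
  haveI : P.IsPrime := hP.isPrime
  have h1 := congrFun hx ⟨P, hP⟩
  have h2 : algebraMap A (Localization.AtPrime P) x = 0 := h1
  rw [IsLocalization.map_eq_zero_iff P.primeCompl] at h2
  obtain ⟨s, hs⟩ := h2
  apply s.2
  apply hle
  rw [Submodule.mem_colon_singleton, Submodule.mem_bot, smul_eq_mul]
  exact hs

theorem main2574 [IsNoetherianRing A]
    (J : Ideal A) (hJ : IsNilpotent J) (M : Type u) [AddCommGroup M] [Module A M] :
    Module.Flat A M ↔
      Module.Flat (A ⧸ J) ((A ⧸ J) ⊗[A] M) ∧
        ∀ p : associatedPrimes A A,
          haveI : p.1.IsPrime := IsAssociatedPrime.isPrime p.2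
          Module.Flat (Localization.AtPrime p.1) (LocalizedModule p.1.primeCompl M) := by
  constructor
  · intro h
    exact ⟨inferInstance, fun p => inferInstance⟩
  · rintro ⟨h1, h2⟩
    haveI : Finite (associatedPrimes A A) := (associatedPrimes.finite A A).to_subtype
    letI : ∀ p : associatedPrimes A A,
        Algebra (Π p : associatedPrimes A A, Localization.AtPrime p.1) (Localization.AtPrime p.1) :=
      fun p => (Pi.evalRingHom (fun p : associatedPrimes A A => Localization.AtPrime p.1) p).toAlgebra
    haveI : ∀ p : associatedPrimes A A, IsScalarTower A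
        (Π p : associatedPrimes A A, Localization.AtPrime p.1) (Localization.AtPrime p.1) :=
      fun p => IsScalarTower.of_algebraMap_eq (fun a => rfl)
    haveI : Module.Flat (Π p : associatedPrimes A A, Localization.AtPrime p.1)
        ((Π p : associatedPrimes A A, Localization.AtPrime p.1) ⊗[A] M) := by
      refine flat_pi (fun p : associatedPrimes A A => Localization.AtPrime p.1) _
        (fun p => rfl) ?_
      intro p
      haveI : Module.Flat (Localization.AtPrime p.1) (LocalizedModule p.1.primeCompl M) := h2 p
      haveI : Module.Flat (Localization.AtPrime p.1) (Localization.AtPrime p.1 ⊗[A] M) :=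
        Module.Flat.of_linearEquiv (LocalizedModule.isBaseChange p.1.primeCompl M).equiv
      exact Module.Flat.of_linearEquiv (AlgebraTensorModule.cancelBaseChange A
        (Π p : associatedPrimes A A, Localization.AtPrime p.1) (Localization.AtPrime p.1)
        (Localization.AtPrime p.1) M)
    exact main6352 A (Π p : associatedPrimes A A, Localization.AtPrime p.1)
      (algebraMap_pi_ass_injective A) J hJ M

end assoc

end Groth.Agent.H3LocCrit
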