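import Mathlib
import Groth.Agent.Lib.helper3.FlK

set_option autoImplicit false
universe u v w x

namespace Groth.Agent.H3LocCrit

open TensorProduct Function

section gen

variable {A : Type u} [CommRing A] (I : Ideal A)
  {K : Type w} {F : Type x} [AddCommGroup K] [Module A K] [AddCommGroup F] [Module A F]

/-- dévissage: if `T ⊗ K → T ⊗ F` is injective for all `A/I`-modules `T` and `F` is flat, the same
holds for all `T` killed by a power of `I` -/
theorem lTensor_injective_of_killed' [Module.Flat A F] (ι : K →ₗ[A] F)
    (hbase : ∀ (T : Type u) [AddCommGroup T] [Module A T] [Module (A ⧸ I) T]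
      [IsScalarTower A (A ⧸ I) T], Injective (ι.lTensor T))
    (k : ℕ) (N : Type u) [AddCommGroup N] [Module A N]
    (hN : ∀ a ∈ I ^ k, ∀ x : N, a • x = 0) : Injective (ι.lTensor N) := by
  induction k generalizing N with
  | zero =>
    haveI : Subsingleton N := ⟨fun x y => by
      have h1 := hN 1 (by simp) x
      have h2 := hN 1 (by simp) y
      rw [one_smul] at h1 h2
      rw [h1, h2]⟩
    exact Function.injective_of_subsingleton _
  | succ k ih =>
    let N' : Submodule A N := I • ⊤
    apply inj_ext ι N'.subtype N'.mkQ N'.subtype_injective (LinearMap.exact_subtype_mkQ N')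
      (Submodule.mkQ_surjective N')
    · apply ih
      rintro a ha ⟨x, hx⟩
      apply Subtype.ext
      show a • x = 0
      refine Submodule.smul_induction_on hx ?_ ?_
      · intro b hb y _
        rw [smul_smul]
        exact hN (a * b) (by rw [pow_succ]; exact Ideal.mul_mem_mul ha hb) y
      · intro y z hy hz
        rw [smul_add, hy, hz, add_zero]
    · have htors : Module.IsTorsionBySet A (N ⧸ N') I := by
        rintro x ⟨a, ha⟩
        obtain ⟨y, rfl⟩ := Submodule.mkQ_surjective N' x
        show a • N'.mkQ y = 0
        rw [← map_smul, Submodule.mkQ_apply, Submodule.Quotient.mk_eq_zero]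
        exact Submodule.smul_mem_smul ha trivial
      letI := htors.module
      haveI : IsScalarTower A (A ⧸ I) (N ⧸ N') := htors.isScalarTower
      exact hbase (N ⧸ N')

lemma range_lTensor_smul_top_le {M : Type v} [AddCommGroup M] [Module A M]
    {T : Type w} [AddCommGroup T] [Module A T] (L : Ideal A) :
    LinearMap.range ((L • (⊤ : Submodule A T)).subtype.lTensor M)
      ≤ L • (⊤ : Submodule A (M ⊗[A] T)) := by
  rintro _ ⟨t, rfl⟩
  induction t using TensorProduct.induction_on with
  | zero => rw [map_zero]; exact Submodule.zero_mem _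
  | add a b ha hb => rw [map_add]; exact Submodule.add_mem _ ha hb
  | tmul m b =>
    rw [LinearMap.lTensor_tmul]
    obtain ⟨b, hb⟩ := b
    show m ⊗ₜ[A] b ∈ _
    refine Submodule.smul_induction_on hb ?_ ?_
    · intro r hr a _
      rw [TensorProduct.tmul_smul]
      exact Submodule.smul_mem_smul hr trivial
    · intro y z hy hz
      rw [TensorProduct.tmul_add]
      exact Submodule.add_mem _ hy hz

end gen

end Groth.Agent.H3LocCrit
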