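import Mathlib
import Groth.Agent.Lib.helper3.FlN

set_option autoImplicit false
universe u v w x

namespace Groth.Agent.H3LocCrit

open TensorProduct Function

theorem rTensor_injective_of_finite {R : Type u} (S : Type u) {M N : Type u} [CommRing R] [CommRing S]
    [IsLocalRing R]
    [IsLocalRing S] [IsNoetherianRing S] [Algebra R S] [IsLocalHom (algebraMap R S)]
    [AddCommGroup M] [Module R M] [Module.Flat R M]
    [AddCommGroup N] [Module R N] [Module S N] [IsScalarTower R S N] [Module.Finite S N]
    (u : N →ₗ[R] M) (h : Injective (LinearMap.lTensor (R ⧸ IsLocalRing.maximalIdeal R) u))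
    (T : Type u) [AddCommGroup T] [Module R T] [Module.Finite R T] :
    Injective (u.rTensor T) := by
  have hbase : ∀ (T : Type u) [AddCommGroup T] [Module R T]
      [Module (R ⧸ IsLocalRing.maximalIdeal R) T]
      [IsScalarTower R (R ⧸ IsLocalRing.maximalIdeal R) T], Injective (u.lTensor T) := by
    intro T _ _ _ _
    letI : Field (R ⧸ IsLocalRing.maximalIdeal R) := Ideal.Quotient.field _
    have h2 : Injective (u.baseChange (R ⧸ IsLocalRing.maximalIdeal R)) := h
    exact (injective_lTensor_baseChange_iff (B := R ⧸ IsLocalRing.maximalIdeal R) (N := T) u).mp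
      (Module.Flat.lTensor_preserves_injective_linearMap _ h2)
  have hkilled : ∀ (k : ℕ) (T : Type u) [AddCommGroup T] [Module R T],
      (∀ a ∈ (IsLocalRing.maximalIdeal R) ^ k, ∀ x : T, a • x = 0) → Injective (u.rTensor T) := by
    intro k T _ _ hT
    rw [← LinearMap.lTensor_inj_iff_rTensor_inj]
    exact lTensor_injective_of_killed' (IsLocalRing.maximalIdeal R) u hbase k T hT
  rw [injective_iff_map_eq_zero]
  intro x hx
  have hmem : ∀ n : ℕ, x ∈ (IsLocalRing.maximalIdeal R) ^ n • (⊤ : Submodule R (N ⊗[R] T)) := by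
    intro n
    obtain ⟨T', hT'⟩ : ∃ T' : Submodule R T,
      T' = (IsLocalRing.maximalIdeal R) ^ n • (⊤ : Submodule R T) := ⟨_, rfl⟩
    have h1 : (u.rTensor (T ⧸ T')) ((T'.mkQ.lTensor N) x) = 0 := by
      rw [← LinearMap.comp_apply, LinearMap.rTensor_comp_lTensor, ← LinearMap.lTensor_comp_rTensor,
        LinearMap.comp_apply, hx, map_zero]
    have h2 : Injective (u.rTensor (T ⧸ T')) := by
      apply hkilled n
      intro a ha y
      obtain ⟨t, rfl⟩ := Submodule.mkQ_surjective _ y
      rw [← map_smul, Submodule.mkQ_apply, Submodule.Quotient.mk_eq_zero, hT']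
      exact Submodule.smul_mem_smul ha trivial
    have h3 : (T'.mkQ.lTensor N) x = 0 := h2 (by rw [h1, map_zero])
    have h4 := (lTensor_exact N (LinearMap.exact_subtype_mkQ T') (Submodule.mkQ_surjective _) x).mp h3
    rw [hT'] at h4
    exact range_lTensor_smul_top_le _ h4
  haveI : Module.Finite S (N ⊗[R] T) :=
    Module.Finite.equiv (AlgebraTensorModule.cancelBaseChange R S S N T)
  have hJ : (IsLocalRing.maximalIdeal R).map (algebraMap R S) ≠ ⊤ := by
    have h4 : (IsLocalRing.maximalIdeal R).map (algebraMap R S) ≤ IsLocalRing.maximalIdeal S :=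
      ((IsLocalRing.local_hom_TFAE (algebraMap R S)).out 0 2).mp ‹_›
    intro h5
    rw [h5] at h4
    exact (IsLocalRing.maximalIdeal.isMaximal S).ne_top (top_le_iff.mp h4)
  have hkr := Ideal.iInf_pow_smul_eq_bot_of_isLocalRing (M := N ⊗[R] T)
    ((IsLocalRing.maximalIdeal R).map (algebraMap R S)) hJ
  have hx' : x ∈ (⨅ i : ℕ, ((IsLocalRing.maximalIdeal R).map (algebraMap R S)) ^ i • ⊤ :
      Submodule S (N ⊗[R] T)) := by
    rw [Submodule.mem_iInf]
    intro k
    refine Submodule.smul_induction_on (hmem k) ?_ ?_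
    · intro r hr y _
      rw [← algebraMap_smul S r y]
      refine Submodule.smul_mem_smul ?_ trivial
      rw [← Ideal.map_pow]
      exact Ideal.mem_map_of_mem _ hr
    · intro y z hy hz
      exact Submodule.add_mem _ hy hz
  rw [hkr] at hx'
  exact hx'

theorem main393 {R S M N : Type u} [CommRing R] [CommRing S] [IsLocalRing R] [IsLocalRing S]
    [IsNoetherianRing S] [Algebra R S] [IsLocalHom (algebraMap R S)]
    [AddCommGroup M] [Module R M] [Module.Flat R M]
    [AddCommGroup N] [Module R N] [Module S N] [IsScalarTower R S N] [Module.Finite S N]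
    (u : N →ₗ[R] M) (h : Injective (LinearMap.lTensor (IsLocalRing.ResidueField R) u)) :
    Injective u ∧ Module.Flat R (M ⧸ LinearMap.range u) := by
  have h' : Injective (LinearMap.lTensor (R ⧸ IsLocalRing.maximalIdeal R) u) := h
  constructor
  · rw [injective_iff_map_eq_zero]
    intro x hx
    have h1 : (u.rTensor R) (x ⊗ₜ[R] (1 : R)) = 0 := by
      rw [LinearMap.rTensor_tmul, hx, zero_tmul]
    have h2 : x ⊗ₜ[R] (1 : R) = 0 :=
      rTensor_injective_of_finite S u h' R (by rw [h1, map_zero])
    have h3 := congrArg (TensorProduct.rid R N) h2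
    rw [TensorProduct.rid_tmul, one_smul, map_zero] at h3
    exact h3
  · rw [Module.Flat.iff_lTensor_injective']
    intro 𝔞
    have h1 : Injective (u.rTensor (R ⧸ 𝔞)) := rTensor_injective_of_finite S u h' (R ⧸ 𝔞)
    have h2 : Injective (𝔞.subtype.lTensor M) :=
      Module.Flat.lTensor_preserves_injective_linearMap _ 𝔞.subtype_injective
    have key := @lTensor_injective_of_exact_of_exact_of_rTensor_injective R _ N M
      (M ⧸ LinearMap.range u) 𝔞 R (R ⧸ 𝔞)
      _ _ _ _ _ _ _ _ _ _ _ _ u (LinearMap.range u).mkQ 𝔞.subtype 𝔞.mkQ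
      (LinearMap.exact_map_mkQ_range u) (Submodule.mkQ_surjective _)
      (LinearMap.exact_subtype_mkQ 𝔞) (Submodule.mkQ_surjective _)
    have key2 := key h1
    exact key2 h2

end Groth.Agent.H3LocCrit
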