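import Mathlib
import Groth.Agent.Lib.helper3.FlO
import Groth.Agent.Lib.helper3.NilA

set_option autoImplicit false
universe u v w x

namespace Groth.Agent.H3LocCrit

open TensorProduct Function

theorem main395 {R S : Type u} [CommRing R] [CommRing S] [IsLocalRing R] [IsLocalRing S]
    [IsNoetherianRing R] [IsNoetherianRing S] [Algebra R S] [IsLocalHom (algebraMap R S)]
    [Module.Flat R S]
    (f : S) (hf : Ideal.Quotient.mk ((IsLocalRing.maximalIdeal R).map (algebraMap R S)) f ∈
      nonZeroDivisors (S ⧸ ((IsLocalRing.maximalIdeal R).map (algebraMap R S)))) :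
    Module.Flat R (S ⧸ Ideal.span {f}) ∧ f ∈ nonZeroDivisors S := by
  obtain ⟨u, hu⟩ : ∃ u : S →ₗ[R] S, u = LinearMap.mulLeft R f := ⟨_, rfl⟩
  have hu' : ∀ s, u s = f * s := fun s => by rw [hu]; rfl
  have hsm : ∀ y : S, y ∈ (IsLocalRing.maximalIdeal R) • (⊤ : Submodule R S) ↔
      y ∈ (IsLocalRing.maximalIdeal R).map (algebraMap R S) := by
    intro y
    rw [Ideal.smul_top_eq_map]
    rfl
  have h : Injective (LinearMap.lTensor (IsLocalRing.ResidueField R) u) := by
    have h' : Injective (LinearMap.lTensor (R ⧸ IsLocalRing.maximalIdeal R) u) := by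
      rw [injective_iff_map_eq_zero]
      intro x hx
      obtain ⟨s, rfl⟩ := Groth.Agent.H3Nil.exists_one_tmul (IsLocalRing.maximalIdeal R) x
      rw [LinearMap.lTensor_tmul, hu'] at hx
      have h1 := Groth.Agent.H3Nil.mem_smul_top_of_one_tmul_eq_zero (IsLocalRing.maximalIdeal R) _ hx
      rw [hsm] at h1
      have h2 : Ideal.Quotient.mk ((IsLocalRing.maximalIdeal R).map (algebraMap R S)) s *
          Ideal.Quotient.mk ((IsLocalRing.maximalIdeal R).map (algebraMap R S)) f = 0 := by
        rw [← map_mul, mul_comm, Ideal.Quotient.eq_zero_iff_mem]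
        exact h1
      have h3 := (mem_nonZeroDivisors_iff_right.mp hf) _ h2
      rw [Ideal.Quotient.eq_zero_iff_mem, ← hsm] at h3
      apply (TensorProduct.quotTensorEquivQuotSMul S (IsLocalRing.maximalIdeal R)).injective
      rw [map_zero]
      have h4 := TensorProduct.quotTensorEquivQuotSMul_mk_tmul (M := S)
        (IsLocalRing.maximalIdeal R) 1 s
      rw [one_smul, map_one] at h4
      rw [h4, Submodule.Quotient.mk_eq_zero]
      exact h3
    exact h'
  obtain ⟨h1, h2⟩ := main393 (S := S) u h
  constructor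
  · have hr : LinearMap.range u = (Ideal.span {f}).restrictScalars R := by
      ext y
      simp only [LinearMap.mem_range, Submodule.restrictScalars_mem, Ideal.mem_span_singleton']
      constructor
      · rintro ⟨s, rfl⟩
        exact ⟨s, by rw [hu', mul_comm]⟩
      · rintro ⟨s, rfl⟩
        exact ⟨s, by rw [hu', mul_comm]⟩
    rw [hr] at h2
    exact h2
  · rw [mem_nonZeroDivisors_iff_right]
    intro s hs
    apply h1
    rw [hu', map_zero, mul_comm]
    exact hs

end Groth.Agent.H3LocCrit
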