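import Mathlib
import Groth.Agent.Lib.helper3.FlR

set_option autoImplicit false
universe u v w x

namespace Groth.Agent.H3LocCrit

open TensorProduct Function

theorem main396 {R S M : Type u} [CommRing R] [CommRing S] [IsNoetherianRing R]
    [IsNoetherianRing S] [Algebra R S]
    [AddCommGroup M] [Module R M] [Module S M] [IsScalarTower R S M] [Module.Finite S M]
    (I : Ideal R)
    (h : ∀ n : ℕ, 0 < n → Module.Flat (R ⧸ I ^ n) ((R ⧸ I ^ n) ⊗[R] M))
    (q : Ideal S) [q.IsPrime] (hq : I.map (algebraMap R S) ≤ q) :
    Module.Flat R (LocalizedModule q.primeCompl M) := by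
  haveI : IsNoetherianRing (Localization.AtPrime q) :=
    IsLocalization.isNoetherianRing q.primeCompl _ inferInstance
  apply flat_of_mapQ_injective (Localization.AtPrime q) I
  · intro htop
    have h1 : I.map (algebraMap R (Localization.AtPrime q))
        = (I.map (algebraMap R S)).map (algebraMap S (Localization.AtPrime q)) := by
      rw [Ideal.map_map, ← IsScalarTower.algebraMap_eq]
    rw [h1] at htop
    have h2 : (I.map (algebraMap R S)).map (algebraMap S (Localization.AtPrime q))
        ≤ q.map (algebraMap S (Localization.AtPrime q)) := Ideal.map_mono hq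
    rw [htop, Localization.AtPrime.map_eq_maximalIdeal] at h2
    exact (IsLocalRing.maximalIdeal.isMaximal _).ne_top (top_le_iff.mp h2)
  · intro 𝔞 n
    apply lTensor_localizedModule_injective
    rcases Nat.eq_zero_or_pos n with hn | hn
    · have hz : ∀ y : 𝔞 ⧸ Submodule.comap 𝔞.subtype (I ^ n), y = 0 := by
        intro y
        obtain ⟨a, rfl⟩ := Submodule.mkQ_surjective _ y
        rw [Submodule.mkQ_apply, Submodule.Quotient.mk_eq_zero, Submodule.mem_comap, hn, pow_zero,
          Ideal.one_eq_top]
        trivial
      have hz' : ∀ t : M ⊗[R] (𝔞 ⧸ Submodule.comap 𝔞.subtype (I ^ n)), t = 0 := by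
        intro t
        induction t using TensorProduct.induction_on with
        | zero => rfl
        | tmul m y => rw [hz y, tmul_zero]
        | add a b ha hb => rw [ha, hb, add_zero]
      intro a b _
      rw [hz' a, hz' b]
    · haveI := h n hn
      exact mapQ_lTensor_injective_of_flat (I ^ n) 𝔞

end Groth.Agent.H3LocCrit
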