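import Mathlib
import Groth.Agent.Lib.helper3.FlI

set_option autoImplicit false
universe u v w x

namespace Groth.Agent.H3LocCrit

open TensorProduct Function

section P1

variable {A : Type u} [CommRing A] {M : Type v} [AddCommGroup M] [Module A M]

lemma rTensor_span_singleton_injective (f : A) (hM : IsSMulRegular M f) :
    Injective (LinearMap.rTensor M (Submodule.subtype (Ideal.span {f}))) := by
  have hf : f ∈ Ideal.span {f} := Ideal.subset_span rfl
  have hrep : ∀ t : (Ideal.span {f} : Ideal A) ⊗[A] M, ∃ m : M,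
      t = (⟨f, hf⟩ : (Ideal.span {f} : Ideal A)) ⊗ₜ[A] m := by
    intro t
    induction t using TensorProduct.induction_on with
    | zero => exact ⟨0, by rw [tmul_zero]⟩
    | tmul a m' =>
      obtain ⟨a, ha⟩ := a
      obtain ⟨c, rfl⟩ := Ideal.mem_span_singleton'.mp ha
      refine ⟨c • m', ?_⟩
      rw [← TensorProduct.smul_tmul]
      rfl
    | add a b ha hb =>
      obtain ⟨m1, rfl⟩ := ha
      obtain ⟨m2, rfl⟩ := hb
      exact ⟨m1 + m2, by rw [tmul_add]⟩
  rw [injective_iff_map_eq_zero]
  intro t ht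
  obtain ⟨m, rfl⟩ := hrep t
  rw [LinearMap.rTensor_tmul] at ht
  have h1 := congrArg (TensorProduct.lid A M) ht
  rw [map_zero, Submodule.subtype_apply, TensorProduct.lid_tmul] at h1
  have h2 : m = 0 := hM (by simpa using h1)
  rw [h2, tmul_zero]

end P1

section P2

variable {B : Type u} [CommRing B] {K : Type v} {F : Type w} {M : Type x}
  [AddCommGroup K] [Module B K] [AddCommGroup F] [Module B F] [AddCommGroup M] [Module B M]

lemma flat_of_exact_of_flat [Module.Flat B F] [Module.Flat B M] (ι : K →ₗ[B] F) (π : F →ₗ[B] M)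
    (hι : Injective ι) (hex : Exact ι π) (hπ : Surjective π) : Module.Flat B K := by
  rw [Module.Flat.iff_lTensor_injective']
  intro 𝔟
  have h1 : Injective (ι.rTensor 𝔟) := by
    rw [← LinearMap.lTensor_inj_iff_rTensor_inj]
    exact LinearMap.lTensor_injective_of_exact_of_flat π hπ ι hι hex 𝔟
  have h2 : Injective (𝔟.subtype.lTensor F) :=
    Module.Flat.lTensor_preserves_injective_linearMap _ 𝔟.subtype_injective
  have hcomm : (ι.rTensor B) ∘ₗ (𝔟.subtype.lTensor K) = (𝔟.subtype.lTensor F) ∘ₗ (ι.rTensor 𝔟) := by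
    rw [LinearMap.rTensor_comp_lTensor, LinearMap.lTensor_comp_rTensor]
  have h3 : Injective ((ι.rTensor B) ∘ₗ (𝔟.subtype.lTensor K)) := by
    rw [hcomm]
    exact h2.comp h1
  exact Injective.of_comp h3

end P2

end Groth.Agent.H3LocCrit
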