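import Mathlib
import Groth.Agent.Lib.helper3.FlT

set_option autoImplicit false
universe u v w x

namespace Groth.Agent.H3LocCrit

open TensorProduct Function

section steps

variable {A : Type u} [CommRing A] (f : A)

/-- `K ⊗ fN → K ⊗ N` is injective when the first Tor of `K` against `f`-killed modules vanishes -/
theorem lTensor_range_smul_subtype_injective {K₂ F₂ K : Type u} [AddCommGroup K₂] [Module A K₂]
    [AddCommGroup F₂] [Module A F₂] [AddCommGroup K] [Module A K] [Module.Flat A F₂]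
    (ι₂ : K₂ →ₗ[A] F₂) (π₂ : F₂ →ₗ[A] K) (hex₂ : Exact ι₂ π₂) (hπ₂ : Surjective π₂)
    (hT1 : ∀ (N : Type u) [AddCommGroup N] [Module A N], (∀ x : N, f • x = 0) →
      Injective (ι₂.rTensor N))
    (N : Type u) [AddCommGroup N] [Module A N] :
    Injective ((LinearMap.range (f • (LinearMap.id : N →ₗ[A] N))).subtype.lTensor K) := by
  obtain ⟨L, hL⟩ : ∃ L : Submodule A N, L = LinearMap.range (f • (LinearMap.id : N →ₗ[A] N)) :=
    ⟨_, rfl⟩
  rw [← hL]
  have hkill : ∀ x : N ⧸ L, f • x = 0 := by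
    intro x
    obtain ⟨n, rfl⟩ := Submodule.mkQ_surjective _ x
    rw [← map_smul, Submodule.mkQ_apply, Submodule.Quotient.mk_eq_zero, hL]
    exact ⟨n, rfl⟩
  have h1 : Injective (ι₂.rTensor (N ⧸ L)) := hT1 (N ⧸ L) hkill
  have h2 : Injective (L.subtype.lTensor F₂) :=
    Module.Flat.lTensor_preserves_injective_linearMap _ L.subtype_injective
  have key := @lTensor_injective_of_exact_of_exact_of_rTensor_injective A _ K₂ F₂ K L N (N ⧸ L)
    _ _ _ _ _ _ _ _ _ _ _ _ ι₂ π₂ L.subtype L.mkQ hex₂ hπ₂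
    (LinearMap.exact_subtype_mkQ L) (Submodule.mkQ_surjective _)
  have key2 := key h1
  exact key2 h2

theorem eq_zero_of_smul_eq_zero {K F : Type u} [AddCommGroup K] [Module A K]
    [AddCommGroup F] [Module A F] [Module.Flat A F] (ι : K →ₗ[A] F)
    (hT1 : ∀ (N : Type u) [AddCommGroup N] [Module A N], (∀ x : N, f • x = 0) →
      Injective (ι.rTensor N))
    (hb : ∀ (N : Type u) [AddCommGroup N] [Module A N],
      Injective ((LinearMap.range (f • (LinearMap.id : N →ₗ[A] N))).subtype.lTensor K))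
    (N : Type u) [AddCommGroup N] [Module A N] (y : K ⊗[A] N) (hy : (ι.rTensor N) y = 0)
    (hfy : f • y = 0) : y = 0 := by
  obtain ⟨φ, hφ⟩ : ∃ φ : N →ₗ[A] N, φ = f • (LinearMap.id : N →ₗ[A] N) := ⟨_, rfl⟩
  have hb' := hb N
  rw [← hφ] at hb'
  have h1 : (φ.lTensor K) y = f • y := by
    rw [hφ, LinearMap.lTensor_smul, LinearMap.lTensor_id, LinearMap.smul_apply, LinearMap.id_apply]
  have hjp : (LinearMap.range φ).subtype ∘ₗ φ.rangeRestrict = φ := LinearMap.ext fun x => rfl
  have h2 : ((LinearMap.range φ).subtype.lTensor K) ((φ.rangeRestrict.lTensor K) y) = 0 := by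
    rw [← LinearMap.comp_apply, ← LinearMap.lTensor_comp, hjp, h1, hfy]
  have h3 : (φ.rangeRestrict.lTensor K) y = 0 := hb' (by rw [h2, map_zero])
  obtain ⟨y'', rfl⟩ := (lTensor_exact K (LinearMap.exact_subtype_ker_map φ.rangeRestrict)
    φ.surjective_rangeRestrict y).mp h3
  have hkill : ∀ x : LinearMap.ker φ.rangeRestrict, f • x = 0 := by
    rintro ⟨x, hx⟩
    apply Subtype.ext
    have h4 : φ.rangeRestrict x = 0 := hx
    have h5 : φ x = 0 := by
      have := congrArg Subtype.val h4
      simpa using this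
    rw [hφ] at h5
    exact h5
  have h6 : ((LinearMap.ker φ.rangeRestrict).subtype.lTensor F)
      ((ι.rTensor (LinearMap.ker φ.rangeRestrict)) y'') = 0 := by
    rw [← LinearMap.comp_apply, LinearMap.lTensor_comp_rTensor, ← LinearMap.rTensor_comp_lTensor,
      LinearMap.comp_apply, hy]
  have h7 : (ι.rTensor (LinearMap.ker φ.rangeRestrict)) y'' = 0 :=
    (Module.Flat.lTensor_preserves_injective_linearMap _
      (LinearMap.ker φ.rangeRestrict).subtype_injective) (by rw [h6, map_zero])
  have h8 : y'' = 0 := hT1 _ hkill (by rw [h7, map_zero])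
  rw [h8, map_zero]

end steps

end Groth.Agent.H3LocCrit
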