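import Mathlib
import Groth.Agent.Lib.helper3.FlU

set_option autoImplicit false
universe u v w x

namespace Groth.Agent.H3LocCrit

open TensorProduct Function

section loc

variable {A : Type u} [CommRing A] (S : Submonoid A)

theorem exists_smul_eq_zero_of_rTensor_eq_zero {K F M : Type u} [AddCommGroup K] [Module A K]
    [AddCommGroup F] [Module A F] [AddCommGroup M] [Module A M]
    (ι : K →ₗ[A] F) (π : F →ₗ[A] M) (hι : Injective ι) (hex : Exact ι π) (hπ : Surjective π)
    [Module.Flat A (LocalizedModule S M)]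
    (N : Type u) [AddCommGroup N] [Module A N] (y : K ⊗[A] N) (hy : (ι.rTensor N) y = 0) :
    ∃ s : S, s • y = 0 := by
  obtain ⟨ιf, hιf⟩ : ∃ ιf : LocalizedModule S K →ₗ[A] LocalizedModule S F,
    ιf = IsLocalizedModule.map S (LocalizedModule.mkLinearMap S K)
      (LocalizedModule.mkLinearMap S F) ι := ⟨_, rfl⟩
  obtain ⟨πf, hπf⟩ : ∃ πf : LocalizedModule S F →ₗ[A] LocalizedModule S M,
    πf = IsLocalizedModule.map S (LocalizedModule.mkLinearMap S F)
      (LocalizedModule.mkLinearMap S M) π := ⟨_, rfl⟩
  have h1 : Injective ιf := by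
    rw [hιf]; exact IsLocalizedModule.map_injective S _ _ ι hι
  have h2 : Surjective πf := by
    rw [hπf]; exact IsLocalizedModule.map_surjective S _ _ π hπ
  have h3 : Exact ιf πf := by
    rw [hιf, hπf]; exact IsLocalizedModule.map_exact S _ _ _ ι π hex
  have h4 : Injective (ιf.rTensor N) := by
    rw [← LinearMap.lTensor_inj_iff_rTensor_inj]
    exact LinearMap.lTensor_injective_of_exact_of_flat πf h2 ιf h1 h3 N
  have hcomm : ιf ∘ₗ (LocalizedModule.mkLinearMap S K) = (LocalizedModule.mkLinearMap S F) ∘ₗ ι := by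
    rw [hιf]; exact IsLocalizedModule.map_comp S _ _ ι
  have h5 : (ιf.rTensor N) (((LocalizedModule.mkLinearMap S K).rTensor N) y) = 0 := by
    rw [← LinearMap.comp_apply, ← LinearMap.rTensor_comp, hcomm, LinearMap.rTensor_comp,
      LinearMap.comp_apply, hy, map_zero]
  have h6 : ((LocalizedModule.mkLinearMap S K).rTensor N) y = 0 := h4 (by rw [h5, map_zero])
  have h7 : (AlgebraTensorModule.rTensor A N (LocalizedModule.mkLinearMap S K)) y = 0 := h6
  exact (IsLocalizedModule.eq_zero_iff S
    (AlgebraTensorModule.rTensor A N (LocalizedModule.mkLinearMap S K))).mp h7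

end loc

end Groth.Agent.H3LocCrit
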