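import Mathlib
import Groth.Agent.Lib.helper3.FlV

set_option autoImplicit false
universe u v w x

namespace Groth.Agent.H3LocCrit

open TensorProduct Function

section pres

variable {A : Type u} [CommRing A] (f : A)

/-- vanishing of the first Tor against `f`-killed modules, for a presentation -/
theorem rTensor_injective_of_smul_eq_zero {K F M : Type u} [AddCommGroup K] [Module A K]
    [AddCommGroup F] [Module A F] [AddCommGroup M] [Module A M] [Module.Flat A F]
    (ι : K →ₗ[A] F) (π : F →ₗ[A] M) (hι : Injective ι) (hex : Exact ι π) (hπ : Surjective π)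
    (hM : IsSMulRegular M f)
    [Module.Flat (A ⧸ Ideal.span {f}) ((A ⧸ Ideal.span {f}) ⊗[A] M)]
    (N : Type u) [AddCommGroup N] [Module A N] (hN : ∀ x : N, f • x = 0) :
    Injective (ι.rTensor N) := by
  have h0 := lTensor_injective_of_killed (Ideal.span {f}) (rTensor_span_singleton_injective f hM)
    ι π hι hex hπ
  have h1 := h0 1 N (by
    intro a ha x
    rw [pow_one] at ha
    obtain ⟨c, rfl⟩ := Ideal.mem_span_singleton'.mp ha
    rw [mul_smul, hN, smul_zero])
  rw [← LinearMap.lTensor_inj_iff_rTensor_inj]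
  exact h1

/-- the kernel of a flat presentation again has flat reduction mod `f` -/
theorem flat_quot_ker {K F M : Type u} [AddCommGroup K] [Module A K]
    [AddCommGroup F] [Module A F] [AddCommGroup M] [Module A M] [Module.Flat A F]
    (ι : K →ₗ[A] F) (π : F →ₗ[A] M) (hι : Injective ι) (hex : Exact ι π) (hπ : Surjective π)
    (hM : IsSMulRegular M f)
    [Module.Flat (A ⧸ Ideal.span {f}) ((A ⧸ Ideal.span {f}) ⊗[A] M)] :
    Module.Flat (A ⧸ Ideal.span {f}) ((A ⧸ Ideal.span {f}) ⊗[A] K) := by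
  have hιA : Injective (ι.lTensor A) :=
    Module.Flat.lTensor_preserves_injective_linearMap ι hι
  have hbc : Injective (ι.lTensor (A ⧸ Ideal.span {f})) :=
    lTensor_injective_of_exact_of_exact_of_rTensor_injective
      (f₁ := (Ideal.span {f}).subtype) (f₂ := (Ideal.span {f}).mkQ) (g₁ := ι) (g₂ := π)
      (LinearMap.exact_subtype_mkQ (Ideal.span {f})) (Submodule.mkQ_surjective (Ideal.span {f}))
      hex hπ (rTensor_span_singleton_injective f hM) hιA
  exact flat_of_exact_of_flat (ι.baseChange (A ⧸ Ideal.span {f})) (π.baseChange (A ⧸ Ideal.span {f}))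
    hbc (lTensor_exact (A ⧸ Ideal.span {f}) hex hπ)
    (LinearMap.lTensor_surjective (A ⧸ Ideal.span {f}) hπ)

end pres

theorem main399_aux {A M K F K₂ F₂ : Type u} [CommRing A] [AddCommGroup M] [Module A M]
    [AddCommGroup K] [Module A K] [AddCommGroup F] [Module A F] [AddCommGroup K₂] [Module A K₂]
    [AddCommGroup F₂] [Module A F₂] [Module.Flat A F] [Module.Flat A F₂] (f : A)
    (ι : K →ₗ[A] F) (π : F →ₗ[A] M) (hι : Injective ι) (hex : Exact ι π) (hπ : Surjective π)
    (ι₂ : K₂ →ₗ[A] F₂) (π₂ : F₂ →ₗ[A] K) (hι₂ : Injective ι₂) (hex₂ : Exact ι₂ π₂)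
    (hπ₂ : Surjective π₂)
    (hM : IsSMulRegular M f) (hregK : IsSMulRegular K f)
    [Module.Flat A (LocalizedModule (Submonoid.powers f) M)]
    [Module.Flat (A ⧸ Ideal.span {f}) ((A ⧸ Ideal.span {f}) ⊗[A] M)] : Module.Flat A M := by
  haveI hflatK : Module.Flat (A ⧸ Ideal.span {f}) ((A ⧸ Ideal.span {f}) ⊗[A] K) :=
    flat_quot_ker f ι π hι hex hπ hM
  have hT1 : ∀ (N : Type u) [AddCommGroup N] [Module A N], (∀ x : N, f • x = 0) →
      Injective (ι.rTensor N) := fun N _ _ hN =>
    rTensor_injective_of_smul_eq_zero f ι π hι hex hπ hM N hN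
  have hT1K : ∀ (N : Type u) [AddCommGroup N] [Module A N], (∀ x : N, f • x = 0) →
      Injective (ι₂.rTensor N) := fun N _ _ hN =>
    rTensor_injective_of_smul_eq_zero f ι₂ π₂ hι₂ hex₂ hπ₂ hregK N hN
  have hb : ∀ (N : Type u) [AddCommGroup N] [Module A N],
      Injective ((LinearMap.range (f • (LinearMap.id : N →ₗ[A] N))).subtype.lTensor K) :=
    fun N _ _ => lTensor_range_smul_subtype_injective f ι₂ π₂ hex₂ hπ₂ hT1K N
  have hall : ∀ (N : Type u) [AddCommGroup N] [Module A N], Injective (ι.rTensor N) := by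
    intro N _ _
    rw [injective_iff_map_eq_zero]
    intro y hy
    obtain ⟨⟨s, n, rfl⟩, hs⟩ := exists_smul_eq_zero_of_rTensor_eq_zero (Submonoid.powers f)
      ι π hι hex hπ N y hy
    have hs' : f ^ n • y = 0 := hs
    clear hs
    induction n generalizing y with
    | zero => rwa [pow_zero, one_smul] at hs'
    | succ n ih =>
      have h1 : f ^ n • y = 0 := by
        apply eq_zero_of_smul_eq_zero f ι hT1 hb N
        · rw [map_smul, hy, smul_zero]
        · rw [smul_smul, ← pow_succ']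
          exact hs'
      exact ih y hy h1
  rw [Module.Flat.iff_lTensor_injective']
  intro 𝔞
  have h1 : Injective (ι.rTensor (A ⧸ 𝔞)) := hall (A ⧸ 𝔞)
  have h2 : Injective (𝔞.subtype.lTensor F) :=
    Module.Flat.lTensor_preserves_injective_linearMap _ 𝔞.subtype_injective
  have key := @lTensor_injective_of_exact_of_exact_of_rTensor_injective A _ K F M 𝔞 A
    (A ⧸ 𝔞) _ _ _ _ _ _ _ _ _ _ _ _ ι π 𝔞.subtype 𝔞.mkQ hex hπ
    (LinearMap.exact_subtype_mkQ 𝔞) (Submodule.mkQ_surjective 𝔞)
  have key2 := key h1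
  exact key2 h2

theorem main399 {A M : Type u} [CommRing A] [AddCommGroup M] [Module A M] (f : A)
    (hA : f ∈ nonZeroDivisors A) (hM : IsSMulRegular M f)
    [Module.Flat (Localization.Away f) (LocalizedModule (Submonoid.powers f) M)]
    [Module.Flat (A ⧸ Ideal.span {f}) ((A ⧸ Ideal.span {f}) ⊗[A] M)] : Module.Flat A M := by
  have hπ : Surjective (Finsupp.linearCombination A (id : M → M)) := fun m =>
    ⟨Finsupp.single m 1, by rw [Finsupp.linearCombination_single, one_smul]; rfl⟩
  obtain ⟨π, hπdef⟩ : ∃ π : (M →₀ A) →ₗ[A] M, π = Finsupp.linearCombination A (id : M → M) :=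
    ⟨_, rfl⟩
  rw [← hπdef] at hπ
  obtain ⟨K, hK⟩ : ∃ K : Submodule A (M →₀ A), K = LinearMap.ker π := ⟨_, rfl⟩
  have hex : Exact K.subtype π := by
    rw [hK]
    exact LinearMap.exact_subtype_ker_map π
  have hπ₂ : Surjective (Finsupp.linearCombination A (id : K → K)) := fun m =>
    ⟨Finsupp.single m 1, by rw [Finsupp.linearCombination_single, one_smul]; rfl⟩
  obtain ⟨π₂, hπ₂def⟩ : ∃ π₂ : (K →₀ A) →ₗ[A] K, π₂ = Finsupp.linearCombination A (id : K → K) :=
    ⟨_, rfl⟩
  rw [← hπ₂def] at hπ₂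
  obtain ⟨K₂, hK₂⟩ : ∃ K₂ : Submodule A (K →₀ A), K₂ = LinearMap.ker π₂ := ⟨_, rfl⟩
  have hex₂ : Exact K₂.subtype π₂ := by
    rw [hK₂]
    exact LinearMap.exact_subtype_ker_map (N := ↥K →₀ A) (P := ↥K) π₂
  have hregK : IsSMulRegular K f := by
    intro x y hxy
    apply Subtype.ext
    have h1 : f • (x : M →₀ A) = f • (y : M →₀ A) := congrArg Subtype.val hxy
    ext m
    have h2 := DFunLike.congr_fun h1 m
    rw [Finsupp.smul_apply, Finsupp.smul_apply, smul_eq_mul, smul_eq_mul] at h2
    have h3 : ((x : M →₀ A) m - (y : M →₀ A) m) * f = 0 := by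
      rw [sub_mul, mul_comm, h2, mul_comm, sub_self]
    exact sub_eq_zero.mp (mem_nonZeroDivisors_iff_right.mp hA _ h3)
  haveI : Module.Flat A (Localization.Away f) := IsLocalization.flat _ (Submonoid.powers f)
  haveI : Module.Flat A (LocalizedModule (Submonoid.powers f) M) :=
    Module.Flat.trans A (Localization.Away f) _
  exact main399_aux (K := ↥K) (F := M →₀ A) (K₂ := ↥K₂) (F₂ := ↥K →₀ A) f K.subtype π
    (Submodule.subtype_injective _) hex hπ K₂.subtype π₂ (Submodule.subtype_injective _) hex₂ hπ₂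
    hM hregK

end Groth.Agent.H3LocCrit
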