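import Mathlib
import Groth.Agent.Lib.helper3.FlR

set_option autoImplicit false
universe u v w x

namespace Groth.Agent.H3LocCrit

open TensorProduct Function

section core

variable {A : Type u} [CommRing A] {N : Type v} [AddCommGroup N] [Module A N]

theorem mem_range_of_lTensor_subtype_eq_zero'' (L 𝔞 : Ideal A)
    (H : Injective ((Submodule.mapQ (Submodule.comap 𝔞.subtype L) L 𝔞.subtype le_rfl).lTensor N))
    (x : N ⊗[A] 𝔞) (hx : (𝔞.subtype.lTensor N) x = 0) :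
    x ∈ LinearMap.range ((Submodule.comap 𝔞.subtype L).subtype.lTensor N) := by
  have hcomm : (Submodule.mapQ (Submodule.comap 𝔞.subtype L) L 𝔞.subtype le_rfl) ∘ₗ
      (Submodule.comap 𝔞.subtype L).mkQ = L.mkQ ∘ₗ 𝔞.subtype := by
    apply LinearMap.ext
    intro a
    rfl
  have h1 : ((Submodule.mapQ (Submodule.comap 𝔞.subtype L) L 𝔞.subtype le_rfl).lTensor N)
      (((Submodule.comap 𝔞.subtype L).mkQ.lTensor N) x) = 0 := by
    rw [← LinearMap.comp_apply, ← LinearMap.lTensor_comp, hcomm, LinearMap.lTensor_comp,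
      LinearMap.comp_apply, hx, map_zero]
  have h2 : ((Submodule.comap 𝔞.subtype L).mkQ.lTensor N) x = 0 :=
    H (by rw [h1, map_zero])
  exact (lTensor_exact N (LinearMap.exact_subtype_mkQ (Submodule.comap 𝔞.subtype L))
    (Submodule.mkQ_surjective _) x).mp h2

theorem flat_of_inf_eq_bot (K₁ K₂ : Ideal A) (hK : K₁ ⊓ K₂ = ⊥)
    [Module.Flat (A ⧸ K₁) ((A ⧸ K₁) ⊗[A] N)] [Module.Flat (A ⧸ K₂) ((A ⧸ K₂) ⊗[A] N)] :
    Module.Flat A N := by
  rw [Module.Flat.iff_lTensor_injective']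
  intro J
  rw [injective_iff_map_eq_zero]
  intro x hx
  obtain ⟨P, hP⟩ : ∃ P : Submodule A J, P = Submodule.comap J.subtype K₁ := ⟨_, rfl⟩
  have h1 : x ∈ LinearMap.range (P.subtype.lTensor N) := by
    rw [hP]
    exact mem_range_of_lTensor_subtype_eq_zero'' K₁ J (mapQ_lTensor_injective_of_flat K₁ J) x hx
  obtain ⟨x', rfl⟩ := h1
  have hP' : ∀ y : J, y ∈ P ↔ (y : A) ∈ K₁ := by
    intro y; rw [hP]; rfl
  have hmemP : ∀ p : P, ((p : J) : A) ∈ K₁ := fun p => (hP' p).mp p.2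
  have hzero : ∀ p : P, ((p : J) : A) ∈ K₂ → p = 0 := by
    intro p hp
    have h2 : ((p : J) : A) ∈ K₁ ⊓ K₂ := ⟨hmemP p, hp⟩
    rw [hK] at h2
    apply Subtype.ext
    apply Subtype.ext
    exact h2
  obtain ⟨c, hc⟩ : ∃ c : P →ₗ[A] A, c = J.subtype ∘ₗ P.subtype := ⟨_, rfl⟩
  obtain ⟨d, hd⟩ : ∃ d : P →ₗ[A] (A ⧸ K₂), d = K₂.mkQ ∘ₗ c := ⟨_, rfl⟩
  have hdinj : Injective d := by
    rw [injective_iff_map_eq_zero]
    intro p hp
    apply hzero
    rw [hd, hc] at hp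
    have h3 : K₂.mkQ ((p : J) : A) = 0 := hp
    rw [Submodule.mkQ_apply, Submodule.Quotient.mk_eq_zero] at h3
    exact h3
  have htors : Module.IsTorsionBySet A P K₂ := by
    rintro p ⟨k, hk⟩
    apply hzero
    show k • ((p : J) : A) ∈ K₂
    rw [smul_eq_mul]
    exact Ideal.mul_mem_right _ _ hk
  letI := htors.module
  haveI : IsScalarTower A (A ⧸ K₂) P := htors.isScalarTower
  have h4 := rTensor_injective_of_flat_baseChange (A := A) (A ⧸ K₂) N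
    (d.extendScalarsOfSurjective Ideal.Quotient.mk_surjective)
    (by intro a b hab; exact hdinj hab)
  have h5 : Injective (d.lTensor N) := by
    rw [LinearMap.lTensor_inj_iff_rTensor_inj]
    exact h4
  have h6 : Injective (c.lTensor N) := by
    have h7 : d.lTensor N = (K₂.mkQ.lTensor N) ∘ₗ (c.lTensor N) := by
      rw [hd, LinearMap.lTensor_comp]
    rw [h7] at h5
    exact Injective.of_comp h5
  have h8 : (c.lTensor N) x' = 0 := by
    rw [hc, LinearMap.lTensor_comp, LinearMap.comp_apply]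
    exact hx
  have h9 : x' = 0 := h6 (by rw [h8, map_zero])
  rw [h9, map_zero]

end core

theorem main6893 {R : Type u} [CommRing R] (M : Type u) [AddCommGroup M] [Module R M]
    (I₁ I₂ : Ideal R) [Module.Flat (R ⧸ I₁) ((R ⧸ I₁) ⊗[R] M)]
    [Module.Flat (R ⧸ I₂) ((R ⧸ I₂) ⊗[R] M)] :
    Module.Flat (R ⧸ (I₁ ⊓ I₂)) ((R ⧸ (I₁ ⊓ I₂)) ⊗[R] M) := by
  obtain ⟨L, hL⟩ : ∃ L : Ideal R, L = I₁ ⊓ I₂ := ⟨_, rfl⟩
  rw [← hL]
  have key : ∀ (I : Ideal R), L ≤ I → Module.Flat (R ⧸ I) ((R ⧸ I) ⊗[R] M) →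
      Module.Flat ((R ⧸ L) ⧸ I.map (algebraMap R (R ⧸ L)))
        (((R ⧸ L) ⧸ I.map (algebraMap R (R ⧸ L))) ⊗[R ⧸ L] ((R ⧸ L) ⊗[R] M)) := by
    intro I hLI hflat
    obtain ⟨K, hKdef⟩ : ∃ K : Ideal (R ⧸ L), K = I.map (algebraMap R (R ⧸ L)) := ⟨_, rfl⟩
    rw [← hKdef]
    have hIK : I ≤ K.comap (algebraMap R (R ⧸ L)) := by
      rw [hKdef]; exact Ideal.le_comap_map
    letI : Algebra (R ⧸ I) ((R ⧸ L) ⧸ K) :=
      (Ideal.quotientMap K (algebraMap R (R ⧸ L)) hIK).toAlgebra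
    haveI : IsScalarTower R (R ⧸ I) ((R ⧸ L) ⧸ K) := IsScalarTower.of_algebraMap_eq (fun r => rfl)
    let e1 := AlgebraTensorModule.cancelBaseChange R (R ⧸ I) ((R ⧸ L) ⧸ K) ((R ⧸ L) ⧸ K) M
    let e2 := AlgebraTensorModule.cancelBaseChange R (R ⧸ L) ((R ⧸ L) ⧸ K) ((R ⧸ L) ⧸ K) M
    exact Module.Flat.of_linearEquiv (e2.trans e1.symm)
  haveI := key I₁ (hL.le.trans inf_le_left) inferInstance
  haveI := key I₂ (hL.le.trans inf_le_right) inferInstance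
  apply flat_of_inf_eq_bot (I₁.map (algebraMap R (R ⧸ L))) (I₂.map (algebraMap R (R ⧸ L)))
  rw [eq_bot_iff]
  rintro x ⟨h1, h2⟩
  obtain ⟨r, rfl⟩ := Ideal.Quotient.mk_surjective x
  have hk : ∀ (I : Ideal R), L ≤ I → Ideal.Quotient.mk L r ∈ I.map (algebraMap R (R ⧸ L)) →
      r ∈ I := by
    intro I hLI hr
    have h3 : r ∈ (I.map (Ideal.Quotient.mk L)).comap (Ideal.Quotient.mk L) := hr
    rw [Ideal.comap_map_of_surjective _ Ideal.Quotient.mk_surjective, ← RingHom.ker_eq_comap_bot,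
      Ideal.mk_ker, sup_eq_left.mpr hLI] at h3
    exact h3
  have h3 : r ∈ L := by
    rw [hL]
    exact ⟨hk I₁ (hL.le.trans inf_le_left) h1, hk I₂ (hL.le.trans inf_le_right) h2⟩
  rw [Ideal.mem_bot]
  exact Ideal.Quotient.eq_zero_iff_mem.mpr h3

end Groth.Agent.H3LocCrit
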