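import Mathlib
set_option autoImplicit false
universe u
open IntermediateField

namespace Groth.Agent.H3Fld

theorem exists_translate {K L : Type u} [Field K] [Field L] [Algebra K L] (p : ℕ)
    [Fact p.Prime] [CharP K p] [FiniteDimensional K L] [IsGalois K L]
    (hdeg : Module.finrank K L = p) :
    ∃ (σ : L ≃ₐ[K] L) (z : L), (∀ τ : L ≃ₐ[K] L, τ ∈ Subgroup.zpowers σ) ∧ σ z = z + 1 := by
  have hp : p.Prime := Fact.out
  have : CharP L p := charP_of_injective_algebraMap (algebraMap K L).injective p
  have hcard : Nat.card (L ≃ₐ[K] L) = p := by rw [IsGalois.card_aut_eq_finrank, hdeg]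
  have : Fact (Nat.card (L ≃ₐ[K] L)).Prime := ⟨hcard ▸ hp⟩
  obtain ⟨σ, hσ⟩ := (isCyclic_of_prime_card (α := L ≃ₐ[K] L) hcard).exists_generator
  have hσ1 : σ ≠ 1 := by
    intro h
    have hall : ∀ τ : L ≃ₐ[K] L, τ = 1 := by
      intro τ
      have := hσ τ
      rw [h, Subgroup.zpowers_one_eq_bot, Subgroup.mem_bot] at this
      exact this
    have : Nat.card (L ≃ₐ[K] L) = 1 := by
      rw [Nat.card_eq_one_iff_unique]
      exact ⟨⟨fun a b => by rw [hall a, hall b]⟩, ⟨1⟩⟩
    rw [hcard] at this
    exact hp.one_lt.ne' this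
  have hσp : σ ^ p = 1 := by
    rw [← hcard]; exact pow_card_eq_one'
  -- the operator T = σ - 1
  let S : Module.End K L := σ.toLinearMap
  let T : Module.End K L := S - 1
  have : CharP (Module.End K L) p := by
    have : Nontrivial L := inferInstance
    exact charP_of_injective_algebraMap (algebraMap K (Module.End K L)).injective p
  have hSpow : ∀ n : ℕ, S ^ n = (σ ^ n).toLinearMap := by
    intro n
    induction n with
    | zero => rfl
    | succ n ih => rw [pow_succ, ih, pow_succ]; rfl
  have hTp : T ^ p = 0 := by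
    have hc : Commute S (1 : Module.End K L) := Commute.one_right S
    rw [sub_pow_char_of_commute p hc, one_pow, hSpow, hσp]
    exact sub_self _
  have hT0 : T ≠ 0 := by
    intro h
    apply hσ1
    ext x
    have : T x = 0 := by rw [h]; rfl
    have h2 : σ x - x = 0 := this
    rw [sub_eq_zero] at h2
    exact h2
  -- minimal nilpotency index
  have hex : ∃ m : ℕ, T ^ m = 0 := ⟨p, hTp⟩
  classical
  let m := Nat.find hex
  have hm : T ^ m = 0 := Nat.find_spec hex
  have hm1 : 2 ≤ m := by
    by_contra hlt
    have : m = 0 ∨ m = 1 := by omega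
    rcases this with h | h
    · rw [h, pow_zero] at hm
      exact one_ne_zero hm
    · rw [h, pow_one] at hm
      exact hT0 hm
  have hmin : T ^ (m - 1) ≠ 0 := Nat.find_min hex (by omega : m - 1 < m)
  obtain ⟨y, hy⟩ : ∃ y, (T ^ (m - 1)) y ≠ 0 := by
    by_contra h
    push Not at h
    exact hmin (LinearMap.ext h)
  set c := (T ^ (m - 1)) y with hc
  set z' := (T ^ (m - 2)) y with hz'
  have hTz' : T z' = c := by
    rw [hc, hz', ← Module.End.mul_apply, ← pow_succ']
    congr 2
    omega
  have hTc : T c = 0 := by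
    rw [hc, ← Module.End.mul_apply, ← pow_succ']
    have : m - 1 + 1 = m := by omega
    rw [this, hm]
    rfl
  have hσc : σ c = c := by
    have : σ c - c = 0 := hTc
    rwa [sub_eq_zero] at this
  have hσz' : σ z' = z' + c := by
    have : σ z' - z' = c := hTz'
    rw [← this]; ring
  refine ⟨σ, z' / c, hσ, ?_⟩
  rw [map_div₀, hσc, hσz', add_div, div_self hy]

theorem artin_schreier {K L : Type u} [Field K] [Field L] [Algebra K L] (p : ℕ)
    [Fact p.Prime] [CharP K p] [FiniteDimensional K L] [IsGalois K L]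
    (hdeg : Module.finrank K L = p) :
    ∃ z : L, z ^ p - z ∈ Set.range (algebraMap K L) ∧ K⟮z⟯ = ⊤ := by
  have hp : p.Prime := Fact.out
  have : CharP L p := charP_of_injective_algebraMap (algebraMap K L).injective p
  obtain ⟨σ, z, hσ, hz⟩ := exists_translate p hdeg
  have hfix : ∀ x : L, σ x = x → x ∈ Set.range (algebraMap K L) := by
    intro x hx
    rw [IsGalois.mem_range_algebraMap_iff_fixed]
    intro τ
    obtain ⟨n, rfl⟩ := Subgroup.mem_zpowers_iff.1 (hσ τ)
    have hx' : (MulAction.toPermHom (L ≃ₐ[K] L) L σ) x = x := hx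
    have : ((MulAction.toPermHom (L ≃ₐ[K] L) L σ) ^ n) x = x := by
      exact Equiv.Perm.zpow_apply_eq_self_of_apply_eq_self hx' n
    rw [← map_zpow] at this
    exact this
  refine ⟨z, hfix _ ?_, ?_⟩
  · rw [map_sub, map_pow, hz, add_pow_char, one_pow]
    ring
  · haveI := IntermediateField.isSimpleOrder_of_finrank_prime K L (hdeg ▸ hp)
    rcases eq_bot_or_eq_top K⟮z⟯ with h | h
    · exfalso
      rw [IntermediateField.adjoin_simple_eq_bot_iff, IntermediateField.mem_bot] at h
      obtain ⟨a, rfl⟩ := h
      rw [AlgEquiv.commutes] at hz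
      have : (1 : L) = 0 := by
        have := hz
        linear_combination -this
      exact one_ne_zero this
    · exact h

end Groth.Agent.H3Fld
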