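import Mathlib
set_option autoImplicit false
universe u
open IntermediateField

namespace Groth.Agent.H3Fld

theorem exists_mul_eq_of_mem_adjoin {k K : Type*} [Field k] [Field K] [Algebra k K] (S : Set K)
    (f : K) (hf : f ∈ IntermediateField.adjoin k S) :
    ∃ r ∈ Algebra.adjoin k S, ∃ d ∈ Algebra.adjoin k S, d ≠ 0 ∧ f * d = r := by
  obtain ⟨r, hr, d, hd, h⟩ := IntermediateField.mem_adjoin_iff_div.1 hf
  by_cases hd0 : d = 0
  · refine ⟨0, Subalgebra.zero_mem _, 1, Subalgebra.one_mem _, one_ne_zero, ?_⟩
    rw [h, hd0, div_zero, zero_mul]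
  · exact ⟨r, hr, d, hd, hd0, by rw [h, div_mul_cancel₀ _ hd0]⟩

/-- a family of elements algebraic over `k`, linearly independent over `k`, stays linearly
independent over a purely transcendental subextension. -/
theorem linInd_of_algebraic {k K : Type u} [Field k] [Field K] [Algebra k K]
    {ι : Type u} (x : ι → K) (hx : AlgebraicIndependent k x)
    {κ : Type*} [Fintype κ] (a : κ → algebraicClosure k K) (ha : LinearIndependent k a)
    (f : κ → K) (hf : ∀ i, f i ∈ IntermediateField.adjoin k (Set.range x))
    (hsum : ∑ i, f i * (a i : K) = 0) : ∀ i, f i = 0 := by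
  classical
  have hrd := fun i => exists_mul_eq_of_mem_adjoin (Set.range x) (f i) (hf i)
  choose r hr d hd hd0 hfd using hrd
  set D : K := ∏ j, d j with hD
  have hD0 : D ≠ 0 := Finset.prod_ne_zero_iff.2 fun j _ => hd0 j
  let g : κ → K := fun i => r i * ∏ j ∈ Finset.univ.erase i, d j
  have hgD : ∀ i, f i * D = g i := by
    intro i
    simp only [g]
    rw [hD, ← Finset.mul_prod_erase Finset.univ d (Finset.mem_univ i), ← mul_assoc, hfd i]
  have hgmem : ∀ i, g i ∈ Algebra.adjoin k (Set.range x) := by
    intro i
    exact Subalgebra.mul_mem _ (hr i) (Subalgebra.prod_mem _ fun j _ => hd j)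
  have hgsum : ∑ i, g i * (a i : K) = 0 := by
    have : ∑ i, g i * (a i : K) = D * ∑ i, f i * (a i : K) := by
      rw [Finset.mul_sum]
      refine Finset.sum_congr rfl fun i _ => ?_
      rw [← hgD i]; ring
    rw [this, hsum, mul_zero]
  suffices hg : ∀ i, g i = 0 by
    intro i
    have := hgD i
    rw [hg i] at this
    exact (mul_eq_zero.1 this).resolve_right hD0
  -- polynomials
  have hP : ∀ i, ∃ P : MvPolynomial ι k, MvPolynomial.aeval x P = g i := by
    intro i
    have := hgmem i
    rw [Algebra.adjoin_range_eq_range_aeval] at this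
    exact this
  choose P hPg using hP
  have hx' : AlgebraicIndependent (algebraicClosure k K) x := hx.extendScalars _
  let Q : MvPolynomial ι (algebraicClosure k K) :=
    ∑ i, MvPolynomial.C (a i) * MvPolynomial.map (algebraMap k (algebraicClosure k K)) (P i)
  have hQ : MvPolynomial.aeval x Q = 0 := by
    simp only [Q, map_sum, map_mul, MvPolynomial.aeval_C, MvPolynomial.aeval_map_algebraMap, hPg]
    rw [← hgsum]
    refine Finset.sum_congr rfl fun i _ => ?_
    rw [mul_comm]; rfl
  have hQ0 : Q = 0 := by
    apply hx'
    rw [hQ, map_zero]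
  have hcoeff : ∀ (α : ι →₀ ℕ) (i : κ), MvPolynomial.coeff α (P i) = 0 := by
    intro α
    have h1 : MvPolynomial.coeff α Q = 0 := by rw [hQ0]; rfl
    simp only [Q, MvPolynomial.coeff_sum, MvPolynomial.coeff_C_mul, MvPolynomial.coeff_map] at h1
    have h2 : ∑ i, MvPolynomial.coeff α (P i) • a i = 0 := by
      rw [← h1]
      refine Finset.sum_congr rfl fun i _ => ?_
      rw [Algebra.smul_def, mul_comm]
    exact Fintype.linearIndependent_iff.1 ha _ h2
  intro i
  rw [← hPg i]
  have : P i = 0 := by
    ext α
    rw [hcoeff α i]; rfl
  rw [this, map_zero]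

theorem finiteDimensional_algebraicClosure_of_fg {k K : Type u} [Field k] [Field K] [Algebra k K]
    (hfg : (⊤ : IntermediateField k K).FG) :
    FiniteDimensional k (algebraicClosure k K) := by
  classical
  obtain ⟨s, hs⟩ := hfg
  obtain ⟨ι, x, hx⟩ := exists_isTranscendenceBasis' k K
  let F := IntermediateField.adjoin k (Set.range x)
  have halg : Algebra.IsAlgebraic F K := hx.isAlgebraic_field
  have htop : IntermediateField.adjoin F (s : Set K) = ⊤ := by
    rw [eq_top_iff]
    intro y _
    have hy : y ∈ IntermediateField.adjoin k (s : Set K) := by rw [hs]; trivial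
    have hle : IntermediateField.adjoin k (s : Set K)
        ≤ (IntermediateField.adjoin F (s : Set K)).restrictScalars k := by
      rw [IntermediateField.adjoin_le_iff]
      intro z hz
      exact IntermediateField.subset_adjoin F _ hz
    exact hle hy
  have hfin : FiniteDimensional F K := by
    have h1 : FiniteDimensional F (IntermediateField.adjoin F (s : Set K)) :=
      IntermediateField.finiteDimensional_adjoin fun y _ => (halg.isAlgebraic y).isIntegral
    rw [htop] at h1
    exact (IntermediateField.topEquiv (F := F) (E := K)).toLinearEquiv.finiteDimensional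
  have hrank : Module.rank k (algebraicClosure k K) ≤ (Module.finrank F K : ℕ) := by
    apply rank_le
    intro T hT
    -- the family T ↪ K is F-linearly independent
    have hli : LinearIndependent F (fun i : T => ((i : algebraicClosure k K) : K)) := by
      rw [Fintype.linearIndependent_iff]
      intro c hc i
      have := linInd_of_algebraic x hx.1 (fun i : T => (i : algebraicClosure k K)) hT
        (fun i => (c i : K)) (fun i => (c i).2) (by
          rw [← hc]
          refine Finset.sum_congr rfl fun i _ => ?_
          rfl) i
      exact Subtype.ext this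
    have := hli.fintype_card_le_finrank
    simpa using this
  have : Module.rank k (algebraicClosure k K) < Cardinal.aleph0 :=
    lt_of_le_of_lt hrank (Cardinal.natCast_lt_aleph0)
  exact Module.rank_lt_aleph0_iff.1 this

end Groth.Agent.H3Fld
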