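import Mathlib
set_option autoImplicit false
universe u
open IntermediateField Polynomial

namespace Groth.Agent.H3Fld

theorem isPthPower_of_root {K L : Type u} [Field K] [Field L] [Algebra K L]
    (p : ℕ) [Fact p.Prime] [CharP K p] [Algebra.IsSeparable K L] (a : L) (P : Polynomial K)
    (hroot : Polynomial.aeval a P = 0) (hsep : P.Separable)
    (hcoeff : ∀ i : ℕ, ∃ b : K, b ^ p = P.coeff i) :
    ∃ c : L, c ^ p = a := by
  have hp : p.Prime := Fact.out
  have : CharP L p := charP_of_injective_algebraMap (algebraMap K L).injective p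
  have : ExpChar L p := ExpChar.prime hp
  let Ω := AlgebraicClosure L
  have : CharP Ω p := charP_of_injective_algebraMap (algebraMap L Ω).injective p
  choose b hb using hcoeff
  let Q : K[X] := ∑ i ∈ Finset.range (P.natDegree + 1), C (b i) * X ^ i
  have hQP : Q.map (frobenius K p) = P := by
    simp only [Q, Polynomial.map_sum, Polynomial.map_mul, Polynomial.map_C, Polynomial.map_pow,
      Polynomial.map_X, frobenius_def, hb]
    exact P.as_sum_range_C_mul_X_pow.symm
  have hQsep : Q.Separable := by
    rw [← Polynomial.separable_map (frobenius K p), hQP]; exact hsep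
  have hQpow : Q ^ p = expand K p P := by
    rw [← hQP, ← Polynomial.map_expand, Polynomial.map_frobenius_expand]
  obtain ⟨c, hc⟩ := IsAlgClosed.exists_pow_nat_eq (algebraMap L Ω a) hp.pos
  have hQc : aeval c Q = 0 := by
    have h1 : (aeval c Q) ^ p = 0 := by
      rw [← map_pow, hQpow, Polynomial.expand_aeval, hc, Polynomial.aeval_algebraMap_apply, hroot,
        map_zero]
    exact pow_eq_zero_iff hp.ne_zero |>.1 h1
  have hsepc : IsSeparable L c := by
    have h1 : minpoly L c ∣ Q.map (algebraMap K L) := by
      apply minpoly.dvd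
      rw [Polynomial.aeval_map_algebraMap]
      exact hQc
    exact (hQsep.map).of_dvd h1
  have h1 : c ∈ separableClosure L Ω := mem_separableClosure_iff.2 hsepc
  have h2 : c ∈ perfectClosure L Ω := by
    rw [mem_perfectClosure_iff_pow_mem p]
    exact ⟨1, a, by rw [pow_one, hc]⟩
  have h3 : c ∈ (⊥ : IntermediateField L Ω) := by
    rw [← separableClosure_inf_perfectClosure L Ω]
    exact ⟨h1, h2⟩
  rw [IntermediateField.mem_bot] at h3
  obtain ⟨c', rfl⟩ := h3
  refine ⟨c', ?_⟩
  apply (algebraMap L Ω).injective
  rw [map_pow, hc]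

end Groth.Agent.H3Fld
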