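import Mathlib
set_option autoImplicit false
universe u
open IntermediateField Polynomial TensorProduct

namespace Groth.Agent.H3Fld

theorem tensor_bijective {F K L : Type u} [Field F] [Field K] [Field L]
    [Algebra F K] [Algebra F L] [FiniteDimensional F K] [Algebra.IsSeparable F K] [IsAlgClosed L] :
    Function.Bijective (fun x : K ⊗[F] L => fun σ : K →ₐ[F] L =>
      Algebra.TensorProduct.lift σ (AlgHom.id F L) (fun a b => Commute.all (σ a) b) x) := by
  classical
  set n := Module.finrank F K with hn
  let e : Module.Basis (Fin n) F K := Module.finBasis F K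
  have hcard : Fintype.card (K →ₐ[F] L) = n := AlgHom.card F K L
  let eqv : (K →ₐ[F] L) ≃ Fin n := Fintype.equivFinOfCardEq hcard
  let A : Matrix (Fin n) (Fin n) L := Matrix.of fun i j => (eqv.symm i) (e j)
  have hA : IsUnit A := by
    rw [← Matrix.linearIndependent_rows_iff_isUnit, Fintype.linearIndependent_iff]
    intro c hc
    have hded := linearIndependent_toLinearMap F K L
    have hded' : LinearIndependent L (fun i : Fin n => (eqv.symm i).toLinearMap) :=
      hded.comp _ eqv.symm.injective
    rw [Fintype.linearIndependent_iff] at hded'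
    apply hded' c
    apply e.ext
    intro j
    have := congrFun hc j
    simp only [Finset.sum_apply, Pi.smul_apply, Matrix.row_apply, Pi.zero_apply] at this
    rw [LinearMap.sum_apply, LinearMap.zero_apply]
    rw [← this]
    refine Finset.sum_congr rfl fun i _ => ?_
    rfl
  let E₁ := TensorProduct.equivFinsuppOfBasisLeft (N := L) e
  have key : ∀ (x : K ⊗[F] L) (σ : K →ₐ[F] L),
      Algebra.TensorProduct.lift σ (AlgHom.id F L) (fun a b => Commute.all (σ a) b) x
        = ∑ j, σ (e j) * (E₁ x j) := by
    intro x σ
    induction x using TensorProduct.induction_on with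
    | zero => simp
    | tmul k l =>
      rw [Algebra.TensorProduct.lift_tmul]
      have : ∀ j, σ (e j) * (E₁ (k ⊗ₜ[F] l) j) = σ (e.repr k j • e j) * l := by
        intro j
        simp only [E₁]
        rw [TensorProduct.equivFinsuppOfBasisLeft_apply_tmul_apply, map_smul, smul_mul_assoc,
          mul_smul_comm]
      simp only [this]
      rw [← Finset.sum_mul, ← map_sum, e.sum_repr]
      rfl
    | add x y hx hy =>
      rw [map_add, hx, hy, ← Finset.sum_add_distrib]
      refine Finset.sum_congr rfl fun j _ => ?_
      rw [map_add, Finsupp.add_apply, mul_add]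
  have hfun : (fun x : K ⊗[F] L => fun σ : K →ₐ[F] L =>
      Algebra.TensorProduct.lift σ (AlgHom.id F L) (fun a b => Commute.all (σ a) b) x)
      = (fun v : Fin n → L => v ∘ eqv) ∘ A.mulVec ∘ (fun f : Fin n →₀ L => (f : Fin n → L)) ∘ E₁ := by
    funext x σ
    rw [key x σ]
    simp only [Function.comp_apply, Matrix.mulVec, dotProduct, A, Matrix.of_apply,
      Equiv.symm_apply_apply]
  rw [hfun]
  refine Function.Bijective.comp ?_ (Function.Bijective.comp ?_ (Function.Bijective.comp ?_ ?_))
  · exact (Equiv.arrowCongr eqv.symm (Equiv.refl L)).bijective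
  · exact ⟨Matrix.mulVec_injective_iff_isUnit.2 hA, Matrix.mulVec_surjective_iff_isUnit.2 hA⟩
  · exact (Finsupp.equivFunOnFinite (α := Fin n) (M := L)).bijective
  · exact E₁.bijective

end Groth.Agent.H3Fld
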