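import Mathlib
set_option autoImplicit false
universe u
open IntermediateField Polynomial

namespace Groth.Agent.H3Fld

/-- an element outside the base with `p`-th power in the base. -/
theorem exists_pth_root_step {F E : Type u} [Field F] [Field E] [Algebra F E] (p : ℕ)
    [Fact p.Prime] [CharP F p] [IsPurelyInseparable F E]
    (hne : ∃ x : E, x ∉ (algebraMap F E).range) :
    ∃ y : E, y ∉ (algebraMap F E).range ∧ y ^ p ∈ (algebraMap F E).range := by
  classical
  have hp : p.Prime := Fact.out
  have : ExpChar F p := ExpChar.prime hp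
  obtain ⟨x, hx⟩ := hne
  have hex := IsPurelyInseparable.pow_mem F p x
  set m := Nat.find hex with hm
  have hm1 : m ≠ 0 := by
    intro h0
    have := Nat.find_spec hex
    rw [← hm, h0, pow_zero, pow_one] at this
    exact hx this
  refine ⟨x ^ p ^ (m - 1), ?_, ?_⟩
  · exact Nat.find_min hex (by omega : m - 1 < m)
  · rw [← pow_mul, ← pow_succ]
    have : m - 1 + 1 = m := by omega
    rw [this]
    exact Nat.find_spec hex

theorem finrank_adjoin_pth_root {F E : Type u} [Field F] [Field E] [Algebra F E] (p : ℕ)
    [Fact p.Prime] [CharP F p] [FiniteDimensional F E] [IsPurelyInseparable F E]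
    (y : E) (hy : y ∉ (algebraMap F E).range) (hyp : y ^ p ∈ (algebraMap F E).range) :
    Module.finrank F F⟮y⟯ = p := by
  have hp : p.Prime := Fact.out
  have : ExpChar F p := ExpChar.prime hp
  have hpi : IsPurelyInseparable F F⟮y⟯ := IsPurelyInseparable.tower_bot F F⟮y⟯ E
  obtain ⟨k, hk⟩ := IsPurelyInseparable.finrank_eq_pow F F⟮y⟯ p
  have hint : IsIntegral F y := IsIntegral.of_finite F y
  have h1 : Module.finrank F F⟮y⟯ ≠ 1 := by
    intro h
    rw [IntermediateField.finrank_eq_one_iff, IntermediateField.adjoin_simple_eq_bot_iff,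
      IntermediateField.mem_bot] at h
    exact hy h
  have h2 : Module.finrank F F⟮y⟯ ≤ p := by
    rw [IntermediateField.adjoin.finrank hint]
    obtain ⟨c, hc⟩ := hyp
    have hdvd : minpoly F y ∣ (X ^ p - C c : F[X]) := by
      apply minpoly.dvd
      rw [map_sub, map_pow, aeval_X, aeval_C, hc, sub_self]
    have hne0 : (X ^ p - C c : F[X]) ≠ 0 := (monic_X_pow_sub_C c hp.ne_zero).ne_zero
    have := Polynomial.natDegree_le_of_dvd hdvd hne0
    rwa [natDegree_X_pow_sub_C] at this
  rw [hk] at h1 h2 ⊢
  have hk1 : k = 1 := by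
    rcases Nat.lt_or_ge k 2 with h | h
    · interval_cases k
      · exact absurd (pow_zero p) h1
      · rfl
    · exfalso
      have : p ^ 2 ≤ p ^ k := Nat.pow_le_pow_right hp.pos h
      have h3 : p * p ≤ p := by rw [← sq]; exact this.trans h2
      have := hp.one_lt
      nlinarith
  rw [hk1, pow_one]

theorem purelyInseparable_tower_aux (p : ℕ) [Fact p.Prime] : ∀ (d : ℕ) (F E : Type u) [Field F] [Field E]
    [Algebra F E] [CharP F p] [FiniteDimensional F E] [IsPurelyInseparable F E],
    Module.finrank F E = d →
    ∃ (n : ℕ) (a : Fin n → E), adjoin F (Set.range a) = ⊤ ∧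
      (∀ i : Fin n, a i ^ p ∈ adjoin F (a '' {j | j < i}) ∧ a i ∉ adjoin F (a '' {j | j < i})) ∧
      Module.finrank F E = p ^ n := by
  intro d
  induction d using Nat.strong_induction_on with
  | _ d ih =>
  intro F E _ _ _ _ _ _ hd
  have hp : p.Prime := Fact.out
  by_cases hne : ∃ x : E, x ∉ (algebraMap F E).range
  · obtain ⟨y, hy, hyp⟩ := exists_pth_root_step p hne
    have hfr := finrank_adjoin_pth_root p y hy hyp
    have hmul := Module.finrank_mul_finrank F F⟮y⟯ E
    have hpos : 0 < Module.finrank F⟮y⟯ E := Module.finrank_pos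
    have hlt : Module.finrank F⟮y⟯ E < d := by
      rw [← hd, ← hmul, hfr]
      have := hp.one_lt
      nlinarith
    have : CharP F⟮y⟯ p := charP_of_injective_algebraMap (algebraMap F F⟮y⟯).injective p
    have : IsPurelyInseparable F⟮y⟯ E := IsPurelyInseparable.tower_top F F⟮y⟯ E
    obtain ⟨n', b, hb1, hb2, hb3⟩ := ih _ hlt F⟮y⟯ E rfl
    have hmem : ∀ (T : Set E) (z : E), z ∈ adjoin F ({y} ∪ T) ↔ z ∈ adjoin F⟮y⟯ T := by
      intro T z
      rw [← IntermediateField.adjoin_adjoin_left F {y} T, IntermediateField.mem_restrictScalars]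
    refine ⟨n' + 1, Fin.cons y b, ?_, ?_, ?_⟩
    · rw [eq_top_iff]
      intro z _
      have hrange : Set.range (Fin.cons y b : Fin (n' + 1) → E) = {y} ∪ Set.range b := by
        ext w
        simp only [Set.mem_range, Set.mem_union, Set.mem_singleton_iff]
        constructor
        · rintro ⟨i, rfl⟩
          refine Fin.cases ?_ (fun j => ?_) i
          · left; rfl
          · right; exact ⟨j, by simp⟩
        · rintro (rfl | ⟨j, rfl⟩)
          · exact ⟨0, rfl⟩
          · exact ⟨j.succ, by simp⟩
      rw [hrange, hmem, hb1]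
      trivial
    · intro i
      refine Fin.cases ?_ (fun j => ?_) i
      · have hempty : (Fin.cons y b : Fin (n' + 1) → E) '' {j | j < 0} = ∅ := by
          rw [Set.image_eq_empty]
          ext j
          simp
        rw [hempty, IntermediateField.adjoin_empty, Fin.cons_zero]
        constructor
        · rw [IntermediateField.mem_bot]; exact hyp
        · rw [IntermediateField.mem_bot]; exact hy
      · have himg : (Fin.cons y b : Fin (n' + 1) → E) '' {l | l < j.succ}
            = {y} ∪ b '' {l | l < j} := by
          ext w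
          simp only [Set.mem_image, Set.mem_ofPred_eq, Set.mem_union, Set.mem_singleton_iff]
          constructor
          · rintro ⟨l, hl, rfl⟩
            revert hl
            refine Fin.cases ?_ (fun l' => ?_) l
            · intro _; left; rfl
            · intro hl
              right
              exact ⟨l', Fin.succ_lt_succ_iff.1 hl, by simp⟩
          · rintro (rfl | ⟨l', hl', rfl⟩)
            · exact ⟨0, Fin.succ_pos j, rfl⟩
            · exact ⟨l'.succ, Fin.succ_lt_succ_iff.2 hl', by simp⟩
        rw [himg, Fin.cons_succ, hmem, hmem]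
        exact hb2 j
    · rw [← hmul, hfr, hb3, pow_succ, mul_comm]
  · push Not at hne
    refine ⟨0, Fin.elim0, ?_, fun i => i.elim0, ?_⟩
    · rw [eq_top_iff]
      intro z _
      obtain ⟨c, rfl⟩ := hne z
      exact IntermediateField.algebraMap_mem _ c
    · rw [pow_zero]
      have : (⊥ : Subalgebra F E) = ⊤ := by
        rw [eq_top_iff]
        intro z _
        obtain ⟨c, rfl⟩ := hne z
        exact Subalgebra.algebraMap_mem _ c
      exact Subalgebra.bot_eq_top_iff_finrank_eq_one.1 this

theorem purelyInseparable_tower {F E : Type u} [Field F] [Field E] [Algebra F E] (p : ℕ)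
    [Fact p.Prime] [CharP F p] [FiniteDimensional F E] [IsPurelyInseparable F E] :
    ∃ (n : ℕ) (a : Fin n → E), adjoin F (Set.range a) = ⊤ ∧
      (∀ i : Fin n, a i ^ p ∈ adjoin F (a '' {j | j < i}) ∧ a i ∉ adjoin F (a '' {j | j < i})) ∧
      Module.finrank F E = p ^ n :=
  purelyInseparable_tower_aux p _ F E rfl

end Groth.Agent.H3Fld
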