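import Mathlib
set_option autoImplicit false
universe u
open IntermediateField Polynomial

namespace Groth.Agent.H3Fld

/-- degree bound: if `a ^ d` lies in `M` and `M⟮a⟯ = ⊤` then `[L : M] ≤ d`. -/
theorem finrank_le_of_pow_mem {K L : Type u} [Field K] [Field L] [Algebra K L]
    [FiniteDimensional K L] (a : L) (ha : K⟮a⟯ = ⊤) (M : IntermediateField K L) (d : ℕ)
    (hd : 0 < d) (hM : a ^ d ∈ M) : Module.finrank M L ≤ d := by
  have htop : M⟮a⟯ = ⊤ := by
    rw [eq_top_iff]
    intro y _
    have hy : y ∈ K⟮a⟯ := by rw [ha]; trivial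
    have hle : K⟮a⟯ ≤ (M⟮a⟯).restrictScalars K := by
      rw [IntermediateField.adjoin_le_iff]
      intro z hz
      exact IntermediateField.subset_adjoin M _ hz
    exact hle hy
  have hint : IsIntegral M a := IsIntegral.of_finite M a
  have h1 : Module.finrank M L = (minpoly M a).natDegree := by
    rw [← IntermediateField.adjoin.finrank hint, htop, IntermediateField.finrank_top']
  rw [h1]
  have hdvd : minpoly M a ∣ (X ^ d - C (⟨a ^ d, hM⟩ : M) : M[X]) := by
    apply minpoly.dvd
    rw [map_sub, map_pow, aeval_X, aeval_C]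
    exact sub_self _
  have hne0 : (X ^ d - C (⟨a ^ d, hM⟩ : M) : M[X]) ≠ 0 := (monic_X_pow_sub_C _ hd.ne').ne_zero
  have := Polynomial.natDegree_le_of_dvd hdvd hne0
  rwa [natDegree_X_pow_sub_C] at this

theorem kummer_intermediate {K L : Type u} [Field K] [Field L] [Algebra K L]
    [FiniteDimensional K L] (a : L) (ha : K⟮a⟯ = ⊤)
    (hpow : a ^ Module.finrank K L ∈ Set.range (algebraMap K L))
    (hroots : (X ^ Module.finrank K L - 1 : K[X]).Splits) (L' : IntermediateField K L) :
    ∃ d : ℕ, d ∣ Module.finrank K L ∧ L' = K⟮a ^ d⟯ := by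
  set e := Module.finrank K L with he
  have he0 : 0 < e := Module.finrank_pos
  by_cases ha0 : a = 0
  · refine ⟨1, one_dvd _, ?_⟩
    have hbt : (⊥ : IntermediateField K L) = ⊤ := by
      rw [← ha, ha0, eq_comm, IntermediateField.adjoin_simple_eq_bot_iff]
      exact zero_mem _
    have h1 : L' = ⊤ := by rw [eq_top_iff, ← hbt]; exact bot_le
    have h2 : K⟮a ^ 1⟯ = ⊤ := by rw [pow_one]; exact ha
    rw [h1, h2]
  set d := Module.finrank L' L with hd
  have hd0 : 0 < d := Module.finrank_pos
  have hmul : Module.finrank K L' * d = e := Module.finrank_mul_finrank K L' L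
  refine ⟨d, ⟨Module.finrank K L', by rw [← hmul, mul_comm]⟩, ?_⟩
  -- a ^ d ∈ L'
  obtain ⟨c, hc⟩ := hpow
  have hnorm : (algebraMap L' L (Algebra.norm L' a)) ^ e = (a ^ d) ^ e := by
    rw [← map_pow, ← map_pow (Algebra.norm L')]
    have h1 : a ^ e = algebraMap L' L (algebraMap K L' c) := by
      rw [← hc]; rfl
    rw [h1, Algebra.norm_algebraMap, map_pow, ← h1, ← pow_mul, ← pow_mul, mul_comm]
  have had0 : a ^ d ≠ 0 := pow_ne_zero _ ha0
  set ζ : L := algebraMap L' L (Algebra.norm L' a) / a ^ d with hζ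
  have hζe : ζ ^ e = 1 := by
    rw [hζ, div_pow, hnorm, div_self (pow_ne_zero _ had0)]
  have hζK : ζ ∈ (algebraMap K L).range := by
    apply Splits.mem_range_of_isRoot hroots (monic_X_pow_sub_C (1 : K) he0.ne').ne_zero
    rw [Polynomial.IsRoot, Polynomial.eval_map, Polynomial.eval₂_sub, Polynomial.eval₂_pow,
      Polynomial.eval₂_X, Polynomial.eval₂_one, hζe, sub_self]
  have hζ0 : ζ ≠ 0 := by
    intro h
    rw [h, zero_pow he0.ne'] at hζe
    exact zero_ne_one hζe
  have hadL' : a ^ d ∈ L' := by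
    have hn0 : algebraMap L' L (Algebra.norm L' a) ≠ 0 := by
      intro h
      have : Algebra.norm L' a = 0 := by
        apply (algebraMap L' L).injective
        rw [h, map_zero]
      rw [Algebra.norm_eq_zero_iff] at this
      exact ha0 this
    have h1 : a ^ d = algebraMap L' L (Algebra.norm L' a) / ζ := by
      rw [hζ]
      field_simp
    rw [h1]
    apply div_mem (SetLike.coe_mem _)
    obtain ⟨z, hz⟩ := hζK
    rw [← hz]
    exact L'.algebraMap_mem z
  have hle : K⟮a ^ d⟯ ≤ L' := by
    rw [IntermediateField.adjoin_simple_le_iff]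
    exact hadL'
  symm
  apply IntermediateField.eq_of_le_of_finrank_le hle
  have hbound := finrank_le_of_pow_mem a ha K⟮a ^ d⟯ d hd0
    (IntermediateField.mem_adjoin_simple_self K _)
  have hmul2 : Module.finrank K K⟮a ^ d⟯ * Module.finrank K⟮a ^ d⟯ L = e :=
    Module.finrank_mul_finrank K K⟮a ^ d⟯ L
  have hpos2 : 0 < Module.finrank K⟮a ^ d⟯ L := Module.finrank_pos
  -- finrank K L' * d = finrank K M * finrank M L ≤ finrank K M * d
  have : Module.finrank K L' * d ≤ Module.finrank K K⟮a ^ d⟯ * d := by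
    rw [hmul, ← hmul2]
    exact Nat.mul_le_mul_left _ hbound
  exact Nat.le_of_mul_le_mul_right this hd0

end Groth.Agent.H3Fld
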