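import Mathlib
set_option autoImplicit false
universe u
open IntermediateField Polynomial
open scoped TensorProduct

namespace Groth.Agent.H3Fld

theorem exists_surjective_tensorPower {K L M : Type u} [Field K] [Field L] [Field M]
    [Algebra K L] [Algebra K M] [Algebra L M] [IsScalarTower K L M] [FiniteDimensional K L]
    [IsNormalClosure K L M] :
    ∃ f : (⨂[K] _ : Fin (Field.finSepDegree K L), L) →ₐ[K] M, Function.Surjective f := by
  classical
  have hnc := (Algebra.IsAlgebraic.isNormalClosure_iff (F := K) (K := L) (L := M)).1 inferInstance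
  obtain ⟨hsplit, htop⟩ := hnc
  have hnormal : Normal K M := IsNormalClosure.normal (K := L)
  have hcard : Nat.card (L →ₐ[K] M) = Field.finSepDegree K L := by
    rw [Field.finSepDegree_eq_of_isAlgClosed K L (AlgebraicClosure M)]
    exact Nat.card_congr (Algebra.IsAlgebraic.algHomEquivAlgHomOfSplits (AlgebraicClosure M) M hsplit)
  have : Finite (L →ₐ[K] M) := inferInstance
  let e : (L →ₐ[K] M) ≃ Fin (Field.finSepDegree K L) := Finite.equivFinOfCardEq hcard
  let mm : MultilinearMap K (fun _ : Fin (Field.finSepDegree K L) => L) M :=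
    (MultilinearMap.mkPiAlgebra K (Fin (Field.finSepDegree K L)) M).compLinearMap
      (fun i => (e.symm i).toLinearMap)
  have hmm : ∀ x : Fin (Field.finSepDegree K L) → L, mm x = ∏ i, (e.symm i) (x i) := by
    intro x
    simp [mm]
  let f : (⨂[K] _ : Fin (Field.finSepDegree K L), L) →ₐ[K] M :=
    PiTensorProduct.liftAlgHom mm (by rw [hmm]; simp) (by
      intro x y
      rw [hmm, hmm, hmm, ← Finset.prod_mul_distrib]
      refine Finset.prod_congr rfl fun i _ => ?_
      rw [Pi.mul_apply, map_mul])
  refine ⟨f, ?_⟩
  have hsingle : ∀ (i : Fin (Field.finSepDegree K L)) (x : L),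
      f (PiTensorProduct.singleAlgHom (R := K) (A := fun _ : Fin (Field.finSepDegree K L) => L) i x)
        = (e.symm i) x := by
    intro i x
    simp only [f, PiTensorProduct.singleAlgHom_apply, PiTensorProduct.liftAlgHom_apply,
      PiTensorProduct.lift.tprod]
    rw [hmm]
    rw [Finset.prod_eq_single i]
    · simp
    · intro j _ hji
      rw [MonoidHom.mulSingle_apply, Pi.mulSingle_eq_of_ne hji, map_one]
    · intro h; exact absurd (Finset.mem_univ i) h
  let F' : IntermediateField K M := f.range.toIntermediateField (fun x hx => by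
    have := Subalgebra.inv_mem_of_algebraic (A := f.range) (x := ⟨x, hx⟩)
      (Algebra.IsAlgebraic.isAlgebraic (R := K) x)
    exact this)
  have hF' : (⊤ : IntermediateField K M) ≤ F' := by
    rw [← htop, normalClosure_le_iff]
    intro g y hy
    obtain ⟨x, rfl⟩ := hy
    refine ⟨PiTensorProduct.singleAlgHom (R := K)
      (A := fun _ : Fin (Field.finSepDegree K L) => L) (e g) x, ?_⟩
    have := hsingle (e g) x
    rw [Equiv.symm_apply_apply] at this
    exact this
  intro m
  have : m ∈ F' := hF' trivial
  exact this

end Groth.Agent.H3Fld
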