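import Mathlib
import Groth.Agent.Lib.helper3.FmA
import Groth.Agent.Lib.helper3.FlH

set_option autoImplicit false
universe u v w x

namespace Groth.Agent.H3LocCrit

open TensorProduct Function

/-- flatness modulo the contraction of an ideal `K` of `A'`, from flatness modulo `m`, flatness
after base change to `A'` and `mᵏ ≤ φ⁻¹ K` -/
theorem flat_mod_comap_of_flat_baseChange (A A' : Type u) [CommRing A] [CommRing A'] [Algebra A A']
    (m : Ideal A) (K : Ideal A') (k : ℕ) (hk : m ^ k ≤ K.comap (algebraMap A A'))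
    (B : Type u) [AddCommGroup B] [Module A B] [Module.Flat (A ⧸ m) ((A ⧸ m) ⊗[A] B)]
    [Module.Flat A' (A' ⊗[A] B)] :
    Module.Flat (A ⧸ K.comap (algebraMap A A')) ((A ⧸ K.comap (algebraMap A A')) ⊗[A] B) := by
  obtain ⟨𝔞, h𝔞⟩ : ∃ 𝔞 : Ideal A, 𝔞 = K.comap (algebraMap A A') := ⟨_, rfl⟩
  rw [← h𝔞] at hk ⊢
  have hle : 𝔞 ≤ K.comap (algebraMap A A') := h𝔞.le
  letI : Algebra (A ⧸ 𝔞) (A' ⧸ K) := (Ideal.quotientMap K (algebraMap A A') hle).toAlgebra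
  haveI : IsScalarTower A (A ⧸ 𝔞) (A' ⧸ K) := IsScalarTower.of_algebraMap_eq (fun r => rfl)
  have hinj : Injective (algebraMap (A ⧸ 𝔞) (A' ⧸ K)) := by
    apply Ideal.quotientMap_injective'
    exact h𝔞.ge
  obtain ⟨J, hJdef⟩ : ∃ J : Ideal (A ⧸ 𝔞), J = m.map (algebraMap A (A ⧸ 𝔞)) := ⟨_, rfl⟩
  have hJ : IsNilpotent J := by
    refine ⟨k, ?_⟩
    rw [hJdef, ← Ideal.map_pow]
    exact Ideal.map_mk_eq_bot_of_le hk
  have hIJ : m ≤ J.comap (algebraMap A (A ⧸ 𝔞)) := by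
    rw [hJdef]; exact Ideal.le_comap_map
  letI : Algebra (A ⧸ m) ((A ⧸ 𝔞) ⧸ J) :=
    (Ideal.quotientMap J (algebraMap A (A ⧸ 𝔞)) hIJ).toAlgebra
  haveI : IsScalarTower A (A ⧸ m) ((A ⧸ 𝔞) ⧸ J) := IsScalarTower.of_algebraMap_eq (fun r => rfl)
  haveI : Module.Flat ((A ⧸ 𝔞) ⧸ J) (((A ⧸ 𝔞) ⧸ J) ⊗[A ⧸ 𝔞] ((A ⧸ 𝔞) ⊗[A] B)) := by
    let e1 := AlgebraTensorModule.cancelBaseChange A (A ⧸ m) ((A ⧸ 𝔞) ⧸ J) ((A ⧸ 𝔞) ⧸ J) B
    let e2 := AlgebraTensorModule.cancelBaseChange A (A ⧸ 𝔞) ((A ⧸ 𝔞) ⧸ J) ((A ⧸ 𝔞) ⧸ J) B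
    exact Module.Flat.of_linearEquiv (e2.trans e1.symm)
  haveI : Module.Flat (A' ⧸ K) ((A' ⧸ K) ⊗[A ⧸ 𝔞] ((A ⧸ 𝔞) ⊗[A] B)) := by
    let e3 := AlgebraTensorModule.cancelBaseChange A (A ⧸ 𝔞) (A' ⧸ K) (A' ⧸ K) B
    let e4 := AlgebraTensorModule.cancelBaseChange A A' (A' ⧸ K) (A' ⧸ K) B
    exact Module.Flat.of_linearEquiv (e3.trans e4.symm)
  exact main6352 (A ⧸ 𝔞) (A' ⧸ K) hinj J hJ ((A ⧸ 𝔞) ⊗[A] B)

/-- flatness modulo a larger ideal -/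
theorem flat_mod_of_le {A : Type u} [CommRing A] (𝔞 L : Ideal A) (h : 𝔞 ≤ L)
    (B : Type v) [AddCommGroup B] [Module A B] [Module.Flat (A ⧸ 𝔞) ((A ⧸ 𝔞) ⊗[A] B)] :
    Module.Flat (A ⧸ L) ((A ⧸ L) ⊗[A] B) := by
  letI : Algebra (A ⧸ 𝔞) (A ⧸ L) := (Ideal.Quotient.factor h).toAlgebra
  haveI : IsScalarTower A (A ⧸ 𝔞) (A ⧸ L) := IsScalarTower.of_algebraMap_eq (fun r => rfl)
  exact Module.Flat.of_linearEquiv
    (AlgebraTensorModule.cancelBaseChange A (A ⧸ 𝔞) (A ⧸ L) (A ⧸ L) B).symm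

theorem main12419 (A B A' : Type u) [CommRing A] [CommRing B]
    [CommRing A'] [IsNoetherianRing A] [IsLocalRing A] [IsNoetherianRing B] [IsLocalRing B]
    [Algebra A B] [IsLocalHom (algebraMap A B)]
    [Algebra A A']
    (hrad : (Ideal.jacobson (⊥ : Ideal A')).comap (algebraMap A A') = IsLocalRing.maximalIdeal A)
    (htop : ∀ n : ℕ, ∃ N : ℕ,
      ((Ideal.jacobson (⊥ : Ideal A')) ^ N).comap (algebraMap A A') ≤
        (IsLocalRing.maximalIdeal A) ^ n) :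
    Module.Flat A B ↔ Module.Flat A' (A' ⊗[A] B) := by
  constructor
  · intro h
    infer_instance
  · intro h
    have h4 : (IsLocalRing.maximalIdeal A).map (algebraMap A B) ≤ IsLocalRing.maximalIdeal B :=
      ((IsLocalRing.local_hom_TFAE (algebraMap A B)).out 0 2).mp ‹_›
    have hJ : (IsLocalRing.maximalIdeal A).map (algebraMap A B) ≤ Ideal.jacobson ⊥ :=
      h4.trans (IsLocalRing.maximalIdeal_le_jacobson ⊥)
    apply flat_of_flat_mod_pow_jac B (IsLocalRing.maximalIdeal A) hJ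
    intro n _
    obtain ⟨N, hN⟩ := htop n
    have hk : (IsLocalRing.maximalIdeal A) ^ N ≤
        ((Ideal.jacobson (⊥ : Ideal A')) ^ N).comap (algebraMap A A') := by
      rw [← Ideal.map_le_iff_le_comap, Ideal.map_pow]
      apply Ideal.pow_right_mono
      rw [Ideal.map_le_iff_le_comap, hrad]
    letI : Field (A ⧸ IsLocalRing.maximalIdeal A) := Ideal.Quotient.field _
    haveI : Module.Flat (A ⧸ IsLocalRing.maximalIdeal A)
      ((A ⧸ IsLocalRing.maximalIdeal A) ⊗[A] B) := inferInstance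
    haveI := flat_mod_comap_of_flat_baseChange A A' (IsLocalRing.maximalIdeal A)
      ((Ideal.jacobson (⊥ : Ideal A')) ^ N) N hk B
    exact flat_mod_of_le _ _ hN B

end Groth.Agent.H3LocCrit
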