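import Mathlib
import Groth.Agent.Lib.helper3.FlK

set_option autoImplicit false
universe u v w x

namespace Groth.Agent.H3LocCrit

open TensorProduct Function

section F1

variable {R : Type u} {S : Type v} [CommRing R] [CommRing S] [Algebra R S]
  (S' : Type w) [AddCommGroup S'] [Module S S'] [Module R S'] [IsScalarTower R S S']
  (M : Type x) [AddCommGroup M] [Module S M] [Module R M] [IsScalarTower R S M]

/-- `S' ⊗[S] M` is `R`-flat when `M` is `R`-flat and `S'` is `S`-flat -/
theorem flat_tensor_of_flat_of_flat [Module.Flat R M] [Module.Flat S S'] :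
    Module.Flat R (S' ⊗[S] M) := by
  rw [Module.Flat.iff_lTensor_injective']
  intro 𝔞
  have h1 : Injective (AlgebraTensorModule.lTensor S M 𝔞.subtype) :=
    Module.Flat.lTensor_preserves_injective_linearMap (M := M) 𝔞.subtype 𝔞.subtype_injective
  have h2 : Injective ((AlgebraTensorModule.lTensor S M 𝔞.subtype).lTensor S') :=
    Module.Flat.lTensor_preserves_injective_linearMap _ h1
  have hcomm : ∀ t : (S' ⊗[S] M) ⊗[R] 𝔞,
      AlgebraTensorModule.assoc R S S S' M R ((𝔞.subtype.lTensor (S' ⊗[S] M)) t)
        = ((AlgebraTensorModule.lTensor S M 𝔞.subtype).lTensor S')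
          (AlgebraTensorModule.assoc R S S S' M 𝔞 t) := by
    intro t
    induction t using TensorProduct.induction_on with
    | zero => simp
    | add a b ha hb => simp only [map_add, ha, hb]
    | tmul y a =>
      induction y using TensorProduct.induction_on with
      | zero => simp
      | add y z hy hz => simp only [add_tmul, map_add, hy, hz]
      | tmul s m => simp
  rw [injective_iff_map_eq_zero]
  intro t ht
  have h3 := hcomm t
  rw [ht, map_zero] at h3
  have h4 : AlgebraTensorModule.assoc R S S S' M 𝔞 t = 0 := h2 (by rw [← h3, map_zero])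
  exact (AlgebraTensorModule.assoc R S S S' M 𝔞).injective (by rw [h4, map_zero])

end F1

end Groth.Agent.H3LocCrit
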