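import Mathlib
import Groth.Agent.Lib.helper3.FmE

set_option autoImplicit false
universe u v w x

namespace Groth.Agent.H3LocCrit

open TensorProduct Function

theorem main6382 (R S R' S' : Type u) [CommRing R] [CommRing S]
    [CommRing R'] [CommRing S'] [IsLocalRing R'] [IsLocalRing S']
    [Algebra R S] [Algebra R R'] [Algebra S S'] [Algebra R' S'] [Algebra R S']
    [IsScalarTower R S S'] [IsScalarTower R R' S']
    [IsLocalHom (algebraMap R' S')] [Module.Flat S S']
    [IsNoetherianRing R'] [IsNoetherianRing S']
    (𝔪 : Ideal R)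
    (hm : 𝔪.map (algebraMap R R') = IsLocalRing.maximalIdeal R')
    (M : Type u) [AddCommGroup M] [Module S M] [Module R M] [IsScalarTower R S M] [Module.Finite S M]
    [Module.Flat R M]
    (M' : Type u) [AddCommGroup M'] [Module S' M'] [Module S M'] [IsScalarTower S S' M']
    [Module R' M']
    [IsScalarTower R' S' M'] (j : M →ₗ[S] M') (hj : IsBaseChange S' j) :
    Module.Flat R' M' := by
  letI : Module R M' := Module.compHom M' (algebraMap R S')
  haveI : IsScalarTower R S' M' := IsScalarTower.of_algebraMap_smul (fun r x => rfl)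
  haveI : IsScalarTower R S M' := IsScalarTower.of_algebraMap_smul (fun r x => by
    rw [← algebraMap_smul S' (algebraMap R S r) x, ← IsScalarTower.algebraMap_apply R S S']
    rfl)
  haveI : IsScalarTower R R' M' := IsScalarTower.of_algebraMap_smul (fun r x => by
    rw [← algebraMap_smul S' (algebraMap R R' r) x, ← IsScalarTower.algebraMap_apply R R' S']
    rfl)
  haveI : Module.Flat R (S' ⊗[S] M) := flat_tensor_of_flat_of_flat S' M
  haveI : Module.Flat R M' := Module.Flat.of_linearEquiv (hj.equiv.symm.restrictScalars R)
  haveI : Module.Finite S' M' := Module.Finite.equiv hj.equiv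
  have htor := rTensor_map_injective (R := R) (S := R') (M := M') 𝔪
  rw [hm] at htor
  letI : Field (R' ⧸ IsLocalRing.maximalIdeal R') := Ideal.Quotient.field _
  haveI : Module.Flat (R' ⧸ IsLocalRing.maximalIdeal R')
    ((R' ⧸ IsLocalRing.maximalIdeal R') ⊗[R'] M') := inferInstance
  exact flat_of_local_criterion (R := R') S' (IsLocalRing.maximalIdeal R')
    (IsLocalRing.maximalIdeal.isMaximal R').ne_top htor

end Groth.Agent.H3LocCrit
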