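import Mathlib
import Groth.Agent.Lib.helper3.FmD
import Groth.Agent.Lib.helper3.FlL

set_option autoImplicit false
universe u v w x

namespace Groth.Agent.H3LocCrit

open TensorProduct Function

section sep

/-- flatness from flatness modulo all powers for an ideally separated module -/
theorem flat_of_mapQ_injective_sep {R : Type u} {M : Type u} [CommRing R]
    [IsNoetherianRing R] [AddCommGroup M] [Module R M] (I : Ideal R)
    (hsep : ∀ a : Ideal R, IsHausdorff I (↥a ⊗[R] M))
    (H : ∀ (𝔞 : Ideal R) (n : ℕ), Injective ((Submodule.mapQ (Submodule.comap 𝔞.subtype (I ^ n))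
      (I ^ n) 𝔞.subtype le_rfl).lTensor M)) : Module.Flat R M := by
  rw [Module.Flat.iff_lTensor_injective']
  intro 𝔞
  rw [injective_iff_map_eq_zero]
  intro x hx
  obtain ⟨c, hc⟩ := Ideal.exists_pow_inf_eq_pow_smul I (𝔞 : Submodule R R)
  have hmem : ∀ k : ℕ, x ∈ I ^ k • (⊤ : Submodule R (M ⊗[R] 𝔞)) := by
    intro k
    have h2 := mem_range_of_lTensor_subtype_eq_zero' I 𝔞 (k + c) (H 𝔞 (k + c)) x hx
    refine range_lTensor_le_smul_top 𝔞 (I ^ k) _ ?_ h2
    intro b hb
    have h3 : (b : R) ∈ I ^ (k + c) • (⊤ : Submodule R R) ⊓ 𝔞 := by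
      refine ⟨?_, b.2⟩
      rw [smul_eq_mul, Ideal.mul_top]
      exact hb
    rw [hc (k + c) (by omega), Nat.add_sub_cancel] at h3
    exact Submodule.smul_mono le_rfl inf_le_right h3
  have hy : TensorProduct.comm R M 𝔞 x = 0 := by
    apply (hsep 𝔞).haus'
    intro k
    rw [SModEq.zero]
    refine Submodule.smul_induction_on (hmem k) ?_ ?_
    · intro r hr y _
      rw [map_smul]
      exact Submodule.smul_mem_smul hr trivial
    · intro y z hy hz
      rw [map_add]
      exact Submodule.add_mem _ hy hz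
  exact (TensorProduct.comm R M 𝔞).injective (by rw [hy, map_zero])

theorem flat_of_flat_mod_pow_sep {R : Type u} {M : Type u} [CommRing R]
    [IsNoetherianRing R] [AddCommGroup M] [Module R M] (I : Ideal R)
    (hsep : ∀ a : Ideal R, IsHausdorff I (↥a ⊗[R] M))
    (h : ∀ n : ℕ, 0 < n → Module.Flat (R ⧸ I ^ n) ((R ⧸ I ^ n) ⊗[R] M)) : Module.Flat R M := by
  apply flat_of_mapQ_injective_sep I hsep
  intro 𝔞 n
  rcases Nat.eq_zero_or_pos n with hn | hn
  · have hz : ∀ y : 𝔞 ⧸ Submodule.comap 𝔞.subtype (I ^ n), y = 0 := by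
      intro y
      obtain ⟨a, rfl⟩ := Submodule.mkQ_surjective _ y
      rw [Submodule.mkQ_apply, Submodule.Quotient.mk_eq_zero, Submodule.mem_comap, hn, pow_zero,
        Ideal.one_eq_top]
      trivial
    have hz' : ∀ t : M ⊗[R] (𝔞 ⧸ Submodule.comap 𝔞.subtype (I ^ n)), t = 0 := by
      intro t
      induction t using TensorProduct.induction_on with
      | zero => rfl
      | tmul m y => rw [hz y, tmul_zero]
      | add a b ha hb => rw [ha, hb, add_zero]
    intro a b _
    rw [hz' a, hz' b]
  · haveI := h n hn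
    exact mapQ_lTensor_injective_of_flat (I ^ n) 𝔞

end sep

section piloc

variable {A : Type u} [CommRing A] {ι : Type v} [Finite ι] (p : ι → Ideal A) [∀ i, (p i).IsPrime]
  (M : Type u) [AddCommGroup M] [Module A M]

theorem flat_pi_localization
    (h : ∀ i, Module.Flat (Localization.AtPrime (p i)) (LocalizedModule (p i).primeCompl M)) :
    Module.Flat (Π i, Localization.AtPrime (p i)) ((Π i, Localization.AtPrime (p i)) ⊗[A] M) := by
  letI : ∀ i : ι, Algebra (Π i, Localization.AtPrime (p i)) (Localization.AtPrime (p i)) :=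
    fun i => (Pi.evalRingHom (fun i : ι => Localization.AtPrime (p i)) i).toAlgebra
  haveI : ∀ i : ι, IsScalarTower A (Π i, Localization.AtPrime (p i)) (Localization.AtPrime (p i)) :=
    fun i => IsScalarTower.of_algebraMap_eq (fun a => rfl)
  refine flat_pi (fun i : ι => Localization.AtPrime (p i)) _ (fun i => rfl) ?_
  intro i
  haveI : Module.Flat (Localization.AtPrime (p i)) (LocalizedModule (p i).primeCompl M) := h i
  haveI : Module.Flat (Localization.AtPrime (p i)) (Localization.AtPrime (p i) ⊗[A] M) :=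
    Module.Flat.of_linearEquiv (LocalizedModule.isBaseChange (p i).primeCompl M).equiv
  exact Module.Flat.of_linearEquiv (AlgebraTensorModule.cancelBaseChange A
    (Π i, Localization.AtPrime (p i)) (Localization.AtPrime (p i))
    (Localization.AtPrime (p i)) M)

end piloc

end Groth.Agent.H3LocCrit
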