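import Mathlib
import Groth.Agent.Lib.helper3.FmG

set_option autoImplicit false
universe u v w x

namespace Groth.Agent.H3LocCrit

open TensorProduct Function

theorem main5911 {A : Type u} [CommRing A] [IsNoetherianRing A]
    (J : Ideal A) (M : Type u) [AddCommGroup M] [Module A M]
    (hsep : ∀ a : Ideal A, IsHausdorff J (↥a ⊗[A] M))
    {r : ℕ} (p : Fin r → Ideal A) [∀ i, (p i).IsPrime] (hp : ∀ i, J ≤ p i)
    (htop : ∀ n : ℕ, ∃ m : ℕ,
      ⨅ i, Ideal.comap (algebraMap A (Localization.AtPrime (p i)))
        (IsLocalRing.maximalIdeal (Localization.AtPrime (p i)) ^ m) ≤ J ^ n) :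
    Module.Flat A M ↔
      Module.Flat (A ⧸ J) ((A ⧸ J) ⊗[A] M) ∧
        ∀ i, Module.Flat (Localization.AtPrime (p i)) (LocalizedModule (p i).primeCompl M) := by
  constructor
  · intro h
    exact ⟨inferInstance, fun i => inferInstance⟩
  · rintro ⟨h1, h2⟩
    apply flat_of_flat_mod_pow_sep J hsep
    intro n _
    obtain ⟨m, hm⟩ := htop n
    haveI := flat_pi_localization p M h2
    obtain ⟨K, hK⟩ : ∃ K : Ideal (Π i, Localization.AtPrime (p i)),
      K = Ideal.pi (fun i => IsLocalRing.maximalIdeal (Localization.AtPrime (p i)) ^ m) := ⟨_, rfl⟩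
    have hcomap : K.comap (algebraMap A (Π i, Localization.AtPrime (p i))) =
        ⨅ i, Ideal.comap (algebraMap A (Localization.AtPrime (p i)))
          (IsLocalRing.maximalIdeal (Localization.AtPrime (p i)) ^ m) := by
      ext x
      rw [Ideal.mem_comap, hK, Ideal.mem_pi, Ideal.mem_iInf]
      rfl
    have hk : J ^ m ≤ K.comap (algebraMap A (Π i, Localization.AtPrime (p i))) := by
      rw [hcomap]
      refine le_iInf (fun i => ?_)
      rw [← Ideal.map_le_iff_le_comap, Ideal.map_pow]
      apply Ideal.pow_right_mono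
      rw [← Localization.AtPrime.map_eq_maximalIdeal]
      exact Ideal.map_mono (hp i)
    haveI := flat_mod_comap_of_flat_baseChange A (Π i, Localization.AtPrime (p i)) J K m hk M
    rw [← hcomap] at hm
    exact flat_mod_of_le _ _ hm M

end Groth.Agent.H3LocCrit
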