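import Mathlib

set_option autoImplicit false
universe u

namespace Groth.Agent.H3Fpj

theorem main4552 {A : Type u} [CommRing A] (𝔞 : Ideal A) (M : Type u)
    [AddCommGroup M] [Module A M] :
    (∀ (n : ℕ) (P Q : Type u) [AddCommGroup P] [Module A P] [AddCommGroup Q] [Module A Q],
      (∀ a ∈ 𝔞 ^ n, ∀ y : P, a • y = 0) → (∀ a ∈ 𝔞 ^ n, ∀ y : Q, a • y = 0) →
      ∀ f : P →ₗ[A] Q, Function.Surjective f → ∀ v : M →ₗ[A] Q, ∃ w : M →ₗ[A] P, f ∘ₗ w = v) ↔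
    ∀ n : ℕ, Module.Projective (A ⧸ 𝔞 ^ n) (M ⧸ (𝔞 ^ n • ⊤ : Submodule A M)) := by
  constructor
  · intro h n
    have hsurj : Function.Surjective (algebraMap A (A ⧸ 𝔞 ^ n)) := Ideal.Quotient.mk_surjective
    apply Module.Projective.of_lifting_property''
    intro f hf
    have hP : ∀ a ∈ 𝔞 ^ n, ∀ y : ((M ⧸ (𝔞 ^ n • ⊤ : Submodule A M)) →₀ A ⧸ 𝔞 ^ n), a • y = 0 := by
      intro a ha y
      rw [← algebraMap_smul (A ⧸ 𝔞 ^ n) a y]
      have : algebraMap A (A ⧸ 𝔞 ^ n) a = 0 := Ideal.Quotient.eq_zero_iff_mem.mpr ha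
      rw [this, zero_smul]
    have hQ : ∀ a ∈ 𝔞 ^ n, ∀ y : (M ⧸ (𝔞 ^ n • ⊤ : Submodule A M)), a • y = 0 := by
      intro a ha y
      rw [← algebraMap_smul (A ⧸ 𝔞 ^ n) a y]
      have : algebraMap A (A ⧸ 𝔞 ^ n) a = 0 := Ideal.Quotient.eq_zero_iff_mem.mpr ha
      rw [this, zero_smul]
    obtain ⟨w, hw⟩ := h n ((M ⧸ (𝔞 ^ n • ⊤ : Submodule A M)) →₀ A ⧸ 𝔞 ^ n)
      (M ⧸ (𝔞 ^ n • ⊤ : Submodule A M)) hP hQ (f.restrictScalars A) hf (Submodule.mkQ _)
    have hwk : (𝔞 ^ n • ⊤ : Submodule A M) ≤ LinearMap.ker w := by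
      rw [Submodule.smul_le]
      intro a ha m _
      rw [LinearMap.mem_ker, map_smul]
      exact hP a ha _
    refine ⟨(Submodule.liftQ _ w hwk).extendScalarsOfSurjective hsurj, ?_⟩
    refine LinearMap.ext fun x => ?_
    obtain ⟨m, rfl⟩ := Submodule.mkQ_surjective _ x
    have := LinearMap.congr_fun hw m
    simpa using this
  · intro h n P Q _ _ _ _ hP hQ f hf v
    have hsurj : Function.Surjective (algebraMap A (A ⧸ 𝔞 ^ n)) := Ideal.Quotient.mk_surjective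
    have tP : Module.IsTorsionBySet A P (𝔞 ^ n : Ideal A) := fun x a => hP a.1 a.2 x
    have tQ : Module.IsTorsionBySet A Q (𝔞 ^ n : Ideal A) := fun x a => hQ a.1 a.2 x
    letI : Module (A ⧸ 𝔞 ^ n) P := tP.module
    letI : Module (A ⧸ 𝔞 ^ n) Q := tQ.module
    haveI : IsScalarTower A (A ⧸ 𝔞 ^ n) P := tP.isScalarTower
    haveI : IsScalarTower A (A ⧸ 𝔞 ^ n) Q := tQ.isScalarTower
    have hvk : (𝔞 ^ n • ⊤ : Submodule A M) ≤ LinearMap.ker v := by
      rw [Submodule.smul_le]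
      intro a ha m _
      rw [LinearMap.mem_ker, map_smul]
      exact hQ a ha _
    haveI := h n
    obtain ⟨l, hl⟩ := Module.projective_lifting_property (f.extendScalarsOfSurjective hsurj)
      ((Submodule.liftQ _ v hvk).extendScalarsOfSurjective hsurj) hf
    refine ⟨(l.restrictScalars A) ∘ₗ Submodule.mkQ _, ?_⟩
    refine LinearMap.ext fun m => ?_
    have := LinearMap.congr_fun hl (Submodule.mkQ _ m)
    simpa using this

end Groth.Agent.H3Fpj
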