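import Mathlib

namespace Groth.Agent.H3Fpw

universe u

theorem residue {k : Type u} [Field k] [IsAlgClosed k] (A : Type u) [CommRing A] [Algebra k A]
    [Algebra.FiniteType k A] (m : Ideal A) [hm : m.IsMaximal] (y : A) :
    ∃ c : k, y - algebraMap k A c ∈ m := by
  letI := Ideal.Quotient.field m
  haveI : Algebra.FiniteType k (A ⧸ m) :=
    Algebra.FiniteType.of_surjective (Ideal.Quotient.mkₐ k m) (Ideal.Quotient.mkₐ_surjective k m)
  haveI : Module.Finite k (A ⧸ m) := finite_of_finite_type_of_isJacobsonRing k (A ⧸ m)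
  haveI : Algebra.IsIntegral k (A ⧸ m) := Algebra.IsIntegral.of_finite k _
  obtain ⟨c, hc⟩ := (IsAlgClosed.algebraMap_bijective_of_isIntegral (k := k) (K := A ⧸ m)).2
    (Ideal.Quotient.mk m y)
  refine ⟨c, ?_⟩
  rw [← Ideal.Quotient.eq_zero_iff_mem, map_sub, ← hc]
  exact sub_self _

theorem main13048
    (p : ℕ) [Fact p.Prime] (k : Type u) [Field k] [IsAlgClosed k] [CharP k p]
    (A : Type u) [CommRing A] [Algebra k A] [Algebra.FiniteType k A] [Nontrivial A]
    (hconn : ∀ e : A, IsIdempotentElem e → e = 0 ∨ e = 1)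
    (x : A) (hx : ∀ n : ℕ, ∃ a : A, a ^ p ^ n = x) :
    x ∈ (algebraMap k A).range := by
  classical
  haveI : IsNoetherianRing A := Algebra.FiniteType.isNoetherianRing k A
  haveI : CharP A p := charP_of_injective_algebraMap (algebraMap k A).injective p
  have hp1 : 1 < p := (Fact.out : p.Prime).one_lt
  have hloc : ∀ m : Ideal A, m.IsMaximal →
      ∃ c : k, ∃ t : A, t ∉ m ∧ t * (x - algebraMap k A c) = 0 := by
    intro m hm
    obtain ⟨c, hc⟩ := residue (k := k) A m x
    have hmem : ∀ n : ℕ, x - algebraMap k A c ∈ m ^ n := by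
      intro n
      obtain ⟨a, ha⟩ := hx n
      obtain ⟨d, hd⟩ := residue (k := k) A m a
      have h1 : (a - algebraMap k A d) ^ p ^ n = x - algebraMap k A (d ^ p ^ n) := by
        rw [sub_pow_char_pow, ha, map_pow]
      have h2 : (a - algebraMap k A d) ^ p ^ n ∈ m ^ (p ^ n) := Ideal.pow_mem_pow hd _
      have hpn : p ^ n ≠ 0 := pow_ne_zero n (by omega)
      have h3 : d ^ p ^ n = c := by
        by_contra hne
        have hu : IsUnit (algebraMap k A (d ^ p ^ n - c)) :=
          (IsUnit.mk0 _ (sub_ne_zero.2 hne)).map _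
        have hmem : algebraMap k A (d ^ p ^ n - c) ∈ m := by
          have : algebraMap k A (d ^ p ^ n - c) =
              (x - algebraMap k A c) - (x - algebraMap k A (d ^ p ^ n)) := by
            rw [map_sub]; ring
          rw [this]
          refine Ideal.sub_mem _ hc ?_
          rw [← h1]
          exact Ideal.pow_le_self hpn h2
        exact hm.ne_top (Ideal.eq_top_of_isUnit_mem _ hmem hu)
      rw [h3] at h1
      rw [← h1]
      exact Ideal.pow_le_pow_right (Nat.lt_pow_self hp1).le h2
    have hinf : x - algebraMap k A c ∈ (⨅ i : ℕ, m ^ i • ⊤ : Submodule A A) := by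
      rw [Submodule.mem_iInf]
      intro i
      rw [smul_eq_mul, Ideal.mul_top]
      exact hmem i
    obtain ⟨r, hr⟩ := (Ideal.mem_iInf_smul_pow_eq_bot_iff m _).1 hinf
    refine ⟨c, 1 - r, ?_, ?_⟩
    · intro h
      apply hm.ne_top
      rw [Ideal.eq_top_iff_one]
      have := Ideal.add_mem _ h r.2
      simpa using this
    · rw [sub_mul, one_mul, ← smul_eq_mul (r : A), hr, sub_self]
  set Ic : k → Ideal A := fun c => (Ideal.span {x - algebraMap k A c}).annihilator with hIc
  have hIcmem : ∀ c t, t ∈ Ic c ↔ t * (x - algebraMap k A c) = 0 := by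
    intro c t
    rw [hIc]
    simp only [Submodule.mem_annihilator_span_singleton, smul_eq_mul]
  have htop : (⨆ c, Ic c) = ⊤ := by
    by_contra hne
    obtain ⟨m, hm, hle⟩ := Ideal.exists_le_maximal _ hne
    obtain ⟨c, t, htm, ht⟩ := hloc m hm
    exact htm (hle ((le_iSup Ic c) ((hIcmem c t).2 ht)))
  have h1 : (1 : A) ∈ ⨆ c, Ic c := by rw [htop]; trivial
  obtain ⟨e, he, hsum⟩ := (Submodule.mem_iSup_iff_exists_finsupp Ic 1).1 h1
  have horth : ∀ c c', c ≠ c' → e c * e c' = 0 := by
    intro c c' hne
    have h2 : e c * e c' * algebraMap k A (c' - c) = 0 := by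
      have hc := (hIcmem c _).1 (he c)
      have hc' := (hIcmem c' _).1 (he c')
      have : e c * e c' * algebraMap k A (c' - c) =
          e c' * (e c * (x - algebraMap k A c)) - e c * (e c' * (x - algebraMap k A c')) := by
        rw [map_sub]; ring
      rw [this, hc, hc']; ring
    have hu : IsUnit (algebraMap k A (c' - c)) :=
      (IsUnit.mk0 _ (sub_ne_zero.2 hne.symm)).map _
    exact (hu.mul_left_eq_zero).1 h2
  have hidem : ∀ c, IsIdempotentElem (e c) := by
    intro c
    have : e c = e c * 1 := (mul_one _).symm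
    rw [← hsum, Finsupp.sum, Finset.mul_sum] at this
    by_cases hc : c ∈ e.support
    · rw [Finset.sum_eq_single c (fun c' _ hne => horth c c' hne.symm)
        (fun h => absurd hc h)] at this
      exact this.symm
    · have h0 : e c = 0 := Finsupp.notMem_support_iff.1 hc
      rw [IsIdempotentElem, h0, mul_zero]
  have hex : ∃ c, e c = 1 := by
    by_contra hno
    rw [not_exists] at hno
    have hall : ∀ c, e c = 0 := fun c => (hconn _ (hidem c)).resolve_right (hno c)
    have : (1 : A) = 0 := by
      rw [← hsum, Finsupp.sum]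
      exact Finset.sum_eq_zero fun c _ => hall c
    exact one_ne_zero this
  obtain ⟨c, hc⟩ := hex
  have := (hIcmem c _).1 (he c)
  rw [hc, one_mul, sub_eq_zero] at this
  exact ⟨c, this.symm⟩

end Groth.Agent.H3Fpw
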