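import Mathlib

set_option autoImplicit false
universe u

namespace Groth.Agent.H3FlatQ

open TensorProduct Function

variable {R : Type u} [CommRing R]

section modules
variable {P : Type u} [AddCommGroup P] [Module R P]

lemma one_tmul_eq_zero_iff (I : Ideal R) (y : P) :
    (1 : R ⧸ I) ⊗ₜ[R] y = 0 ↔ y ∈ I • (⊤ : Submodule R P) := by
  have h := TensorProduct.quotTensorEquivQuotSMul_mk_tmul (M := P) I (1 : R) y
  rw [one_smul] at h
  have h1 : (1 : R ⧸ I) = Ideal.Quotient.mk I 1 := rfl
  rw [h1, ← (TensorProduct.quotTensorEquivQuotSMul P I).map_eq_zero_iff, h,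
    Submodule.Quotient.mk_eq_zero]

lemma exists_one_tmul_eq (I : Ideal R) (t : (R ⧸ I) ⊗[R] P) :
    ∃ y : P, (1 : R ⧸ I) ⊗ₜ[R] y = t := by
  induction t using TensorProduct.induction_on with
  | zero => exact ⟨0, by simp⟩
  | tmul a y =>
    obtain ⟨a, rfl⟩ := Ideal.Quotient.mk_surjective a
    refine ⟨a • y, ?_⟩
    rw [TensorProduct.tmul_smul, TensorProduct.smul_tmul', ← Ideal.Quotient.algebraMap_eq,
      Algebra.smul_def, mul_one]
  | add a b ha hb =>
    obtain ⟨x, rfl⟩ := ha
    obtain ⟨y, rfl⟩ := hb
    exact ⟨x + y, by rw [TensorProduct.tmul_add]⟩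

end modules

/-- flatness of a quotient of a flat module from the intersection condition -/
theorem flat_of_surjective_of_inf_le {P M : Type u} [AddCommGroup P] [Module R P] [AddCommGroup M]
    [Module R M] [Module.Flat R P] (g : P →ₗ[R] M) (hg : Surjective g)
    (h : ∀ I : Ideal R, LinearMap.ker g ⊓ I • (⊤ : Submodule R P) ≤ I • LinearMap.ker g) :
    Module.Flat R M := by
  rw [Module.Flat.iff_lTensor_injective']
  intro I
  rw [injective_iff_map_eq_zero]
  intro t ht
  obtain ⟨s, rfl⟩ := LinearMap.rTensor_surjective I hg t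
  set φ : P ⊗[R] I →ₗ[R] P := (TensorProduct.rid R P).toLinearMap ∘ₗ LinearMap.lTensor P I.subtype
    with hφ
  have hφinj : Injective φ := by
    rw [hφ, LinearMap.coe_comp]
    exact (TensorProduct.rid R P).injective.comp
      (Module.Flat.lTensor_preserves_injective_linearMap (M := P) I.subtype I.subtype_injective)
  have hφmem : ∀ s : P ⊗[R] I, φ s ∈ I • (⊤ : Submodule R P) := by
    intro s
    induction s using TensorProduct.induction_on with
    | zero => simp
    | tmul x a =>
      simp only [hφ, LinearMap.coe_comp, LinearEquiv.coe_coe, comp_apply, LinearMap.lTensor_tmul,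
        Submodule.subtype_apply, TensorProduct.rid_tmul]
      exact Submodule.smul_mem_smul a.2 Submodule.mem_top
    | add a b ha hb => rw [map_add]; exact Submodule.add_mem _ ha hb
  have hgφ : g (φ s) = 0 := by
    have h1 : ∀ s : P ⊗[R] I, g (φ s) =
        (TensorProduct.rid R M) (LinearMap.lTensor M I.subtype (LinearMap.rTensor I g s)) := by
      intro s
      induction s using TensorProduct.induction_on with
      | zero => simp
      | tmul x a =>
        simp only [hφ, LinearMap.coe_comp, LinearEquiv.coe_coe, comp_apply, LinearMap.lTensor_tmul,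
          Submodule.subtype_apply, TensorProduct.rid_tmul, LinearMap.rTensor_tmul, map_smul]
      | add a b ha hb => simp only [map_add, ha, hb]
    rw [h1, ht, map_zero]
  have hmem : φ s ∈ I • LinearMap.ker g := h I ⟨hgφ, hφmem s⟩
  have key : ∀ p ∈ I • LinearMap.ker g, ∃ s' : P ⊗[R] I, LinearMap.rTensor I g s' = 0 ∧ φ s' = p := by
    intro p hp
    induction hp using Submodule.smul_induction_on' with
    | smul a ha z hz =>
      refine ⟨z ⊗ₜ ⟨a, ha⟩, ?_, ?_⟩
      · rw [LinearMap.rTensor_tmul, LinearMap.mem_ker.mp hz, TensorProduct.zero_tmul]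
      · simp only [hφ, LinearMap.coe_comp, LinearEquiv.coe_coe, comp_apply, LinearMap.lTensor_tmul,
          Submodule.subtype_apply, TensorProduct.rid_tmul]
    | add x hx y hy hx' hy' =>
      obtain ⟨s1, h1, h1'⟩ := hx'
      obtain ⟨s2, h2, h2'⟩ := hy'
      exact ⟨s1 + s2, by rw [map_add, h1, h2, add_zero], by rw [map_add, h1', h2']⟩
  obtain ⟨s', hs', hs'φ⟩ := key _ hmem
  have : s = s' := hφinj hs'φ.symm
  rw [this, hs']

end Groth.Agent.H3FlatQ
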