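import Mathlib
import Groth.Agent.Lib.helper3.FqA

set_option autoImplicit false
universe u

namespace Groth.Agent.H3FlatQ

open TensorProduct Function

variable {R : Type u} [CommRing R]

theorem flat_of_three_term {P3 P2 P1 M : Type u} [AddCommGroup P3] [Module R P3] [AddCommGroup P2]
    [Module R P2] [AddCommGroup P1] [Module R P1] [AddCommGroup M] [Module R M] [Module.Flat R P1]
    (d3 : P3 →ₗ[R] P2) (d2 : P2 →ₗ[R] P1) (d1 : P1 →ₗ[R] M)
    (h1 : Surjective d1) (h12 : ∀ p, d1 p = 0 → ∃ y, d2 y = p) (h12' : ∀ y, d1 (d2 y) = 0)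
    (h23 : ∀ x, d2 (d3 x) = 0)
    (hI : ∀ I : Ideal R, ∀ t : (R ⧸ I) ⊗[R] P2, d2.lTensor (R ⧸ I) t = 0 →
      ∃ s, d3.lTensor (R ⧸ I) s = t) :
    Module.Flat R M := by
  apply flat_of_surjective_of_inf_le d1 h1
  rintro I p ⟨hp1, hp2⟩
  obtain ⟨y, rfl⟩ := h12 p (LinearMap.mem_ker.mp hp1)
  have e1 : d2.lTensor (R ⧸ I) ((1 : R ⧸ I) ⊗ₜ[R] y) = 0 := by
    rw [LinearMap.lTensor_tmul]
    exact (one_tmul_eq_zero_iff I _).mpr hp2
  obtain ⟨s, hs⟩ := hI I _ e1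
  obtain ⟨x, rfl⟩ := exists_one_tmul_eq I s
  rw [LinearMap.lTensor_tmul] at hs
  have e2 : y - d3 x ∈ I • (⊤ : Submodule R P2) := by
    rw [← one_tmul_eq_zero_iff, TensorProduct.tmul_sub, hs, sub_self]
  have e3 : d2 y = d2 (y - d3 x) := by rw [map_sub, h23, sub_zero]
  rw [e3]
  have e4 : d2 (y - d3 x) ∈ Submodule.map d2 (I • (⊤ : Submodule R P2)) :=
    Submodule.mem_map_of_mem e2
  rw [Submodule.map_smul''] at e4
  refine Submodule.smul_mono (le_refl I) ?_ e4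
  rintro _ ⟨z, -, rfl⟩
  exact LinearMap.mem_ker.mpr (h12' z)

end Groth.Agent.H3FlatQ
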