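import Mathlib
import Groth.Agent.Lib.helper3.FqB

set_option autoImplicit false
universe u

namespace Groth.Agent.H3FlatQ

open TensorProduct Function CategoryTheory MonoidalCategory

theorem main19574 (R : Type u) [CommRing R]
    (d : ℕ) (hd : 1 ≤ d) (K : ChainComplex (ModuleCat.{u} R) ℕ)
    (hflat : ∀ i : ℕ, 1 ≤ i → i ≤ d → Module.Flat R (K.X i))
    (hK : K.Acyclic)
    (hbc : ∀ I : Ideal R,
      (((tensorLeft (ModuleCat.of R (R ⧸ I))).mapHomologicalComplex (ComplexShape.down ℕ)).obj K).Acyclic) :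
    Module.Flat R (K.X 0) := by
  haveI : Module.Flat R (K.X 1) := hflat 1 le_rfl hd
  have e0 := (K.exactAt_iff' 1 0 0 (by simp) (by simp)).mp (hK 0)
  have e1 := (K.exactAt_iff' 2 1 0 (by simp) (by simp)).mp (hK 1)
  rw [ShortComplex.moduleCat_exact_iff] at e0 e1
  apply flat_of_three_term (K.d 3 2).hom (K.d 2 1).hom (K.d 1 0).hom
  · intro m
    obtain ⟨x, hx⟩ := e0 m (by
      have h0 : K.d 0 0 = 0 := K.shape 0 0 (by simp)
      show (ConcreteCategory.hom (K.d 0 0)) m = 0
      rw [h0]
      rfl)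
    exact ⟨x, hx⟩
  · intro p hp
    exact e1 p hp
  · intro y
    have := K.d_comp_d 2 1 0
    exact congrArg (fun f => f.hom y) this
  · intro x
    have := K.d_comp_d 3 2 1
    exact congrArg (fun f => f.hom x) this
  · intro I t ht
    have e2 := ((((tensorLeft (ModuleCat.of R (R ⧸ I))).mapHomologicalComplex
      (ComplexShape.down ℕ)).obj K).exactAt_iff' 3 2 1 (by simp) (by simp)).mp (hbc I 2)
    rw [ShortComplex.moduleCat_exact_iff] at e2
    exact e2 t ht

end Groth.Agent.H3FlatQ
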