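import Mathlib

set_option autoImplicit false

namespace Groth.Agent.H3Summand

universe u

theorem main109 (R : Type u) [CommRing R] (P : Type u) [AddCommGroup P]
    [Module R P] [Module.Projective R P] (s : P) :
    ∃ (n : ℕ) (K K' : Submodule R ((Fin n → R) × P)), IsCompl K K' ∧ Module.Free R K ∧
      Module.Finite R K ∧ ((0, s) : (Fin n → R) × P) ∈ K := by
  classical
  obtain ⟨i, hi⟩ := (Module.projective_def' (R := R) (P := P)).mp inferInstance
  have hi' : ∀ p, Finsupp.linearCombination R (id : P → P) (i p) = p := LinearMap.congr_fun hi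
  let T : Finset P := (i s).support
  let n := T.card
  let e : Fin n ≃ T := T.equivFin.symm
  let φ : (Fin n → R) →ₗ[R] P := Fintype.linearCombination R (fun j => ((e j : T) : P))
  let ψ : P →ₗ[R] (Fin n → R) :=
    LinearMap.pi (fun j => (Finsupp.lapply ((e j : T) : P)).comp i)
  have hφψ : φ (ψ s) = s := by
    have h1 : φ (ψ s) = ∑ j, (i s) ((e j : T) : P) • ((e j : T) : P) := by
      simp [φ, ψ, Fintype.linearCombination_apply]
    rw [h1]
    have h2 : ∑ j, (i s) ((e j : T) : P) • ((e j : T) : P) =
        ∑ t : T, (i s) (t : P) • (t : P) :=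
      Equiv.sum_comp e (fun t : T => (i s) (t : P) • (t : P))
    rw [h2, Finset.sum_coe_sort T (fun t => (i s) t • t)]
    have h3 := hi' s
    rw [Finsupp.linearCombination_apply, Finsupp.sum] at h3
    exact h3
  let α : ((Fin n → R) × P) ≃ₗ[R] ((Fin n → R) × P) :=
    { toFun := fun x => (x.1, x.2 + φ x.1)
      invFun := fun x => (x.1, x.2 - φ x.1)
      map_add' := by
        intro x y
        ext <;> simp [add_add_add_comm]
      map_smul' := by
        intro c x
        ext <;> simp
      left_inv := by intro x; ext <;> simp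
      right_inv := by intro x; ext <;> simp }
  let β : ((Fin n → R) × P) ≃ₗ[R] ((Fin n → R) × P) :=
    { toFun := fun x => (x.1 - ψ x.2, x.2)
      invFun := fun x => (x.1 + ψ x.2, x.2)
      map_add' := by
        intro x y
        ext <;> simp [sub_add_sub_comm]
      map_smul' := by
        intro c x
        ext <;> simp [smul_sub]
      left_inv := by intro x; ext <;> simp
      right_inv := by intro x; ext <;> simp }
  let θ := α.trans β
  refine ⟨n, Submodule.map θ.toLinearMap (LinearMap.range (LinearMap.inl R (Fin n → R) P)),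
    Submodule.map θ.toLinearMap (LinearMap.range (LinearMap.inr R (Fin n → R) P)), ?_, ?_, ?_, ?_⟩
  · exact (Submodule.orderIsoMapComap θ).isCompl (LinearMap.isCompl_range_inl_inr)
  · let e1 : (Fin n → R) ≃ₗ[R] LinearMap.range (LinearMap.inl R (Fin n → R) P) :=
      LinearEquiv.ofInjective _ LinearMap.inl_injective
    let e2 := θ.submoduleMap (LinearMap.range (LinearMap.inl R (Fin n → R) P))
    exact Module.Free.of_equiv (e1.trans e2)
  · let e1 : (Fin n → R) ≃ₗ[R] LinearMap.range (LinearMap.inl R (Fin n → R) P) :=
      LinearEquiv.ofInjective _ LinearMap.inl_injective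
    let e2 := θ.submoduleMap (LinearMap.range (LinearMap.inl R (Fin n → R) P))
    exact Module.Finite.equiv (e1.trans e2)
  · refine ⟨(ψ s, 0), ⟨ψ s, rfl⟩, ?_⟩
    change β (α (ψ s, 0)) = (0, s)
    simp only [α, β, LinearEquiv.coe_mk, LinearMap.coe_mk, AddHom.coe_mk, zero_add, hφψ, sub_self]

end Groth.Agent.H3Summand
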