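import Mathlib

namespace Groth.Agent.H3Fx
universe u

section
variable {p : ℕ} [hp : Fact p.Prime] {k : Type u} [Field k] [IsAlgClosed k] [CharP k p]
variable {V : Type u} [AddCommGroup V] [Module k V]
variable (F : V →+ V) (hF : ∀ (a : k) (v : V), F (a • v) = a ^ p • F v)

include hF in
lemma iter_smul (m : ℕ) (a : k) (v : V) : (⇑F)^[m] (a • v) = a ^ (p ^ m) • (⇑F)^[m] v := by
  induction m with
  | zero => simp
  | succ m ih =>
    rw [Function.iterate_succ_apply', ih, hF, Function.iterate_succ_apply', ← pow_mul, pow_succ]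

noncomputable def Fi (F : V →+ V) : ℕ → (V →+ V)
  | 0 => AddMonoidHom.id V
  | m + 1 => F.comp (Fi F m)

lemma Fi_apply (m : ℕ) (v : V) : Fi F m v = (⇑F)^[m] v := by
  induction m with
  | zero => rfl
  | succ m ih =>
    rw [Function.iterate_succ_apply', ← ih]; rfl

include hF in
lemma nil_of_mem {x : V} (hx : x ∈ Submodule.span k {v : V | ∃ m : ℕ, (⇑F)^[m] v = 0}) :
    ∃ m : ℕ, (⇑F)^[m] x = 0 := by
  refine Submodule.span_induction ?_ ?_ ?_ ?_ hx
  · intro v hv; exact hv
  · exact ⟨0, rfl⟩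
  · rintro a b _ _ ⟨m1, h1⟩ ⟨m2, h2⟩
    refine ⟨m1 + m2, ?_⟩
    have ha : (⇑F)^[m1 + m2] a = 0 := by
      rw [add_comm, Function.iterate_add_apply, h1, iterate_map_zero]
    have hb : (⇑F)^[m1 + m2] b = 0 := by
      rw [Function.iterate_add_apply, h2, iterate_map_zero]
    rw [iterate_map_add, ha, hb, add_zero]
  · rintro c v _ ⟨m, h⟩
    exact ⟨m, by rw [iter_smul F hF, h, smul_zero]⟩

omit [IsAlgClosed k] [CharP k p] in
lemma exists_as [IsAlgClosed k] (c : k) : ∃ d : k, d ^ p - d = c := by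
  have hp1 : 1 < p := hp.out.one_lt
  have hdeg : (Polynomial.X ^ p - (Polynomial.X + Polynomial.C c) : Polynomial k).degree =
      (p : WithBot ℕ) := by
    rw [Polynomial.degree_sub_eq_left_of_degree_lt, Polynomial.degree_X_pow]
    rw [Polynomial.degree_X_pow, Polynomial.degree_X_add_C]
    exact_mod_cast hp1
  obtain ⟨d, hd⟩ := IsAlgClosed.exists_root
    (Polynomial.X ^ p - (Polynomial.X + Polynomial.C c) : Polynomial k)
    (by rw [hdeg]; exact_mod_cast hp.out.ne_zero)
  refine ⟨d, ?_⟩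
  simp only [Polynomial.IsRoot.def, Polynomial.eval_sub, Polynomial.eval_pow, Polynomial.eval_X,
    Polynomial.eval_add, Polynomial.eval_C] at hd
  linear_combination hd

include hF in
lemma as_V0 {z : V} (hz : z ∈ Submodule.span k {v : V | F v = v}) :
    ∃ u ∈ Submodule.span k {v : V | F v = v}, F u - u = z := by
  refine Submodule.closure_induction
    (p := fun z _ => ∃ u ∈ Submodule.span k {v : V | F v = v}, F u - u = z) ?_ ?_ ?_ hz
  · exact ⟨0, Submodule.zero_mem _, by simp⟩
  · rintro a b _ _ ⟨u1, hu1, h1⟩ ⟨u2, hu2, h2⟩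
    exact ⟨u1 + u2, add_mem hu1 hu2, by rw [map_add, ← h1, ← h2]; abel⟩
  · intro c e he
    obtain ⟨d, hd⟩ := exists_as (p := p) c
    refine ⟨d • e, Submodule.smul_mem _ _ (Submodule.subset_span he), ?_⟩
    have he' : F e = e := he
    rw [hF, he', ← sub_smul, hd]

include hF in
lemma surj_V0 (r : ℕ) {z : V} (hz : z ∈ Submodule.span k {v : V | F v = v}) :
    ∃ z' ∈ Submodule.span k {v : V | F v = v}, (⇑F)^[r] z' = z := by
  refine Submodule.closure_induction
    (p := fun z _ => ∃ z' ∈ Submodule.span k {v : V | F v = v}, (⇑F)^[r] z' = z) ?_ ?_ ?_ hz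
  · exact ⟨0, zero_mem _, iterate_map_zero F r⟩
  · rintro a b _ _ ⟨u1, hu1, h1⟩ ⟨u2, hu2, h2⟩
    exact ⟨u1 + u2, add_mem hu1 hu2, by rw [iterate_map_add, h1, h2]⟩
  · intro c e he
    obtain ⟨d, hd⟩ := IsAlgClosed.exists_pow_nat_eq c (pow_pos hp.out.pos r)
    refine ⟨d • e, Submodule.smul_mem _ _ (Submodule.subset_span he), ?_⟩
    have he' : F e = e := he
    rw [iter_smul F hF, hd, Function.iterate_fixed he']

include hF in
lemma as_Vn {t : V} (ht : t ∈ Submodule.span k {v : V | ∃ m : ℕ, (⇑F)^[m] v = 0}) :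
    ∃ u ∈ Submodule.span k {v : V | ∃ m : ℕ, (⇑F)^[m] v = 0}, F u - u = t := by
  obtain ⟨m, hm⟩ := nil_of_mem F hF ht
  have hmem : ∀ i, (⇑F)^[i] t ∈ Submodule.span k {v : V | ∃ m : ℕ, (⇑F)^[m] v = 0} := fun i =>
    Submodule.subset_span ⟨m, by
      rw [← Function.iterate_add_apply, add_comm, Function.iterate_add_apply, hm,
        iterate_map_zero]⟩
  refine ⟨-∑ i ∈ Finset.range m, (⇑F)^[i] t, neg_mem (sum_mem fun i _ => hmem i), ?_⟩
  have h1 := Finset.sum_range_sub (fun i => (⇑F)^[i] t) m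
  rw [Finset.sum_sub_distrib, hm] at h1
  have h2 : ∑ i ∈ Finset.range m, (⇑F)^[i + 1] t = F (∑ i ∈ Finset.range m, (⇑F)^[i] t) := by
    rw [map_sum]
    refine Finset.sum_congr rfl fun i _ => ?_
    rw [Function.iterate_succ_apply']
  rw [h2] at h1
  rw [map_neg]
  have h3 : (⇑F)^[0] t = t := rfl
  rw [h3] at h1
  have : -F (∑ i ∈ Finset.range m, (⇑F)^[i] t) - -∑ i ∈ Finset.range m, (⇑F)^[i] t =
      -(F (∑ i ∈ Finset.range m, (⇑F)^[i] t) - ∑ i ∈ Finset.range m, (⇑F)^[i] t) := by abel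
  rw [this, h1]; abel

include hF in
lemma disj {x : V} (h0 : x ∈ Submodule.span k {v : V | F v = v})
    (hn : x ∈ Submodule.span k {v : V | ∃ m : ℕ, (⇑F)^[m] v = 0}) : x = 0 := by
  classical
  obtain ⟨b, hbS, hbspan, hbli⟩ := exists_linearIndependent k {v : V | F v = v}
  rw [← hbspan] at h0
  obtain ⟨c, hcs, rfl⟩ := Submodule.mem_span_set.mp h0
  obtain ⟨m, hm⟩ := nil_of_mem F hF hn
  have h1 : (⇑F)^[m] (c.sum fun v r => r • v) = ∑ v ∈ c.support, (c v) ^ (p ^ m) • v := by
    rw [Finsupp.sum, ← Fi_apply, map_sum]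
    refine Finset.sum_congr rfl fun v hv => ?_
    have hv' : F v = v := hbS (hcs hv)
    rw [Fi_apply, iter_smul F hF, Function.iterate_fixed hv']
  rw [h1] at hm
  have hbli' : LinearIndepOn k id b := hbli
  have h2 := (linearIndepOn_iff'.mp hbli') c.support (fun v => (c v) ^ (p ^ m)) hcs hm
  rw [Finsupp.sum]
  refine Finset.sum_eq_zero fun v hv => ?_
  have h3 := h2 v hv
  have h4 : c v = 0 := by
    have h3' : (c v) ^ (p ^ m) = 0 := h3
    exact pow_eq_zero_iff (pow_pos hp.out.pos m).ne' |>.mp h3'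
  rw [h4, zero_smul]

include hF in
lemma part2 (s : Finset V) (hs : ∀ v ∈ s, F v = v)
    (hZ : ∀ c : s → ℤ, (∑ v : s, c v • (v : V)) = 0 → ∀ v : s, (p : ℤ) ∣ c v) :
    LinearIndependent k (fun v : s => (v : V)) := by
  classical
  have key : ∀ t : Finset V, t ⊆ s → LinearIndepOn k id (t : Set V) := by
    intro t
    induction t using Finset.induction_on with
    | empty => intro _; simp
    | insert v0 t' hv0 ih =>
      intro hsub
      have ht' : t' ⊆ s := fun v hv => hsub (Finset.mem_insert_of_mem hv)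
      have hv0s : v0 ∈ s := hsub (Finset.mem_insert_self _ _)
      have hli := ih ht'
      rw [Finset.coe_insert, linearIndepOn_id_insert (by simpa using hv0)]
      refine ⟨hli, fun hmem => ?_⟩
      obtain ⟨f, -, hf⟩ := Submodule.mem_span_finset.mp hmem
      have hFv0 : F v0 = v0 := hs v0 hv0s
      have h1 : ∑ v ∈ t', ((f v) ^ p - f v) • v = 0 := by
        have h2 : F (∑ v ∈ t', f v • v) = ∑ v ∈ t', (f v) ^ p • v := by
          rw [map_sum]
          refine Finset.sum_congr rfl fun v hv => ?_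
          rw [hF, hs v (ht' hv)]
        rw [hf, hFv0] at h2
        simp only [sub_smul, Finset.sum_sub_distrib]
        rw [← h2, hf, sub_self]
      have h3 := (linearIndepOn_iff'.mp hli) t' (fun v => (f v) ^ p - f v) subset_rfl h1
      have h4 : ∀ v ∈ t', ∃ n : ℤ, (n : k) = f v := by
        intro v hv
        have h5 : (f v) ^ p = f v := sub_eq_zero.mp (h3 v hv)
        exact (mem_bot_iff_intCast p k).mp ((Subfield.mem_bot_iff_pow_eq_self k p).mpr h5)
      choose! n hn using h4
      obtain ⟨c', hc'⟩ : ∃ c' : V → ℤ, c' = fun v => if v = v0 then (-1 : ℤ) else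
          if v ∈ t' then n v else 0 := ⟨_, rfl⟩
      have hsum : ∑ v : s, c' v • (v : V) = 0 := by
        rw [Finset.sum_coe_sort s (fun v => c' v • v)]
        rw [← Finset.sum_subset hsub (fun x _ hx => by
          have h6 : x ≠ v0 := fun h => hx (h ▸ Finset.mem_insert_self _ _)
          have h7 : x ∉ t' := fun h => hx (Finset.mem_insert_of_mem h)
          rw [hc']; simp [h6, h7])]
        rw [Finset.sum_insert hv0]
        have h8 : c' v0 • v0 = -v0 := by rw [hc']; simp
        have h9 : ∑ v ∈ t', c' v • v = v0 := by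
          rw [← hf]
          refine Finset.sum_congr rfl fun v hv => ?_
          have h10 : v ≠ v0 := fun h => hv0 (h ▸ hv)
          rw [hc']
          simp only [h10, if_false, hv, if_true]
          rw [← hn v hv, Int.cast_smul_eq_zsmul]
        rw [h8, h9]; abel
      have hdiv := hZ (fun v => c' v) hsum ⟨v0, hv0s⟩
      have h11 : c' v0 = -1 := by rw [hc']; simp
      rw [h11] at hdiv
      have h12 : (p : ℤ) ∣ 1 := (dvd_neg).mp hdiv
      have h13 := Int.eq_one_of_dvd_one (by positivity) h12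
      have : p = 1 := by exact_mod_cast h13
      exact hp.out.one_lt.ne' this
  have h := key s subset_rfl
  exact h

end
end Groth.Agent.H3Fx
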