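import Mathlib
import Groth.Agent.Lib.helper3.FxA

namespace Groth.Agent.H3Fx
universe u
open Polynomial

section poly
variable {k : Type u} [Field k]

noncomputable def xs (p : ℕ) (A : ℕ → k) (y : k) : ℕ → k
  | 0 => A 0 * y ^ p
  | i + 1 => (xs p A y i) ^ p + A (i + 1) * y ^ p

noncomputable def Xp (p : ℕ) (A : ℕ → k) : ℕ → Polynomial k
  | 0 => C (A 0) * X ^ p
  | i + 1 => (Xp p A i) ^ p + C (A (i + 1)) * X ^ p

lemma eval_Xp (p : ℕ) (A : ℕ → k) (y : k) (i : ℕ) : (Xp p A i).eval y = xs p A y i := by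
  induction i with
  | zero => simp [Xp, xs]
  | succ i ih => simp [Xp, xs, ih]

lemma X2_dvd (p : ℕ) (hp2 : 2 ≤ p) (A : ℕ → k) (i : ℕ) : (X : Polynomial k) ^ 2 ∣ Xp p A i := by
  induction i with
  | zero => exact Dvd.dvd.mul_left (pow_dvd_pow X hp2) _
  | succ i ih =>
    exact dvd_add (dvd_pow ih (by omega : p ≠ 0)) (Dvd.dvd.mul_left (pow_dvd_pow X hp2) _)

lemma Xp_eq_zero (p : ℕ) (hp2 : 2 ≤ p) (A : ℕ → k) (i : ℕ) (h : ∀ j ≤ i, A j = 0) :
    Xp p A i = 0 := by
  induction i with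
  | zero => simp [Xp, h 0 le_rfl]
  | succ i ih =>
    rw [Xp, ih (fun j hj => h j (by omega)), h (i + 1) le_rfl, zero_pow (by omega : p ≠ 0)]
    simp

lemma Xp_ne_zero (p : ℕ) (hp2 : 2 ≤ p) (A : ℕ → k) (i : ℕ) (hA : ∃ j ≤ i, A j ≠ 0) :
    Xp p A i ≠ 0 := by
  induction i with
  | zero =>
    obtain ⟨j, hj, hAj⟩ := hA
    have : j = 0 := by omega
    subst this
    simp [Xp, hAj]
  | succ i ih =>
    by_cases h : ∃ j ≤ i, A j ≠ 0
    · have h1 := ih h
      intro h0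
      have h2 : (Xp p A i) ^ p = -(C (A (i + 1)) * X ^ p) := by
        rw [Xp] at h0; exact eq_neg_of_add_eq_zero_left h0
      have h3 : 2 ≤ (Xp p A i).natDegree := by
        have := Polynomial.natDegree_le_of_dvd (X2_dvd p hp2 A i) h1
        simpa using this
      have h4 : ((Xp p A i) ^ p).natDegree = p * (Xp p A i).natDegree :=
        Polynomial.natDegree_pow _ _
      have h5 : (-(C (A (i + 1)) * X ^ p) : Polynomial k).natDegree ≤ p := by
        rw [Polynomial.natDegree_neg]; exact Polynomial.natDegree_C_mul_X_pow_le _ _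
      rw [h2] at h4
      nlinarith
    · push Not at h
      have hz := Xp_eq_zero p hp2 A i h
      obtain ⟨j, hj, hAj⟩ := hA
      have hj' : j = i + 1 := by
        by_contra hne
        exact hAj (h j (by omega))
      subst hj'
      rw [Xp, hz, zero_pow (by omega : p ≠ 0), zero_add]
      simp [hAj]

lemma exists_y [IsAlgClosed k] (p : ℕ) (hp2 : 2 ≤ p) (A : ℕ → k) (r' : ℕ)
    (hA : ∃ j ≤ r', A j ≠ 0) : ∃ y : k, y ≠ 0 ∧ xs p A y r' = y := by
  obtain ⟨Q, hQ⟩ := X2_dvd p hp2 A r'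
  have hQ0 : Q ≠ 0 := by
    rintro rfl
    exact Xp_ne_zero p hp2 A r' hA (by rw [hQ, mul_zero])
  have hnd : (X * Q - 1 : Polynomial k).natDegree = Q.natDegree + 1 := by
    rw [Polynomial.natDegree_sub_eq_left_of_natDegree_lt, Polynomial.natDegree_X_mul hQ0]
    rw [Polynomial.natDegree_one, Polynomial.natDegree_X_mul hQ0]; omega
  have hdeg : (X * Q - 1 : Polynomial k).degree ≠ 0 := by
    intro h
    have := Polynomial.natDegree_eq_of_degree_eq_some (n := 0) (by simpa using h)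
    omega
  obtain ⟨y, hy⟩ := IsAlgClosed.exists_root _ hdeg
  have hy' : y * Q.eval y - 1 = 0 := by simpa using hy
  refine ⟨y, ?_, ?_⟩
  · rintro rfl; simp at hy'
  · rw [← eval_Xp, hQ]
    simp only [eval_mul, eval_pow, eval_X]
    linear_combination y * hy'

end poly

section main
variable {p : ℕ} [hp : Fact p.Prime] {k : Type u} [Field k] [IsAlgClosed k] [CharP k p]
variable {V : Type u} [AddCommGroup V] [Module k V] [FiniteDimensional k V]
variable (F : V →+ V) (hF : ∀ (a : k) (v : V), F (a • v) = a ^ p • F v)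

include hF in
theorem sup_top : Submodule.span k {v : V | F v = v} ⊔
    Submodule.span k {v : V | ∃ m : ℕ, (⇑F)^[m] v = 0} = ⊤ := by
  classical
  have hp2 : 2 ≤ p := hp.out.two_le
  obtain ⟨U, hU⟩ : ∃ U : Submodule k V, U = Submodule.span k {v : V | F v = v} ⊔
    Submodule.span k {v : V | ∃ m : ℕ, (⇑F)^[m] v = 0} := ⟨_, rfl⟩
  rw [← hU]
  by_contra hne
  obtain ⟨w, hw⟩ : ∃ w : V, w ∉ U := by
    by_contra h
    push Not at h
    exact hne (eq_top_iff.mpr fun x _ => h x)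
  have hV0U : Submodule.span k {v : V | F v = v} ≤ U := by rw [hU]; exact le_sup_left
  have hVnU : Submodule.span k {v : V | ∃ m : ℕ, (⇑F)^[m] v = 0} ≤ U := by
    rw [hU]; exact le_sup_right
  -- Artin-Schreier on U
  have hAS : ∀ z ∈ U, ∃ u ∈ U, F u - u = z := by
    intro z hz
    rw [hU] at hz
    obtain ⟨z0, hz0, zn, hzn, rfl⟩ := Submodule.mem_sup.mp hz
    obtain ⟨u0, hu0, h0⟩ := as_V0 F hF hz0
    obtain ⟨un, hun, hn⟩ := as_Vn F hF hzn
    exact ⟨u0 + un, add_mem (hV0U hu0) (hVnU hun), by rw [map_add, ← h0, ← hn]; abel⟩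
  obtain ⟨Mr, hMr⟩ : ∃ Mr : ℕ → Submodule k V, Mr = fun r =>
    U ⊔ Submodule.span k (Set.range (fun i : Fin r => (⇑F)^[(i : ℕ)] w)) := ⟨_, rfl⟩
  have hMrU : ∀ r, U ≤ Mr r := fun r => by rw [hMr]; exact le_sup_left
  have hMrmem : ∀ r i, i < r → (⇑F)^[i] w ∈ Mr r := fun r i hi => by
    rw [hMr]
    exact Submodule.mem_sup_right (Submodule.subset_span ⟨⟨i, hi⟩, rfl⟩)
  have hmono : Monotone Mr := by
    intro r r' hrr'
    rw [hMr]
    refine sup_le_sup_left (Submodule.span_mono ?_) _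
    rintro _ ⟨i, rfl⟩
    exact ⟨Fin.castLE hrr' i, rfl⟩
  have hex : ∃ r, (⇑F)^[r] w ∈ Mr r := by
    obtain ⟨n, hn⟩ := (monotone_stabilizes_iff_noetherian.mpr
      (inferInstance : IsNoetherian k V)) ⟨Mr, hmono⟩
    refine ⟨n, ?_⟩
    have h1 : Mr n = Mr (n + 1) := hn (n + 1) (Nat.le_succ n)
    rw [h1]
    exact hMrmem (n + 1) n (Nat.lt_succ_self n)
  have hmin := fun r' => Nat.find_min hex (m := r')
  have hr := Nat.find_spec hex
  obtain ⟨r, hrdef⟩ : ∃ r, r = Nat.find hex := ⟨_, rfl⟩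
  rw [← hrdef] at hr hmin
  have hr0 : r ≠ 0 := by
    rintro rfl
    apply hw
    have h0 : Mr 0 = U := by
      rw [hMr]
      have : Set.range (fun i : Fin 0 => (⇑F)^[(i : ℕ)] w) = ∅ := Set.range_eq_empty _
      simp only [this, Submodule.span_empty, sup_bot_eq]
    rw [h0] at hr
    exact hr
  obtain ⟨r', rfl⟩ := Nat.exists_eq_succ_of_ne_zero hr0
  have hnot : (⇑F)^[r'] w ∉ Mr r' := hmin r' (Nat.lt_succ_self r')
  -- decompose
  have hr2 : (⇑F)^[r' + 1] w ∈ U ⊔ Submodule.span k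
      (Set.range (fun i : Fin (r' + 1) => (⇑F)^[(i : ℕ)] w)) := by
    have := hr; rw [hMr] at this; exact this
  obtain ⟨z, hz, q, hq, hzq⟩ := Submodule.mem_sup.mp hr2
  obtain ⟨a, ha⟩ := (Submodule.mem_span_range_iff_exists_fun k).mp hq
  obtain ⟨A, hAdef⟩ : ∃ A : ℕ → k, A = fun i => if h : i < r' + 1 then a ⟨i, h⟩ else 0 :=
    ⟨_, rfl⟩
  have hqA : q = ∑ i ∈ Finset.range (r' + 1), A i • (⇑F)^[i] w := by
    rw [← ha, ← Fin.sum_univ_eq_sum_range (fun i => A i • (⇑F)^[i] w) (r' + 1)]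
    refine Finset.sum_congr rfl fun i _ => ?_
    rw [hAdef]
    simp only []
    rw [dif_pos i.2]
  by_cases hA : ∃ j ≤ r', A j ≠ 0
  · obtain ⟨y, hy0, hy⟩ := exists_y p hp2 A r' hA
    obtain ⟨x, hx⟩ : ∃ x : ℕ → k, x = xs p A y := ⟨_, rfl⟩
    have hx0 : x 0 = A 0 * y ^ p := by rw [hx]; rfl
    have hxs : ∀ i, x (i + 1) = (x i) ^ p + A (i + 1) * y ^ p := fun i => by rw [hx]; rfl
    have hxr : x r' = y := by rw [hx]; exact hy
    obtain ⟨Xy, hXy⟩ : ∃ Xy : V, Xy = ∑ i ∈ Finset.range (r' + 1), x i • (⇑F)^[i] w := ⟨_, rfl⟩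
    obtain ⟨u, huU, hu⟩ := hAS (-(y ^ p) • z) (Submodule.smul_mem _ _ hz)
    have hFX : F Xy = Xy + (y ^ p) • z := by
      have h1 : F Xy = ∑ i ∈ Finset.range (r' + 1), (x i) ^ p • (⇑F)^[i + 1] w := by
        rw [hXy, map_sum]
        refine Finset.sum_congr rfl fun i _ => ?_
        rw [hF, Function.iterate_succ_apply']
      rw [h1, Finset.sum_range_succ, hxr, ← hzq, hqA, hXy,
        Finset.sum_range_succ' (fun i => A i • (⇑F)^[i] w),
        Finset.sum_range_succ' (fun i => x i • (⇑F)^[i] w)]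
      simp only [hxs, hx0, Function.iterate_zero, id_eq, add_smul, Finset.sum_add_distrib,
        mul_smul, smul_add, Finset.smul_sum]
      have hcomm : ∀ i, y ^ p • A (i + 1) • (⇑F)^[i + 1] w = A (i + 1) • y ^ p • (⇑F)^[i + 1] w :=
        fun i => smul_comm _ _ _
      have hcomm0 : y ^ p • A 0 • w = A 0 • y ^ p • w := smul_comm _ _ _
      simp only [hcomm, hcomm0]
      abel
    have hfix : F (Xy + u) = Xy + u := by
      have hu' : F u = u + -(y ^ p) • z := by rw [← hu]; abel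
      rw [map_add, hFX, hu', neg_smul]; abel
    have hXU : Xy ∈ U := by
      have h1 : Xy + u ∈ U := hV0U (Submodule.subset_span hfix)
      have : Xy = (Xy + u) - u := by abel
      rw [this]; exact sub_mem h1 huU
    apply hnot
    have h2 : y • (⇑F)^[r'] w = Xy - ∑ i ∈ Finset.range r', x i • (⇑F)^[i] w := by
      rw [hXy, Finset.sum_range_succ, hxr]; abel
    have h3 : y • (⇑F)^[r'] w ∈ Mr r' := by
      rw [h2]
      refine sub_mem (hMrU r' hXU) (sum_mem fun i hi => Submodule.smul_mem _ _ ?_)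
      exact hMrmem r' i (Finset.mem_range.mp hi)
    have h4 : (⇑F)^[r'] w = y⁻¹ • (y • (⇑F)^[r'] w) := by
      rw [smul_smul, inv_mul_cancel₀ hy0, one_smul]
    rw [h4]; exact Submodule.smul_mem _ _ h3
  · push Not at hA
    have hq0 : q = 0 := by
      rw [hqA]
      refine Finset.sum_eq_zero fun i hi => ?_
      rw [hA i (by have := Finset.mem_range.mp hi; omega), zero_smul]
    rw [hq0, add_zero] at hzq
    apply hw
    rw [hU] at hz
    obtain ⟨z0, hz0, zn, hzn, hz0n⟩ := Submodule.mem_sup.mp hz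
    obtain ⟨z0', hz0', hz0'e⟩ := surj_V0 F hF (r' + 1) hz0
    obtain ⟨m, hm⟩ := nil_of_mem F hF hzn
    have h1 : (⇑F)^[r' + 1] (w - z0') = zn := by
      rw [iterate_map_sub, hz0'e, ← hzq, ← hz0n]; abel
    have h2 : (⇑F)^[m + (r' + 1)] (w - z0') = 0 := by
      rw [Function.iterate_add_apply, h1, hm]
    have h3 : w - z0' ∈ U := hVnU (Submodule.subset_span ⟨_, h2⟩)
    have : w = z0' + (w - z0') := by abel
    rw [this]; exact add_mem (hV0U hz0') h3

include hF in
theorem main8604 :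
    IsCompl (Submodule.span k {v : V | F v = v})
        (Submodule.span k {v : V | ∃ m : ℕ, (⇑F)^[m] v = 0}) ∧
      ∀ (s : Finset V), (∀ v ∈ s, F v = v) →
        (∀ c : s → ℤ, (∑ v : s, c v • (v : V)) = 0 → ∀ v : s, (p : ℤ) ∣ c v) →
          LinearIndependent k (fun v : s => (v : V)) := by
  refine ⟨⟨?_, ?_⟩, fun s hs hZ => part2 F hF s hs hZ⟩
  · rw [Submodule.disjoint_def]
    intro x h0 hn
    exact disj F hF h0 hn
  · rw [codisjoint_iff]
    exact sup_top F hF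

end main
end Groth.Agent.H3Fx
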