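import Mathlib

namespace Groth.Agent.H3Gf
universe u

theorem core {P S : Type u} [CommRing P] [IsDomain P] [CommRing S] [IsDomain S] [Algebra P S]
    (hinj : Function.Injective (algebraMap P S)) (N : Submodule P S) (hN : N.FG)
    (h1 : P) (h10 : h1 ≠ 0) (hS : ∀ s : S, ∃ n : ℕ, (h1 ^ n) • s ∈ N) :
    ∃ g0 : P, g0 ≠ 0 ∧ ∀ (Sh : Type u) [CommRing Sh] [Algebra S Sh]
      [IsLocalization.Away (algebraMap P S (h1 * g0)) Sh] [Algebra P Sh] [IsScalarTower P S Sh],
      Algebra.FinitePresentation P Sh := by
  classical
  obtain ⟨I, hIli, hImax⟩ := exists_maximal_linearIndepOn P (fun x : N => (x : S))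
  haveI : Module.Finite P N := Module.Finite.iff_fg.mpr hN
  have hIli' : LinearIndependent P (fun i : I => ((i : N) : S)) := hIli
  have hIliN : LinearIndependent P (fun i : I => (i : N)) := by
    apply LinearIndependent.of_comp N.subtype
    exact hIli'
  haveI : Finite I := hIliN.finite
  haveI : Fintype I := Fintype.ofFinite I
  obtain ⟨E, hEdef⟩ : ∃ E : Submodule P S,
      E = Submodule.span P (Set.range (fun i : I => ((i : N) : S))) := ⟨_, rfl⟩
  have hE : ∀ x : N, ∃ a : P, a ≠ 0 ∧ a • (x : S) ∈ E := by
    intro x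
    by_cases hx : x ∈ I
    · refine ⟨1, one_ne_zero, ?_⟩
      rw [one_smul, hEdef]
      exact Submodule.subset_span ⟨⟨x, hx⟩, rfl⟩
    · obtain ⟨a, ha, hmem⟩ := hImax x hx
      refine ⟨a, ha, ?_⟩
      have hrange : (fun x : N => (x : S)) '' I = Set.range (fun i : I => ((i : N) : S)) :=
        Set.image_eq_range _ _
      rw [hrange] at hmem
      rw [hEdef]
      exact hmem
  obtain ⟨t, ht⟩ := hN
  have htN : ∀ x ∈ t, x ∈ N := fun x hx => ht ▸ Submodule.subset_span hx
  have hE' : ∀ x : S, x ∈ t → ∃ a : P, a ≠ 0 ∧ a • x ∈ E := fun x hx => hE ⟨x, htN x hx⟩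
  choose! a ha0 haE using hE'
  obtain ⟨g0, hg0def⟩ : ∃ g0 : P, g0 = ∏ x ∈ t, a x := ⟨_, rfl⟩
  have hg0 : g0 ≠ 0 := by rw [hg0def]; exact Finset.prod_ne_zero_iff.mpr ha0
  have hg0E : ∀ z ∈ N, g0 • z ∈ E := by
    intro z hz
    rw [← ht] at hz
    refine Submodule.span_induction ?_ ?_ ?_ ?_ hz
    · intro x hx
      have hx' : x ∈ t := hx
      have hprod : g0 = (∏ x' ∈ t.erase x, a x') * a x := by
        rw [hg0def]; exact (Finset.prod_erase_mul t a hx').symm
      rw [hprod, mul_smul]
      exact Submodule.smul_mem _ _ (haE x hx')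
    · rw [smul_zero]; exact zero_mem _
    · intro x y _ _ hx hy; rw [smul_add]; exact add_mem hx hy
    · intro c x _ hx; rw [smul_comm]; exact Submodule.smul_mem _ _ hx
  refine ⟨g0, hg0, ?_⟩
  intro Sh _ _ _ _ _
  obtain ⟨h, hh⟩ : ∃ h : P, h = h1 * g0 := ⟨_, rfl⟩
  haveI hloc : IsLocalization.Away (algebraMap P S h) Sh := by rw [hh]; infer_instance
  have hh0 : h ≠ 0 := by rw [hh]; exact mul_ne_zero h10 hg0
  have hSh_inj : Function.Injective (algebraMap S Sh) := by
    apply IsLocalization.injective Sh (M := Submonoid.powers (algebraMap P S h))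
    apply powers_le_nonZeroDivisors_of_noZeroDivisors
    exact fun h0 => hh0 (hinj (h0.trans (map_zero _).symm))
  have hunit : IsUnit (algebraMap P Sh h) := by
    rw [IsScalarTower.algebraMap_apply P S Sh]
    exact IsLocalization.Away.algebraMap_isUnit (algebraMap P S h)
  letI algPh : Algebra (Localization.Away h) Sh := (IsLocalization.Away.lift h hunit).toAlgebra
  haveI tower : IsScalarTower P (Localization.Away h) Sh := IsScalarTower.of_algebraMap_eq' (by
    ext p
    show algebraMap P Sh p = IsLocalization.Away.lift h hunit (algebraMap P (Localization.Away h) p)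
    rw [IsLocalization.Away.lift_eq])
  obtain ⟨v, hv⟩ : ∃ v : I → Sh, v = fun (i : I) => algebraMap S Sh ((i.1 : N) : S) := ⟨_, rfl⟩
  have hsmul : ∀ (p : P) (x : S), algebraMap S Sh (p • x) = p • algebraMap S Sh x := fun p x => by
    rw [Algebra.smul_def, map_mul, ← IsScalarTower.algebraMap_apply, Algebra.smul_def]
  have hsmul' : ∀ (p : P) (z : Sh), (algebraMap P (Localization.Away h) p) • z = p • z :=
    fun p z => algebraMap_smul (Localization.Away h) p z
  have hli : LinearIndependent (Localization.Away h) v := by
    rw [Fintype.linearIndependent_iff]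
    intro g hg i
    obtain ⟨b, hb⟩ := IsLocalization.exist_integer_multiples_of_finite (Submonoid.powers h) g
    have hb' : ∀ i, ∃ q : P, algebraMap P (Localization.Away h) q = (b : P) • g i :=
      fun i => RingHom.mem_rangeS.mp (hb i)
    choose p hp using hb'
    have h1' : ∑ i, p i • ((i : N) : S) = 0 := by
      apply hSh_inj
      rw [map_sum, map_zero]
      calc ∑ i, algebraMap S Sh (p i • ((i : N) : S)) = ∑ i, ((b : P) • g i) • v i := by
            refine Finset.sum_congr rfl fun i _ => ?_
            rw [hsmul, ← hsmul', hp, hv]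
        _ = (b : P) • ∑ i, g i • v i := by
            rw [Finset.smul_sum]
            refine Finset.sum_congr rfl fun i _ => ?_
            rw [smul_assoc]
        _ = 0 := by rw [hg, smul_zero]
    have h2 := Fintype.linearIndependent_iff.mp hIli' p h1' i
    have h3 : (b : P) • g i = 0 := by rw [← hp, h2, map_zero]
    have hbu : IsUnit (algebraMap P (Localization.Away h) (b : P)) :=
      IsLocalization.map_units (Localization.Away h) b
    rw [Algebra.smul_def] at h3
    exact (hbu.mul_right_eq_zero).mp h3
  have hsp : ⊤ ≤ Submodule.span (Localization.Away h) (Set.range v) := by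
    intro z _
    obtain ⟨m, s, hz⟩ := IsLocalization.Away.surj (algebraMap P S h) z
    obtain ⟨n1, hn1⟩ := hS s
    have hN1 : (h ^ (n1 + 1)) • s ∈ E := by
      have e1 : h ^ (n1 + 1) • s = (h1 * g0 ^ n1) • (g0 • (h1 ^ n1 • s)) := by
        rw [smul_smul, smul_smul, hh]; congr 1; ring
      rw [e1]
      exact Submodule.smul_mem _ _ (hg0E _ hn1)
    rw [hEdef] at hN1
    obtain ⟨c, hc⟩ := (Submodule.mem_span_range_iff_exists_fun P).mp hN1
    have hη : IsUnit (algebraMap P (Localization.Away h) h) :=
      IsLocalization.Away.algebraMap_isUnit h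
    have key : (algebraMap P (Localization.Away h) h) ^ (n1 + 1 + m) • z ∈
        Submodule.span (Localization.Away h) (Set.range v) := by
      have e3 : algebraMap S Sh (h ^ (n1 + 1) • s) =
          ∑ i, (algebraMap P (Localization.Away h) (c i)) • v i := by
        rw [← hc, map_sum]
        refine Finset.sum_congr rfl fun i _ => ?_
        rw [hsmul, hsmul', hv]
      have e2 : (algebraMap P (Localization.Away h) h) ^ (n1 + 1 + m) • z =
          ∑ i, (algebraMap P (Localization.Away h) (c i)) • v i := by
        rw [← e3, hsmul, ← hz, ← map_pow (algebraMap P (Localization.Away h)), hsmul',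
          Algebra.smul_def, Algebra.smul_def, ← IsScalarTower.algebraMap_apply P S Sh,
          map_pow, map_pow]
        ring
      rw [e2]
      exact sum_mem fun i _ => Submodule.smul_mem _ _ (Submodule.subset_span ⟨i, rfl⟩)
    exact (Submodule.smul_mem_iff_of_isUnit _ (hη.pow _)).mp key
  let bas : Module.Basis I (Localization.Away h) Sh := Module.Basis.mk hli hsp
  haveI : Module.Free (Localization.Away h) Sh := Module.Free.of_basis bas
  haveI : Module.Finite (Localization.Away h) Sh := Module.Finite.of_basis bas
  haveI : Module.FinitePresentation (Localization.Away h) Sh :=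
    Module.finitePresentation_of_projective (Localization.Away h) Sh
  haveI : Algebra.FinitePresentation (Localization.Away h) Sh := inferInstance
  haveI : Algebra.FinitePresentation P (Localization.Away h) :=
    IsLocalization.Away.finitePresentation h
  exact Algebra.FinitePresentation.trans P (Localization.Away h) Sh

end Groth.Agent.H3Gf
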