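import Mathlib

namespace Groth.Agent.H3Nn

open TensorProduct MvPolynomial

universe u

attribute [local instance] Algebra.TensorProduct.rightAlgebra

theorem setup {R S : Type u} [CommRing R] [IsDomain R] [CommRing S] [Algebra R S]
    [Algebra.FiniteType R S] (hinj : Function.Injective (algebraMap R S)) :
    ∃ (d : ℕ) (y : Fin d → S)
      (g : MvPolynomial (Fin d) (FractionRing R) →ₐ[FractionRing R] (FractionRing R ⊗[R] S)),
      Function.Injective g ∧ g.IsIntegral ∧
        ∀ i, g (X i) = algebraMap S (FractionRing R ⊗[R] S) (y i) := by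
  classical
  haveI hloc : IsLocalization (Algebra.algebraMapSubmonoid S (nonZeroDivisors R))
      (FractionRing R ⊗[R] S) := IsLocalization.tensorRight _ _
  haveI : Nontrivial (FractionRing R ⊗[R] S) := by
    rw [← not_subsingleton_iff_nontrivial,
      IsLocalization.subsingleton_iff (M := Algebra.algebraMapSubmonoid S (nonZeroDivisors R))]
    rintro ⟨r, hr, h0⟩
    exact nonZeroDivisors.ne_zero hr (hinj (h0.trans (map_zero _).symm))
  obtain ⟨d, g0, hg0inj, hg0int⟩ :=
    exists_integral_inj_algHom_of_fg (FractionRing R) (FractionRing R ⊗[R] S)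
  have hden : ∀ i, ∃ (yi : S) (r : R), r ≠ 0 ∧
      algebraMap (FractionRing R) (FractionRing R ⊗[R] S) (algebraMap R (FractionRing R) r) *
        g0 (X i) = algebraMap S (FractionRing R ⊗[R] S) yi := by
    intro i
    obtain ⟨⟨s, m⟩, hsm⟩ :=
      IsLocalization.surj (Algebra.algebraMapSubmonoid S (nonZeroDivisors R)) (g0 (X i))
    obtain ⟨r, hr, hrm⟩ := m.2
    refine ⟨s, r, nonZeroDivisors.ne_zero hr, ?_⟩
    simp only at hsm
    rw [← hsm, ← hrm, mul_comm]
    congr 1
    rw [← IsScalarTower.algebraMap_apply R (FractionRing R) (FractionRing R ⊗[R] S),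
      ← IsScalarTower.algebraMap_apply R S (FractionRing R ⊗[R] S)]
  choose y r hr hyr using hden
  let c : Fin d → FractionRing R := fun i => algebraMap R (FractionRing R) (r i)
  have hc : ∀ i, c i ≠ 0 := fun i =>
    (map_ne_zero_iff _ (IsFractionRing.injective R (FractionRing R))).mpr (hr i)
  let θ : MvPolynomial (Fin d) (FractionRing R) →ₐ[FractionRing R]
      MvPolynomial (Fin d) (FractionRing R) := aeval (fun i => C (c i) * X i)
  let θi : MvPolynomial (Fin d) (FractionRing R) →ₐ[FractionRing R]
      MvPolynomial (Fin d) (FractionRing R) := aeval (fun i => C (c i)⁻¹ * X i)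
  have hθθi : θ.comp θi = AlgHom.id (FractionRing R) _ := by
    apply MvPolynomial.algHom_ext; intro i
    show θ (θi (X i)) = X i
    simp only [θ, θi, aeval_X, map_mul, aeval_C, MvPolynomial.algebraMap_eq]
    rw [← mul_assoc, ← C_mul, inv_mul_cancel₀ (hc i), C_1, one_mul]
  have hθiθ : θi.comp θ = AlgHom.id (FractionRing R) _ := by
    apply MvPolynomial.algHom_ext; intro i
    show θi (θ (X i)) = X i
    simp only [θ, θi, aeval_X, map_mul, aeval_C, MvPolynomial.algebraMap_eq]
    rw [← mul_assoc, ← C_mul, mul_inv_cancel₀ (hc i), C_1, one_mul]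
  refine ⟨d, y, g0.comp θ, ?_, ?_, ?_⟩
  · exact hg0inj.comp (Function.LeftInverse.injective (g := θi)
      (fun p => AlgHom.congr_fun hθiθ p))
  · intro x
    obtain ⟨p, hpm, hp⟩ := hg0int x
    refine ⟨p.map θi.toRingHom, hpm.map _, ?_⟩
    rw [Polynomial.eval₂_map]
    have : ((g0.comp θ).toRingHom).comp θi.toRingHom = g0.toRingHom := by
      apply RingHom.ext
      intro q
      show g0 (θ (θi q)) = g0 q
      rw [show θ (θi q) = q from AlgHom.congr_fun hθθi q]
    rw [this]
    exact hp
  · intro i
    show g0 (θ (X i)) = _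
    simp only [θ, aeval_X]
    rw [map_mul, ← MvPolynomial.algebraMap_eq, AlgHom.commutes]
    exact hyr i

end Groth.Agent.H3Nn
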