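import Mathlib
import Groth.Agent.Lib.helper3.NnA

namespace Groth.Agent.H3Nn

open TensorProduct MvPolynomial

universe u

attribute [local instance] Algebra.TensorProduct.rightAlgebra
attribute [local instance] MvPolynomial.algebraMvPolynomial

theorem descend {R S : Type u} [CommRing R] [IsDomain R] [CommRing S] [Algebra R S]
    (hinj : Function.Injective (algebraMap R S))
    (d : ℕ) (y : Fin d → S)
    (g : MvPolynomial (Fin d) (FractionRing R) →ₐ[FractionRing R] (FractionRing R ⊗[R] S))
    (hgint : g.IsIntegral) (hgX : ∀ i, g (X i) = algebraMap S (FractionRing R ⊗[R] S) (y i))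
    (s : S) : ∃ c : R, c ≠ 0 ∧ IsIntegral (Algebra.adjoin R (Set.range y)) (c • s) := by
  classical
  haveI hloc : IsLocalization (Algebra.algebraMapSubmonoid S (nonZeroDivisors R))
      (FractionRing R ⊗[R] S) := IsLocalization.tensorRight _ _
  let φ : MvPolynomial (Fin d) R →ₐ[R] S := aeval y
  letI algK : Algebra (MvPolynomial (Fin d) (FractionRing R)) (FractionRing R ⊗[R] S) :=
    g.toRingHom.toAlgebra
  letI algR : Algebra (MvPolynomial (Fin d) R) (FractionRing R ⊗[R] S) :=
    (g.toRingHom.comp (MvPolynomial.map (algebraMap R (FractionRing R)))).toAlgebra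
  haveI : IsScalarTower (MvPolynomial (Fin d) R) (MvPolynomial (Fin d) (FractionRing R))
      (FractionRing R ⊗[R] S) := IsScalarTower.of_algebraMap_eq (fun x => rfl)
  have hcomp : (algebraMap (MvPolynomial (Fin d) R) (FractionRing R ⊗[R] S)) =
      (algebraMap S (FractionRing R ⊗[R] S)).comp (φ : MvPolynomial (Fin d) R →+* S) := by
    apply MvPolynomial.ringHom_ext
    · intro r
      show g (MvPolynomial.map (algebraMap R (FractionRing R)) (C r)) =
        algebraMap S (FractionRing R ⊗[R] S) (φ (C r))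
      rw [map_C, ← MvPolynomial.algebraMap_eq, AlgHom.commutes]
      have : φ (C r) = algebraMap R S r := aeval_C _ _
      rw [this, ← IsScalarTower.algebraMap_apply, ← IsScalarTower.algebraMap_apply]
    · intro i
      show g (MvPolynomial.map (algebraMap R (FractionRing R)) (X i)) =
        algebraMap S (FractionRing R ⊗[R] S) (φ (X i))
      rw [map_X, hgX]
      congr 1
      exact (aeval_X _ _).symm
  have hx : IsIntegral (MvPolynomial (Fin d) (FractionRing R))
      (algebraMap S (FractionRing R ⊗[R] S) s) := hgint _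
  obtain ⟨⟨m, hm⟩, hmint⟩ := IsIntegral.exists_multiple_integral_of_isLocalization
    ((nonZeroDivisors R).map (C (σ := Fin d))) (algebraMap S (FractionRing R ⊗[R] S) s) hx
  obtain ⟨r, hr, rfl⟩ := hm
  have hφC : ∀ a : R, φ (C a) = algebraMap R S a := fun a => aeval_C _ _
  have hsm : (⟨C r, ⟨r, hr, rfl⟩⟩ : ((nonZeroDivisors R).map (C (σ := Fin d)))) •
      algebraMap S (FractionRing R ⊗[R] S) s =
      algebraMap S (FractionRing R ⊗[R] S) (algebraMap R S r * s) := by
    show algebraMap (MvPolynomial (Fin d) R) (FractionRing R ⊗[R] S) (C r) *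
      algebraMap S (FractionRing R ⊗[R] S) s = _
    rw [hcomp, RingHom.comp_apply, map_mul]
    congr 2
    exact hφC r
  rw [hsm] at hmint
  obtain ⟨Q, hQm, hQ⟩ := hmint
  rw [hcomp, ← Polynomial.hom_eval₂] at hQ
  obtain ⟨⟨m', hm'⟩, hm'E⟩ := (IsLocalization.map_eq_zero_iff
    (Algebra.algebraMapSubmonoid S (nonZeroDivisors R)) (FractionRing R ⊗[R] S) _).mp hQ
  obtain ⟨r', hr', rfl⟩ := hm'
  simp only at hm'E
  refine ⟨r' * r, mul_ne_zero (nonZeroDivisors.ne_zero hr') (nonZeroDivisors.ne_zero hr), ?_⟩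
  have hxs : (r' * r) • s = φ (C r') * (algebraMap R S r * s) := by
    rw [hφC, Algebra.smul_def, map_mul, mul_assoc]
  rw [hxs]
  have hev := Polynomial.scaleRoots_eval₂_mul (p := Q) (φ : MvPolynomial (Fin d) R →+* S)
    (algebraMap R S r * s) (C r')
  have hzero : Polynomial.eval₂ (φ : MvPolynomial (Fin d) R →+* S)
      ((φ : MvPolynomial (Fin d) R →+* S) (C r') * (algebraMap R S r * s))
      (Polynomial.scaleRoots Q (C r')) = 0 := by
    rw [hev]
    rcases Nat.eq_zero_or_pos Q.natDegree with h0 | hpos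
    · exfalso
      have hQ1 : Q = 1 := hQm.natDegree_eq_zero.mp h0
      rw [hQ1, Polynomial.eval₂_one, mul_one] at hm'E
      exact nonZeroDivisors.ne_zero hr' (hinj (hm'E.trans (map_zero _).symm))
    · obtain ⟨k, hk⟩ := Nat.exists_eq_succ_of_ne_zero (Nat.pos_iff_ne_zero.mp hpos)
      rw [hk, pow_succ, mul_assoc]
      have : (φ : MvPolynomial (Fin d) R →+* S) (C r') = algebraMap R S r' := hφC r'
      rw [this, hm'E, mul_zero]
  have hmonic : (Polynomial.scaleRoots Q (C r')).Monic :=
    (Polynomial.monic_scaleRoots_iff _).mpr hQm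
  rw [Algebra.adjoin_range_eq_range_aeval]
  refine ⟨(Polynomial.scaleRoots Q (C r')).map (φ.rangeRestrict : _ →+* _), hmonic.map _, ?_⟩
  rw [Polynomial.eval₂_map]
  have hcc : (algebraMap (↥φ.range) S).comp (φ.rangeRestrict : MvPolynomial (Fin d) R →+* _) =
      (φ : MvPolynomial (Fin d) R →+* S) := RingHom.ext fun _ => rfl
  rw [hcc]
  exact hzero

end Groth.Agent.H3Nn
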