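import Mathlib
import Groth.Agent.Lib.helper3.NnB

namespace Groth.Agent.H3Nn

open TensorProduct MvPolynomial

universe u

attribute [local instance] Algebra.TensorProduct.rightAlgebra

theorem main2073 {R S : Type u} [CommRing R] [IsDomain R] [CommRing S] [Algebra R S]
    [Algebra.FiniteType R S] (hinj : Function.Injective (algebraMap R S)) :
    ∃ (d : ℕ) (y : Fin d → S) (S' : Subalgebra R S), AlgebraicIndependent R y ∧
      (∀ i, y i ∈ S') ∧ S'.FG ∧
      (∀ s ∈ S', IsIntegral (Algebra.adjoin R (Set.range y)) s) ∧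
      ∃ f : R, f ≠ 0 ∧ ∀ s : S, ∃ n : ℕ, (f ^ n) • s ∈ S' := by
  classical
  obtain ⟨d, y, g, hginj, hgint, hgX⟩ := setup hinj
  have hdesc := descend hinj d y g hgint hgX
  choose cf hcf0 hcfint using hdesc
  obtain ⟨t, ht⟩ := (Algebra.FiniteType.out : (⊤ : Subalgebra R S).FG)
  obtain ⟨S', hS'⟩ : ∃ S' : Subalgebra R S,
      S' = Algebra.adjoin R (Set.range y ∪ (fun s => cf s • s) '' (t : Set S)) := ⟨_, rfl⟩
  refine ⟨d, y, S', ?_, ?_, ?_, ?_, ?_⟩
  · rw [algebraicIndependent_iff_injective_aeval, injective_iff_map_eq_zero]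
    intro P hP
    have hcomp : (g.toRingHom.comp (MvPolynomial.map (algebraMap R (FractionRing R)))) =
        (algebraMap S (FractionRing R ⊗[R] S)).comp
          ((aeval y : MvPolynomial (Fin d) R →ₐ[R] S) : MvPolynomial (Fin d) R →+* S) := by
      apply MvPolynomial.ringHom_ext
      · intro r
        show g (MvPolynomial.map (algebraMap R (FractionRing R)) (C r)) =
          algebraMap S (FractionRing R ⊗[R] S) ((aeval y : MvPolynomial (Fin d) R →ₐ[R] S) (C r))
        rw [map_C, ← MvPolynomial.algebraMap_eq, AlgHom.commutes]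
        have : (aeval y : MvPolynomial (Fin d) R →ₐ[R] S) (C r) = algebraMap R S r := aeval_C _ _
        rw [this, ← IsScalarTower.algebraMap_apply, ← IsScalarTower.algebraMap_apply]
      · intro i
        show g (MvPolynomial.map (algebraMap R (FractionRing R)) (X i)) =
          algebraMap S (FractionRing R ⊗[R] S) ((aeval y : MvPolynomial (Fin d) R →ₐ[R] S) (X i))
        rw [map_X, hgX]
        congr 1
        exact (aeval_X _ _).symm
    have h1 : g (MvPolynomial.map (algebraMap R (FractionRing R)) P) =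
        algebraMap S (FractionRing R ⊗[R] S) (aeval y P) := RingHom.congr_fun hcomp P
    rw [hP, map_zero] at h1
    have h2 := hginj (h1.trans (map_zero g).symm)
    exact MvPolynomial.map_injective _ (IsFractionRing.injective R (FractionRing R))
      (h2.trans (map_zero _).symm)
  · intro i; rw [hS']; exact Algebra.subset_adjoin (Or.inl ⟨i, rfl⟩)
  · rw [hS']
    exact Subalgebra.fg_def.mpr ⟨_, (Set.finite_range y).union (t.finite_toSet.image _), rfl⟩
  · have hle : S' ≤ (integralClosure (Algebra.adjoin R (Set.range y)) S).restrictScalars R := by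
      rw [hS']
      apply Algebra.adjoin_le
      rintro x (⟨i, rfl⟩ | ⟨s, hs, rfl⟩)
      · show IsIntegral _ (y i)
        exact (isIntegral_algebraMap
          (x := (⟨y i, Algebra.subset_adjoin ⟨i, rfl⟩⟩ : Algebra.adjoin R (Set.range y))))
      · exact hcfint s
    intro s hs
    exact hle hs
  · refine ⟨∏ s ∈ t, cf s, Finset.prod_ne_zero_iff.mpr (fun s _ => hcf0 s), ?_⟩
    intro s
    have hs : s ∈ Algebra.adjoin R (t : Set S) := by rw [ht]; trivial
    induction hs using Algebra.adjoin_induction with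
    | mem x hx =>
      refine ⟨1, ?_⟩
      rw [pow_one, ← Finset.mul_prod_erase t cf (Finset.mem_coe.mp hx), mul_comm, mul_smul]
      apply Subalgebra.smul_mem
      rw [hS']; exact Algebra.subset_adjoin (Or.inr ⟨x, hx, rfl⟩)
    | algebraMap r => exact ⟨0, by rw [pow_zero, one_smul]; exact Subalgebra.algebraMap_mem _ r⟩
    | add a b _ _ ha hb =>
      obtain ⟨n1, h1⟩ := ha; obtain ⟨n2, h2⟩ := hb
      refine ⟨n1 + n2, ?_⟩
      rw [smul_add]
      apply Subalgebra.add_mem
      · rw [pow_add, mul_comm, mul_smul]; exact Subalgebra.smul_mem _ h1 _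
      · rw [pow_add, mul_smul]; exact Subalgebra.smul_mem _ h2 _
    | mul a b _ _ ha hb =>
      obtain ⟨n1, h1⟩ := ha; obtain ⟨n2, h2⟩ := hb
      refine ⟨n1 + n2, ?_⟩
      rw [pow_add, ← smul_mul_smul_comm]
      exact Subalgebra.mul_mem _ h1 h2

end Groth.Agent.H3Nn
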