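import Mathlib
import Groth.Agent.Lib.helper3.GfA
import Groth.Agent.Lib.helper3.NnC

namespace Groth.Agent.H3Gf
universe u

theorem main2140 {R S : Type u} [CommRing R] [IsDomain R] [CommRing S] [IsDomain S]
    [Algebra R S] [Algebra.FiniteType R S] (hinj : Function.Injective (algebraMap R S)) :
    ∃ (f : R) (g : S), f ≠ 0 ∧ g ≠ 0 ∧
      ∀ (Rf Sfg : Type u) [CommRing Rf] [CommRing Sfg] [Algebra R Rf] [IsLocalization.Away f Rf]
        [Algebra S Sfg] [IsLocalization.Away (algebraMap R S f * g) Sfg] [Algebra Rf Sfg]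
        [Algebra R Sfg] [IsScalarTower R S Sfg] [IsScalarTower R Rf Sfg],
        Algebra.FinitePresentation Rf Sfg := by
  classical
  obtain ⟨d, y, S', hyAI, hyS', hS'fg, hint, f, hf0, hfS⟩ := Groth.Agent.H3Nn.main2073 hinj
  letI algPS : Algebra (MvPolynomial (Fin d) R) S :=
    (MvPolynomial.aeval y : MvPolynomial (Fin d) R →ₐ[R] S).toRingHom.toAlgebra
  haveI towerRPS : IsScalarTower R (MvPolynomial (Fin d) R) S :=
    IsScalarTower.of_algHom (MvPolynomial.aeval y : MvPolynomial (Fin d) R →ₐ[R] S)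
  have halg : ∀ p : MvPolynomial (Fin d) R,
      algebraMap (MvPolynomial (Fin d) R) S p = MvPolynomial.aeval y p := fun p => rfl
  have hinjP : Function.Injective (algebraMap (MvPolynomial (Fin d) R) S) :=
    (algebraicIndependent_iff_injective_aeval.mp hyAI)
  obtain ⟨t, ht⟩ := hS'fg
  have hintP : ∀ x ∈ (t : Set S), IsIntegral (MvPolynomial (Fin d) R) x := by
    intro x hx
    have hxS' : x ∈ S' := ht ▸ Algebra.subset_adjoin hx
    obtain ⟨q, hqm, hq0⟩ := hint x hxS'
    have hT : ∀ p : MvPolynomial (Fin d) R,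
        ((MvPolynomial.aeval y : MvPolynomial (Fin d) R →ₐ[R] S) : MvPolynomial (Fin d) R →+* S) p
          ∈ Algebra.adjoin R (Set.range y) := by
      intro p
      rw [Algebra.adjoin_range_eq_range_aeval]
      exact ⟨p, rfl⟩
    obtain ⟨ρ, hρ⟩ : ∃ ρ : MvPolynomial (Fin d) R →+* ↥(Algebra.adjoin R (Set.range y)),
        ρ = ((MvPolynomial.aeval y : MvPolynomial (Fin d) R →ₐ[R] S) :
          MvPolynomial (Fin d) R →+* S).codRestrict (Algebra.adjoin R (Set.range y)) hT :=
      ⟨_, rfl⟩
    have hρsurj : Function.Surjective ρ := by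
      rintro ⟨z, hz⟩
      have hz' := hz
      rw [Algebra.adjoin_range_eq_range_aeval] at hz'
      obtain ⟨p, hp⟩ := hz'
      refine ⟨p, ?_⟩
      apply Subtype.ext
      rw [hρ]
      exact hp
    obtain ⟨q', hq'map, -, hq'm⟩ := Polynomial.lifts_and_natDegree_eq_and_monic
      ((Polynomial.mem_lifts q).mpr (Polynomial.map_surjective ρ hρsurj q)) hqm
    refine ⟨q', hq'm, ?_⟩
    have hcomp : algebraMap (MvPolynomial (Fin d) R) S =
        (algebraMap (↥(Algebra.adjoin R (Set.range y))) S).comp ρ := by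
      ext p
      · rw [hρ]; rfl
      · rw [hρ]; rfl
    rw [hcomp, ← Polynomial.eval₂_map, hq'map]
    exact hq0
  obtain ⟨N, hNdef⟩ : ∃ N : Submodule (MvPolynomial (Fin d) R) S,
      N = Subalgebra.toSubmodule (Algebra.adjoin (MvPolynomial (Fin d) R) (t : Set S)) :=
    ⟨_, rfl⟩
  have hNfg : N.FG := by rw [hNdef]; exact fg_adjoin_of_finite t.finite_toSet hintP
  have hS'N : ∀ s ∈ S', s ∈ N := by
    intro s hs
    rw [← ht] at hs
    have hle : Algebra.adjoin R (t : Set S) ≤
        (Algebra.adjoin (MvPolynomial (Fin d) R) (t : Set S)).restrictScalars R :=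
      Algebra.adjoin_le (fun x hx => Algebra.subset_adjoin hx)
    rw [hNdef]
    exact hle hs
  have hSN : ∀ s : S, ∃ n : ℕ, ((MvPolynomial.C f : MvPolynomial (Fin d) R) ^ n) • s ∈ N := by
    intro s
    obtain ⟨n, hn⟩ := hfS s
    refine ⟨n, ?_⟩
    have : ((MvPolynomial.C f : MvPolynomial (Fin d) R) ^ n) • s = f ^ n • s := by
      rw [Algebra.smul_def, halg, map_pow, MvPolynomial.aeval_C, ← map_pow, ← Algebra.smul_def]
    rw [this]; exact hS'N _ hn
  have hCf : (MvPolynomial.C f : MvPolynomial (Fin d) R) ≠ 0 := by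
    rw [Ne, MvPolynomial.C_eq_zero]; exact hf0
  obtain ⟨g0, hg0, hcore⟩ := core hinjP N hNfg (MvPolynomial.C f) hCf hSN
  refine ⟨f, MvPolynomial.aeval y g0, hf0, ?_, ?_⟩
  · intro h0
    exact hg0 (hinjP (h0.trans (map_zero _).symm))
  · intro Rf Sfg _ _ _ _ _ _ _ _ _ _
    letI algPSfg : Algebra (MvPolynomial (Fin d) R) Sfg :=
      ((algebraMap S Sfg).comp (algebraMap (MvPolynomial (Fin d) R) S)).toAlgebra
    haveI : IsScalarTower (MvPolynomial (Fin d) R) S Sfg := IsScalarTower.of_algebraMap_eq' rfl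
    have helt : algebraMap (MvPolynomial (Fin d) R) S (MvPolynomial.C f * g0) =
        algebraMap R S f * MvPolynomial.aeval y g0 := by
      rw [map_mul, halg, halg, MvPolynomial.aeval_C]
    haveI : IsLocalization.Away (algebraMap (MvPolynomial (Fin d) R) S (MvPolynomial.C f * g0)) Sfg := by
      rw [helt]; infer_instance
    haveI fpP : Algebra.FinitePresentation (MvPolynomial (Fin d) R) Sfg := hcore Sfg
    haveI : IsScalarTower R (MvPolynomial (Fin d) R) Sfg := IsScalarTower.of_algebraMap_eq' (by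
      ext r
      show algebraMap R Sfg r = algebraMap S Sfg (algebraMap (MvPolynomial (Fin d) R) S
        (algebraMap R (MvPolynomial (Fin d) R) r))
      rw [← IsScalarTower.algebraMap_apply R (MvPolynomial (Fin d) R) S,
        ← IsScalarTower.algebraMap_apply R S Sfg])
    haveI fpR : Algebra.FinitePresentation R Sfg :=
      Algebra.FinitePresentation.trans R (MvPolynomial (Fin d) R) Sfg
    haveI : Algebra.FinitePresentation R Rf := IsLocalization.Away.finitePresentation f
    exact Algebra.FinitePresentation.of_restrict_scalars_finitePresentation R Rf Sfg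

end Groth.Agent.H3Gf
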