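import Mathlib

set_option autoImplicit false
universe u v w

namespace Groth.Agent.H3Noe

open MvPolynomial

section
variable {R : Type u} [CommRing R] {σ : Type v} [Fintype σ]

theorem eval_mem_pow_succ (I : Ideal R) (x : σ → R) (hx : ∀ i, x i ∈ I) {d : ℕ}
    (p : MvPolynomial σ R) (hp : p.IsHomogeneous d) (hc : ∀ m, coeff m p ∈ I) :
    eval x p ∈ I ^ (d + 1) := by
  rw [eval_eq']
  refine Ideal.sum_mem _ fun m hm => ?_
  rw [pow_succ']
  refine Ideal.mul_mem_mul (hc m) ?_
  have h1 : d = ∑ i, m i := by
    rw [hp.degree_eq_sum_deg_support hm]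
    exact Finset.sum_subset (Finset.subset_univ _) (fun i _ hi => by simpa using hi)
  rw [h1, ← Finset.prod_pow_eq_pow_sum]
  exact Ideal.prod_mem_prod fun i _ => Ideal.pow_mem_pow (hx i) _

theorem homogeneousComponent_mul_of_isHomogeneous (c g : MvPolynomial σ R) {e : ℕ}
    (hg : g.IsHomogeneous e) (n : ℕ) :
    homogeneousComponent n (c * g) =
      if e ≤ n then homogeneousComponent (n - e) c * g else 0 := by
  conv_lhs => rw [← sum_homogeneousComponent c, Finset.sum_mul, map_sum]
  have h1 : ∀ i, homogeneousComponent n (homogeneousComponent i c * g) =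
      if n = i + e then homogeneousComponent i c * g else 0 := by
    intro i
    apply homogeneousComponent_of_mem
    exact (homogeneousComponent_isHomogeneous i c).mul hg
  simp_rw [h1]
  split_ifs with hle
  · by_cases hlt : n - e < c.totalDegree + 1
    · rw [Finset.sum_eq_single (n - e)]
      · rw [if_pos (by omega)]
      · intro b _ hb
        rw [if_neg (by omega)]
      · intro h
        exact absurd (Finset.mem_range.mpr hlt) h
    · rw [homogeneousComponent_eq_zero _ _ (by omega), zero_mul]
      refine Finset.sum_eq_zero fun i hi => ?_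
      rw [Finset.mem_range] at hi
      rw [if_neg (by omega)]
  · refine Finset.sum_eq_zero fun i _ => ?_
    rw [if_neg (by omega)]

theorem coeff_mem_of_map_eq_zero (I : Ideal R) (D : MvPolynomial σ R)
    (hD : MvPolynomial.map (Ideal.Quotient.mk I) D = 0) (m : σ →₀ ℕ) : coeff m D ∈ I := by
  have := congrArg (coeff m) hD
  rw [coeff_map, coeff_zero, Ideal.Quotient.eq_zero_iff_mem] at this
  exact this

end

end Groth.Agent.H3Noe
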