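import Mathlib
import Groth.Agent.Lib.helper3.NoA

set_option autoImplicit false
universe u v w

namespace Groth.Agent.H3Noe

open MvPolynomial

theorem key_step {A : Type u} [CommRing A] {r : ℕ} (x : Fin r → A) (I : Ideal A)
    (hI : I = Ideal.span (Set.range x))
    {J : Type v} [Fintype J] (deg : J → ℕ) (p : J → MvPolynomial (Fin r) A)
    (hp : ∀ j, (p j).IsHomogeneous (deg j))
    (fj : J → A) (hf : ∀ j, eval x (p j) - fj j ∈ I ^ (deg j + 1))
    (n : ℕ) (q : MvPolynomial (Fin r) A) (hq : q.IsHomogeneous n)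
    (hmem : MvPolynomial.map (Ideal.Quotient.mk I) q ∈
      Ideal.span (Set.range fun j => MvPolynomial.map (Ideal.Quotient.mk I) (p j))) :
    ∃ a : J → A, (∀ j, a j ∈ I ^ (n - deg j)) ∧ eval x q - ∑ j, a j * fj j ∈ I ^ (n + 1) := by
  classical
  have hx : ∀ i, x i ∈ I := fun i => by
    rw [hI]
    exact Ideal.subset_span ⟨i, rfl⟩
  obtain ⟨c, hc⟩ := (Ideal.mem_span_range_iff_exists_fun).mp hmem
  have hsurj := MvPolynomial.map_surjective (σ := Fin r) (Ideal.Quotient.mk I)
    Ideal.Quotient.mk_surjective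
  choose ct hct using fun j => hsurj (c j)
  let u : J → MvPolynomial (Fin r) A := fun j =>
    if deg j ≤ n then homogeneousComponent (n - deg j) (ct j) else 0
  have hu : ∀ j, (u j).IsHomogeneous (n - deg j) := by
    intro j
    simp only [u]
    split_ifs
    · exact homogeneousComponent_isHomogeneous _ _
    · exact isHomogeneous_zero _ _ _
  let a : J → A := fun j => eval x (u j)
  have ha : ∀ j, a j ∈ I ^ (n - deg j) := by
    intro j
    rw [hI, Ideal.mem_span_pow_iff_exists_isHomogeneous]
    exact ⟨u j, hu j, rfl⟩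
  have ha0 : ∀ j, ¬ deg j ≤ n → a j = 0 := by
    intro j hj
    simp only [a, u, if_neg hj, map_zero]
  refine ⟨a, ha, ?_⟩
  let D : MvPolynomial (Fin r) A := q - ∑ j, ct j * p j
  have hD : MvPolynomial.map (Ideal.Quotient.mk I) D = 0 := by
    simp only [D, map_sub, map_sum, map_mul, hct]
    rw [hc, sub_self]
  have hD' : homogeneousComponent n D = q - ∑ j, u j * p j := by
    simp only [D, map_sub, map_sum]
    rw [homogeneousComponent_eq_self hq]
    congr 1
    refine Finset.sum_congr rfl fun j _ => ?_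
    rw [homogeneousComponent_mul_of_isHomogeneous _ _ (hp j)]
    simp only [u]
    split_ifs
    · rfl
    · rw [zero_mul]
  have h1 : eval x (homogeneousComponent n D) ∈ I ^ (n + 1) := by
    apply eval_mem_pow_succ I x hx _ (homogeneousComponent_isHomogeneous n D)
    intro m
    rw [coeff_homogeneousComponent]
    split_ifs
    · exact coeff_mem_of_map_eq_zero I D hD m
    · exact I.zero_mem
  rw [hD', map_sub, map_sum] at h1
  have h2 : eval x q - ∑ j, a j * fj j =
      (eval x q - ∑ j, eval x (u j * p j)) + ∑ j, a j * (eval x (p j) - fj j) := by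
    simp only [map_mul, a, mul_sub, Finset.sum_sub_distrib]
    ring
  rw [h2]
  refine Ideal.add_mem _ h1 (Ideal.sum_mem _ fun j _ => ?_)
  by_cases hj : deg j ≤ n
  · have : n + 1 = (n - deg j) + (deg j + 1) := by omega
    rw [this, pow_add]
    exact Ideal.mul_mem_mul (ha j) (hf j)
  · rw [ha0 j hj, zero_mul]
    exact Ideal.zero_mem _

end Groth.Agent.H3Noe
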