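import Mathlib
import Groth.Agent.Lib.helper3.NoB

set_option autoImplicit false
universe u v w

namespace Groth.Agent.H3Noe

open MvPolynomial

theorem noetherian_of_complete (A : Type u) [CommRing A] (I : Ideal A) (hI : I.FG)
    [IsAdicComplete I A] [IsNoetherianRing (A ⧸ I)] : IsNoetherianRing A := by
  classical
  obtain ⟨r, x, hx⟩ := Submodule.fg_iff_exists_fin_generating_family.mp hI
  have hIx : I = Ideal.span (Set.range x) := hx.symm
  rw [isNoetherianRing_iff_ideal_fg]
  intro 𝔟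
  let red : MvPolynomial (Fin r) A →+* MvPolynomial (Fin r) (A ⧸ I) :=
    MvPolynomial.map (Ideal.Quotient.mk I)
  let Sgen : Set (MvPolynomial (Fin r) (A ⧸ I)) := {e | ∃ (n : ℕ) (p : MvPolynomial (Fin r) A),
    p.IsHomogeneous n ∧ eval x p ∈ 𝔟 ⊔ I ^ (n + 1) ∧ red p = e}
  have hfg : (Ideal.span Sgen).FG := IsNoetherian.noetherian _
  obtain ⟨s', hs'sub, hs'eq⟩ := (Submodule.fg_span_iff_fg_span_finset_subset Sgen).mp hfg
  have hdata : ∀ e : s', ∃ (n : ℕ) (p : MvPolynomial (Fin r) A) (fe : A), p.IsHomogeneous n ∧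
      red p = e.1 ∧ fe ∈ 𝔟 ∧ eval x p - fe ∈ I ^ (n + 1) := by
    intro e
    obtain ⟨n, p, hp, hmem, hred⟩ := hs'sub e.2
    obtain ⟨fe, hfe, i, hi, hsum⟩ := Submodule.mem_sup.mp hmem
    refine ⟨n, p, fe, hp, hred, hfe, ?_⟩
    rw [← hsum, add_sub_cancel_left]
    exact hi
  choose deg p fj hp hred hfj hdiff using hdata
  have hrange : Set.range (fun j : s' => red (p j)) = (s' : Set (MvPolynomial (Fin r) (A ⧸ I))) := by
    ext e
    constructor
    · rintro ⟨j, rfl⟩
      show red (p j) ∈ (s' : Set (MvPolynomial (Fin r) (A ⧸ I)))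
      rw [hred]
      exact j.2
    · intro he
      exact ⟨⟨e, he⟩, hred _⟩
  have hstep : ∀ n, ∀ b ∈ 𝔟 ⊓ I ^ n, ∃ a : s' → A, (∀ j, a j ∈ I ^ (n - deg j)) ∧
      b - ∑ j, a j * fj j ∈ 𝔟 ⊓ I ^ (n + 1) := by
    intro n b hb
    have hb2 : b ∈ Ideal.span (Set.range x) ^ n := by
      rw [← hIx]
      exact hb.2
    obtain ⟨q, hq, hqb⟩ := (Ideal.mem_span_pow_iff_exists_isHomogeneous x b).mp hb2
    have hmem : red q ∈ Ideal.span (Set.range fun j : s' => red (p j)) := by
      rw [hrange]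
      have h1 : red q ∈ Ideal.span Sgen :=
        Ideal.subset_span ⟨n, q, hq, by rw [hqb]; exact Submodule.mem_sup_left hb.1, rfl⟩
      have h2 : Ideal.span Sgen = Ideal.span (s' : Set (MvPolynomial (Fin r) (A ⧸ I))) := hs'eq
      rw [h2] at h1
      exact h1
    obtain ⟨a, ha, hres⟩ := key_step x I hIx deg p hp fj hdiff n q hq hmem
    refine ⟨a, ha, ?_, by rw [← hqb]; exact hres⟩
    exact 𝔟.sub_mem hb.1 (Ideal.sum_mem _ fun j _ => Ideal.mul_mem_left _ _ (hfj j))
  have hle : 𝔟 ≤ Ideal.span (Set.range fj) := by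
    intro b hb
    let T : ℕ → Type u := fun n =>
      {t : (s' → A) × A // t.2 ∈ 𝔟 ⊓ I ^ n ∧ b - ∑ j, t.1 j * fj j = t.2}
    have step' : ∀ n (t : T n), ∃ t' : T (n + 1), ∀ j, t'.1.1 j - t.1.1 j ∈ I ^ (n - deg j) := by
      intro n t
      obtain ⟨a, ha, hres⟩ := hstep n t.1.2 t.2.1
      refine ⟨⟨(t.1.1 + a, t.1.2 - ∑ j, a j * fj j), hres, ?_⟩, fun j => ?_⟩
      · rw [← t.2.2]
        simp only [Pi.add_apply, add_mul, Finset.sum_add_distrib]
        ring
      · simp only [Pi.add_apply, add_sub_cancel_left]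
        exact ha j
    have t0 : T 0 := ⟨(0, b), ⟨hb, by rw [pow_zero, Ideal.one_eq_top]; trivial⟩, by simp⟩
    let g : ∀ n, T n := fun n => Nat.rec (motive := T) t0
      (fun n t => Classical.choose (step' n t)) n
    have hg1 : ∀ n j, (g (n + 1)).1.1 j - (g n).1.1 j ∈ I ^ (n - deg j) := fun n =>
      Classical.choose_spec (step' n (g n))
    let d : ℕ := Finset.univ.sup deg
    have hd : ∀ j, deg j ≤ d := fun j => Finset.le_sup (Finset.mem_univ j)
    have hβ : ∀ j m n, m ≤ n → (g (n + d)).1.1 j - (g (m + d)).1.1 j ∈ I ^ m := by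
      intro j m n hmn
      induction n, hmn using Nat.le_induction with
      | base => simp
      | succ n hmn ih =>
        have e : (g (n + 1 + d)).1.1 j - (g (m + d)).1.1 j =
            ((g (n + d + 1)).1.1 j - (g (n + d)).1.1 j) +
              ((g (n + d)).1.1 j - (g (m + d)).1.1 j) := by
          rw [show n + 1 + d = n + d + 1 by omega]
          ring
        rw [e]
        refine Ideal.add_mem _ ?_ ih
        have := hd j
        exact Ideal.pow_le_pow_right (by omega) (hg1 (n + d) j)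
    have hlim : ∀ j, ∃ α : A, ∀ n, (g (n + d)).1.1 j ≡ α [SMOD (I ^ n • ⊤ : Submodule A A)] := by
      intro j
      apply IsPrecomplete.prec' (I := I)
      intro m n hmn
      rw [SModEq.sub_mem, smul_eq_mul, Ideal.mul_top]
      have := hβ j m n hmn
      have h2 : (g (m + d)).1.1 j - (g (n + d)).1.1 j =
          -((g (n + d)).1.1 j - (g (m + d)).1.1 j) := by ring
      rw [h2]
      exact Ideal.neg_mem_iff _ |>.mpr this
    choose α hα using hlim
    have hzero : b - ∑ j, α j * fj j = 0 := by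
      apply IsHausdorff.haus' (I := I)
      intro n
      rw [SModEq.sub_mem, sub_zero, smul_eq_mul, Ideal.mul_top]
      have e : b - ∑ j, α j * fj j = (g (n + d)).1.2 +
          ∑ j, ((g (n + d)).1.1 j - α j) * fj j := by
        rw [← (g (n + d)).2.2]
        simp only [sub_mul, Finset.sum_sub_distrib]
        ring
      rw [e]
      refine Ideal.add_mem _ ?_ (Ideal.sum_mem _ fun j _ => ?_)
      · exact Ideal.pow_le_pow_right (by omega) (g (n + d)).2.1.2
      · have := hα j n
        rw [SModEq.sub_mem, smul_eq_mul, Ideal.mul_top] at this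
        exact Ideal.mul_mem_right _ _ this
    rw [sub_eq_zero] at hzero
    rw [hzero]
    exact Ideal.sum_mem _ fun j _ => Ideal.mul_mem_left _ _ (Ideal.subset_span ⟨j, rfl⟩)
  have heq : 𝔟 = Ideal.span (Set.range fj) := by
    apply le_antisymm hle
    rw [Ideal.span_le]
    rintro _ ⟨j, rfl⟩
    exact hfj j
  rw [heq]
  exact Submodule.fg_span (Set.finite_range fj)

end Groth.Agent.H3Noe
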