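import Mathlib
import Groth.Agent.Lib.helper3.GlB
import Groth.Agent.Lib.helper3.NoC

set_option autoImplicit false
universe u v w

namespace Groth.Agent.H3AdL

theorem nilpotent_nakayama {R : Type u} [CommRing R] (𝔪 𝔧 : Ideal R) (_h1 : 𝔧 ≤ 𝔪)
    (h2 : 𝔪 ≤ 𝔧 ⊔ 𝔪 ^ 2) (k : ℕ) (hk : 𝔪 ^ (k + 1) = ⊥) : 𝔪 ≤ 𝔧 := by
  have h3 : ∀ i, 𝔪 ≤ 𝔧 ⊔ 𝔪 ^ (i + 1) := by
    intro i
    induction i with
    | zero =>
      rw [zero_add, pow_one]
      exact le_sup_right
    | succ i ih =>
      have h4 : 𝔪 ^ (i + 1) ≤ 𝔧 ⊔ 𝔪 ^ (i + 1 + 1) := by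
        cases i with
        | zero =>
          rw [zero_add, pow_one]
          exact h2
        | succ i =>
          have h5 : 𝔪 ^ (i + 1 + 1) = 𝔪 * 𝔪 ^ (i + 1) := pow_succ' _ _
          rw [h5]
          calc 𝔪 * 𝔪 ^ (i + 1) ≤ (𝔧 ⊔ 𝔪 ^ 2) * 𝔪 ^ (i + 1) := Ideal.mul_mono_left h2
            _ = 𝔧 * 𝔪 ^ (i + 1) ⊔ 𝔪 ^ 2 * 𝔪 ^ (i + 1) := Ideal.sup_mul _ _ _
            _ ≤ 𝔧 ⊔ 𝔪 ^ (i + 1 + 1 + 1) := by
              refine sup_le_sup Ideal.mul_le_left ?_
              rw [← pow_add]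
              exact le_of_eq (by congr 1; omega)
      exact ih.trans (sup_le le_sup_left h4)
  have := h3 k
  rw [hk, sup_bot_eq] at this
  exact this

theorem main4339
    (B : ℕ → Type u) [∀ n, CommRing (B n)]
    (u : ∀ n, B (n + 1) →+* B n) (hu : ∀ n, Function.Surjective (u n))
    (v : ∀ n, B n →+* B 0) (hv0 : v 0 = RingHom.id (B 0)) (hv : ∀ n, (v n).comp (u n) = v (n + 1))
    (hker : ∀ n, RingHom.ker (u n) = RingHom.ker (v (n + 1)) ^ (n + 1))
    (hfg : (RingHom.ker (v 1)).FG)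
    (A : Type u) [CommRing A] (p : ∀ n, A →+* B n)
    (hp : ∀ n, (u n).comp (p (n + 1)) = p n)
    (hinj : ∀ x : A, (∀ n, p n x = 0) → x = 0)
    (hlift : ∀ y : (∀ n, B n), (∀ n, u n (y (n + 1)) = y n) → ∃ x : A, ∀ n, p n x = y n) :
    IsNoetherianRing A ↔ IsNoetherianRing (B 0) := by
  have hsurj : ∀ n, Function.Surjective (p n) := by
    intro n y
    obtain ⟨x, hx, hxn⟩ := exists_compat_seq (fun n => u n) hu n y
    obtain ⟨l, hl⟩ := hlift x hx
    exact ⟨l, by rw [hl, hxn]⟩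
  constructor
  · intro hA
    exact isNoetherianRing_of_surjective A (B 0) (p 0) (hsurj 0)
  intro hB0
  have hp' : ∀ n a, u n (p (n + 1) a) = p n a := fun n a => RingHom.congr_fun (hp n) a
  have hv' : ∀ n b, v n (u n b) = v (n + 1) b := fun n b => RingHom.congr_fun (hv n) b
  have hvp : ∀ n a, v n (p n a) = p 0 a := by
    intro n
    induction n with
    | zero => intro a; rw [hv0]; rfl
    | succ n ih => intro a; rw [← hv', hp', ih]
  set 𝔞 : Ideal A := RingHom.ker (p 0) with h𝔞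
  -- kernel of `v n` is the image of `𝔞`
  have hmap𝔞 : ∀ n, RingHom.ker (v n) = 𝔞.map (p n) := by
    intro n
    apply le_antisymm
    · intro z hz
      obtain ⟨a, rfl⟩ := hsurj n z
      refine Ideal.mem_map_of_mem _ ?_
      rw [h𝔞, RingHom.mem_ker, ← hvp n]
      exact hz
    · rw [Ideal.map_le_iff_le_comap]
      intro a ha
      rw [Ideal.mem_comap, RingHom.mem_ker, hvp]
      exact ha
  -- nilpotence
  have hnil : ∀ n, RingHom.ker (v n) ^ (n + 1) = ⊥ := by
    intro n
    have h1 : RingHom.ker (v n) = (RingHom.ker (v (n + 1))).map (u n) := by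
      rw [← hv n, ← RingHom.comap_ker, Ideal.map_comap_of_surjective _ (hu n)]
    rw [h1, ← Ideal.map_pow, ← hker, eq_bot_iff]
    rintro z hz
    obtain ⟨w, hw, rfl⟩ := (Ideal.mem_map_iff_of_surjective _ (hu n)).mp hz
    exact hw
  -- the basic step
  have hc : ∀ n, RingHom.ker (p n) ≤ 𝔞 ^ (n + 1) ⊔ RingHom.ker (p (n + 1)) := by
    intro n y hy
    have h1 : p (n + 1) y ∈ RingHom.ker (u n) := by
      rw [RingHom.mem_ker, hp']
      exact hy
    rw [hker, hmap𝔞, ← Ideal.map_pow] at h1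
    obtain ⟨w, hw, hweq⟩ := (Ideal.mem_map_iff_of_surjective _ (hsurj (n + 1))).mp h1
    have : y = w + (y - w) := by ring
    rw [this]
    exact Submodule.add_mem_sup hw (by rw [RingHom.mem_ker, map_sub, hweq, sub_self])
  have hpow𝔞 : ∀ n, 𝔞 ^ (n + 1) ≤ RingHom.ker (p n) := by
    intro n a ha
    rw [RingHom.mem_ker]
    have h1 : p n a ∈ (𝔞 ^ (n + 1)).map (p n) := Ideal.mem_map_of_mem _ ha
    rw [Ideal.map_pow, ← hmap𝔞, hnil] at h1
    exact h1
  have hc' : ∀ m, 1 ≤ m → RingHom.ker (p 1) ≤ 𝔞 ^ 2 ⊔ RingHom.ker (p m) := by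
    intro m hm
    induction m, hm using Nat.le_induction with
    | base => exact le_sup_right
    | succ m hm ih =>
      refine ih.trans (sup_le le_sup_left ?_)
      refine (hc m).trans (sup_le ?_ le_sup_right)
      exact (Ideal.pow_le_pow_right (by omega)).trans le_sup_left
  -- generators
  obtain ⟨r, g, hg⟩ := Submodule.fg_iff_exists_fin_generating_family.mp hfg
  have hg' : Ideal.span (Set.range g) = RingHom.ker (v 1) := hg
  choose x hx using fun i => hsurj 1 (g i)
  set J : Ideal A := Ideal.span (Set.range x) with hJ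
  have hJfg : J.FG := Submodule.fg_span (Set.finite_range x)
  have hx𝔞 : ∀ i, x i ∈ 𝔞 := by
    intro i
    rw [h𝔞, RingHom.mem_ker, ← hvp 1, hx, ← RingHom.mem_ker, ← hg']
    exact Ideal.subset_span ⟨i, rfl⟩
  have hJ𝔞 : J ≤ 𝔞 := by
    rw [hJ, Ideal.span_le]
    rintro _ ⟨i, rfl⟩
    exact hx𝔞 i
  have h𝔞J : 𝔞 ≤ J ⊔ RingHom.ker (p 1) := by
    intro a ha
    have h1 : p 1 a ∈ Ideal.span (Set.range g) := by
      rw [hg', RingHom.mem_ker, hvp]
      exact ha
    obtain ⟨c, hc⟩ := (Ideal.mem_span_range_iff_exists_fun).mp h1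
    choose ct hct using fun i => hsurj 1 (c i)
    have h2 : a - ∑ i, ct i * x i ∈ RingHom.ker (p 1) := by
      rw [RingHom.mem_ker, map_sub, map_sum, ← hc, sub_eq_zero]
      refine Finset.sum_congr rfl fun i _ => ?_
      rw [map_mul, hct, hx]
    have h3 : a = ∑ i, ct i * x i + (a - ∑ i, ct i * x i) := by ring
    rw [h3]
    exact Submodule.add_mem_sup
      (Ideal.sum_mem _ fun i _ => Ideal.mul_mem_left _ _ (Ideal.subset_span ⟨i, rfl⟩)) h2
  -- the kernel of `v n` is generated by the image of `J`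
  have hmapJ : ∀ n, RingHom.ker (v n) = J.map (p n) := by
    intro n
    apply le_antisymm
    · cases n with
      | zero =>
        intro z hz
        rw [RingHom.mem_ker, hv0] at hz
        have : z = 0 := hz
        rw [this]
        exact Ideal.zero_mem _
      | succ n =>
        apply nilpotent_nakayama _ _ ?_ ?_ (n + 1) (hnil (n + 1))
        · rw [hmap𝔞]
          exact Ideal.map_mono hJ𝔞
        · intro z hz
          rw [hmap𝔞] at hz
          obtain ⟨a, ha, rfl⟩ := (Ideal.mem_map_iff_of_surjective _ (hsurj (n + 1))).mp hz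
          obtain ⟨j, hj, s, hs, rfl⟩ := Submodule.mem_sup.mp (h𝔞J ha)
          obtain ⟨s2, hs2, t, ht, rfl⟩ := Submodule.mem_sup.mp (hc' (n + 1) (by omega) hs)
          rw [map_add, map_add, RingHom.mem_ker.mp ht, add_zero]
          refine Submodule.add_mem_sup (Ideal.mem_map_of_mem _ hj) ?_
          rw [hmap𝔞, ← Ideal.map_pow]
          exact Ideal.mem_map_of_mem _ hs2
    · rw [hmap𝔞]
      exact Ideal.map_mono hJ𝔞
  -- module structures
  letI alg : ∀ n, Algebra A (B n) := fun n => (p n).toAlgebra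
  let f : ∀ n, B (n + 1) →ₗ[A] B n := fun n =>
    { toFun := u n
      map_add' := map_add _
      map_smul' := fun a b => by
        simp only [Algebra.smul_def, RingHom.id_apply, map_mul]
        congr 1
        exact hp' n a }
  let π : ∀ n, A →ₗ[A] B n := fun n => Algebra.linearMap A (B n)
  have hπp : ∀ n a, π n a = p n a := fun n a => rfl
  have hker' : ∀ n, LinearMap.ker (f n) = J ^ (n + 1) • (⊤ : Submodule A (B (n + 1))) := by
    intro n
    rw [Ideal.smul_top_eq_map]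
    ext z
    rw [LinearMap.mem_ker, Submodule.restrictScalars_mem]
    show u n z = 0 ↔ z ∈ Ideal.map (p (n + 1)) (J ^ (n + 1))
    rw [Ideal.map_pow, ← hmapJ (n + 1), ← hker n, RingHom.mem_ker]
  obtain ⟨hcomplete, hrest⟩ := general_limit J f π hJfg (fun n => hu n) hker'
    (fun n => LinearMap.ext fun a => hp' n a) (fun a ha => hinj a fun n => ha n)
    (fun y hy => hlift y hy)
  have hkerp0 : RingHom.ker (p 0) = J := by
    have := (hrest 0).2
    rw [zero_add, pow_one, smul_eq_mul, Ideal.mul_top] at this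
    rw [← this]
    ext a
    rw [RingHom.mem_ker, LinearMap.mem_ker, hπp]
  haveI : IsNoetherianRing (A ⧸ J) := by
    rw [← hkerp0]
    exact isNoetherianRing_of_ringEquiv _ (RingHom.quotientKerEquivOfSurjective (hsurj 0)).symm
  exact Groth.Agent.H3Noe.noetherian_of_complete A J hJfg

end Groth.Agent.H3AdL
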