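import Mathlib
set_option autoImplicit false

namespace Groth.Agent.H3RootD

section grp
variable {G : Type*} [Group G]

theorem dih_conj_zpow (a b : G) (ha : a * a = 1) (hb : b * b = 1) (z : ℤ) :
    a * (a * b) ^ z * a = (a * b) ^ (-z) := by
  have hainv : a⁻¹ = a := inv_eq_of_mul_eq_one_right ha
  have hbinv : b⁻¹ = b := inv_eq_of_mul_eq_one_right hb
  have h1 : a * (a * b) * a⁻¹ = (a * b)⁻¹ := by
    rw [mul_inv_rev, hainv, hbinv, ← mul_assoc a a b, ha, one_mul]
  have h2 : a * (a * b) ^ z * a⁻¹ = ((a * b)⁻¹) ^ z := by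
    rw [← h1, conj_zpow]
  rw [hainv] at h2
  rw [h2, inv_zpow, zpow_neg]

theorem dih_not_mem (a b : G) (ha : a * a = 1) (hb : b * b = 1) (ha1 : a ≠ 1) (hb1 : b ≠ 1) :
    a ∉ Subgroup.zpowers (a * b) := by
  intro hmem
  obtain ⟨z, hz⟩ := Subgroup.mem_zpowers_iff.mp hmem
  have hainv : a⁻¹ = a := inv_eq_of_mul_eq_one_right ha
  have hc := dih_conj_zpow a b ha hb 1
  rw [zpow_one, zpow_neg, zpow_one] at hc
  have hcomm : a * (a * b) = (a * b) * a := by
    have : Commute ((a * b) ^ z) (a * b) := (Commute.refl _).zpow_left z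
    rw [hz] at this
    exact this.eq
  have hsq : (a * b) * (a * b) = 1 := by
    have : (a * b)⁻¹ = a * b := by
      rw [← hc, hcomm, mul_assoc, ha, mul_one]
    calc (a * b) * (a * b) = (a * b) * (a * b)⁻¹ := by rw [this]
      _ = 1 := mul_inv_cancel _
  have hsq' : (a * b) ^ (2 : ℤ) = 1 := by
    rw [zpow_ofNat, pow_two]; exact hsq
  have hz' := zpow_eq_zpow_emod z hsq'
  rw [hz] at hz'
  rcases Int.emod_two_eq_zero_or_one z with h | h
  · rw [h, zpow_zero] at hz'
    exact ha1 hz'
  · rw [h, zpow_one] at hz'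
    apply hb1
    have : a * b = a * 1 := by rw [mul_one]; exact hz'.symm
    exact mul_left_cancel this

theorem dih_set_eq (a b : G) (ha : a * a = 1) (hb : b * b = 1) :
    (Subgroup.closure ({a, b} : Set G) : Set G) =
      (Subgroup.zpowers (a * b) : Set G) ∪ (fun x => x * a) '' (Subgroup.zpowers (a * b) : Set G) := by
  have hainv : a⁻¹ = a := inv_eq_of_mul_eq_one_right ha
  have hbinv : b⁻¹ = b := inv_eq_of_mul_eq_one_right hb
  have haG : a ∈ Subgroup.closure ({a, b} : Set G) := Subgroup.subset_closure (by simp)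
  have hbG : b ∈ Subgroup.closure ({a, b} : Set G) := Subgroup.subset_closure (by simp)
  have hC : Subgroup.zpowers (a * b) ≤ Subgroup.closure ({a, b} : Set G) := by
    rw [Subgroup.zpowers_le]
    exact mul_mem haG hbG
  apply Set.Subset.antisymm
  · intro x hx
    have hx' : x ∈ Subgroup.closure ({a, b} : Set G) := hx
    -- left multiplication by a
    have hleft_a : ∀ y : G, (y ∈ (Subgroup.zpowers (a * b) : Set G) ∪
        (fun x => x * a) '' (Subgroup.zpowers (a * b) : Set G)) →
        (a * y ∈ (Subgroup.zpowers (a * b) : Set G) ∪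
        (fun x => x * a) '' (Subgroup.zpowers (a * b) : Set G)) := by
      rintro y (⟨z, rfl⟩ | ⟨_, ⟨z, rfl⟩, rfl⟩)
      · right
        refine ⟨(a * b) ^ (-z), ⟨-z, rfl⟩, ?_⟩
        change (a * b) ^ (-z) * a = a * (a * b) ^ z
        rw [← dih_conj_zpow a b ha hb z, mul_assoc, ha, mul_one]
      · left
        refine ⟨-z, ?_⟩
        change (a * b) ^ (-z) = a * ((a * b) ^ z * a)
        rw [← dih_conj_zpow a b ha hb z, mul_assoc]
    have hleft_r : ∀ y : G, (y ∈ (Subgroup.zpowers (a * b) : Set G) ∪
        (fun x => x * a) '' (Subgroup.zpowers (a * b) : Set G)) →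
        ((a * b) * y ∈ (Subgroup.zpowers (a * b) : Set G) ∪
        (fun x => x * a) '' (Subgroup.zpowers (a * b) : Set G)) := by
      rintro y (hy | ⟨y', hy', rfl⟩)
      · left
        exact mul_mem (Subgroup.mem_zpowers _) hy
      · right
        exact ⟨(a * b) * y', mul_mem (Subgroup.mem_zpowers _) hy', by simp only [mul_assoc]⟩
    have hleft_b : ∀ y : G, (y ∈ (Subgroup.zpowers (a * b) : Set G) ∪
        (fun x => x * a) '' (Subgroup.zpowers (a * b) : Set G)) →
        (b * y ∈ (Subgroup.zpowers (a * b) : Set G) ∪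
        (fun x => x * a) '' (Subgroup.zpowers (a * b) : Set G)) := by
      intro y hy
      have : b * y = a * ((a * b) * y) := by
        rw [← mul_assoc, ← mul_assoc, ha, one_mul]
      rw [this]
      exact hleft_a _ (hleft_r _ hy)
    clear hx
    induction hx' using Subgroup.closure_induction_left with
    | one => left; exact one_mem _
    | mul_left g hg y _ ih =>
      rcases hg with rfl | rfl
      · exact hleft_a y ih
      · exact hleft_b y ih
    | inv_mul_cancel g hg y _ ih =>
      rcases hg with rfl | rfl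
      · rw [hainv]; exact hleft_a y ih
      · rw [hbinv]; exact hleft_b y ih
  · rintro x (hx | ⟨y, hy, rfl⟩)
    · exact hC hx
    · exact mul_mem (hC hy) haG

theorem card_closure_pair (a b : G) (ha : a * a = 1) (hb : b * b = 1) (ha1 : a ≠ 1) (hb1 : b ≠ 1)
    (n : ℕ) (hn : 0 < n) (hord : orderOf (a * b) = n) :
    Nat.card (Subgroup.closure ({a, b} : Set G)) = 2 * n := by
  have hcardC : Nat.card (Subgroup.zpowers (a * b)) = n := by rw [Nat.card_zpowers, hord]
  have hfinC : (Subgroup.zpowers (a * b) : Set G).Finite := by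
    have : Finite (Subgroup.zpowers (a * b)) := Nat.finite_of_card_ne_zero (by rw [hcardC]; omega)
    exact Set.toFinite _
  have hnc : (Subgroup.zpowers (a * b) : Set G).ncard = n := by
    rw [← Nat.card_coe_set_eq]; exact hcardC
  have hdisj : Disjoint (Subgroup.zpowers (a * b) : Set G)
      ((fun x => x * a) '' (Subgroup.zpowers (a * b) : Set G)) := by
    rw [Set.disjoint_left]
    rintro x hx ⟨y, hy, rfl⟩
    apply dih_not_mem a b ha hb ha1 hb1
    change y * a ∈ Subgroup.zpowers (a * b) at hx
    have h := mul_mem (inv_mem hy) hx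
    rwa [inv_mul_cancel_left] at h
  have hinj : Function.Injective (fun x : G => x * a) := mul_left_injective a
  calc Nat.card (Subgroup.closure ({a, b} : Set G))
      = (Subgroup.closure ({a, b} : Set G) : Set G).ncard := (Nat.card_coe_set_eq _)
    _ = ((Subgroup.zpowers (a * b) : Set G) ∪
          (fun x => x * a) '' (Subgroup.zpowers (a * b) : Set G)).ncard := by
        rw [dih_set_eq a b ha hb]
    _ = 2 * n := by
        rw [Set.ncard_union_eq hdisj hfinC (hfinC.image _), Set.ncard_image_of_injective _ hinj, hnc]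
        ring

end grp

end Groth.Agent.H3RootD
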