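import Mathlib
set_option autoImplicit false
universe u
open Polynomial

namespace Groth.Agent.H3Hens

theorem idem_eq_zero_of_mem_jacobson {A : Type*} [CommRing A] (e : A) (he : IsIdempotentElem e)
    (hj : e ∈ Ideal.jacobson (⊥ : Ideal A)) : e = 0 := by
  have hu : IsUnit (e * (-1) + 1) := Ideal.mem_jacobson_bot.1 hj (-1)
  have h0 : e * (e * (-1) + 1) = 0 := by
    have := he.eq
    calc e * (e * (-1) + 1) = e - e * e := by ring
      _ = 0 := by rw [this, sub_self]
  exact (hu.mul_left_eq_zero).1 h0

theorem henselian_of_aic (A : Type u) [CommRing A]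
    (hA : ∀ f : A[X], f.Monic → ∃ s : Multiset A, f = (s.map fun a => X - C a).prod) (I : Ideal A)
    (hI : I ≤ Ideal.jacobson (⊥ : Ideal A))
    (hidem : ∀ e : A ⧸ I, IsIdempotentElem e → ∃ e' : A, IsIdempotentElem e' ∧ Ideal.Quotient.mk I e' = e) :
    HenselianRing A I := by
  classical
  refine ⟨hI, ?_⟩
  intro f hf a₀ hfa hder
  obtain ⟨s, hs⟩ := hA f hf
  obtain ⟨l, rfl⟩ := Quotient.exists_rep s
  set n := l.length with hn
  let a : Fin n → A := fun i => l.get i
  have hfprod : f = ∏ i : Fin n, (X - C (a i)) := by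
    rw [hs]
    change (Multiset.map (fun a => X - C a) (l : Multiset A)).prod = _
    rw [Multiset.map_coe, Multiset.prod_coe, ← Fin.prod_univ_fun_getElem]
    rfl
  let mk := Ideal.Quotient.mk I
  let u : Fin n → A ⧸ I := fun i => mk (a₀ - a i)
  let E : Fin n → A ⧸ I := fun i => ∏ j ∈ Finset.univ.erase i, u j
  have hP : ∏ j, u j = 0 := by
    have : mk (f.eval a₀) = 0 := Ideal.Quotient.eq_zero_iff_mem.2 hfa
    rw [hfprod, eval_prod, map_prod] at this
    rw [← this]
    refine Finset.prod_congr rfl fun j _ => ?_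
    simp [u]
  have hEu : ∀ i, u i * E i = 0 := by
    intro i
    rw [Finset.mul_prod_erase Finset.univ u (Finset.mem_univ i), hP]
  have hEE : ∀ i k, i ≠ k → E i * E k = 0 := by
    intro i k hik
    have hk : k ∈ Finset.univ.erase i := Finset.mem_erase.2 ⟨hik.symm, Finset.mem_univ k⟩
    have : E i = u k * ∏ j ∈ (Finset.univ.erase i).erase k, u j :=
      (Finset.mul_prod_erase _ u hk).symm
    rw [this, mul_comm (u k), mul_assoc, hEu k, mul_zero]
  have hS : mk (f.derivative.eval a₀) = ∑ i, E i := by
    rw [hfprod, derivative_prod_finset, eval_finsetSum, map_sum]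
    refine Finset.sum_congr rfl fun i _ => ?_
    rw [eval_mul, eval_prod, map_mul, map_prod]
    simp [E, u]
  obtain ⟨v, hv⟩ := hder.exists_left_inv
  rw [hS] at hv
  let ε' : Fin n → A ⧸ I := fun i => v * E i
  have hEsum : ∀ i, E i * ∑ k, E k = E i * E i := by
    intro i
    rw [Finset.mul_sum, Finset.sum_eq_single i]
    · intro k _ hki; exact hEE i k hki.symm
    · intro h; exact absurd (Finset.mem_univ i) h
  have hε'idem : ∀ i, IsIdempotentElem (ε' i) := by
    intro i
    change v * E i * (v * E i) = v * E i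
    calc v * E i * (v * E i) = v * v * (E i * E i) := by ring
      _ = v * v * (E i * ∑ k, E k) := by rw [hEsum]
      _ = v * E i * (v * ∑ k, E k) := by ring
      _ = v * E i := by rw [hv, mul_one]
  choose ε hεidem hεmk using fun i => hidem (ε' i) (hε'idem i)
  have hzero_of : ∀ x : A, IsIdempotentElem x → mk x = 0 → x = 0 := by
    intro x hx hmk
    exact idem_eq_zero_of_mem_jacobson x hx (hI (Ideal.Quotient.eq_zero_iff_mem.1 hmk))
  have horth : ∀ i k, i ≠ k → ε i * ε k = 0 := by
    intro i k hik
    apply hzero_of _ ((hεidem i).mul (hεidem k))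
    rw [map_mul, hεmk, hεmk]
    change v * E i * (v * E k) = 0
    calc v * E i * (v * E k) = v * v * (E i * E k) := by ring
      _ = 0 := by rw [hEE i k hik, mul_zero]
  have hsumidem : IsIdempotentElem (∑ i, ε i) := by
    change (∑ i, ε i) * (∑ i, ε i) = ∑ i, ε i
    rw [Finset.sum_mul]
    refine Finset.sum_congr rfl fun i _ => ?_
    rw [Finset.mul_sum, Finset.sum_eq_single i]
    · exact (hεidem i).eq
    · intro k _ hki; exact horth i k hki.symm
    · intro h; exact absurd (Finset.mem_univ i) h
  have hcomplete : ∑ i, ε i = 1 := by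
    have h1 : (1 - ∑ i, ε i) = 0 := by
      apply hzero_of _ hsumidem.one_sub
      rw [map_sub, map_one, map_sum]
      have hsum : ∑ i, mk (ε i) = ∑ i, v * E i := Finset.sum_congr rfl fun i _ => hεmk i
      rw [hsum, ← Finset.mul_sum, hv, sub_self]
    exact (sub_eq_zero.1 h1).symm
  let r : A := ∑ i, ε i * a i
  have hεr : ∀ i, ε i * (r - a i) = 0 := by
    intro i
    have : ε i * r = ε i * a i := by
      simp only [r]
      rw [Finset.mul_sum, Finset.sum_eq_single i]
      · rw [← mul_assoc, (hεidem i).eq]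
      · intro k _ hki
        rw [← mul_assoc, horth i k hki.symm, zero_mul]
      · intro h; exact absurd (Finset.mem_univ i) h
    rw [mul_sub, this, sub_self]
  refine ⟨r, ?_, ?_⟩
  · rw [Polynomial.IsRoot, hfprod, eval_prod]
    have hterm : ∀ i, ε i * ∏ j, eval r (X - C (a j)) = 0 := by
      intro i
      rw [← Finset.mul_prod_erase Finset.univ _ (Finset.mem_univ i), ← mul_assoc]
      have : eval r (X - C (a i)) = r - a i := by rw [eval_sub, eval_X, eval_C]
      rw [this, hεr i, zero_mul]
    calc ∏ j, eval r (X - C (a j)) = (∑ i, ε i) * ∏ j, eval r (X - C (a j)) := by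
          rw [hcomplete, one_mul]
      _ = ∑ i, ε i * ∏ j, eval r (X - C (a j)) := Finset.sum_mul _ _ _
      _ = 0 := Finset.sum_eq_zero fun i _ => hterm i
  · have h1 : r - a₀ = -∑ i, ε i * (a₀ - a i) := by
      have : a₀ = (∑ i, ε i) * a₀ := by rw [hcomplete, one_mul]
      conv_lhs => rw [this]
      simp only [r]
      rw [Finset.sum_mul, ← Finset.sum_sub_distrib, ← Finset.sum_neg_distrib]
      refine Finset.sum_congr rfl fun i _ => ?_
      ring
    rw [h1]
    apply (Ideal.neg_mem_iff _).2
    apply Ideal.sum_mem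
    intro i _
    rw [← Ideal.Quotient.eq_zero_iff_mem, map_mul, hεmk]
    change v * E i * u i = 0
    rw [mul_assoc, mul_comm (E i), hEu i, mul_zero]

end Groth.Agent.H3Hens
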