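import Mathlib

namespace Groth.Agent.H3Hm

theorem min_gen {B : Type*} [CommRing B] [IsLocalRing B] (P : Type*) [AddCommGroup P] [Module B P]
    [Module.Finite B P] [Nontrivial P] :
    ∃ (r : ℕ) (s : Fin (r + 1) → P), Submodule.span B (Set.range s) = ⊤ ∧
      ∀ k : Fin (r + 1) → B, ∑ i, k i • s i = 0 → ∀ i, k i ∈ IsLocalRing.maximalIdeal B := by
  classical
  have hex : ∃ n : ℕ, ∃ s : Fin n → P, Submodule.span B (Set.range s) = ⊤ :=
    Module.Finite.exists_fin
  obtain ⟨n, ⟨s, hs⟩, hmin⟩ : ∃ n, (∃ s : Fin n → P, Submodule.span B (Set.range s) = ⊤) ∧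
      ∀ n' < n, ¬ ∃ s : Fin n' → P, Submodule.span B (Set.range s) = ⊤ :=
    ⟨Nat.find hex, Nat.find_spec hex, fun n' h => Nat.find_min hex h⟩
  rcases Nat.eq_zero_or_pos n with h0 | hpos
  · exfalso
    obtain ⟨a, b, hab⟩ := exists_pair_ne P
    have htop : ∀ x : P, x = 0 := by
      intro x
      have hx : x ∈ Submodule.span B (Set.range s) := by rw [hs]; trivial
      have hempty : Set.range s = ∅ := by
        rw [Set.range_eq_empty_iff]
        rw [h0]
        exact Fin.isEmpty'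
      rw [hempty, Submodule.span_empty] at hx
      exact hx
    exact hab ((htop a).trans (htop b).symm)
  · obtain ⟨r, hr⟩ : ∃ r, n = r + 1 := ⟨n - 1, by omega⟩
    subst hr
    refine ⟨r, s, hs, fun k hk i₀ => ?_⟩
    by_contra hunit
    have hu : IsUnit (k i₀) := by
      by_contra h
      exact hunit ((IsLocalRing.mem_maximalIdeal _).2 h)
    obtain ⟨u, hu⟩ := hu
    apply hmin r (Nat.lt_succ_self r)
    refine ⟨s ∘ i₀.succAbove, ?_⟩
    rw [eq_top_iff, ← hs, Submodule.span_le]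
    rintro _ ⟨i, rfl⟩
    rcases Fin.eq_self_or_eq_succAbove i₀ i with h | ⟨j, h⟩
    · rw [h]
      rw [Fin.sum_univ_succAbove _ i₀] at hk
      have h1 : k i₀ • s i₀ = - ∑ j, k (i₀.succAbove j) • s (i₀.succAbove j) :=
        eq_neg_of_add_eq_zero_left hk
      have h2 : s i₀ = (↑u⁻¹ : B) • (- ∑ j, k (i₀.succAbove j) • s (i₀.succAbove j)) := by
        rw [← h1, smul_smul, ← hu, Units.inv_mul, one_smul]
      rw [SetLike.mem_coe, h2]
      refine Submodule.smul_mem _ _ (Submodule.neg_mem _ (Submodule.sum_mem _ fun j _ => ?_))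
      exact Submodule.smul_mem _ _ (Submodule.subset_span ⟨j, rfl⟩)
    · rw [h]
      exact Submodule.subset_span ⟨j, rfl⟩

theorem local_hom {B : Type*} [CommRing B] [IsLocalRing B] (P : Type*) [AddCommGroup P]
    [Module B P] [Module.FinitePresentation B P] [Nontrivial P] (Q : Type*) [AddCommGroup Q]
    [Module B Q] (y : Q) (hy : y ≠ 0) (J : Ideal B) (hJ : ∀ b, b ∈ J ↔ b • y = 0)
    (hrad : IsLocalRing.maximalIdeal B ≤ J.radical) :
    ∃ ψ : P →ₗ[B] Q, ψ ≠ 0 := by
  classical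
  obtain ⟨r, s, hs, hk⟩ := min_gen (B := B) P
  set π : (Fin (r + 1) → B) →ₗ[B] P := Fintype.linearCombination B s with hπdef
  have hπ : Function.Surjective π := by
    rw [← LinearMap.range_eq_top, hπdef, Fintype.range_linearCombination, hs]
  have hKfg : (LinearMap.ker π).FG := Module.FinitePresentation.fg_ker π hπ
  obtain ⟨G, hG⟩ := hKfg
  set L : Ideal B := Ideal.span
    (↑((G ×ˢ (Finset.univ : Finset (Fin (r + 1)))).image fun p => p.1 p.2) : Set B) with hL
  have hLfg : L.FG := ⟨_, rfl⟩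
  have hGL : ∀ g ∈ G, ∀ i, g i ∈ L := by
    intro g hg i
    refine Ideal.subset_span ?_
    rw [Finset.mem_coe, Finset.mem_image]
    exact ⟨(g, i), Finset.mem_product.2 ⟨hg, Finset.mem_univ _⟩, rfl⟩
  have hLm : L ≤ IsLocalRing.maximalIdeal B := by
    rw [hL, Ideal.span_le]
    intro b hb
    rw [Finset.mem_coe, Finset.mem_image] at hb
    obtain ⟨⟨g, i⟩, hgi, rfl⟩ := hb
    have hgG : g ∈ G := (Finset.mem_product.1 hgi).1
    have hgK : g ∈ LinearMap.ker π := by rw [← hG]; exact Submodule.subset_span hgG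
    rw [LinearMap.mem_ker, hπdef, Fintype.linearCombination_apply] at hgK
    exact hk g hgK i
  have hex : ∃ n : ℕ, L ^ n ≤ J :=
    Ideal.exists_pow_le_of_le_radical_of_fg (hLm.trans hrad) hLfg
  obtain ⟨n, hn, hmin⟩ : ∃ n, L ^ n ≤ J ∧ ∀ n' < n, ¬ L ^ n' ≤ J :=
    ⟨Nat.find hex, Nat.find_spec hex, fun n' h => Nat.find_min hex h⟩
  have hn0 : n ≠ 0 := by
    rintro rfl
    rw [pow_zero] at hn
    have : (1 : B) ∈ J := hn (by rw [Ideal.one_eq_top]; trivial)
    rw [hJ, one_smul] at this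
    exact hy this
  obtain ⟨n', rfl⟩ : ∃ n', n = n' + 1 := ⟨n - 1, by omega⟩
  have hnot := hmin n' (Nat.lt_succ_self _)
  rw [SetLike.not_le_iff_exists] at hnot
  obtain ⟨b, hbL, hbJ⟩ := hnot
  rw [hJ] at hbJ
  have hkill : ∀ l ∈ L, l • (b • y) = 0 := by
    intro l hl
    rw [smul_smul, ← hJ]
    apply hn
    rw [pow_succ']
    exact Ideal.mul_mem_mul hl hbL
  set φ : (Fin (r + 1) → B) →ₗ[B] Q :=
    (LinearMap.toSpanSingleton B Q (b • y)) ∘ₗ (LinearMap.proj (0 : Fin (r + 1))) with hφ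
  have hφapp : ∀ v, φ v = v 0 • (b • y) := fun v => rfl
  have hle : LinearMap.ker π ≤ LinearMap.ker φ := by
    rw [← hG, Submodule.span_le]
    intro g hg
    rw [SetLike.mem_coe, LinearMap.mem_ker, hφapp]
    exact hkill _ (hGL g hg 0)
  set e := LinearMap.quotKerEquivOfSurjective π hπ with he
  set ψ : P →ₗ[B] Q := ((LinearMap.ker π).liftQ φ hle) ∘ₗ e.symm.toLinearMap with hψ
  refine ⟨ψ, fun h0 => ?_⟩
  have h1 : ψ (π (Pi.single 0 1)) = φ (Pi.single 0 1) := by
    rw [hψ, LinearMap.comp_apply]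
    have : e.symm (π (Pi.single 0 1)) = Submodule.Quotient.mk (Pi.single 0 1) := by
      rw [LinearEquiv.symm_apply_eq, he, LinearMap.quotKerEquivOfSurjective_apply_mk]
    rw [LinearEquiv.coe_coe, this, Submodule.liftQ_apply]
  rw [h0, LinearMap.zero_apply, hφapp, Pi.single_eq_same, one_smul] at h1
  exact hbJ h1.symm

end Groth.Agent.H3Hm
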