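import Mathlib
import Groth.Agent.Lib.helper3.HmA

namespace Groth.Agent.H3Hm

universe u v

theorem main6710
    (A : Type u) [CommRing A] (M : Type v) [AddCommGroup M] [Module A M]
    [Module.FinitePresentation A M] (N : Type v) [AddCommGroup N] [Module A N] [Nontrivial N]
    (h : Module.support A N ⊆ Module.support A M) : Nontrivial (M →ₗ[A] N) := by
  classical
  obtain ⟨x, hx⟩ := exists_ne (0 : N)
  set I : Ideal A := LinearMap.ker (LinearMap.toSpanSingleton A N x) with hI
  have hImem : ∀ a, a ∈ I ↔ a • x = 0 := fun a => by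
    rw [hI, LinearMap.mem_ker, LinearMap.toSpanSingleton_apply]
  have hItop : I ≠ ⊤ := by
    intro htop
    have : (1 : A) ∈ I := by rw [htop]; trivial
    rw [hImem, one_smul] at this
    exact hx this
  obtain ⟨m, hm, hIm⟩ := Ideal.exists_le_maximal I hItop
  haveI := hm.isPrime
  obtain ⟨p, hp, -⟩ := Ideal.exists_minimalPrimes_le hIm
  haveI hpp : p.IsPrime := hp.1.1
  have hIp : I ≤ p := hp.1.2
  set S := p.primeCompl with hS
  set B := Localization.AtPrime p with hB
  set Q := LocalizedModule S N with hQ
  set P := LocalizedModule S M with hP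
  set y : Q := LocalizedModule.mk x 1 with hy
  have hy0 : y ≠ 0 := by
    intro h0
    rw [hy, ← LocalizedModule.zero_mk 1, LocalizedModule.mk_eq] at h0
    obtain ⟨u, hu⟩ := h0
    simp only [one_smul, smul_zero] at hu
    have : (u : A) ∈ I := (hImem _).2 hu
    exact u.2 (hIp this)
  haveI : Nontrivial Q := ⟨y, 0, hy0⟩
  have hpN : (⟨p, hpp⟩ : PrimeSpectrum A) ∈ Module.support A N := by
    rw [Module.mem_support_iff]
    infer_instance
  have hpM := h hpN
  rw [Module.mem_support_iff] at hpM
  haveI : Nontrivial P := hpM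
  set J : Ideal B := LinearMap.ker (LinearMap.toSpanSingleton B Q y) with hJ
  have hJmem : ∀ b, b ∈ J ↔ b • y = 0 := fun b => by
    rw [hJ, LinearMap.mem_ker, LinearMap.toSpanSingleton_apply]
  have hrad : IsLocalRing.maximalIdeal B ≤ J.radical := by
    rw [Ideal.radical_eq_sInf]
    refine le_sInf ?_
    rintro q ⟨hJq, hq⟩
    haveI := hq
    have hq' : (q.comap (algebraMap A B)).IsPrime := Ideal.comap_isPrime _ _
    have hIq : I ≤ q.comap (algebraMap A B) := by
      intro a ha
      rw [Ideal.mem_comap]
      apply hJq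
      rw [hJmem, hy, algebraMap_smul, LocalizedModule.smul'_mk, (hImem a).1 ha,
        LocalizedModule.zero_mk]
    have hqp : q.comap (algebraMap A B) ≤ p := by
      have : q ≤ IsLocalRing.maximalIdeal B := IsLocalRing.le_maximalIdeal hq.ne_top
      calc q.comap (algebraMap A B) ≤ (IsLocalRing.maximalIdeal B).comap (algebraMap A B) :=
            Ideal.comap_mono this
        _ = p := Localization.AtPrime.under_maximalIdeal
    have hpq : p ≤ q.comap (algebraMap A B) := hp.2 ⟨hq', hIq⟩ hqp
    rw [← Localization.AtPrime.map_eq_maximalIdeal, Ideal.map_le_iff_le_comap]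
    exact hpq
  obtain ⟨ψ, hψ⟩ := local_hom (B := B) P Q y hy0 J hJmem hrad
  set g : M →ₗ[A] Q := (ψ.restrictScalars A) ∘ₗ (LocalizedModule.mkLinearMap S M) with hg
  have hg0 : g ≠ 0 := by
    intro h0
    apply hψ
    have : ψ.restrictScalars A = 0 := by
      apply IsLocalizedModule.linearMap_ext S (LocalizedModule.mkLinearMap S M)
        (LocalizedModule.mkLinearMap S N)
      rw [← hg, h0, LinearMap.zero_comp]
    ext z
    exact LinearMap.congr_fun this z
  obtain ⟨f, s, hfs⟩ := Module.FinitePresentation.exists_lift_of_isLocalizedModule S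
    (LocalizedModule.mkLinearMap S N) g
  refine ⟨f, 0, fun hf0 => hg0 ?_⟩
  rw [hf0, LinearMap.comp_zero] at hfs
  ext z
  have h1 : (s • g) z = 0 := by rw [← hfs]; rfl
  rw [LinearMap.smul_apply] at h1
  have := IsLocalizedModule.smul_injective (LocalizedModule.mkLinearMap S N) s
  apply this
  simp only [smul_zero, LinearMap.zero_apply]
  exact h1

end Groth.Agent.H3Hm
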