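import Mathlib

set_option autoImplicit false
universe u v w w'

namespace Groth.Agent.H3Inv

open TensorProduct Function

section general
variable {R : Type u} [CommRing R] {B : Type v} [AddCommGroup B] [Module R B]
  {I : Type*} [AddCommGroup I] [Module R I]
  {Γ : Type w} [Finite Γ] (R' : Type w') [AddCommGroup R'] [Module R R'] [Module.Flat R R']

/-- the general principle: fixed points of finitely many endomorphisms commute with flat base change -/
theorem fixed_lTensor_iff (φ : Γ → (B →ₗ[R] B)) (ι : I →ₗ[R] B)
    (hι : ∀ b : B, (∀ γ, φ γ b = b) ↔ b ∈ LinearMap.range ι) (x : R' ⊗[R] B) :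
    (∀ γ : Γ, (φ γ).lTensor R' x = x) ↔ x ∈ LinearMap.range (ι.lTensor R') := by
  classical
  haveI : Fintype Γ := Fintype.ofFinite Γ
  set d : B →ₗ[R] (Γ → B) := LinearMap.pi (fun γ => φ γ - LinearMap.id) with hd
  have hex : Function.Exact ι d := by
    intro b
    have hb : b ∈ Set.range ι ↔ b ∈ LinearMap.range ι := Iff.rfl
    rw [hb, ← hι b]
    constructor
    · intro h γ
      have := congrFun h γ
      simpa only [hd, LinearMap.pi_apply, LinearMap.sub_apply, LinearMap.id_apply, Pi.zero_apply,
        sub_eq_zero] using this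
    · intro h
      funext γ
      simp only [hd, LinearMap.pi_apply, LinearMap.sub_apply, LinearMap.id_apply, Pi.zero_apply,
        sub_eq_zero]
      exact h γ
  have hexL := Module.Flat.lTensor_exact R' hex
  have hx : x ∈ LinearMap.range (ι.lTensor R') ↔ x ∈ Set.range (ι.lTensor R') := Iff.rfl
  rw [hx, ← (hexL x)]
  have hproj : ∀ (y : R' ⊗[R] (Γ → B)) (γ : Γ),
      (LinearMap.proj γ : (Γ → B) →ₗ[R] B).lTensor R' y =
        TensorProduct.piRight R R R' (fun _ : Γ => B) y γ := by
    intro y γ
    induction y using TensorProduct.induction_on with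
    | zero => simp
    | tmul a f => simp
    | add a b ha hb => simp only [map_add, ha, hb, Pi.add_apply]
  have hzero : ∀ y : R' ⊗[R] (Γ → B), y = 0 ↔
      ∀ γ, (LinearMap.proj γ : (Γ → B) →ₗ[R] B).lTensor R' y = 0 := by
    intro y
    constructor
    · rintro rfl γ; simp
    · intro h
      apply (TensorProduct.piRight R R R' (fun _ : Γ => B)).injective
      rw [map_zero]
      funext γ
      rw [← hproj, h γ]
      rfl
  rw [hzero]
  refine forall_congr' fun γ => ?_
  rw [← LinearMap.comp_apply, ← LinearMap.lTensor_comp]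
  have : (LinearMap.proj γ : (Γ → B) →ₗ[R] B) ∘ₗ d = φ γ - LinearMap.id := by
    ext b
    simp [hd]
  rw [this, LinearMap.lTensor_sub, LinearMap.sub_apply, LinearMap.lTensor_id, LinearMap.id_apply,
    sub_eq_zero]

theorem lTensor_injective_of_injective (ι : I →ₗ[R] B) (h : Injective ι) :
    Injective (ι.lTensor R') :=
  Module.Flat.lTensor_preserves_injective_linearMap ι h

end general

end Groth.Agent.H3Inv
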