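import Mathlib
import Groth.Agent.Lib.helper3.HvA

set_option autoImplicit false
universe u v w w'

namespace Groth.Agent.H3Inv

open TensorProduct Function

section
variable (R : Type u) [CommRing R] (B : Type v) [CommRing B] [Algebra R B]
    (Γ : Type w) [Group Γ] [MulSemiringAction Γ B] [SMulCommClass Γ R B]

/-- the submodule of invariants -/
def invSub : Submodule R B where
  carrier := {b : B | ∀ γ : Γ, γ • b = b}
  zero_mem' := fun γ => smul_zero γ
  add_mem' := by
    intro a b ha hb γ
    rw [smul_add, ha γ, hb γ]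
  smul_mem' := by
    intro r b hb γ
    rw [smul_comm, hb γ]

end

theorem main12933 (R : Type u) [CommRing R] (B : Type v) [CommRing B] [Algebra R B]
    (Γ : Type w) [Group Γ] [Finite Γ] [MulSemiringAction Γ B] [SMulCommClass Γ R B]
    (R' : Type w') [CommRing R'] [Algebra R R'] [Module.Flat R R']
    (x : R' ⊗[R] B) :
    (∀ γ : Γ, Algebra.TensorProduct.map (AlgHom.id R R') (MulSemiringAction.toAlgHom R B γ) x = x) ↔
      x ∈ Submodule.span R' ((fun b : B => (1 : R') ⊗ₜ[R] b) '' {b : B | ∀ γ : Γ, γ • b = b}) := by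
  have hmap : ∀ (γ : Γ) (y : R' ⊗[R] B),
      Algebra.TensorProduct.map (AlgHom.id R R') (MulSemiringAction.toAlgHom R B γ) y =
        ((MulSemiringAction.toAlgHom R B γ).toLinearMap).lTensor R' y := by
    intro γ y
    induction y using TensorProduct.induction_on with
    | zero => simp
    | tmul a b => simp
    | add a b ha hb => simp only [map_add, ha, hb]
  have h1 := fixed_lTensor_iff (R := R) (B := B) (Γ := Γ) R'
    (fun γ => (MulSemiringAction.toAlgHom R B γ).toLinearMap) (invSub R B Γ).subtype
    (by
      intro b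
      rw [Submodule.range_subtype]
      exact Iff.rfl) x
  simp only [hmap]
  rw [h1]
  have hrange : ∀ y : R' ⊗[R] B, y ∈ LinearMap.range ((invSub R B Γ).subtype.lTensor R') ↔
      y ∈ LinearMap.range ((invSub R B Γ).subtype.baseChange R') := by
    intro y
    simp only [LinearMap.mem_range, LinearMap.baseChange_eq_ltensor]
  rw [hrange]
  constructor
  · rintro ⟨t, rfl⟩
    clear h1 hrange hmap
    induction t using TensorProduct.induction_on with
    | zero => simp
    | tmul a b =>
      rw [LinearMap.baseChange_tmul]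
      have : a ⊗ₜ[R] ((invSub R B Γ).subtype b) = a • ((1 : R') ⊗ₜ[R] (b : B)) := by
        rw [TensorProduct.smul_tmul', smul_eq_mul, mul_one]
        rfl
      rw [this]
      exact Submodule.smul_mem _ _ (Submodule.subset_span ⟨b.1, b.2, rfl⟩)
    | add a b ha hb =>
      rw [map_add]
      exact Submodule.add_mem _ ha hb
  · intro hx
    refine Submodule.span_le.mpr ?_ hx
    rintro _ ⟨b, hb, rfl⟩
    exact ⟨(1 : R') ⊗ₜ[R] ⟨b, hb⟩, by rw [LinearMap.baseChange_tmul]; rfl⟩

end Groth.Agent.H3Inv
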