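import Mathlib
import Groth.Agent.Lib.helper3.HvA

set_option autoImplicit false
universe u v w w'

namespace Groth.Agent.H3Inv

open TensorProduct Function

theorem main9261 (S R A G : Type u) [CommRing S] [CommRing R] [Algebra S R]
    [FaithfulSMul S R] [Group G] [Finite G] [MulSemiringAction G R] [SMulCommClass G S R]
    [Algebra.IsInvariant S R G] [CommRing A] [Algebra S A] [Module.Flat S A] :
    Function.Injective (algebraMap A (TensorProduct S A R)) ∧
      ∀ x : TensorProduct S A R,
        (∀ σ : G, Algebra.TensorProduct.map (AlgHom.id S A) (MulSemiringAction.toAlgHom S R σ) x = x) →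
          x ∈ Set.range (algebraMap A (TensorProduct S A R)) := by
  have hcomp : ∀ a : A, algebraMap A (TensorProduct S A R) a =
      (Algebra.linearMap S R).lTensor A ((TensorProduct.rid S A).symm a) := by
    intro a
    rw [Algebra.TensorProduct.algebraMap_apply, TensorProduct.rid_symm_apply,
      LinearMap.lTensor_tmul, Algebra.linearMap_apply, map_one]
    rfl
  have hinj : Injective ((Algebra.linearMap S R).lTensor A) :=
    lTensor_injective_of_injective A (Algebra.linearMap S R)
      (FaithfulSMul.algebraMap_injective S R)
  refine ⟨?_, ?_⟩
  · intro a b hab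
    rw [hcomp, hcomp] at hab
    exact (TensorProduct.rid S A).symm.injective (hinj hab)
  · intro x hx
    have hmap : ∀ (γ : G) (y : A ⊗[S] R),
        Algebra.TensorProduct.map (AlgHom.id S A) (MulSemiringAction.toAlgHom S R γ) y =
          ((MulSemiringAction.toAlgHom S R γ).toLinearMap).lTensor A y := by
      intro γ y
      induction y using TensorProduct.induction_on with
      | zero => simp
      | tmul a b => simp
      | add a b ha hb => simp only [map_add, ha, hb]
    have h1 := (fixed_lTensor_iff (R := S) (B := R) (Γ := G) A
      (fun γ => (MulSemiringAction.toAlgHom S R γ).toLinearMap) (Algebra.linearMap S R)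
      (by
        intro b
        constructor
        · intro h
          obtain ⟨s, hs⟩ := Algebra.IsInvariant.isInvariant (A := S) (G := G) b h
          exact ⟨s, hs⟩
        · rintro ⟨s, rfl⟩ γ
          exact smul_algebraMap γ s) x).mp (fun γ => by rw [← hmap]; exact hx γ)
    obtain ⟨t, rfl⟩ := h1
    refine ⟨TensorProduct.rid S A t, ?_⟩
    rw [hcomp, LinearEquiv.symm_apply_apply]

end Groth.Agent.H3Inv
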