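import Mathlib

namespace Groth.Agent.H3Ic

open Polynomial

/-- elements of `(a,s)^k` are homogeneous expressions of degree `k` -/
theorem pair_pow_repr {A : Type*} [CommRing A] (a s : A) (k : ℕ) (t : A)
    (ht : t ∈ (Ideal.span {a, s}) ^ k) :
    ∃ r : ℕ → A, t = ∑ i ∈ Finset.range (k + 1), r i * a ^ i * s ^ (k - i) := by
  induction k generalizing t with
  | zero => exact ⟨fun _ => t, by simp⟩
  | succ k ih =>
    rw [pow_succ'] at ht
    refine Submodule.mul_induction_on ht ?_ ?_
    · intro y hy z hz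
      obtain ⟨c, d, rfl⟩ := Ideal.mem_span_pair.1 hy
      obtain ⟨r, rfl⟩ := ih z hz
      refine ⟨fun j => (if j = 0 then 0 else c * r (j - 1)) + (if j ≤ k then d * r j else 0), ?_⟩
      have h1 : a * ∑ i ∈ Finset.range (k + 1), r i * a ^ i * s ^ (k - i) =
          ∑ j ∈ Finset.range (k + 1 + 1), (if j = 0 then 0 else r (j - 1)) * a ^ j *
            s ^ (k + 1 - j) := by
        rw [Finset.sum_range_succ' _ (k + 1), Finset.mul_sum]
        simp only [if_true, zero_mul, add_zero]
        refine Finset.sum_congr rfl fun i _ => ?_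
        rw [if_neg (Nat.succ_ne_zero i), Nat.add_sub_cancel, Nat.add_sub_add_right, pow_succ]
        ring
      have h2 : s * ∑ i ∈ Finset.range (k + 1), r i * a ^ i * s ^ (k - i) =
          ∑ j ∈ Finset.range (k + 1 + 1), (if j ≤ k then r j else 0) * a ^ j *
            s ^ (k + 1 - j) := by
        rw [Finset.sum_range_succ _ (k + 1), Finset.mul_sum]
        rw [if_neg (by omega), zero_mul, zero_mul, add_zero]
        refine Finset.sum_congr rfl fun i hi => ?_
        have hik : i ≤ k := Nat.lt_succ_iff.1 (Finset.mem_range.1 hi)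
        rw [if_pos hik, show k + 1 - i = (k - i) + 1 by omega, pow_succ]
        ring
      calc (c * a + d * s) * ∑ i ∈ Finset.range (k + 1), r i * a ^ i * s ^ (k - i)
          = c * (a * ∑ i ∈ Finset.range (k + 1), r i * a ^ i * s ^ (k - i)) +
            d * (s * ∑ i ∈ Finset.range (k + 1), r i * a ^ i * s ^ (k - i)) := by ring
        _ = _ := by
          rw [h1, h2, Finset.mul_sum, Finset.mul_sum, ← Finset.sum_add_distrib]
          refine Finset.sum_congr rfl fun j _ => ?_
          dsimp only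
          split_ifs <;> ring
    · rintro y z ⟨r, rfl⟩ ⟨r', rfl⟩
      refine ⟨fun j => r j + r' j, ?_⟩
      rw [← Finset.sum_add_distrib]
      refine Finset.sum_congr rfl fun j _ => ?_
      ring

/-- integrality of `a/s` from `a^m ∈ s (a,s)^(m-1)` -/
theorem integral_of_pow_mem {A : Type*} [CommRing A] [IsDomain A] {K : Type*} [Field K]
    [Algebra A K] [IsFractionRing A K] (a s : A) (hs : s ≠ 0) (m : ℕ) (hm : 1 ≤ m)
    (h : a ^ m ∈ Ideal.span {s} * (Ideal.span {a, s}) ^ (m - 1)) :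
    IsIntegral A (algebraMap A K a / algebraMap A K s) := by
  obtain ⟨m', rfl⟩ : ∃ m', m = m' + 1 := ⟨m - 1, by omega⟩
  rw [Nat.add_sub_cancel] at h
  have key : ∀ w ∈ Ideal.span {s} * (Ideal.span {a, s}) ^ m',
      ∃ t ∈ (Ideal.span {a, s}) ^ m', w = s * t := by
    intro w hw
    refine Submodule.mul_induction_on hw ?_ ?_
    · intro y hy z hz
      obtain ⟨c, rfl⟩ := Ideal.mem_span_singleton'.1 hy
      exact ⟨c * z, Ideal.mul_mem_left _ _ hz, by ring⟩
    · rintro y z ⟨t, ht, rfl⟩ ⟨t', ht', rfl⟩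
      exact ⟨t + t', Ideal.add_mem _ ht ht', by ring⟩
  obtain ⟨t, ht, hat⟩ := key _ h
  obtain ⟨r, rfl⟩ := pair_pow_repr a s m' t ht
  set σ := algebraMap A K s with hσ
  set α := algebraMap A K a with hα
  have hσ0 : σ ≠ 0 := by
    rw [hσ]
    exact (map_ne_zero_iff _ (IsFractionRing.injective A K)).2 hs
  set P : A[X] := X ^ (m' + 1) - ∑ i ∈ Finset.range (m' + 1), C (r i) * X ^ i with hP
  have hdeg : (∑ i ∈ Finset.range (m' + 1), C (r i) * X ^ i : A[X]).degree < ((m' + 1 : ℕ) : WithBot ℕ) := by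
    refine (Polynomial.degree_sum_le _ _).trans_lt ?_
    rw [Finset.sup_lt_iff (WithBot.bot_lt_coe _)]
    intro i hi
    refine (Polynomial.degree_C_mul_X_pow_le _ _).trans_lt ?_
    exact_mod_cast Finset.mem_range.1 hi
  have hmonic : P.Monic := Polynomial.monic_X_pow_sub hdeg
  refine ⟨P, hmonic, ?_⟩
  rw [← Polynomial.aeval_def, hP, map_sub, map_pow, aeval_X, map_sum]
  simp only [map_mul, aeval_C, map_pow, aeval_X]
  rw [sub_eq_zero]
  have hx : (α / σ) * σ = α := div_mul_cancel₀ _ hσ0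
  apply mul_right_cancel₀ (pow_ne_zero (m' + 1) hσ0)
  rw [← mul_pow, hx, Finset.sum_mul]
  have himg : α ^ (m' + 1) = ∑ i ∈ Finset.range (m' + 1),
      algebraMap A K (r i) * α ^ i * σ ^ (m' + 1 - i) := by
    rw [hα, ← map_pow, hat, map_mul, map_sum, Finset.mul_sum]
    refine Finset.sum_congr rfl fun i hi => ?_
    have hik : i ≤ m' := Nat.lt_succ_iff.1 (Finset.mem_range.1 hi)
    rw [map_mul, map_mul, map_pow, map_pow, show m' + 1 - i = (m' - i) + 1 by omega, pow_succ]
    ring
  rw [himg]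
  refine Finset.sum_congr rfl fun i hi => ?_
  have hik : i ≤ m' := Nat.lt_succ_iff.1 (Finset.mem_range.1 hi)
  have : σ ^ (m' + 1) = σ ^ i * σ ^ (m' + 1 - i) := by
    rw [← pow_add]; congr 1; omega
  rw [this]
  calc algebraMap A K (r i) * α ^ i * σ ^ (m' + 1 - i)
      = algebraMap A K (r i) * ((α / σ) * σ) ^ i * σ ^ (m' + 1 - i) := by rw [hx]
    _ = _ := by rw [mul_pow]; ring

end Groth.Agent.H3Ic
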