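import Mathlib
import Groth.Agent.Lib.helper3.IcA

namespace Groth.Agent.H3Ic

open Polynomial

theorem core {A B : Type*} [CommRing A] [CommRing B] [Algebra A B] [Module.FaithfullyFlat A B]
    (a s : A) (n : ℕ) (hn : 1 ≤ n)
    (h : Ideal.Quotient.mk (nilradical B) (algebraMap A B (a ^ n)) ∈
      (((Ideal.span {s} * (Ideal.span {a, s}) ^ (n - 1)).map (algebraMap A B)).map
        (Ideal.Quotient.mk (nilradical B)))) :
    ∃ m, 1 ≤ m ∧ a ^ m ∈ Ideal.span {s} * (Ideal.span {a, s}) ^ (m - 1) := by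
  obtain ⟨v, hv, hveq⟩ := (Ideal.mem_map_iff_of_surjective _ Ideal.Quotient.mk_surjective).1 h
  set u := algebraMap A B (a ^ n) with hu
  have hnil : u - v ∈ nilradical B := by
    rw [← Ideal.Quotient.eq]; exact hveq.symm
  obtain ⟨N, hN⟩ := mem_nilradical.1 hnil
  set w := u - v with hw
  have hN' : w ^ (N + 1) = 0 := by rw [pow_succ, hN, zero_mul]
  set 𝔟 : Ideal A := Ideal.span {a, s} with h𝔟
  set 𝔰 : Ideal A := Ideal.span {s} with h𝔰
  have hsb : 𝔰 ≤ 𝔟 := by
    rw [h𝔰, Ideal.span_le, Set.singleton_subset_iff]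
    exact Ideal.subset_span (by simp)
  have hab : a ∈ 𝔟 := Ideal.subset_span (by simp)
  have hle : 𝔰 * 𝔟 ^ (n - 1) ≤ 𝔟 ^ n := by
    calc 𝔰 * 𝔟 ^ (n - 1) ≤ 𝔟 * 𝔟 ^ (n - 1) := Ideal.mul_mono_left hsb
      _ = 𝔟 ^ n := by rw [← pow_succ']; congr 1; omega
  have huI : u ∈ (𝔟 ^ n).map (algebraMap A B) :=
    Ideal.mem_map_of_mem _ (Ideal.pow_mem_pow hab n)
  have hvI : v ∈ (𝔟 ^ n).map (algebraMap A B) := Ideal.map_mono hle hv
  have hwI : w ∈ (𝔟 ^ n).map (algebraMap A B) := Ideal.sub_mem _ huI hvI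
  have hgeom : (∑ i ∈ Finset.range (N + 1), u ^ i * w ^ (N + 1 - 1 - i)) * (u - w) =
      u ^ (N + 1) - w ^ (N + 1) := geom_sum₂_mul u w (N + 1)
  have huw : u - w = v := by rw [hw]; ring
  rw [huw, hN', sub_zero] at hgeom
  have hsum : (∑ i ∈ Finset.range (N + 1), u ^ i * w ^ (N + 1 - 1 - i)) ∈
      ((𝔟 ^ n) ^ N).map (algebraMap A B) := by
    refine Ideal.sum_mem _ fun i hi => ?_
    have hiN : i ≤ N := Nat.lt_succ_iff.1 (Finset.mem_range.1 hi)
    rw [Ideal.map_pow]
    have e : (Ideal.map (algebraMap A B) (𝔟 ^ n)) ^ N =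
        (Ideal.map (algebraMap A B) (𝔟 ^ n)) ^ i *
          (Ideal.map (algebraMap A B) (𝔟 ^ n)) ^ (N + 1 - 1 - i) := by
      rw [← pow_add]; congr 1; omega
    rw [e]
    exact Ideal.mul_mem_mul (Ideal.pow_mem_pow huI _) (Ideal.pow_mem_pow hwI _)
  have hprod : u ^ (N + 1) ∈ (((𝔟 ^ n) ^ N) * (𝔰 * 𝔟 ^ (n - 1))).map (algebraMap A B) := by
    rw [← hgeom, Ideal.map_mul]
    exact Ideal.mul_mem_mul hsum hv
  have hideal : ((𝔟 ^ n) ^ N) * (𝔰 * 𝔟 ^ (n - 1)) = 𝔰 * 𝔟 ^ (n * (N + 1) - 1) := by
    rw [← pow_mul, mul_left_comm, ← pow_add]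
    congr 2
    rw [Nat.mul_succ]
    omega
  rw [hideal] at hprod
  refine ⟨n * (N + 1), Nat.mul_pos hn (Nat.succ_pos N) , ?_⟩
  rw [← Ideal.comap_map_eq_self_of_faithfullyFlat (B := B) (𝔰 * 𝔟 ^ (n * (N + 1) - 1)),
    Ideal.mem_comap, pow_mul, map_pow]
  exact hprod

universe u

theorem int_descend {A B : Type u} [CommRing A] [IsDomain A] [CommRing B] [Algebra A B]
    [Module.FaithfullyFlat A B]
    (R : Type u) [CommRing R] [Algebra (B ⧸ nilradical B) R] [IsFractionRing (B ⧸ nilradical B) R]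
    [Algebra A R] [IsScalarTower A (B ⧸ nilradical B) R] [Algebra (FractionRing A) R]
    [IsScalarTower A (FractionRing A) R] (x : FractionRing A)
    (hx : IsIntegral (B ⧸ nilradical B) (algebraMap (FractionRing A) R x)) : IsIntegral A x := by
  obtain ⟨a, s, hs, rfl⟩ := IsFractionRing.div_surjective (A := A) x
  have hs0 : s ≠ 0 := nonZeroDivisors.ne_zero hs
  obtain ⟨p, hp, hpx⟩ := hx
  set C := B ⧸ nilradical B with hC
  set K := FractionRing A with hK
  set f := algebraMap C R with hf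
  set sC := algebraMap A C s with hsC
  set aC := algebraMap A C a with haC
  set xR := algebraMap K R (algebraMap A K a / algebraMap A K s) with hxR
  have hσ0 : algebraMap A K s ≠ 0 :=
    (map_ne_zero_iff _ (IsFractionRing.injective A K)).2 hs0
  have hfx : f sC * xR = f aC := by
    rw [hf, hsC, haC, ← IsScalarTower.algebraMap_apply A C R, ← IsScalarTower.algebraMap_apply A C R,
      IsScalarTower.algebraMap_apply A K R s, IsScalarTower.algebraMap_apply A K R a, hxR,
      ← map_mul, mul_div_cancel₀ _ hσ0]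
  have hinj : Function.Injective f := IsFractionRing.injective C R
  have heval : eval aC (scaleRoots p sC) = 0 := by
    apply hinj
    rw [map_zero, ← eval₂_at_apply, ← hfx, scaleRoots_eval₂_mul, hpx, mul_zero]
  have hmem : ∃ n, 1 ≤ n ∧ Ideal.Quotient.mk (nilradical B) (algebraMap A B (a ^ n)) ∈
      (((Ideal.span {s} * (Ideal.span {a, s}) ^ (n - 1)).map (algebraMap A B)).map
        (Ideal.Quotient.mk (nilradical B))) := by
    by_cases hn : p.natDegree = 0
    · have hp1 : p = 1 := Polynomial.eq_one_of_monic_natDegree_zero hp hn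
      rw [hp1] at heval
      have h10 : (1 : C) = 0 := by simpa using heval
      have hall : ∀ c : C, c = 0 := fun c => by rw [← mul_one c, h10, mul_zero]
      refine ⟨1, le_rfl, ?_⟩
      rw [hall (Ideal.Quotient.mk (nilradical B) (algebraMap A B (a ^ 1)))]
      exact zero_mem _
    · refine ⟨p.natDegree, by omega, ?_⟩
      set n := p.natDegree with hn'
      rw [eval_eq_sum_range, natDegree_scaleRoots, ← hn', Finset.sum_range_succ, coeff_scaleRoots,
        ← hn', Nat.sub_self, pow_zero, mul_one, hp.coeff_natDegree, one_mul] at heval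
      have haCn : Ideal.Quotient.mk (nilradical B) (algebraMap A B (a ^ n)) = aC ^ n := by
        rw [map_pow, map_pow]; rfl
      rw [haCn, eq_neg_of_add_eq_zero_right heval]
      refine Ideal.neg_mem_iff _ |>.2 (Ideal.sum_mem _ fun i hi => ?_)
      have hin : i < n := Finset.mem_range.1 hi
      rw [coeff_scaleRoots, ← hn', mul_assoc]
      refine Ideal.mul_mem_left _ _ ?_
      have h1 : sC ^ (n - i) * aC ^ i =
          Ideal.Quotient.mk (nilradical B) (algebraMap A B (s * (s ^ (n - i - 1) * a ^ i))) := by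
        have : algebraMap A C (s * (s ^ (n - i - 1) * a ^ i)) = sC ^ (n - i) * aC ^ i := by
          rw [map_mul, map_mul, map_pow, map_pow, ← mul_assoc, ← pow_succ']
          congr 3
          omega
        rw [← this]; rfl
      rw [h1]
      refine Ideal.mem_map_of_mem _ (Ideal.mem_map_of_mem _ ?_)
      refine Ideal.mul_mem_mul (Ideal.mem_span_singleton_self s) ?_
      have e : (Ideal.span {a, s}) ^ (n - 1) =
          (Ideal.span {a, s}) ^ (n - i - 1) * (Ideal.span {a, s}) ^ i := by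
        rw [← pow_add]; congr 1; omega
      rw [e]
      exact Ideal.mul_mem_mul (Ideal.pow_mem_pow (Ideal.subset_span (by simp)) _)
        (Ideal.pow_mem_pow (Ideal.subset_span (by simp)) _)
  obtain ⟨n, hn, hmem⟩ := hmem
  obtain ⟨m, hm, hmm⟩ := core (B := B) a s n hn hmem
  exact integral_of_pow_mem a s hs0 m hm hmm

theorem main4590 {A B : Type u} [CommRing A] [IsDomain A]
    [CommRing B] [Algebra A B] [Module.FaithfullyFlat A B] :
    Function.Injective (algebraMap A (B ⧸ nilradical B)) ∧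
    (∀ a : A, a ≠ 0 → algebraMap A (B ⧸ nilradical B) a ∈ nonZeroDivisors (B ⧸ nilradical B)) ∧
    ∀ (R : Type u) [CommRing R] [Algebra (B ⧸ nilradical B) R] [IsFractionRing (B ⧸ nilradical B) R]
      [Algebra A R] [IsScalarTower A (B ⧸ nilradical B) R] [Algebra (FractionRing A) R]
      [IsScalarTower A (FractionRing A) R] (x : FractionRing A),
      IsIntegral (B ⧸ nilradical B) (algebraMap (FractionRing A) R x) ↔ IsIntegral A x := by
  have hinjB : Function.Injective (algebraMap A B) := FaithfulSMul.algebraMap_injective A B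
  have hreg : ∀ a : A, a ≠ 0 → ∀ b : B, algebraMap A B a * b = 0 → b = 0 := by
    intro a ha b hb
    rw [← Algebra.smul_def] at hb
    exact (smul_eq_zero.1 hb).resolve_left ha
  refine ⟨?_, ?_, ?_⟩
  · rw [injective_iff_map_eq_zero]
    intro a ha
    have h1 : Ideal.Quotient.mk (nilradical B) (algebraMap A B a) = 0 := ha
    rw [Ideal.Quotient.eq_zero_iff_mem, mem_nilradical] at h1
    obtain ⟨k, hk⟩ := h1
    rw [← map_pow] at hk
    have := hinjB (hk.trans (map_zero _).symm)
    exact pow_eq_zero_iff (n := k) (by rintro rfl; simp at this) |>.1 this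
  · intro a ha
    rw [mem_nonZeroDivisors_iff_right]
    intro c hc
    obtain ⟨b, rfl⟩ := Ideal.Quotient.mk_surjective c
    have h1 : Ideal.Quotient.mk (nilradical B) (b * algebraMap A B a) = 0 := hc
    rw [Ideal.Quotient.eq_zero_iff_mem, mem_nilradical] at h1 ⊢
    obtain ⟨k, hk⟩ := h1
    refine ⟨k, ?_⟩
    rw [mul_pow, mul_comm, ← map_pow] at hk
    exact hreg _ (pow_ne_zero k ha) _ hk
  · intro R _ _ _ _ _ _ _ x
    constructor
    · intro hx
      exact int_descend R x hx
    · intro hx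
      have h1 : IsIntegral A (algebraMap (FractionRing A) R x) :=
        hx.map (IsScalarTower.toAlgHom A (FractionRing A) R)
      exact h1.tower_top

end Groth.Agent.H3Ic
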