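import Mathlib
import Groth.Prelude.Def_DualLC

namespace Groth.Agent.H3In

universe u
variable {A : Type u} [CommRing A] {r : ℕ}

theorem main (f : Fin (r + 1) → A) (g : A)
    (h : Dual2.Independent (Function.update f (Fin.last r) (f (Fin.last r) * g))) :
    Module.length A (A ⧸ Ideal.span (Set.range
      (Function.update f (Fin.last r) (f (Fin.last r) * g)))) =
    Module.length A (A ⧸ Ideal.span (Set.range f)) +
      Module.length A (A ⧸ Ideal.span (Set.range (Function.update f (Fin.last r) g))) := by
  set l := Fin.last r with hl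
  set hh := Function.update f l (f l * g) with hhh
  set k := Function.update f l g with hk
  set I := Ideal.span (Set.range hh) with hI
  set I₁ := Ideal.span (Set.range f) with hI₁
  set I₂ := Ideal.span (Set.range k) with hI₂
  have hh_l : hh l = f l * g := Function.update_self ..
  have k_l : k l = g := Function.update_self ..
  have hh_ne : ∀ i, i ≠ l → hh i = f i := fun i hi => Function.update_of_ne hi ..
  have k_ne : ∀ i, i ≠ l → k i = f i := fun i hi => Function.update_of_ne hi ..
  have hfI₁ : ∀ i, f i ∈ I₁ := fun i => Ideal.subset_span ⟨i, rfl⟩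
  have hkI₂ : ∀ i, k i ∈ I₂ := fun i => Ideal.subset_span ⟨i, rfl⟩
  have hhI : ∀ i, hh i ∈ I := fun i => Ideal.subset_span ⟨i, rfl⟩
  have hII₁ : I ≤ I₁ := by
    rw [hI, Ideal.span_le]
    rintro _ ⟨i, rfl⟩
    by_cases hi : i = l
    · rw [hi, hh_l]; exact Ideal.mul_mem_right _ _ (hfI₁ l)
    · rw [hh_ne i hi]; exact hfI₁ i
  have hII₂ : I ≤ I₂ := by
    rw [hI, Ideal.span_le]
    rintro _ ⟨i, rfl⟩
    by_cases hi : i = l
    · rw [hi, hh_l, ← k_l]; exact Ideal.mul_mem_left _ _ (hkI₂ l)
    · rw [hh_ne i hi, ← k_ne i hi]; exact hkI₂ i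
  have hmul : I₂ ≤ Submodule.comap (LinearMap.mulLeft A (f l)) I := by
    rw [hI₂, Ideal.span, Submodule.span_le]
    rintro _ ⟨i, rfl⟩
    show f l * k i ∈ I
    by_cases hi : i = l
    · rw [hi, k_l, ← hh_l]; exact hhI l
    · rw [k_ne i hi, ← hh_ne i hi]; exact Ideal.mul_mem_left _ _ (hhI i)
  let ψ : (A ⧸ I₂) →ₗ[A] (A ⧸ I) := Submodule.mapQ I₂ I (LinearMap.mulLeft A (f l)) hmul
  let π : (A ⧸ I) →ₗ[A] (A ⧸ I₁) := Submodule.mapQ I I₁ LinearMap.id (by simpa using hII₁)
  have hψ : ∀ a : A, ψ (Submodule.Quotient.mk a) = Submodule.Quotient.mk (f l * a) := fun a => rfl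
  have hπ : ∀ a : A, π (Submodule.Quotient.mk a) = Submodule.Quotient.mk a := fun a => rfl
  have hinj : Function.Injective ψ := by
    rw [injective_iff_map_eq_zero]
    intro y hy
    induction y using Submodule.Quotient.induction_on with
    | H a =>
      rw [hψ, Submodule.Quotient.mk_eq_zero] at hy
      rw [Submodule.Quotient.mk_eq_zero]
      obtain ⟨c, hc⟩ := Ideal.mem_span_range_iff_exists_fun.mp hy
      have hrel : ∑ i, (g * c i - (if i = l then a else 0)) * hh i = 0 := by
        calc ∑ i, (g * c i - (if i = l then a else 0)) * hh i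
            = g * ∑ i, c i * hh i - ∑ i, (if i = l then a else 0) * hh i := by
              simp only [sub_mul, Finset.sum_sub_distrib, Finset.mul_sum, mul_assoc]
          _ = g * (f l * a) - a * hh l := by
              rw [hc]; congr 1; simp [ite_mul]
          _ = 0 := by rw [hh_l]; ring
      have hmem := h _ hrel l
      simp only [if_true] at hmem
      have h1 : g * c l ∈ I₂ := by
        rw [← k_l]; exact Ideal.mul_mem_right _ _ (hkI₂ l)
      have h2 : a = g * c l - (g * c l - a) := by ring
      rw [h2]
      exact sub_mem h1 (hII₂ hmem)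
  have hsurj : Function.Surjective π := by
    intro y
    induction y using Submodule.Quotient.induction_on with
    | H a => exact ⟨Submodule.Quotient.mk a, rfl⟩
  have hex : Function.Exact ψ π := by
    intro y
    constructor
    · intro hy
      induction y using Submodule.Quotient.induction_on with
      | H x =>
        rw [hπ, Submodule.Quotient.mk_eq_zero] at hy
        obtain ⟨c, hc⟩ := Ideal.mem_span_range_iff_exists_fun.mp hy
        refine ⟨Submodule.Quotient.mk (c l), ?_⟩
        rw [hψ]
        symm
        rw [Submodule.Quotient.eq]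
        have hsum : ∑ i, c i * f i =
            ∑ i, (if i = l then 0 else c i) * hh i + c l * f l := by
          have : ∀ i, c i * f i =
              (if i = l then 0 else c i) * hh i + (if i = l then c l * f l else 0) := by
            intro i
            by_cases hi : i = l
            · rw [if_pos hi, if_pos hi, hi]; ring
            · rw [if_neg hi, if_neg hi, hh_ne i hi]; ring
          rw [Finset.sum_congr rfl fun i _ => this i, Finset.sum_add_distrib]
          congr 1
          simp
        have hx : x - f l * c l = ∑ i, (if i = l then 0 else c i) * hh i := by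
          rw [← hc, hsum]; ring
        rw [hx]
        exact Ideal.sum_mem _ fun i _ => Ideal.mul_mem_left _ _ (hhI i)
    · rintro ⟨z, rfl⟩
      induction z using Submodule.Quotient.induction_on with
      | H a =>
        rw [hψ, hπ, Submodule.Quotient.mk_eq_zero]
        exact Ideal.mul_mem_right _ _ (hfI₁ l)
  rw [Module.length_eq_add_of_exact ψ π hinj hsurj hex, add_comm]

end Groth.Agent.H3In
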