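import Mathlib
import Groth.Prelude.Def_DualLC

namespace Groth.Agent.H3In

universe u
variable {A : Type u} [CommRing A] {n : ℕ}

section general
variable (f : Fin n → A) (l : Fin n) (g : A)
  (h : Dual2.Independent (Function.update f l (f l * g)))

include h

theorem colon_left (a : A)
    (ha : f l * a ∈ Ideal.span (Set.range (Function.update f l (f l * g)))) :
    a ∈ Ideal.span (Set.range (Function.update f l g)) := by
  set hh := Function.update f l (f l * g) with hhh
  set k := Function.update f l g with hk
  have hh_l : hh l = f l * g := Function.update_self ..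
  have k_l : k l = g := Function.update_self ..
  have hh_ne : ∀ i, i ≠ l → hh i = f i := fun i hi => Function.update_of_ne hi ..
  have k_ne : ∀ i, i ≠ l → k i = f i := fun i hi => Function.update_of_ne hi ..
  have hkI₂ : ∀ i, k i ∈ Ideal.span (Set.range k) := fun i => Ideal.subset_span ⟨i, rfl⟩
  have hII₂ : Ideal.span (Set.range hh) ≤ Ideal.span (Set.range k) := by
    rw [Ideal.span_le]
    rintro _ ⟨i, rfl⟩
    by_cases hi : i = l
    · rw [hi, hh_l, ← k_l]; exact Ideal.mul_mem_left _ _ (hkI₂ l)
    · rw [hh_ne i hi, ← k_ne i hi]; exact hkI₂ i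
  obtain ⟨c, hc⟩ := Ideal.mem_span_range_iff_exists_fun.mp ha
  have hrel : ∑ i, (g * c i - (if i = l then a else 0)) * hh i = 0 := by
    calc ∑ i, (g * c i - (if i = l then a else 0)) * hh i
        = g * ∑ i, c i * hh i - ∑ i, (if i = l then a else 0) * hh i := by
          simp only [sub_mul, Finset.sum_sub_distrib, Finset.mul_sum, mul_assoc]
      _ = g * (f l * a) - a * hh l := by
          rw [hc]; congr 1; simp [ite_mul]
      _ = 0 := by rw [hh_l]; ring
  have hmem := h _ hrel l
  simp only [if_true] at hmem
  have h1 : g * c l ∈ Ideal.span (Set.range k) := by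
    rw [← k_l]; exact Ideal.mul_mem_right _ _ (hkI₂ l)
  have h2 : a = g * c l - (g * c l - a) := by ring
  rw [h2]
  exact sub_mem h1 (hII₂ hmem)

theorem colon_right (a : A)
    (ha : g * a ∈ Ideal.span (Set.range (Function.update f l (f l * g)))) :
    a ∈ Ideal.span (Set.range f) := by
  set hh := Function.update f l (f l * g) with hhh
  have hh_l : hh l = f l * g := Function.update_self ..
  have hh_ne : ∀ i, i ≠ l → hh i = f i := fun i hi => Function.update_of_ne hi ..
  have hfI₁ : ∀ i, f i ∈ Ideal.span (Set.range f) := fun i => Ideal.subset_span ⟨i, rfl⟩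
  have hII₁ : Ideal.span (Set.range hh) ≤ Ideal.span (Set.range f) := by
    rw [Ideal.span_le]
    rintro _ ⟨i, rfl⟩
    by_cases hi : i = l
    · rw [hi, hh_l]; exact Ideal.mul_mem_right _ _ (hfI₁ l)
    · rw [hh_ne i hi]; exact hfI₁ i
  obtain ⟨c, hc⟩ := Ideal.mem_span_range_iff_exists_fun.mp ha
  have hrel : ∑ i, (f l * c i - (if i = l then a else 0)) * hh i = 0 := by
    calc ∑ i, (f l * c i - (if i = l then a else 0)) * hh i
        = f l * ∑ i, c i * hh i - ∑ i, (if i = l then a else 0) * hh i := by
          simp only [sub_mul, Finset.sum_sub_distrib, Finset.mul_sum, mul_assoc]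
      _ = f l * (g * a) - a * hh l := by
          rw [hc]; congr 1; simp [ite_mul]
      _ = 0 := by rw [hh_l]; ring
  have hmem := h _ hrel l
  simp only [if_true] at hmem
  have h1 : f l * c l ∈ Ideal.span (Set.range f) := Ideal.mul_mem_right _ _ (hfI₁ l)
  have h2 : a = f l * c l - (f l * c l - a) := by ring
  rw [h2]
  exact sub_mem h1 (hII₁ hmem)

theorem indep_left : Dual2.Independent f := by
  intro a ha i
  set hh := Function.update f l (f l * g) with hhh
  have hh_l : hh l = f l * g := Function.update_self ..
  have hh_ne : ∀ i, i ≠ l → hh i = f i := fun i hi => Function.update_of_ne hi ..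
  have hrel : ∑ j, (if j = l then a j else g * a j) * hh j = 0 := by
    have : ∀ j, (if j = l then a j else g * a j) * hh j = g * (a j * f j) := by
      intro j
      by_cases hj : j = l
      · rw [if_pos hj, hj, hh_l]; ring
      · rw [if_neg hj, hh_ne j hj]; ring
    rw [Finset.sum_congr rfl fun j _ => this j, ← Finset.mul_sum, ha, mul_zero]
  have hmem := h _ hrel i
  by_cases hi : i = l
  · rw [if_pos hi] at hmem
    have hII₁ : Ideal.span (Set.range hh) ≤ Ideal.span (Set.range f) := by
      rw [Ideal.span_le]
      rintro _ ⟨j, rfl⟩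
      by_cases hj : j = l
      · rw [hj, hh_l]; exact Ideal.mul_mem_right _ _ (Ideal.subset_span ⟨l, rfl⟩)
      · rw [hh_ne j hj]; exact Ideal.subset_span ⟨j, rfl⟩
    exact hII₁ hmem
  · rw [if_neg hi] at hmem
    exact colon_right f l g h _ hmem

theorem indep_right : Dual2.Independent (Function.update f l g) := by
  intro a ha i
  set hh := Function.update f l (f l * g) with hhh
  set k := Function.update f l g with hk
  have hh_l : hh l = f l * g := Function.update_self ..
  have k_l : k l = g := Function.update_self ..
  have hh_ne : ∀ i, i ≠ l → hh i = f i := fun i hi => Function.update_of_ne hi ..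
  have k_ne : ∀ i, i ≠ l → k i = f i := fun i hi => Function.update_of_ne hi ..
  have hrel : ∑ j, (if j = l then a j else f l * a j) * hh j = 0 := by
    have : ∀ j, (if j = l then a j else f l * a j) * hh j = f l * (a j * k j) := by
      intro j
      by_cases hj : j = l
      · rw [if_pos hj, hj, hh_l, k_l]; ring
      · rw [if_neg hj, hh_ne j hj, k_ne j hj]; ring
    rw [Finset.sum_congr rfl fun j _ => this j, ← Finset.mul_sum, ha, mul_zero]
  have hmem := h _ hrel i
  by_cases hi : i = l
  · rw [if_pos hi] at hmem
    have hII₂ : Ideal.span (Set.range hh) ≤ Ideal.span (Set.range k) := by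
      rw [Ideal.span_le]
      rintro _ ⟨j, rfl⟩
      by_cases hj : j = l
      · rw [hj, hh_l, ← k_l]; exact Ideal.mul_mem_left _ _ (Ideal.subset_span ⟨l, rfl⟩)
      · rw [hh_ne j hj, ← k_ne j hj]; exact Ideal.subset_span ⟨j, rfl⟩
    exact hII₂ hmem
  · rw [if_neg hi] at hmem
    exact colon_left f l g h _ hmem

theorem length_add :
    Module.length A (A ⧸ Ideal.span (Set.range (Function.update f l (f l * g)))) =
    Module.length A (A ⧸ Ideal.span (Set.range f)) +
      Module.length A (A ⧸ Ideal.span (Set.range (Function.update f l g))) := by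
  set hh := Function.update f l (f l * g) with hhh
  set k := Function.update f l g with hk
  set I := Ideal.span (Set.range hh) with hI
  set I₁ := Ideal.span (Set.range f) with hI₁
  set I₂ := Ideal.span (Set.range k) with hI₂
  have hh_l : hh l = f l * g := Function.update_self ..
  have k_l : k l = g := Function.update_self ..
  have hh_ne : ∀ i, i ≠ l → hh i = f i := fun i hi => Function.update_of_ne hi ..
  have k_ne : ∀ i, i ≠ l → k i = f i := fun i hi => Function.update_of_ne hi ..
  have hfI₁ : ∀ i, f i ∈ I₁ := fun i => Ideal.subset_span ⟨i, rfl⟩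
  have hkI₂ : ∀ i, k i ∈ I₂ := fun i => Ideal.subset_span ⟨i, rfl⟩
  have hhI : ∀ i, hh i ∈ I := fun i => Ideal.subset_span ⟨i, rfl⟩
  have hII₁ : I ≤ I₁ := by
    rw [hI, Ideal.span_le]
    rintro _ ⟨i, rfl⟩
    by_cases hi : i = l
    · rw [hi, hh_l]; exact Ideal.mul_mem_right _ _ (hfI₁ l)
    · rw [hh_ne i hi]; exact hfI₁ i
  have hmul : I₂ ≤ Submodule.comap (LinearMap.mulLeft A (f l)) I := by
    rw [hI₂, Ideal.span, Submodule.span_le]
    rintro _ ⟨i, rfl⟩
    show f l * k i ∈ I
    by_cases hi : i = l
    · rw [hi, k_l, ← hh_l]; exact hhI l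
    · rw [k_ne i hi, ← hh_ne i hi]; exact Ideal.mul_mem_left _ _ (hhI i)
  let ψ : (A ⧸ I₂) →ₗ[A] (A ⧸ I) := Submodule.mapQ I₂ I (LinearMap.mulLeft A (f l)) hmul
  let π : (A ⧸ I) →ₗ[A] (A ⧸ I₁) := Submodule.mapQ I I₁ LinearMap.id (by simpa using hII₁)
  have hψ : ∀ a : A, ψ (Submodule.Quotient.mk a) = Submodule.Quotient.mk (f l * a) := fun a => rfl
  have hπ : ∀ a : A, π (Submodule.Quotient.mk a) = Submodule.Quotient.mk a := fun a => rfl
  have hinj : Function.Injective ψ := by
    rw [injective_iff_map_eq_zero]
    intro y hy
    induction y using Submodule.Quotient.induction_on with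
    | H a =>
      rw [hψ, Submodule.Quotient.mk_eq_zero] at hy
      rw [Submodule.Quotient.mk_eq_zero]
      exact colon_left f l g h a hy
  have hsurj : Function.Surjective π := by
    intro y
    induction y using Submodule.Quotient.induction_on with
    | H a => exact ⟨Submodule.Quotient.mk a, rfl⟩
  have hex : Function.Exact ψ π := by
    intro y
    constructor
    · intro hy
      induction y using Submodule.Quotient.induction_on with
      | H x =>
        rw [hπ, Submodule.Quotient.mk_eq_zero] at hy
        obtain ⟨c, hc⟩ := Ideal.mem_span_range_iff_exists_fun.mp hy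
        refine ⟨Submodule.Quotient.mk (c l), ?_⟩
        rw [hψ]
        symm
        rw [Submodule.Quotient.eq]
        have hsum : ∑ i, c i * f i =
            ∑ i, (if i = l then 0 else c i) * hh i + c l * f l := by
          have : ∀ i, c i * f i =
              (if i = l then 0 else c i) * hh i + (if i = l then c l * f l else 0) := by
            intro i
            by_cases hi : i = l
            · rw [if_pos hi, if_pos hi, hi]; ring
            · rw [if_neg hi, if_neg hi, hh_ne i hi]; ring
          rw [Finset.sum_congr rfl fun i _ => this i, Finset.sum_add_distrib]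
          congr 1
          simp
        have hx : x - f l * c l = ∑ i, (if i = l then 0 else c i) * hh i := by
          rw [← hc, hsum]; ring
        rw [hx]
        exact Ideal.sum_mem _ fun i _ => Ideal.mul_mem_left _ _ (hhI i)
    · rintro ⟨z, rfl⟩
      induction z using Submodule.Quotient.induction_on with
      | H a =>
        rw [hψ, hπ, Submodule.Quotient.mk_eq_zero]
        exact Ideal.mul_mem_right _ _ (hfI₁ l)
  rw [Module.length_eq_add_of_exact ψ π hinj hsurj hex, add_comm]

end general

theorem main1757 [IsLocalRing A] (r : ℕ) (x : Fin r → A)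
    (hx : Ideal.span (Set.range x) = IsLocalRing.maximalIdeal A) :
    ∀ (N : ℕ) (e : Fin r → ℕ), (∑ i, e i = N) → (∀ i, 0 < e i) →
      Dual2.Independent (fun i => x i ^ e i) →
      Module.length A (A ⧸ Ideal.span (Set.range (fun i => x i ^ e i))) =
        ((∏ i, e i : ℕ) : ℕ∞) := by
  intro N
  induction N using Nat.strong_induction_on with
  | _ N ih =>
    intro e hN he hind
    by_cases hall : ∀ i, e i = 1
    · have hfun : (fun i => x i ^ e i) = x := by
        funext i; rw [hall i, pow_one]
      rw [hfun, hx]
      have hprod : (∏ i, e i : ℕ) = 1 := Finset.prod_eq_one fun i _ => hall i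
      rw [hprod, Nat.cast_one, Module.length_eq_one_iff, isSimpleModule_iff_isCoatom]
      exact Ideal.isMaximal_def.mp inferInstance
    · push Not at hall
      obtain ⟨j, hj⟩ := hall
      have hj2 : 2 ≤ e j := by have := he j; omega
      set e' := Function.update e j (e j - 1) with he'
      set e'' := Function.update e j 1 with he''
      set f : Fin r → A := fun i => x i ^ e' i with hf
      have e'_j : e' j = e j - 1 := Function.update_self ..
      have e''_j : e'' j = 1 := Function.update_self ..
      have e'_ne : ∀ i, i ≠ j → e' i = e i := fun i hi => Function.update_of_ne hi ..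
      have e''_ne : ∀ i, i ≠ j → e'' i = e i := fun i hi => Function.update_of_ne hi ..
      have hf1 : Function.update f j (f j * x j) = fun i => x i ^ e i := by
        funext i
        by_cases hi : i = j
        · rw [hi, Function.update_self]
          show x j ^ e' j * x j = x j ^ e j
          rw [e'_j, ← pow_succ]
          congr 1; omega
        · rw [Function.update_of_ne hi]
          show x i ^ e' i = x i ^ e i
          rw [e'_ne i hi]
      have hf2 : Function.update f j (x j) = fun i => x i ^ e'' i := by
        funext i
        by_cases hi : i = j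
        · rw [hi, Function.update_self, e''_j, pow_one]
        · rw [Function.update_of_ne hi]
          show x i ^ e' i = x i ^ e'' i
          rw [e'_ne i hi, e''_ne i hi]
      have hind' : Dual2.Independent (Function.update f j (f j * x j)) := by rw [hf1]; exact hind
      have hL := length_add f j (x j) hind'
      have hi1 := indep_left f j (x j) hind'
      have hi2 := indep_right f j (x j) hind'
      rw [hf1, hf2] at hL
      rw [hf2] at hi2
      have hsum_e : ∑ i, e i = e j + ∑ i ∈ Finset.univ.erase j, e i :=
        (Finset.add_sum_erase _ _ (Finset.mem_univ j)).symm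
      have hsum_e' : ∑ i, e' i = (e j - 1) + ∑ i ∈ Finset.univ.erase j, e i := by
        rw [← Finset.add_sum_erase _ _ (Finset.mem_univ j), e'_j]
        congr 1
        exact Finset.sum_congr rfl fun i hi => e'_ne i (Finset.ne_of_mem_erase hi)
      have hsum_e'' : ∑ i, e'' i = 1 + ∑ i ∈ Finset.univ.erase j, e i := by
        rw [← Finset.add_sum_erase _ _ (Finset.mem_univ j), e''_j]
        congr 1
        exact Finset.sum_congr rfl fun i hi => e''_ne i (Finset.ne_of_mem_erase hi)
      have hprod_e : ∏ i, e i = e j * ∏ i ∈ Finset.univ.erase j, e i :=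
        (Finset.mul_prod_erase _ _ (Finset.mem_univ j)).symm
      have hprod_e' : ∏ i, e' i = (e j - 1) * ∏ i ∈ Finset.univ.erase j, e i := by
        rw [← Finset.mul_prod_erase _ _ (Finset.mem_univ j), e'_j]
        congr 1
        exact Finset.prod_congr rfl fun i hi => e'_ne i (Finset.ne_of_mem_erase hi)
      have hprod_e'' : ∏ i, e'' i = 1 * ∏ i ∈ Finset.univ.erase j, e i := by
        rw [← Finset.mul_prod_erase _ _ (Finset.mem_univ j), e''_j]
        congr 1
        exact Finset.prod_congr rfl fun i hi => e''_ne i (Finset.ne_of_mem_erase hi)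
      have hpos' : ∀ i, 0 < e' i := by
        intro i
        by_cases hi : i = j
        · rw [hi, e'_j]; omega
        · rw [e'_ne i hi]; exact he i
      have hpos'' : ∀ i, 0 < e'' i := by
        intro i
        by_cases hi : i = j
        · rw [hi, e''_j]; omega
        · rw [e''_ne i hi]; exact he i
      have ih1 := ih (∑ i, e' i) (by rw [hsum_e', ← hN, hsum_e]; omega) e' rfl hpos' hi1
      have ih2 := ih (∑ i, e'' i) (by rw [hsum_e'', ← hN, hsum_e]; omega) e'' rfl hpos'' hi2
      rw [hL, ih1, ih2, ← Nat.cast_add]
      congr 1
      rw [hprod_e, hprod_e', hprod_e'', ← add_mul]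
      congr 1
      omega

end Groth.Agent.H3In
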