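import Mathlib
import Groth.Agent.Lib.helper3.MoE

set_option autoImplicit false
universe u v w
open TensorProduct

namespace Groth.Agent.H3Mor

section rankone
variable (R : Type u) [CommRing R] (M : Type u) [AddCommGroup M] [Module R M]

/-- scalar map of a module isomorphic to the ring is bijective -/
theorem algebraMap_end_bijective_of_equiv (e : M ≃ₗ[R] R) :
    Function.Bijective (algebraMap R (Module.End R M)) := by
  constructor
  · rw [injective_iff_map_eq_zero]
    intro y hy
    have h1 := LinearMap.congr_fun hy (e.symm 1)
    rw [Module.algebraMap_end_apply, LinearMap.zero_apply] at h1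
    have h2 := congrArg e h1
    rw [map_smul, LinearEquiv.apply_symm_apply, map_zero, smul_eq_mul, mul_one] at h2
    exact h2
  · intro h
    refine ⟨e (h (e.symm 1)), ?_⟩
    refine LinearMap.ext fun m => ?_
    rw [Module.algebraMap_end_apply]
    have hm : m = e m • e.symm 1 := by
      apply e.injective
      rw [map_smul, LinearEquiv.apply_symm_apply, smul_eq_mul, mul_one]
    conv_rhs => rw [hm, map_smul]
    apply e.injective
    rw [map_smul, map_smul, smul_eq_mul, smul_eq_mul, mul_comm]

end rankone

theorem main12080 (R : Type u) [CommRing R] (M : Type u) [AddCommGroup M]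
    [Module R M] (s : Set R) (hs : Ideal.span s = ⊤)
    (hfree : ∀ f ∈ s, Nonempty (LocalizedModule.Away f M ≃ₗ[Localization.Away f] Localization.Away f)) :
    Module.Invertible R M := by
  -- finite presentation
  haveI hfp : Module.FinitePresentation R M := by
    apply Module.FinitePresentation.of_localizationSpan s hs
    intro g
    obtain ⟨e⟩ := hfree g.1 g.2
    exact Module.FinitePresentation.of_equiv e.symm
  -- flatness
  haveI hflat : Module.Flat R M := by
    apply Module.flat_of_localized_span R M s hs
    intro g
    obtain ⟨e⟩ := hfree g.1 g.2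
    exact Module.Flat.of_linearEquiv (e.restrictScalars R)
  haveI hproj : Module.Projective R M := Module.Flat.projective_of_finitePresentation
  haveI : Module.Finite R M := inferInstance
  -- the scalar map is bijective
  have hbij : Function.Bijective (Algebra.linearMap R (Module.End R M)) := by
    refine bijective_of_isLocalized_span s hs (fun r => Localization.Away r.1)
      (fun r => Algebra.linearMap R (Localization.Away r.1))
      (fun r => (LocalizedModule (Submonoid.powers r.1) M →ₗ[Localization (Submonoid.powers r.1)]
        LocalizedModule (Submonoid.powers r.1) M))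
      (fun r => LocalizedModule.map (Submonoid.powers r.1)) _ ?_
    intro r
    obtain ⟨e⟩ := hfree r.1 r.2
    set Φ := IsLocalizedModule.map (Submonoid.powers r.1)
      (Algebra.linearMap R (Localization.Away r.1))
      (LocalizedModule.map (Submonoid.powers r.1) (M := M) (N := M))
      (Algebra.linearMap R (Module.End R M)) with hΦ
    have hΦeq : Φ = (Algebra.linearMap (Localization.Away r.1)
        (Module.End (Localization.Away r.1) (LocalizedModule (Submonoid.powers r.1) M))).restrictScalars R := by
      apply IsLocalizedModule.linearMap_ext (Submonoid.powers r.1)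
        (Algebra.linearMap R (Localization.Away r.1))
        (LocalizedModule.map (Submonoid.powers r.1) (M := M) (N := M))
      refine LinearMap.ext fun x => ?_
      rw [LinearMap.comp_apply, LinearMap.comp_apply, hΦ, IsLocalizedModule.map_apply]
      refine LinearMap.ext fun m => ?_
      induction m using LocalizedModule.induction_on with
      | h m t =>
        simp [LocalizedModule.map_mk, LocalizedModule.smul'_mk, Module.algebraMap_end_apply,
          Algebra.linearMap_apply]
    rw [hΦeq]
    exact algebraMap_end_bijective_of_equiv (Localization.Away r.1) _ e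
  have hbij' : Function.Bijective (algebraMap R (Module.End R M)) := hbij
  haveI : FaithfulSMul R M := by
    refine ⟨fun {r₁ r₂} h => ?_⟩
    apply hbij'.1
    refine LinearMap.ext fun m => ?_
    rw [Module.algebraMap_end_apply, Module.algebraMap_end_apply]
    exact h m
  haveI : Module.FaithfullyFlat R M := faithfullyFlat_of_finite_projective_faithful R M
  have hlmul : Function.Bijective (Algebra.lmul R R) := by
    refine ⟨Algebra.lmul_injective, fun h => ⟨h 1, ?_⟩⟩
    refine LinearMap.ext fun x => ?_
    rw [Algebra.coe_lmul_eq_mul, LinearMap.mul_apply']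
    have : x = x • (1 : R) := by rw [smul_eq_mul, mul_one]
    conv_rhs => rw [this, map_smul]
    rw [smul_eq_mul, mul_comm]
  let φ : Module.End R R ≃ₐ[R] Module.End R M :=
    (AlgEquiv.ofBijective (Algebra.lmul R R) hlmul).symm.trans
      (AlgEquiv.ofBijective (Algebra.ofId R (Module.End R M)) hbij')
  have hφ : ∀ e : Module.End R R, φ e = algebraMap R (Module.End R M) (e 1) := by
    intro e
    obtain ⟨y, rfl⟩ := hlmul.2 e
    simp only [φ, AlgEquiv.trans_apply]
    have : (AlgEquiv.ofBijective (Algebra.lmul R R) hlmul).symm (Algebra.lmul R R y) = y :=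
      (AlgEquiv.ofBijective (Algebra.lmul R R) hlmul).symm_apply_apply y
    rw [this]
    simp [Algebra.coe_lmul_eq_mul, Algebra.ofId_apply]
  haveI : Module.Invertible R (inter (φ : Module.End R R →ₐ[R] Module.End R M)) :=
    inter_invertible φ
  have hmem : ∀ m : M, LinearMap.toSpanSingleton R M m ∈
      inter (φ : Module.End R R →ₐ[R] Module.End R M) := by
    intro m e
    refine LinearMap.ext fun x => ?_
    have h1 : (φ : Module.End R R →ₐ[R] Module.End R M) e = algebraMap R (Module.End R M) (e 1) :=
      hφ e
    rw [LinearMap.comp_apply, LinearMap.comp_apply, h1, Module.algebraMap_end_apply,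
      LinearMap.toSpanSingleton_apply, LinearMap.toSpanSingleton_apply]
    have : e x = x * e 1 := by
      have hx : x = x • (1 : R) := by rw [smul_eq_mul, mul_one]
      conv_lhs => rw [hx, map_smul]
      rw [smul_eq_mul]
    rw [this, mul_smul, smul_comm]
  let ev1 : inter (φ : Module.End R R →ₐ[R] Module.End R M) →ₗ[R] M :=
    (LinearMap.applyₗ (1 : R)) ∘ₗ (inter (φ : Module.End R R →ₐ[R] Module.End R M)).subtype
  have hev1 : Function.Bijective ev1 := by
    constructor
    · rw [injective_iff_map_eq_zero]
      intro ψ hψ
      apply Subtype.ext
      refine LinearMap.ext fun x => ?_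
      have h0 : (ψ : R →ₗ[R] M) 1 = 0 := hψ
      have hx : x = x • (1 : R) := by rw [smul_eq_mul, mul_one]
      rw [hx, map_smul, h0, smul_zero]
      rfl
    · intro m
      refine ⟨⟨LinearMap.toSpanSingleton R M m, hmem m⟩, ?_⟩
      show LinearMap.toSpanSingleton R M m 1 = m
      rw [LinearMap.toSpanSingleton_apply, one_smul]
  exact Module.Invertible.congr (LinearEquiv.ofBijective ev1 hev1)

end Groth.Agent.H3Mor
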