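import Mathlib
import Groth.Prelude.Def_Fitting
import Groth.Agent.Lib.helper3.FittI
import Groth.Agent.Lib.helper3.FittJ
import Groth.Agent.Lib.helper3.FittP

set_option autoImplicit false
open TensorProduct

namespace Groth.Agent.H3Fitt

universe u

section
variable {R : Type u} [CommRing R] [IsReduced R] (M : Type u) [AddCommGroup M] [Module R M]
  [Module.Finite R M]

/-- the fibre rank function -/
noncomputable def frank (R : Type u) [CommRing R] (M : Type u) [AddCommGroup M] [Module R M] (p : PrimeSpectrum R) : ℕ :=
  Module.finrank p.asIdeal.ResidueField (p.asIdeal.ResidueField ⊗[R] M)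

lemma exists_kill (h : IsLocallyConstant (frank R M)) (p : PrimeSpectrum R) :
    ∃ f : R, f ∉ p.asIdeal ∧ ∀ k, k < frank R M p → ∀ d ∈ Fitt.ideal R M k, f * d = 0 := by
  have hopen : IsOpen {q : PrimeSpectrum R | frank R M q = frank R M p} :=
    h.isOpen_fiber (frank R M p)
  obtain ⟨U, ⟨f, rfl⟩, hpU, hU⟩ :=
    PrimeSpectrum.isTopologicalBasis_basic_opens.exists_subset_of_mem_open
      (show p ∈ {q : PrimeSpectrum R | frank R M q = frank R M p} from rfl) hopen
  refine ⟨f, hpU, ?_⟩
  intro k hk d hd
  apply IsNilpotent.eq_zero
  rw [nilpotent_iff_mem_prime]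
  intro J hJ
  by_cases hfJ : f ∈ J
  · exact J.mul_mem_right _ hfJ
  · have hq : (⟨J, hJ⟩ : PrimeSpectrum R) ∈ {q : PrimeSpectrum R | frank R M q = frank R M p} :=
      hU hfJ
    have hle : Fitt.ideal R M k ≤ J := by
      by_contra hnle
      have := (not_le_iff_finrank M k J).mp hnle
      have hq' : frank R M ⟨J, hJ⟩ = frank R M p := hq
      unfold frank at hq' hk
      simp only at hq'
      omega
    exact J.mul_mem_left _ (hle hd)

theorem projective_of_locallyConstant (h : IsLocallyConstant (frank R M)) :
    Module.Projective R M := by
  -- finite presentation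
  have hfp : Module.FinitePresentation R M := by
    let s : Set R := {g | Module.FinitePresentation (Localization.Away g)
      (LocalizedModule (Submonoid.powers g) M)}
    have hs : Ideal.span s = ⊤ := by
      by_contra hne
      obtain ⟨m, hm, hle⟩ := Ideal.exists_le_maximal _ hne
      have hmp := hm.isPrime
      obtain ⟨f, hf, hkill⟩ := exists_kill M h ⟨m, hmp⟩
      have hr : ¬ Fitt.ideal R M (frank R M ⟨m, hmp⟩) ≤ m :=
        (not_le_iff_finrank M _ m).mpr le_rfl
      obtain ⟨e, he, hem⟩ := SetLike.not_le_iff_exists.mp hr
      have hg : f * e ∉ m := fun hc => (hmp.mem_or_mem hc).elim hf hem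
      apply hg
      apply hle
      apply Ideal.subset_span
      change Module.FinitePresentation (Localization.Away (f * e))
        (LocalizedModule (Submonoid.powers (f * e)) M)
      have hfu : IsUnit (algebraMap R (Localization.Away (f * e)) f) := by
        have := IsLocalization.map_units (Localization.Away (f * e))
          (⟨f * e, Submonoid.mem_powers _⟩ : Submonoid.powers (f * e))
        rw [map_mul] at this
        exact isUnit_of_mul_isUnit_left this
      have heu : IsUnit (algebraMap R (Localization.Away (f * e)) e) := by
        have := IsLocalization.map_units (Localization.Away (f * e))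
          (⟨f * e, Submonoid.mem_powers _⟩ : Submonoid.powers (f * e))
        rw [map_mul] at this
        exact isUnit_of_mul_isUnit_right this
      have hproj : Module.Projective (Localization.Away (f * e))
          (LocalizedModule (Submonoid.powers (f * e)) M) := by
        refine projective_of_fitting _ (frank R M ⟨m, hmp⟩) ?_ ?_
        · intro j hj
          rw [ideal_localizedModule, Ideal.map_eq_bot_iff_le_ker]
          intro d hd
          rw [RingHom.mem_ker]
          have h0 := hkill j hj d hd
          have := congrArg (algebraMap R (Localization.Away (f * e))) h0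
          rw [map_mul, map_zero] at this
          exact (hfu.mul_right_eq_zero).mp this
        · intro j hj
          rw [ideal_localizedModule]
          apply Ideal.eq_top_of_isUnit_mem _ _ heu
          exact Ideal.mem_map_of_mem _ (ideal_antitone R M hj he)
      exact Module.finitePresentation_of_projective _ _
    refine Module.FinitePresentation.of_localizationSpan s hs ?_
    rintro ⟨g, hg⟩
    exact hg
  refine Module.projective_of_localization_maximal ?_
  intro m hm
  have hmp := hm.isPrime
  obtain ⟨f, hf, hkill⟩ := exists_kill M h ⟨m, hmp⟩
  have hr : ¬ Fitt.ideal R M (frank R M ⟨m, hmp⟩) ≤ m :=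
    (not_le_iff_finrank M _ m).mpr le_rfl
  obtain ⟨g, hg⟩ := (not_le_iff_atPrime M _ m).mp hr
  have hli : LinearIndependent (Localization.AtPrime m) g := by
    rcases Nat.eq_zero_or_pos (frank R M ⟨m, hmp⟩) with h0 | hpos
    · have : IsEmpty (Fin (frank R M ⟨m, hmp⟩)) := by rw [h0]; infer_instance
      exact linearIndependent_empty_type
    · apply linearIndependent_of_ideal_eq_bot g hg
      rw [ideal_localizedModule, Ideal.map_eq_bot_iff_le_ker]
      intro d hd
      rw [RingHom.mem_ker]
      have h0 := hkill _ (by omega) d hd
      have hfu : IsUnit (algebraMap R (Localization.AtPrime m) f) :=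
        IsLocalization.map_units (Localization.AtPrime m) (⟨f, hf⟩ : m.primeCompl)
      have := congrArg (algebraMap R (Localization.AtPrime m)) h0
      rw [map_mul, map_zero] at this
      exact (hfu.mul_right_eq_zero).mp this
  let b : Module.Basis (Fin (frank R M ⟨m, hmp⟩)) (Localization.AtPrime m)
      (LocalizedModule m.primeCompl M) :=
    Module.Basis.mk hli (by rw [hg])
  have := Module.Free.of_basis b
  infer_instance

end

end Groth.Agent.H3Fitt

namespace Groth.Agent.H3Fitt

universe u

theorem main66 (R : Type u) [CommRing R] [IsReduced R] (M : Type u) [AddCommGroup M] [Module R M] :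
    (Module.Finite R M ∧ Module.Projective R M) ↔ (Module.Finite R M ∧ IsLocallyConstant
      (fun p : PrimeSpectrum R =>
        Module.finrank p.asIdeal.ResidueField (p.asIdeal.ResidueField ⊗[R] M))) := by
  constructor
  · rintro ⟨hfin, hproj⟩
    refine ⟨hfin, ?_⟩
    haveI : Module.FinitePresentation R M := Module.finitePresentation_of_projective R M
    have h := Module.isLocallyConstant_rankAtStalk (R := R) (M := M)
    have heq : Module.rankAtStalk (R := R) M = (fun p : PrimeSpectrum R =>
        Module.finrank p.asIdeal.ResidueField (p.asIdeal.ResidueField ⊗[R] M)) := by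
      funext p
      exact Module.rankAtStalk_eq p
    rwa [heq] at h
  · rintro ⟨hfin, hlc⟩
    exact ⟨hfin, projective_of_locallyConstant M hlc⟩

end Groth.Agent.H3Fitt
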