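import Mathlib
import Groth.Prelude.Def_Fitting
import Groth.Agent.Lib.helper3.FittI
import Groth.Agent.Lib.helper3.FittJ
import Groth.Agent.Lib.helper3.FittP

set_option autoImplicit false
open TensorProduct

namespace Groth.Agent.H3Fitt

universe u

section
variable {R : Type u} [CommRing R] (M : Type u) [AddCommGroup M] [Module R M]
  [Module.Finite R M]

theorem not_le_iff_finrank' (κ : Type u) [Field κ] [Algebra R κ] (p : Ideal R)
    (hp : RingHom.ker (algebraMap R κ) = p) (k : ℕ) :
    ¬ Fitt.ideal R M k ≤ p ↔ Module.finrank κ (κ ⊗[R] M) ≤ k := by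
  have hbc := ideal_baseChange (R := R) (M := M) κ k
  have hker : Fitt.ideal R M k ≤ p ↔ (Fitt.ideal R M k).map (algebraMap R κ) = ⊥ := by
    rw [Ideal.map_eq_bot_iff_le_ker, hp]
  rw [hker, ← hbc]
  let b := Module.finBasis κ (κ ⊗[R] M)
  constructor
  · intro h
    by_contra hlt
    push Not at hlt
    exact h (ideal_basis_eq_bot b hlt)
  · intro h
    rw [ideal_basis_eq_top b h]
    exact top_ne_bot

/-- `c` computes the fibre ranks of `M` -/
def IsFibreRank (c : PrimeSpectrum R → ℕ) : Prop :=
  ∀ (p : PrimeSpectrum R) (k : ℕ), ¬ Fitt.ideal R M k ≤ p.asIdeal ↔ c p ≤ k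

variable {M}

omit [Module.Finite R M] in
lemma IsFibreRank.isOpen_le {c : PrimeSpectrum R → ℕ} (hc : IsFibreRank M c) (k : ℕ) :
    IsOpen {q : PrimeSpectrum R | c q ≤ k} := by
  have : {q : PrimeSpectrum R | c q ≤ k} =
      (PrimeSpectrum.zeroLocus (Fitt.ideal R M k : Set R))ᶜ := by
    ext q
    simp only [Set.mem_ofPred_eq, Set.mem_compl_iff, PrimeSpectrum.mem_zeroLocus]
    rw [← hc q k]
    rfl
  rw [this]
  exact (PrimeSpectrum.isClosed_zeroLocus _).isOpen_compl

end

section
variable {R : Type u} [CommRing R]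

/-- two upper semicontinuous functions with locally constant sum are locally constant -/
lemma locallyConstant_of_add {M₁ M₂ : Type u} [AddCommGroup M₁] [Module R M₁]
    [AddCommGroup M₂] [Module R M₂]
    {c₁ c₂ : PrimeSpectrum R → ℕ} (h₁ : IsFibreRank M₁ c₁) (h₂ : IsFibreRank M₂ c₂)
    (h : IsLocallyConstant (fun q => c₁ q + c₂ q)) :
    IsLocallyConstant c₁ ∧ IsLocallyConstant c₂ := by
  have key : ∀ p : PrimeSpectrum R, ∃ U : Set (PrimeSpectrum R), IsOpen U ∧ p ∈ U ∧
      ∀ q ∈ U, c₁ q = c₁ p ∧ c₂ q = c₂ p := by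
    intro p
    refine ⟨{q | c₁ q ≤ c₁ p} ∩ {q | c₂ q ≤ c₂ p} ∩ {q | c₁ q + c₂ q = c₁ p + c₂ p},
      ((h₁.isOpen_le _).inter (h₂.isOpen_le _)).inter (h.isOpen_fiber (c₁ p + c₂ p)),
      ⟨⟨le_refl (c₁ p), le_refl (c₂ p)⟩, rfl⟩, ?_⟩
    rintro q ⟨⟨hq1, hq2⟩, hq3⟩
    simp only [Set.mem_ofPred_eq] at hq1 hq2 hq3
    omega
  constructor
  · rw [IsLocallyConstant.iff_exists_open]
    intro p
    obtain ⟨U, hU, hp, hq⟩ := key p
    exact ⟨U, hU, hp, fun q hq' => (hq q hq').1⟩
  · rw [IsLocallyConstant.iff_exists_open]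
    intro p
    obtain ⟨U, hU, hp, hq⟩ := key p
    exact ⟨U, hU, hp, fun q hq' => (hq q hq').2⟩

end

section
variable {R : Type u} [CommRing R] [IsReduced R] (M : Type u) [AddCommGroup M] [Module R M]
  [Module.Finite R M]

omit [Module.Finite R M] in
lemma exists_kill' {c : PrimeSpectrum R → ℕ} (hc : IsFibreRank M c) (h : IsLocallyConstant c)
    (p : PrimeSpectrum R) :
    ∃ f : R, f ∉ p.asIdeal ∧ ∀ k, k < c p → ∀ d ∈ Fitt.ideal R M k, f * d = 0 := by
  have hopen : IsOpen {q : PrimeSpectrum R | c q = c p} :=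
    h.isOpen_fiber (c p)
  obtain ⟨U, ⟨f, rfl⟩, hpU, hU⟩ :=
    PrimeSpectrum.isTopologicalBasis_basic_opens.exists_subset_of_mem_open
      (show p ∈ {q : PrimeSpectrum R | c q = c p} from rfl) hopen
  refine ⟨f, hpU, ?_⟩
  intro k hk d hd
  apply IsNilpotent.eq_zero
  rw [nilpotent_iff_mem_prime]
  intro J hJ
  by_cases hfJ : f ∈ J
  · exact J.mul_mem_right _ hfJ
  · have hq : (⟨J, hJ⟩ : PrimeSpectrum R) ∈ {q : PrimeSpectrum R | c q = c p} :=
      hU hfJ
    have hle : Fitt.ideal R M k ≤ J := by
      by_contra hnle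
      have := (hc ⟨J, hJ⟩ k).mp hnle
      have hq' : c ⟨J, hJ⟩ = c p := hq
      omega
    exact J.mul_mem_left _ (hle hd)

theorem projective_of_locallyConstant' {c : PrimeSpectrum R → ℕ} (hc : IsFibreRank M c)
    (h : IsLocallyConstant c) :
    Module.Projective R M := by
  have hfp : Module.FinitePresentation R M := by
    let s : Set R := {g | Module.FinitePresentation (Localization.Away g)
      (LocalizedModule (Submonoid.powers g) M)}
    have hs : Ideal.span s = ⊤ := by
      by_contra hne
      obtain ⟨m, hm, hle⟩ := Ideal.exists_le_maximal _ hne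
      have hmp := hm.isPrime
      obtain ⟨f, hf, hkill⟩ := exists_kill' M hc h ⟨m, hmp⟩
      have hr : ¬ Fitt.ideal R M (c ⟨m, hmp⟩) ≤ m :=
        (hc ⟨m, hmp⟩ _).mpr le_rfl
      obtain ⟨e, he, hem⟩ := SetLike.not_le_iff_exists.mp hr
      have hg : f * e ∉ m := fun hc => (hmp.mem_or_mem hc).elim hf hem
      apply hg
      apply hle
      apply Ideal.subset_span
      change Module.FinitePresentation (Localization.Away (f * e))
        (LocalizedModule (Submonoid.powers (f * e)) M)
      have hfu : IsUnit (algebraMap R (Localization.Away (f * e)) f) := by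
        have := IsLocalization.map_units (Localization.Away (f * e))
          (⟨f * e, Submonoid.mem_powers _⟩ : Submonoid.powers (f * e))
        rw [map_mul] at this
        exact isUnit_of_mul_isUnit_left this
      have heu : IsUnit (algebraMap R (Localization.Away (f * e)) e) := by
        have := IsLocalization.map_units (Localization.Away (f * e))
          (⟨f * e, Submonoid.mem_powers _⟩ : Submonoid.powers (f * e))
        rw [map_mul] at this
        exact isUnit_of_mul_isUnit_right this
      have hproj : Module.Projective (Localization.Away (f * e))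
          (LocalizedModule (Submonoid.powers (f * e)) M) := by
        refine projective_of_fitting _ (c ⟨m, hmp⟩) ?_ ?_
        · intro j hj
          rw [ideal_localizedModule, Ideal.map_eq_bot_iff_le_ker]
          intro d hd
          rw [RingHom.mem_ker]
          have h0 := hkill j hj d hd
          have := congrArg (algebraMap R (Localization.Away (f * e))) h0
          rw [map_mul, map_zero] at this
          exact (hfu.mul_right_eq_zero).mp this
        · intro j hj
          rw [ideal_localizedModule]
          apply Ideal.eq_top_of_isUnit_mem _ _ heu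
          exact Ideal.mem_map_of_mem _ (ideal_antitone R M hj he)
      exact Module.finitePresentation_of_projective _ _
    refine Module.FinitePresentation.of_localizationSpan s hs ?_
    rintro ⟨g, hg⟩
    exact hg
  refine Module.projective_of_localization_maximal ?_
  intro m hm
  have hmp := hm.isPrime
  obtain ⟨f, hf, hkill⟩ := exists_kill' M hc h ⟨m, hmp⟩
  have hr : ¬ Fitt.ideal R M (c ⟨m, hmp⟩) ≤ m :=
    (hc ⟨m, hmp⟩ _).mpr le_rfl
  obtain ⟨g, hg⟩ := (not_le_iff_atPrime M _ m).mp hr
  have hli : LinearIndependent (Localization.AtPrime m) g := by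
    rcases Nat.eq_zero_or_pos (c ⟨m, hmp⟩) with h0 | hpos
    · have : IsEmpty (Fin (c ⟨m, hmp⟩)) := by rw [h0]; infer_instance
      exact linearIndependent_empty_type
    · apply linearIndependent_of_ideal_eq_bot g hg
      rw [ideal_localizedModule, Ideal.map_eq_bot_iff_le_ker]
      intro d hd
      rw [RingHom.mem_ker]
      have h0 := hkill _ (by omega) d hd
      have hfu : IsUnit (algebraMap R (Localization.AtPrime m) f) :=
        IsLocalization.map_units (Localization.AtPrime m) (⟨f, hf⟩ : m.primeCompl)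
      have := congrArg (algebraMap R (Localization.AtPrime m)) h0
      rw [map_mul, map_zero] at this
      exact (hfu.mul_right_eq_zero).mp this
  let b : Module.Basis (Fin (c ⟨m, hmp⟩)) (Localization.AtPrime m)
      (LocalizedModule m.primeCompl M) :=
    Module.Basis.mk hli (by rw [hg])
  have := Module.Free.of_basis b
  infer_instance

end

end Groth.Agent.H3Fitt
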