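import Mathlib

set_option autoImplicit false

namespace Groth.Agent.H3Fitt

universe u

theorem homology_projective {R : Type u} [CommRing R] {A B C : Type u}
    [AddCommGroup A] [Module R A] [AddCommGroup B] [Module R B] [AddCommGroup C] [Module R C]
    [Module.Finite R B] [Module.Projective R C]
    (f : A →ₗ[R] B) (g : B →ₗ[R] C) (hgf : ∀ a, f a ∈ LinearMap.ker g)
    (h1 : Module.Projective R (B ⧸ LinearMap.range f))
    (h2 : Module.Projective R (C ⧸ LinearMap.range g)) :
    Module.Finite R (LinearMap.ker g ⧸ LinearMap.range (f.codRestrict (LinearMap.ker g) hgf)) ∧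
    Module.Projective R
      (LinearMap.ker g ⧸ LinearMap.range (f.codRestrict (LinearMap.ker g) hgf)) := by
  have hI : LinearMap.range f ≤ LinearMap.ker g := by
    rintro _ ⟨a, rfl⟩
    exact hgf a
  let φ : B ⧸ LinearMap.range f →ₗ[R] C := (LinearMap.range f).liftQ g hI
  have hrange : LinearMap.range φ = LinearMap.range g := Submodule.range_liftQ _ _ _
  -- range g is projective
  have hrg : Module.Projective R (LinearMap.range g) := by
    have hsurj : Function.Surjective (LinearMap.range g).mkQ := Submodule.mkQ_surjective _
    have := (Function.Exact.split_tfae (LinearMap.exact_subtype_mkQ (LinearMap.range g))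
      (LinearMap.range g).subtype_injective hsurj).out 0 1
    obtain ⟨l, hl⟩ := this.mp (Module.projective_lifting_property _ _ hsurj)
    exact Module.Projective.of_split _ _ hl
  have hrφ : Module.Projective R (LinearMap.range φ) :=
    Module.Projective.of_equiv (LinearEquiv.ofEq _ _ hrange.symm)
  -- ker φ is a retract of B ⧸ range f
  have hsurj : Function.Surjective φ.rangeRestrict := φ.surjective_rangeRestrict
  have hex : Function.Exact (LinearMap.ker φ).subtype φ.rangeRestrict := by
    intro x
    constructor
    · intro hx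
      refine ⟨⟨x, ?_⟩, rfl⟩
      have := congrArg Subtype.val hx
      simpa using this
    · rintro ⟨y, rfl⟩
      apply Subtype.ext
      simpa using y.2
  have := (Function.Exact.split_tfae hex (LinearMap.ker φ).subtype_injective hsurj).out 0 1
  obtain ⟨l, hl⟩ := this.mp (Module.projective_lifting_property _ _ hsurj)
  have hkp : Module.Projective R (LinearMap.ker φ) := Module.Projective.of_split _ _ hl
  have hkf : Module.Finite R (LinearMap.ker φ) := by
    refine Module.Finite.of_surjective l ?_
    exact Function.HasRightInverse.surjective ⟨_, LinearMap.congr_fun hl⟩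
  -- the comparison map
  let ψ : LinearMap.ker g →ₗ[R] LinearMap.ker φ :=
    ((LinearMap.range f).mkQ ∘ₗ (LinearMap.ker g).subtype).codRestrict (LinearMap.ker φ) (by
      intro z
      rw [LinearMap.mem_ker]
      change (LinearMap.range f).liftQ g hI ((LinearMap.range f).mkQ z.1) = 0
      rw [Submodule.mkQ_apply, Submodule.liftQ_apply]
      exact z.2)
  have hψs : Function.Surjective ψ := by
    rintro ⟨x, hx⟩
    obtain ⟨b, rfl⟩ := (LinearMap.range f).mkQ_surjective x
    have hb : b ∈ LinearMap.ker g := by
      rw [LinearMap.mem_ker] at hx ⊢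
      change (LinearMap.range f).liftQ g hI ((LinearMap.range f).mkQ b) = 0 at hx
      rwa [Submodule.mkQ_apply, Submodule.liftQ_apply] at hx
    exact ⟨⟨b, hb⟩, rfl⟩
  have hψk : LinearMap.ker ψ = LinearMap.range (f.codRestrict (LinearMap.ker g) hgf) := by
    ext z
    rw [LinearMap.mem_ker, LinearMap.mem_range]
    constructor
    · intro hz
      have hz' : (LinearMap.range f).mkQ z.1 = 0 := congrArg Subtype.val hz
      rw [Submodule.mkQ_apply, Submodule.Quotient.mk_eq_zero] at hz'
      obtain ⟨a, ha⟩ := hz'
      exact ⟨a, Subtype.ext ha⟩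
    · rintro ⟨a, rfl⟩
      apply Subtype.ext
      change (LinearMap.range f).mkQ (f a) = 0
      rw [Submodule.mkQ_apply, Submodule.Quotient.mk_eq_zero]
      exact ⟨a, rfl⟩
  let e : (LinearMap.ker g ⧸ LinearMap.range (f.codRestrict (LinearMap.ker g) hgf)) ≃ₗ[R]
      LinearMap.ker φ :=
    (Submodule.quotEquivOfEq _ _ hψk.symm).trans (LinearMap.quotKerEquivOfSurjective ψ hψs)
  exact ⟨Module.Finite.equiv e.symm, Module.Projective.of_equiv e.symm⟩

end Groth.Agent.H3Fitt
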