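import Mathlib

set_option autoImplicit false
open TensorProduct

namespace Groth.Agent.H3Fitt

universe u

section kappa

theorem finrank_homology_add (κ : Type u) [Field κ] {A' B' C' : Type u}
    [AddCommGroup A'] [Module κ A'] [AddCommGroup B'] [Module κ B'] [AddCommGroup C'] [Module κ C']
    [FiniteDimensional κ B'] [FiniteDimensional κ C']
    (f' : A' →ₗ[κ] B') (g' : B' →ₗ[κ] C') (h : ∀ a, f' a ∈ LinearMap.ker g') :
    Module.finrank κ (LinearMap.ker g' ⧸ LinearMap.range (f'.codRestrict (LinearMap.ker g') h)) +
      Module.finrank κ C' =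
    Module.finrank κ (B' ⧸ LinearMap.range f') + Module.finrank κ (C' ⧸ LinearMap.range g') := by
  have hI : LinearMap.range f' ≤ LinearMap.ker g' := by
    rintro _ ⟨a, rfl⟩
    exact h a
  have e1 := Submodule.finrank_quotient_add_finrank
    (LinearMap.range (f'.codRestrict (LinearMap.ker g') h))
  have e2 := Submodule.finrank_quotient_add_finrank (LinearMap.range f')
  have e3 := Submodule.finrank_quotient_add_finrank (LinearMap.range g')
  have e4 := LinearMap.finrank_range_add_finrank_ker g'
  have e5 : Module.finrank κ (LinearMap.range (f'.codRestrict (LinearMap.ker g') h)) =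
      Module.finrank κ (LinearMap.range f') := by
    rw [LinearMap.range_codRestrict]
    exact (Submodule.comapSubtypeEquivOfLe hI).finrank_eq
  omega

theorem finrank_coker_baseChange {R : Type u} [CommRing R] (κ : Type u) [Field κ] [Algebra R κ]
    {A B : Type u} [AddCommGroup A] [Module R A] [AddCommGroup B] [Module R B]
    (f : A →ₗ[R] B) :
    Module.finrank κ ((κ ⊗[R] B) ⧸ LinearMap.range (f.baseChange κ)) =
      Module.finrank κ (κ ⊗[R] (B ⧸ LinearMap.range f)) := by
  have hsurj : Function.Surjective ((LinearMap.range f).mkQ.baseChange κ) :=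
    LinearMap.lTensor_surjective _ (Submodule.mkQ_surjective _)
  have hex : Function.Exact (f.baseChange κ) ((LinearMap.range f).mkQ.baseChange κ) :=
    lTensor_exact κ (f.exact_map_mkQ_range) (Submodule.mkQ_surjective _)
  have hker : LinearMap.ker ((LinearMap.range f).mkQ.baseChange κ) =
      LinearMap.range (f.baseChange κ) := by
    ext x
    rw [LinearMap.mem_ker, LinearMap.mem_range]
    exact hex x
  exact ((Submodule.quotEquivOfEq _ _ hker.symm).trans
    (LinearMap.quotKerEquivOfSurjective _ hsurj)).finrank_eq

end kappa

end Groth.Agent.H3Fitt
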