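import Mathlib
import Groth.Prelude.Def_Fitting
import Groth.Agent.Lib.helper3.LcB
import Groth.Agent.Lib.helper3.LcC
import Groth.Agent.Lib.helper3.LcD

set_option autoImplicit false
open TensorProduct CategoryTheory

namespace Groth.Agent.H3Fitt

universe u

section
variable {R : Type u} [CommRing R]

noncomputable def frankHom (M : Type u) [AddCommGroup M] [Module R M]
    (κ : Type u) [Field κ] (φ : R →+* κ) : ℕ :=
  letI : Algebra R κ := φ.toAlgebra
  Module.finrank κ (κ ⊗[R] M)

lemma frankHom_spec (M : Type u) [AddCommGroup M] [Module R M] [Module.Finite R M]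
    (κ : Type u) [Field κ] (φ : R →+* κ) (k : ℕ) :
    ¬ Fitt.ideal R M k ≤ RingHom.ker φ ↔ frankHom M κ φ ≤ k := by
  letI : Algebra R κ := φ.toAlgebra
  exact not_le_iff_finrank' M κ (RingHom.ker φ) rfl k

theorem betti_formula_hom (κ : Type u) [Field κ] (φ : R →+* κ)
    (P : CochainComplex (ModuleCat.{u} R) ℤ) (i : ℤ)
    (hfin : ∀ j, Module.Finite R (P.X j)) (hfree : ∀ j, Module.Free R (P.X j)) :
    Module.finrank κ
        ((((ModuleCat.extendScalars φ).mapHomologicalComplex
          (ComplexShape.up ℤ)).obj P).homology i) + Module.finrank R (P.sc i).X₃ =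
      frankHom ((P.sc i).X₂ ⧸ LinearMap.range (P.sc i).f.hom) κ φ +
      frankHom ((P.sc i).X₃ ⧸ LinearMap.range (P.sc i).g.hom) κ φ := by
  haveI : Nontrivial R := φ.domain_nontrivial
  letI alg' : Algebra R κ := φ.toAlgebra
  haveI : Module.Finite R (P.sc i).X₂ := hfin _
  haveI : Module.Finite R (P.sc i).X₃ := hfin _
  haveI : Module.Free R (P.sc i).X₃ := hfree _
  let S' := ((((ModuleCat.extendScalars φ).mapHomologicalComplex
          (ComplexShape.up ℤ)).obj P).sc i)
  haveI : Module.Finite κ S'.X₂ :=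
    (inferInstance : Module.Finite κ (κ ⊗[R] (P.sc i).X₂))
  haveI : Module.Finite κ S'.X₃ :=
    (inferInstance : Module.Finite κ (κ ⊗[R] (P.sc i).X₃))
  have h0 : Module.finrank κ
        ((((ModuleCat.extendScalars φ).mapHomologicalComplex
          (ComplexShape.up ℤ)).obj P).homology i) =
      Module.finrank κ
        (LinearMap.ker S'.g.hom ⧸ LinearMap.range S'.moduleCatToCycles) :=
    (S'.moduleCatHomologyIso.toLinearEquiv).finrank_eq
  have h1 := finrank_homology_add κ S'.f.hom S'.g.hom S'.moduleCat_zero_apply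
  have h2 : Module.finrank κ (S'.X₂ ⧸ LinearMap.range S'.f.hom) =
      frankHom ((P.sc i).X₂ ⧸ LinearMap.range (P.sc i).f.hom) κ φ :=
    finrank_coker_baseChange κ (P.sc i).f.hom
  have h3 : Module.finrank κ (S'.X₃ ⧸ LinearMap.range S'.g.hom) =
      frankHom ((P.sc i).X₃ ⧸ LinearMap.range (P.sc i).g.hom) κ φ :=
    finrank_coker_baseChange κ (P.sc i).g.hom
  have h4 : Module.finrank κ S'.X₃ = Module.finrank R (P.sc i).X₃ :=
    Module.finrank_baseChange (R := κ) (S := R) (M' := (P.sc i).X₃)
  rw [h0, ← h2, ← h3, ← h4]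
  exact h1

end

end Groth.Agent.H3Fitt
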