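import Mathlib
import Groth.Prelude.Def_Fitting
import Groth.Agent.Lib.helper3.LcE

set_option autoImplicit false
open TensorProduct CategoryTheory CategoryTheory.Limits

namespace Groth.Agent.H3Fitt

universe u

theorem main65 (R : Type u) [CommRing R] [IsReduced R]
    (P : CochainComplex (ModuleCat.{u} R) ℤ) (b : ℤ) (hb : ∀ j : ℤ, b < j → IsZero (P.X j))
    (hP : ∀ j : ℤ, Module.Finite R (P.X j) ∧ Module.Free R (P.X j)) (i : ℤ)
    (hconst : IsLocallyConstant fun p : PrimeSpectrum R =>
      Module.finrank p.asIdeal.ResidueField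
        ((((ModuleCat.extendScalars (algebraMap R p.asIdeal.ResidueField)).mapHomologicalComplex
          (ComplexShape.up ℤ)).obj P).homology i)) :
    Module.Finite R (P.homology i) ∧ Module.Projective R (P.homology i) := by
  have hfin : ∀ j, Module.Finite R (P.X j) := fun j => (hP j).1
  have hfree : ∀ j, Module.Free R (P.X j) := fun j => (hP j).2
  haveI : Module.Finite R (P.sc i).X₂ := hfin _
  haveI : Module.Finite R (P.sc i).X₃ := hfin _
  haveI : Module.Free R (P.sc i).X₃ := hfree _
  let c₁ : PrimeSpectrum R → ℕ := fun p =>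
    frankHom ((P.sc i).X₂ ⧸ LinearMap.range (P.sc i).f.hom) p.asIdeal.ResidueField
      (algebraMap R p.asIdeal.ResidueField)
  let c₂ : PrimeSpectrum R → ℕ := fun p =>
    frankHom ((P.sc i).X₃ ⧸ LinearMap.range (P.sc i).g.hom) p.asIdeal.ResidueField
      (algebraMap R p.asIdeal.ResidueField)
  have hc₁ : IsFibreRank ((P.sc i).X₂ ⧸ LinearMap.range (P.sc i).f.hom) c₁ := by
    intro p k
    have := frankHom_spec ((P.sc i).X₂ ⧸ LinearMap.range (P.sc i).f.hom) p.asIdeal.ResidueField
      (algebraMap R p.asIdeal.ResidueField) k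
    rwa [Ideal.ker_algebraMap_residueField] at this
  have hc₂ : IsFibreRank ((P.sc i).X₃ ⧸ LinearMap.range (P.sc i).g.hom) c₂ := by
    intro p k
    have := frankHom_spec ((P.sc i).X₃ ⧸ LinearMap.range (P.sc i).g.hom) p.asIdeal.ResidueField
      (algebraMap R p.asIdeal.ResidueField) k
    rwa [Ideal.ker_algebraMap_residueField] at this
  have hsum : IsLocallyConstant (fun q => c₁ q + c₂ q) := by
    have h := hconst.comp (fun n : ℕ => n + Module.finrank R (P.sc i).X₃)
    have heq : ((fun n : ℕ => n + Module.finrank R (P.sc i).X₃) ∘ fun p : PrimeSpectrum R =>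
      Module.finrank p.asIdeal.ResidueField
        ((((ModuleCat.extendScalars (algebraMap R p.asIdeal.ResidueField)).mapHomologicalComplex
          (ComplexShape.up ℤ)).obj P).homology i)) = (fun q => c₁ q + c₂ q) := by
      funext p
      exact betti_formula_hom p.asIdeal.ResidueField (algebraMap R p.asIdeal.ResidueField) P i
        hfin hfree
    rwa [heq] at h
  obtain ⟨hl₁, hl₂⟩ := locallyConstant_of_add hc₁ hc₂ hsum
  have hp₁ := projective_of_locallyConstant' _ hc₁ hl₁
  have hp₂ := projective_of_locallyConstant' _ hc₂ hl₂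
  obtain ⟨hF, hPr⟩ := homology_projective (P.sc i).f.hom (P.sc i).g.hom
    (P.sc i).moduleCat_zero_apply hp₁ hp₂
  let e : (P.homology i) ≃ₗ[R] (LinearMap.ker (P.sc i).g.hom ⧸
      LinearMap.range ((P.sc i).f.hom.codRestrict (LinearMap.ker (P.sc i).g.hom)
        (P.sc i).moduleCat_zero_apply)) := (P.sc i).moduleCatHomologyIso.toLinearEquiv
  haveI := hF
  haveI := hPr
  exact ⟨Module.Finite.equiv e.symm, Module.Projective.of_equiv e.symm⟩

end Groth.Agent.H3Fitt
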