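import Mathlib
import Groth.Prelude.Def_Fitting
import Groth.Agent.Lib.helper3.LcA
import Groth.Agent.Lib.helper3.LcB
import Groth.Agent.Lib.helper3.LcD

set_option autoImplicit false
open TensorProduct

namespace Groth.Agent.H3Fitt

universe u

section
variable {B : Type u} [CommRing B] {K K' : Type u} [AddCommGroup K] [Module B K]
  [AddCommGroup K'] [Module B K'] [Module.Finite B K']

lemma isFibreRank_frank (M : Type u) [AddCommGroup M] [Module B M] [Module.Finite B M] :
    IsFibreRank M (frank B M) :=
  fun p k => not_le_iff_finrank M k p.asIdeal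

lemma finrank_range_add (φ : K →ₗ[B] K') (y : PrimeSpectrum B) :
    Module.finrank y.asIdeal.ResidueField
        (LinearMap.range (φ.baseChange y.asIdeal.ResidueField)) +
      frank B (K' ⧸ LinearMap.range φ) y =
    Module.finrank y.asIdeal.ResidueField (y.asIdeal.ResidueField ⊗[B] K') := by
  have h1 := finrank_coker_baseChange y.asIdeal.ResidueField φ
  have h2 := Submodule.finrank_quotient_add_finrank
    (LinearMap.range (φ.baseChange y.asIdeal.ResidueField))
  unfold frank
  omega

end

section
variable (B : Type u) [CommRing B] [IsNoetherianRing B] (K K' : Type u) [AddCommGroup K]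
  [Module B K] [Module.Finite B K] [Module.Flat B K] [AddCommGroup K'] [Module B K']
  [Module.Finite B K'] [Module.Flat B K'] (φ : K →ₗ[B] K')

theorem main336 : LowerSemicontinuous (fun y : PrimeSpectrum B =>
    Module.finrank y.asIdeal.ResidueField
      ↥(LinearMap.range (φ.baseChange y.asIdeal.ResidueField))) := by
  intro x n hn
  haveI : Module.FinitePresentation B K' := Module.finitePresentation_of_finite B K'
  have hlc := Module.isLocallyConstant_rankAtStalk (R := B) (M := K')
  have hU1 : IsOpen {q : PrimeSpectrum B | Module.rankAtStalk K' q = Module.rankAtStalk K' x} :=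
    hlc.isOpen_fiber _
  have hU2 := (isFibreRank_frank (B := B) (K' ⧸ LinearMap.range φ)).isOpen_le
    (frank B (K' ⧸ LinearMap.range φ) x)
  refine Filter.eventually_of_mem ((hU1.inter hU2).mem_nhds
    ⟨rfl, show frank B (K' ⧸ LinearMap.range φ) x ≤ frank B (K' ⧸ LinearMap.range φ) x from le_refl _⟩) ?_
  rintro q ⟨hq1, hq2⟩
  simp only [Set.mem_ofPred_eq] at hq1 hq2
  have e1 := finrank_range_add φ q
  have e2 := finrank_range_add φ x
  rw [← Module.rankAtStalk_eq] at e1 e2
  simp only at hn ⊢
  omega

omit [Module.Finite B K] [Module.Flat B K] in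
theorem range_projective (hc : Module.Projective B (K' ⧸ LinearMap.range φ)) :
    Module.Projective B ↥(LinearMap.range φ) := by
  haveI : Module.FinitePresentation B K' := Module.finitePresentation_of_finite B K'
  haveI : Module.Projective B K' := Module.Flat.projective_of_finitePresentation
  have hsurj : Function.Surjective (LinearMap.range φ).mkQ := Submodule.mkQ_surjective _
  have := (Function.Exact.split_tfae (LinearMap.exact_subtype_mkQ (LinearMap.range φ))
    (LinearMap.range φ).subtype_injective hsurj).out 0 1
  obtain ⟨l, hl⟩ := this.mp (Module.projective_lifting_property _ _ hsurj)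
  exact Module.Projective.of_split _ _ hl

theorem main337 (hc : Module.Projective B (K' ⧸ LinearMap.range φ)) :
    Module.Projective B ↥(LinearMap.range φ) ∧ ∀ (B' : Type u) [CommRing B'] [Algebra B B'],
      Function.Injective ((LinearMap.range φ).subtype.baseChange B') ∧
      LinearMap.range ((LinearMap.range φ).subtype.baseChange B') =
        LinearMap.range (φ.baseChange B') := by
  refine ⟨range_projective B K K' φ hc, ?_⟩
  intro B' _ _
  have hsurj : Function.Surjective (LinearMap.range φ).mkQ := Submodule.mkQ_surjective _
  have := (Function.Exact.split_tfae (LinearMap.exact_subtype_mkQ (LinearMap.range φ))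
    (LinearMap.range φ).subtype_injective hsurj).out 0 1
  obtain ⟨l, hl⟩ := this.mp (Module.projective_lifting_property _ _ hsurj)
  constructor
  · have h : l.baseChange B' ∘ₗ (LinearMap.range φ).subtype.baseChange B' = LinearMap.id := by
      rw [← LinearMap.baseChange_comp, hl, LinearMap.baseChange_id]
    exact Function.HasLeftInverse.injective ⟨_, LinearMap.congr_fun h⟩
  · have hcomp : (LinearMap.range φ).subtype ∘ₗ φ.rangeRestrict = φ := by
      ext x; rfl
    have hs : Function.Surjective (φ.rangeRestrict.baseChange B') :=
      LinearMap.lTensor_surjective _ φ.surjective_rangeRestrict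
    conv_rhs => rw [← hcomp, LinearMap.baseChange_comp]
    rw [LinearMap.range_comp, LinearMap.range_eq_top.mpr hs, Submodule.map_top]

theorem main338 [IsReduced B] (hconst : ∃ c : ℕ, ∀ y : PrimeSpectrum B,
    Module.finrank y.asIdeal.ResidueField
      ↥(LinearMap.range (φ.baseChange y.asIdeal.ResidueField)) = c) :
    Module.Projective B (K' ⧸ LinearMap.range φ) ∧ Module.Projective B ↥(LinearMap.range φ) := by
  obtain ⟨c, hc⟩ := hconst
  haveI : Module.FinitePresentation B K' := Module.finitePresentation_of_finite B K'
  have hlc := Module.isLocallyConstant_rankAtStalk (R := B) (M := K')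
  have hfr : IsLocallyConstant (frank B (K' ⧸ LinearMap.range φ)) := by
    have h2 : frank B (K' ⧸ LinearMap.range φ) = fun y => Module.rankAtStalk K' y - c := by
      funext y
      have e1 := finrank_range_add φ y
      rw [← Module.rankAtStalk_eq, hc y] at e1
      omega
    rw [h2]
    exact hlc.comp (fun n => n - c)
  have hp := projective_of_locallyConstant (K' ⧸ LinearMap.range φ) hfr
  exact ⟨hp, range_projective B K K' φ hp⟩

end

end Groth.Agent.H3Fitt
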