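import Mathlib
import Groth.Prelude.Def_Fitting
import Groth.Agent.Lib.helper3.LcA
import Groth.Agent.Lib.helper3.LcB

set_option autoImplicit false
open TensorProduct

namespace Groth.Agent.H3Fitt

universe u v

section
variable {A : Type u} [CommRing A]

/-- fibre rank, any universe -/
noncomputable def frankv (A : Type u) [CommRing A] (M : Type v) [AddCommGroup M] [Module A M]
    (p : PrimeSpectrum A) : ℕ :=
  Module.finrank p.asIdeal.ResidueField (p.asIdeal.ResidueField ⊗[A] M)

lemma frankv_congr {M : Type v} {M' : Type*} [AddCommGroup M] [Module A M] [AddCommGroup M']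
    [Module A M'] (e : M ≃ₗ[A] M') (p : PrimeSpectrum A) : frankv A M p = frankv A M' p :=
  (LinearEquiv.baseChange A p.asIdeal.ResidueField M M' e).finrank_eq

def IsFibreRankv (M : Type v) [AddCommGroup M] [Module A M] (c : PrimeSpectrum A → ℕ) : Prop :=
  ∀ (p : PrimeSpectrum A) (k : ℕ), ¬ Fitt.ideal A M k ≤ p.asIdeal ↔ c p ≤ k

lemma isFibreRankv_frankv (M : Type v) [AddCommGroup M] [Module A M] [Module.Finite A M] :
    IsFibreRankv M (frankv A M) := by
  intro p k
  haveI : Small.{u} M := Module.Finite.small A M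
  let e : M ≃ₗ[A] Shrink.{u} M := (Shrink.linearEquiv A M).symm
  haveI : Module.Finite A (Shrink.{u} M) := Module.Finite.equiv e
  rw [ideal_congr e k, frankv_congr e p]
  exact not_le_iff_finrank (Shrink.{u} M) k p.asIdeal

lemma IsFibreRankv.isOpen_le {M : Type v} [AddCommGroup M] [Module A M]
    {c : PrimeSpectrum A → ℕ} (hc : IsFibreRankv M c) (k : ℕ) :
    IsOpen {q : PrimeSpectrum A | c q ≤ k} := by
  have : {q : PrimeSpectrum A | c q ≤ k} =
      (PrimeSpectrum.zeroLocus (Fitt.ideal A M k : Set A))ᶜ := by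
    ext q
    simp only [Set.mem_ofPred_eq, Set.mem_compl_iff, PrimeSpectrum.mem_zeroLocus]
    rw [← hc q k]
    rfl
  rw [this]
  exact (PrimeSpectrum.isClosed_zeroLocus _).isOpen_compl

lemma locallyConstant_of_addv {M₁ : Type v} {M₂ : Type*} [AddCommGroup M₁] [Module A M₁]
    [AddCommGroup M₂] [Module A M₂]
    {c₁ c₂ : PrimeSpectrum A → ℕ} (h₁ : IsFibreRankv M₁ c₁) (h₂ : IsFibreRankv M₂ c₂)
    (h : IsLocallyConstant (fun q => c₁ q + c₂ q)) :
    IsLocallyConstant c₁ ∧ IsLocallyConstant c₂ := by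
  have key : ∀ p : PrimeSpectrum A, ∃ U : Set (PrimeSpectrum A), IsOpen U ∧ p ∈ U ∧
      ∀ q ∈ U, c₁ q = c₁ p ∧ c₂ q = c₂ p := by
    intro p
    refine ⟨{q | c₁ q ≤ c₁ p} ∩ {q | c₂ q ≤ c₂ p} ∩ {q | c₁ q + c₂ q = c₁ p + c₂ p},
      ((h₁.isOpen_le _).inter (h₂.isOpen_le _)).inter (h.isOpen_fiber (c₁ p + c₂ p)),
      ⟨⟨le_refl (c₁ p), le_refl (c₂ p)⟩, rfl⟩, ?_⟩
    rintro q ⟨⟨hq1, hq2⟩, hq3⟩
    simp only [Set.mem_ofPred_eq] at hq1 hq2 hq3
    omega
  constructor
  · rw [IsLocallyConstant.iff_exists_open]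
    intro p
    obtain ⟨U, hU, hp, hq⟩ := key p
    exact ⟨U, hU, hp, fun q hq' => (hq q hq').1⟩
  · rw [IsLocallyConstant.iff_exists_open]
    intro p
    obtain ⟨U, hU, hp, hq⟩ := key p
    exact ⟨U, hU, hp, fun q hq' => (hq q hq').2⟩

theorem projective_of_locallyConstantv [IsReduced A] (M : Type v) [AddCommGroup M] [Module A M]
    [Module.Finite A M] (h : IsLocallyConstant (frankv A M)) : Module.Projective A M := by
  haveI : Small.{u} M := Module.Finite.small A M
  let e : M ≃ₗ[A] Shrink.{u} M := (Shrink.linearEquiv A M).symm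
  haveI : Module.Finite A (Shrink.{u} M) := Module.Finite.equiv e
  have h' : IsLocallyConstant (frank A (Shrink.{u} M)) := by
    have : frank A (Shrink.{u} M) = frankv A M := by
      funext p
      exact (frankv_congr e p).symm
    rwa [this]
  haveI := projective_of_locallyConstant (Shrink.{u} M) h'
  exact Module.Projective.of_equiv e.symm

theorem finrank_coker_baseChangev (κ : Type*) [Field κ] [Algebra A κ]
    {M : Type v} {F : Type*} [AddCommGroup M] [Module A M] [AddCommGroup F] [Module A F]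
    (f : M →ₗ[A] F) :
    Module.finrank κ ((κ ⊗[A] F) ⧸ LinearMap.range (f.baseChange κ)) =
      Module.finrank κ (κ ⊗[A] (F ⧸ LinearMap.range f)) := by
  have hsurj : Function.Surjective ((LinearMap.range f).mkQ.baseChange κ) :=
    LinearMap.lTensor_surjective _ (Submodule.mkQ_surjective _)
  have hex : Function.Exact (f.baseChange κ) ((LinearMap.range f).mkQ.baseChange κ) :=
    lTensor_exact κ (f.exact_map_mkQ_range) (Submodule.mkQ_surjective _)
  have hker : LinearMap.ker ((LinearMap.range f).mkQ.baseChange κ) =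
      LinearMap.range (f.baseChange κ) := by
    ext x
    rw [LinearMap.mem_ker, LinearMap.mem_range]
    exact hex x
  exact ((Submodule.quotEquivOfEq _ _ hker.symm).trans
    (LinearMap.quotKerEquivOfSurjective _ hsurj)).finrank_eq

end

end Groth.Agent.H3Fitt
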