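import Mathlib
import Groth.Prelude.Def_Fitting
import Groth.Agent.Lib.helper3.LcH

set_option autoImplicit false
open TensorProduct

namespace Groth.Agent.H3Fitt

universe u v

section
variable (A : Type u) [CommRing A] (M : Type v) (F : Type v) [AddCommGroup M] [Module A M]
  [Module.Finite A M] [AddCommGroup F] [Module A F] [Module.Finite A F] [Module.Free A F]
  (δ : M →ₗ[A] F)

lemma finrank_ker_add (x : PrimeSpectrum A) :
    Module.finrank x.asIdeal.ResidueField (LinearMap.ker (δ.baseChange x.asIdeal.ResidueField)) +
      Module.finrank A F = frankv A M x + frankv A (F ⧸ LinearMap.range δ) x := by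
  haveI : Nontrivial A := (algebraMap A x.asIdeal.ResidueField).domain_nontrivial
  have h1 := LinearMap.finrank_range_add_finrank_ker (δ.baseChange x.asIdeal.ResidueField)
  have h2 := Submodule.finrank_quotient_add_finrank
    (LinearMap.range (δ.baseChange x.asIdeal.ResidueField))
  have h3 := finrank_coker_baseChangev x.asIdeal.ResidueField δ
  have h4 : Module.finrank x.asIdeal.ResidueField (x.asIdeal.ResidueField ⊗[A] F) =
      Module.finrank A F := Module.finrank_baseChange
  unfold frankv
  omega

theorem main609 : UpperSemicontinuous (fun x : PrimeSpectrum A =>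
      Module.finrank x.asIdeal.ResidueField
        (LinearMap.ker (δ.baseChange x.asIdeal.ResidueField))) := by
  intro x n hn
  have hU1 := (isFibreRankv_frankv (A := A) M).isOpen_le (frankv A M x)
  have hU2 := (isFibreRankv_frankv (A := A) (F ⧸ LinearMap.range δ)).isOpen_le
    (frankv A (F ⧸ LinearMap.range δ) x)
  refine Filter.eventually_of_mem ((hU1.inter hU2).mem_nhds
    ⟨show frankv A M x ≤ frankv A M x from le_refl _,
     show frankv A (F ⧸ LinearMap.range δ) x ≤ frankv A (F ⧸ LinearMap.range δ) x
      from le_refl _⟩) ?_
  rintro q ⟨hq1, hq2⟩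
  simp only [Set.mem_ofPred_eq] at hq1 hq2
  have e1 := finrank_ker_add A M F δ q
  have e2 := finrank_ker_add A M F δ x
  simp only at hn ⊢
  omega

end

end Groth.Agent.H3Fitt

namespace Groth.Agent.H3Fitt

universe u v

section
variable (A : Type u) [CommRing A] [IsReduced A] (M : Type v) (F : Type v) [AddCommGroup M]
  [Module A M]
  [Module.Finite A M] [AddCommGroup F] [Module A F] [Module.Finite A F] [Module.Free A F]
  (δ : M →ₗ[A] F)

theorem main610 (h : IsLocallyConstant (fun x : PrimeSpectrum A =>
      Module.finrank x.asIdeal.ResidueField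
        (LinearMap.ker (δ.baseChange x.asIdeal.ResidueField)))) :
    Module.Projective A M ∧ Module.Projective A (LinearMap.ker δ) ∧
      Module.Projective A (F ⧸ LinearMap.range δ) ∧
      ∀ (N : Type v) [AddCommGroup N] [Module A N],
        Function.Injective (LinearMap.rTensor N (LinearMap.ker δ).subtype) ∧
        Function.Exact (LinearMap.rTensor N (LinearMap.ker δ).subtype)
          (LinearMap.rTensor N δ) := by
  have hsum : IsLocallyConstant
      (fun q => frankv A M q + frankv A (F ⧸ LinearMap.range δ) q) := by
    have h' := h.comp (fun n : ℕ => n + Module.finrank A F)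
    have heq : ((fun n : ℕ => n + Module.finrank A F) ∘ fun x : PrimeSpectrum A =>
      Module.finrank x.asIdeal.ResidueField
        (LinearMap.ker (δ.baseChange x.asIdeal.ResidueField))) =
        (fun q => frankv A M q + frankv A (F ⧸ LinearMap.range δ) q) := by
      funext x
      exact finrank_ker_add A M F δ x
    rwa [heq] at h'
  obtain ⟨hl1, hl2⟩ := locallyConstant_of_addv (isFibreRankv_frankv (A := A) M)
    (isFibreRankv_frankv (A := A) (F ⧸ LinearMap.range δ)) hsum
  have hM : Module.Projective A M := projective_of_locallyConstantv M hl1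
  have hC : Module.Projective A (F ⧸ LinearMap.range δ) := projective_of_locallyConstantv _ hl2
  -- range δ is a retract of F
  have hsurj : Function.Surjective (LinearMap.range δ).mkQ := Submodule.mkQ_surjective _
  have t1 := (Function.Exact.split_tfae (LinearMap.exact_subtype_mkQ (LinearMap.range δ))
    (LinearMap.range δ).subtype_injective hsurj).out 0 1
  obtain ⟨l2, hl2'⟩ := t1.mp (Module.projective_lifting_property _ _ hsurj)
  have hR : Module.Projective A (LinearMap.range δ) := Module.Projective.of_split _ _ hl2'
  -- ker δ is a retract of M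
  have hsurj' : Function.Surjective δ.rangeRestrict := δ.surjective_rangeRestrict
  have hex : Function.Exact (LinearMap.ker δ).subtype δ.rangeRestrict := by
    intro x
    constructor
    · intro hx
      refine ⟨⟨x, ?_⟩, rfl⟩
      have := congrArg Subtype.val hx
      simpa using this
    · rintro ⟨y, rfl⟩
      apply Subtype.ext
      simpa using y.2
  have t2 := (Function.Exact.split_tfae hex (LinearMap.ker δ).subtype_injective hsurj').out 0 1
  obtain ⟨l1, hl1'⟩ := t2.mp (Module.projective_lifting_property _ _ hsurj')
  have hK : Module.Projective A (LinearMap.ker δ) := Module.Projective.of_split _ _ hl1'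
  refine ⟨hM, hK, hC, ?_⟩
  intro N _ _
  have hinj1 : Function.Injective (LinearMap.rTensor N (LinearMap.ker δ).subtype) := by
    have hc : l1.rTensor N ∘ₗ (LinearMap.ker δ).subtype.rTensor N = LinearMap.id := by
      rw [← LinearMap.rTensor_comp, hl1', LinearMap.rTensor_id]
    exact Function.HasLeftInverse.injective ⟨_, LinearMap.congr_fun hc⟩
  have hinj2 : Function.Injective (LinearMap.rTensor N (LinearMap.range δ).subtype) := by
    have hc : l2.rTensor N ∘ₗ (LinearMap.range δ).subtype.rTensor N = LinearMap.id := by
      rw [← LinearMap.rTensor_comp, hl2', LinearMap.rTensor_id]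
    exact Function.HasLeftInverse.injective ⟨_, LinearMap.congr_fun hc⟩
  refine ⟨hinj1, ?_⟩
  have hexN := rTensor_exact N hex hsurj'
  have hcomp : (LinearMap.range δ).subtype ∘ₗ δ.rangeRestrict = δ := by
    ext x; rfl
  intro y
  rw [← hexN y]
  constructor
  · intro hy
    apply hinj2
    rw [map_zero, ← LinearMap.comp_apply, ← LinearMap.rTensor_comp, hcomp]
    exact hy
  · intro hy
    rw [← hcomp, LinearMap.rTensor_comp, LinearMap.comp_apply, hy, map_zero]

end

end Groth.Agent.H3Fitt
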