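import Mathlib
import Groth.Prelude.Def_Fitting
import Groth.Agent.Lib.helper3.FittI
import Groth.Agent.Lib.helper3.FittJ
import Groth.Agent.Lib.helper3.FittP

set_option autoImplicit false
open TensorProduct

namespace Groth.Agent.H3Fitt

universe u

section
variable {R : Type u} [CommRing R] (M : Type u) [AddCommGroup M] [Module R M]
  [Module.Finite R M]

lemma map_eq_zero_of_pow_mul {S : Type*} [CommRing S] [Algebra R S] {f d : R} {n : ℕ}
    (hfu : IsUnit (algebraMap R S f)) (h0 : f ^ n * d = 0) : algebraMap R S d = 0 := by
  have := congrArg (algebraMap R S) h0
  rw [map_mul, map_zero, map_pow] at this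
  exact ((hfu.pow n).mul_right_eq_zero).mp this

theorem projective_of_local_fitting
    (h : ∀ (m : Ideal R), m.IsMaximal → ∃ r : ℕ, ¬ Fitt.ideal R M r ≤ m ∧ ∃ f : R, f ∉ m ∧
      ∀ k, k < r → ∀ d ∈ Fitt.ideal R M k, ∃ n : ℕ, f ^ n * d = 0) :
    Module.Projective R M := by
  have hfp : Module.FinitePresentation R M := by
    let s : Set R := {g | Module.FinitePresentation (Localization.Away g)
      (LocalizedModule (Submonoid.powers g) M)}
    have hs : Ideal.span s = ⊤ := by
      by_contra hne
      obtain ⟨m, hm, hle⟩ := Ideal.exists_le_maximal _ hne
      have hmp := hm.isPrime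
      obtain ⟨r, hr, f, hf, hkill⟩ := h m hm
      obtain ⟨e, he, hem⟩ := SetLike.not_le_iff_exists.mp hr
      have hg : f * e ∉ m := fun hc => (hmp.mem_or_mem hc).elim hf hem
      apply hg
      apply hle
      apply Ideal.subset_span
      change Module.FinitePresentation (Localization.Away (f * e))
        (LocalizedModule (Submonoid.powers (f * e)) M)
      have hfu : IsUnit (algebraMap R (Localization.Away (f * e)) f) := by
        have := IsLocalization.map_units (Localization.Away (f * e))
          (⟨f * e, Submonoid.mem_powers _⟩ : Submonoid.powers (f * e))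
        rw [map_mul] at this
        exact isUnit_of_mul_isUnit_left this
      have heu : IsUnit (algebraMap R (Localization.Away (f * e)) e) := by
        have := IsLocalization.map_units (Localization.Away (f * e))
          (⟨f * e, Submonoid.mem_powers _⟩ : Submonoid.powers (f * e))
        rw [map_mul] at this
        exact isUnit_of_mul_isUnit_right this
      have hproj : Module.Projective (Localization.Away (f * e))
          (LocalizedModule (Submonoid.powers (f * e)) M) := by
        refine projective_of_fitting _ r ?_ ?_
        · intro j hj
          rw [ideal_localizedModule, Ideal.map_eq_bot_iff_le_ker]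
          intro d hd
          rw [RingHom.mem_ker]
          obtain ⟨n, h0⟩ := hkill j hj d hd
          exact map_eq_zero_of_pow_mul hfu h0
        · intro j hj
          rw [ideal_localizedModule]
          apply Ideal.eq_top_of_isUnit_mem _ _ heu
          exact Ideal.mem_map_of_mem _ (ideal_antitone R M hj he)
      exact Module.finitePresentation_of_projective _ _
    refine Module.FinitePresentation.of_localizationSpan s hs ?_
    rintro ⟨g, hg⟩
    exact hg
  refine Module.projective_of_localization_maximal ?_
  intro m hm
  have hmp := hm.isPrime
  obtain ⟨r, hr, f, hf, hkill⟩ := h m hm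
  obtain ⟨g, hg⟩ := (not_le_iff_atPrime M _ m).mp hr
  have hli : LinearIndependent (Localization.AtPrime m) g := by
    rcases Nat.eq_zero_or_pos r with h0 | hpos
    · have : IsEmpty (Fin r) := by rw [h0]; infer_instance
      exact linearIndependent_empty_type
    · apply linearIndependent_of_ideal_eq_bot g hg
      rw [ideal_localizedModule, Ideal.map_eq_bot_iff_le_ker]
      intro d hd
      rw [RingHom.mem_ker]
      obtain ⟨n, h0⟩ := hkill _ (by omega) d hd
      have hfu : IsUnit (algebraMap R (Localization.AtPrime m) f) :=
        IsLocalization.map_units (Localization.AtPrime m) (⟨f, hf⟩ : m.primeCompl)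
      exact map_eq_zero_of_pow_mul hfu h0
  let b : Module.Basis (Fin r) (Localization.AtPrime m)
      (LocalizedModule m.primeCompl M) :=
    Module.Basis.mk hli (by rw [hg])
  have := Module.Free.of_basis b
  infer_instance

end

end Groth.Agent.H3Fitt
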