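import Mathlib
import Groth.Prelude.Def_Fitting
import Groth.Agent.Lib.helper3.LfA
import Groth.Agent.Lib.helper3.LcA

set_option autoImplicit false
open TensorProduct

namespace Groth.Agent.H3Fitt

universe u

section
variable {R : Type u} [CommRing R] (M : Type u) [AddCommGroup M] [Module R M]
  [Module.Finite R M] [Module.Flat R M]

/-- for a finite flat module, a Fitting ideal contained in a prime dies in the local ring. -/
lemma flat_fitting_local (p : Ideal R) [p.IsPrime] (k : ℕ) (hle : Fitt.ideal R M k ≤ p)
    (x : R) (hx : x ∈ Fitt.ideal R M k) : ∃ s : R, s ∉ p ∧ s * x = 0 := by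
  haveI : Module.Free (Localization.AtPrime p) (LocalizedModule p.primeCompl M) :=
    Module.free_of_flat_of_isLocalRing
  let b := Module.finBasis (Localization.AtPrime p) (LocalizedModule p.primeCompl M)
  by_cases hk : k < Module.finrank (Localization.AtPrime p) (LocalizedModule p.primeCompl M)
  · have h0 := ideal_basis_eq_bot b hk
    rw [ideal_localizedModule] at h0
    have hx0 : algebraMap R (Localization.AtPrime p) x = 0 := by
      have : algebraMap R (Localization.AtPrime p) x ∈
          (Fitt.ideal R M k).map (algebraMap R (Localization.AtPrime p)) :=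
        Ideal.mem_map_of_mem _ hx
      rw [h0] at this
      simpa using this
    obtain ⟨s, hs⟩ := (IsLocalization.map_eq_zero_iff p.primeCompl
      (Localization.AtPrime p) x).mp hx0
    exact ⟨s.1, s.2, hs⟩
  · exfalso
    have h1 := ideal_basis_eq_top b (not_lt.mp hk)
    rw [ideal_localizedModule] at h1
    have := (IsLocalization.map_algebraMap_ne_top_iff_disjoint p.primeCompl
      (Localization.AtPrime p) (Fitt.ideal R M k)).mpr ?_
    · exact this h1
    · rw [Set.disjoint_left]
      intro r hr hr'
      exact hr (hle hr')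

lemma stable_zeroLocus_fitting (k : ℕ) :
    StableUnderGeneralization (PrimeSpectrum.zeroLocus (Fitt.ideal R M k : Set R)) := by
  intro p q hqp hp
  rw [PrimeSpectrum.mem_zeroLocus] at hp ⊢
  have hle : q.asIdeal ≤ p.asIdeal := (PrimeSpectrum.le_iff_specializes q p).mpr hqp
  intro x hx
  obtain ⟨s, hs, hsx⟩ := flat_fitting_local M p.asIdeal k hp x hx
  have hsq : s ∉ q.asIdeal := fun h => hs (hle h)
  have : s * x ∈ q.asIdeal := by rw [hsx]; exact q.asIdeal.zero_mem
  exact (q.2.mem_or_mem this).resolve_left hsq

theorem projective_of_flat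
    (hZ : ∀ Z : Set (PrimeSpectrum R), IsClosed Z → StableUnderGeneralization Z → IsOpen Z) :
    Module.Projective R M := by
  apply projective_of_local_fitting
  intro m hm
  have hmp := hm.isPrime
  refine ⟨frank R M ⟨m, hmp⟩, (not_le_iff_finrank M _ m).mpr le_rfl, ?_⟩
  rcases Nat.eq_zero_or_pos (frank R M ⟨m, hmp⟩) with h0 | hpos
  · refine ⟨1, fun h => hmp.ne_top ((Ideal.eq_top_iff_one m).mpr h), ?_⟩
    intro k hk
    omega
  · set r := frank R M ⟨m, hmp⟩ with hr
    have hle : ∀ k, k < r → Fitt.ideal R M k ≤ m := by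
      intro k hk
      by_contra hnle
      have := (not_le_iff_finrank M k m).mp hnle
      change frank R M ⟨m, hmp⟩ ≤ k at this
      omega
    have hopen : IsOpen (PrimeSpectrum.zeroLocus (Fitt.ideal R M (r - 1) : Set R)) :=
      hZ _ (PrimeSpectrum.isClosed_zeroLocus _) (stable_zeroLocus_fitting M (r - 1))
    have hmem : (⟨m, hmp⟩ : PrimeSpectrum R) ∈
        PrimeSpectrum.zeroLocus (Fitt.ideal R M (r - 1) : Set R) := by
      rw [PrimeSpectrum.mem_zeroLocus]
      exact hle (r - 1) (by omega)
    obtain ⟨U, ⟨f, rfl⟩, hpU, hU⟩ :=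
      PrimeSpectrum.isTopologicalBasis_basic_opens.exists_subset_of_mem_open hmem hopen
    refine ⟨f, hpU, ?_⟩
    intro k hk d hd
    have hrad : f ∈ (Ideal.span {d}).annihilator.radical := by
      rw [Ideal.radical_eq_sInf, Ideal.mem_sInf]
      rintro J ⟨hJ, hJp⟩
      by_contra hfJ
      have hq : (⟨J, hJp⟩ : PrimeSpectrum R) ∈
          PrimeSpectrum.zeroLocus (Fitt.ideal R M (r - 1) : Set R) := hU hfJ
      rw [PrimeSpectrum.mem_zeroLocus] at hq
      have hleJ : Fitt.ideal R M k ≤ J :=
        le_trans (ideal_antitone R M (by omega)) hq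
      obtain ⟨s, hs, hsd⟩ := flat_fitting_local M J k hleJ d hd
      apply hs
      apply hJ
      rw [Submodule.mem_annihilator_span_singleton]
      exact hsd
    obtain ⟨n, hn⟩ := hrad
    refine ⟨n, ?_⟩
    rw [Submodule.mem_annihilator_span_singleton] at hn
    exact hn

end

end Groth.Agent.H3Fitt
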