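import Mathlib

set_option autoImplicit false

namespace Groth.Agent.H3Fitt

universe u

section
variable {R : Type u} [CommRing R]

/-- the ideal `{x | x ∈ x J}` -/
def pureOf (J : Ideal R) : Ideal R where
  carrier := {x | ∃ y ∈ J, x = x * y}
  add_mem' := by
    rintro x x' ⟨y, hy, hxy⟩ ⟨y', hy', hxy'⟩
    refine ⟨y + y' - y * y', J.sub_mem (J.add_mem hy hy') (J.mul_mem_left _ hy'), ?_⟩
    have e1 : x * y' - x * (y * y') = 0 := by
      rw [← mul_assoc, ← hxy, sub_self]
    have e2 : x' * y - x' * (y * y') = 0 := by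
      rw [mul_comm y y', ← mul_assoc, ← hxy', sub_self]
    calc x + x' = x * y + x' * y' := by rw [← hxy, ← hxy']
      _ = x * y + x' * y' + (x * y' - x * (y * y')) + (x' * y - x' * (y * y')) := by
          rw [e1, e2, add_zero, add_zero]
      _ = (x + x') * (y + y' - y * y') := by ring
  zero_mem' := ⟨0, J.zero_mem, by simp⟩
  smul_mem' := by
    rintro c x ⟨y, hy, hxy⟩
    refine ⟨y, hy, ?_⟩
    rw [smul_eq_mul, mul_assoc, ← hxy]

lemma mem_pureOf {J : Ideal R} {x : R} : x ∈ pureOf J ↔ ∃ y ∈ J, x = x * y := Iff.rfl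

lemma pureOf_le (J : Ideal R) : pureOf J ≤ J := by
  rintro x ⟨y, hy, hxy⟩
  rw [hxy]
  exact J.mul_mem_left _ hy

/-- the multiplicative set `(R ∖ p)(1 + J)` -/
def mulSet (p : Ideal R) [p.IsPrime] (J : Ideal R) : Submonoid R where
  carrier := {t | ∃ s j, s ∉ p ∧ j ∈ J ∧ t = s * (1 + j)}
  one_mem' := ⟨1, 0, fun h => (‹p.IsPrime›).ne_top ((Ideal.eq_top_iff_one p).mpr h),
    J.zero_mem, by simp⟩
  mul_mem' := by
    rintro a b ⟨s, j, hs, hj, rfl⟩ ⟨s', j', hs', hj', rfl⟩
    refine ⟨s * s', j + j' + j * j', fun h => ((‹p.IsPrime›).mem_or_mem h).elim hs hs',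
      J.add_mem (J.add_mem hj hj') (J.mul_mem_left _ hj'), by ring⟩

theorem zeroLocus_pureOf (Z : Set (PrimeSpectrum R)) (hc : IsClosed Z)
    (hg : StableUnderGeneralization Z) :
    PrimeSpectrum.zeroLocus (pureOf (PrimeSpectrum.vanishingIdeal Z) : Set R) = Z := by
  set J := PrimeSpectrum.vanishingIdeal Z with hJ
  have hZ : PrimeSpectrum.zeroLocus (J : Set R) = Z := by
    rw [hJ, PrimeSpectrum.zeroLocus_vanishingIdeal_eq_closure, hc.closure_eq]
  apply Set.Subset.antisymm
  · intro p hp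
    rw [PrimeSpectrum.mem_zeroLocus] at hp
    have hdisj : Disjoint (((⊥ : Ideal R) : Set R)) (mulSet p.asIdeal J : Set R) := by
      rw [Set.disjoint_left]
      rintro t ht ⟨s, j, hs, hj, rfl⟩
      have ht0 : s * (1 + j) = 0 := by simpa using ht
      apply hs
      apply hp
      refine ⟨-j, J.neg_mem hj, ?_⟩
      have : s + s * j = 0 := by rw [← ht0]; ring
      have hsj : s * j = -s := by
        rw [eq_neg_iff_add_eq_zero, add_comm]; exact this
      rw [mul_neg, hsj, neg_neg]
    obtain ⟨q, hqp, -, hqd⟩ := Ideal.exists_le_prime_disjoint (⊥ : Ideal R) (mulSet p.asIdeal J) hdisj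
    rw [Set.disjoint_left] at hqd
    have hqle : q ≤ p.asIdeal := by
      intro x hx
      by_contra hxp
      exact hqd hx ⟨x, 0, hxp, J.zero_mem, by simp⟩
    have hne : q ⊔ J ≠ ⊤ := by
      intro htop
      have h1 : (1 : R) ∈ q ⊔ J := by rw [htop]; trivial
      obtain ⟨a, ha, j, hj, haj⟩ := Submodule.mem_sup.mp h1
      refine hqd ha ⟨1, -j, fun h => p.2.ne_top ((Ideal.eq_top_iff_one _).mpr h),
        J.neg_mem hj, ?_⟩
      rw [one_mul, ← haj]; ring
    obtain ⟨m, hm, hle⟩ := Ideal.exists_le_maximal _ hne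
    have hmZ : (⟨m, hm.isPrime⟩ : PrimeSpectrum R) ∈ Z := by
      rw [← hZ, PrimeSpectrum.mem_zeroLocus]
      exact fun x hx => hle (Ideal.mem_sup_right hx)
    have hqZ : (⟨q, hqp⟩ : PrimeSpectrum R) ∈ Z := by
      refine hg ?_ hmZ
      rw [← PrimeSpectrum.le_iff_specializes]
      exact fun x hx => hle (Ideal.mem_sup_left hx)
    rw [← hZ, PrimeSpectrum.mem_zeroLocus] at hqZ ⊢
    exact le_trans hqZ hqle
  · intro p hp
    rw [← hZ, PrimeSpectrum.mem_zeroLocus] at hp
    rw [PrimeSpectrum.mem_zeroLocus]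
    exact le_trans (pureOf_le J) hp

theorem pure_pureOf (Z : Set (PrimeSpectrum R)) (hc : IsClosed Z)
    (hg : StableUnderGeneralization Z) :
    (pureOf (PrimeSpectrum.vanishingIdeal Z)).Pure := by
  set J := PrimeSpectrum.vanishingIdeal Z with hJ
  have hrad : J ≤ (pureOf J).radical := by
    rw [← PrimeSpectrum.vanishingIdeal_zeroLocus_eq_radical, zeroLocus_pureOf Z hc hg]
  apply Ideal.Pure.of_inf_eq_mul
  intro J' _
  apply le_antisymm
  · rintro x ⟨hxI, (hxJ' : x ∈ J')⟩
    obtain ⟨y, hy, hxy⟩ := hxI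
    obtain ⟨n, hn⟩ := hrad hy
    have hpow : ∀ k : ℕ, x = x * y ^ k := by
      intro k
      induction k with
      | zero => simp
      | succ k ih => rw [pow_succ, ← mul_assoc, ← ih, ← hxy]
    have hmem : y ^ n * x ∈ pureOf J * J' := Ideal.mul_mem_mul hn hxJ'
    rw [mul_comm (y ^ n) x, ← hpow n] at hmem
    exact hmem
    
  · exact Ideal.mul_le_inf

theorem isOpen_of_flat_projective
    (h2 : ∀ (M : Type u) [AddCommGroup M] [Module R M], Module.Finite R M → Module.Flat R M →
        Module.Projective R M)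
    (Z : Set (PrimeSpectrum R)) (hc : IsClosed Z) (hg : StableUnderGeneralization Z) :
    IsOpen Z := by
  set I := pureOf (PrimeSpectrum.vanishingIdeal Z) with hI
  have hZ : PrimeSpectrum.zeroLocus (I : Set R) = Z := zeroLocus_pureOf Z hc hg
  have hpure : I.Pure := pure_pureOf Z hc hg
  have hproj : Module.Projective R (R ⧸ I) := h2 (R ⧸ I) inferInstance hpure
  obtain ⟨s, hs⟩ := Module.projective_lifting_property (Submodule.mkQ I) LinearMap.id
    (Submodule.mkQ_surjective I)
  set a := s 1 with ha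
  have he : 1 - a ∈ I := by
    rw [← Submodule.Quotient.mk_eq_zero I, Submodule.Quotient.mk_sub]
    have : Submodule.mkQ I (s 1) = 1 := LinearMap.congr_fun hs 1
    rw [sub_eq_zero]
    exact this.symm
  have hkill : ∀ x ∈ I, x * a = 0 := by
    intro x hx
    have : x • s 1 = s (x • (1 : R ⧸ I)) := (map_smul s x 1).symm
    rw [smul_eq_mul] at this
    rw [ha, this]
    have h0 : x • (1 : R ⧸ I) = 0 := by
      have : x • (1 : R ⧸ I) = Submodule.Quotient.mk (x • (1 : R)) := rfl
      rw [this, Submodule.Quotient.mk_eq_zero]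
      simpa using hx
    rw [h0, map_zero]
  have hEq : Z = (PrimeSpectrum.basicOpen a : Set (PrimeSpectrum R)) := by
    rw [← hZ]
    ext p
    rw [PrimeSpectrum.mem_zeroLocus]
    constructor
    · intro hle hap
      have h1 : (1 : R) ∈ p.asIdeal := by
        have := p.asIdeal.add_mem (hle he) hap
        simpa using this
      exact p.2.ne_top ((Ideal.eq_top_iff_one _).mpr h1)
    · intro hap x hx
      have : x * a ∈ p.asIdeal := by rw [hkill x hx]; exact p.asIdeal.zero_mem
      exact (p.2.mem_or_mem this).resolve_right hap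
  rw [hEq]
  exact (PrimeSpectrum.basicOpen a).2

end

end Groth.Agent.H3Fitt
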