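import Mathlib

namespace Groth.Agent.H3Lg
universe u

section gen
variable {A : Type u} [CommRing A] {C : Type u} [CommRing C] [Algebra A C] (f : A)
variable {Af : Type u} [CommRing Af] [Algebra A Af] [IsLocalization.Away f Af]
variable {Cf : Type u} [CommRing Cf] [Algebra C Cf]
  [IsLocalization (Algebra.algebraMapSubmonoid C (Submonoid.powers f)) Cf]
  [Algebra Af Cf] [Algebra A Cf] [IsScalarTower A Af Cf] [IsScalarTower A C Cf]

omit [IsLocalization.Away f Af]
  [IsLocalization (Algebra.algebraMapSubmonoid C (Submonoid.powers f)) Cf] in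
lemma tower_eq (x : A) :
    algebraMap Af Cf (algebraMap A Af x) = algebraMap C Cf (algebraMap A C x) := by
  rw [← IsScalarTower.algebraMap_apply, ← IsScalarTower.algebraMap_apply]

omit [Algebra Af Cf] [Algebra A Cf] [IsScalarTower A Af Cf] [IsScalarTower A C Cf]
  [IsLocalization.Away f Af] in
lemma exists_pow_of_map_eq (u v : C) (h : algebraMap C Cf u = algebraMap C Cf v) :
    ∃ t : ℕ, algebraMap A C (f ^ t) * u = algebraMap A C (f ^ t) * v := by
  obtain ⟨⟨m, hm⟩, hmu⟩ := (IsLocalization.eq_iff_exists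
    (Algebra.algebraMapSubmonoid C (Submonoid.powers f)) Cf).mp h
  obtain ⟨x, hx, rfl⟩ := Submonoid.mem_map.mp hm
  obtain ⟨t, rfl⟩ := (Submonoid.mem_powers_iff _ _).mp hx
  exact ⟨t, hmu⟩

omit [Algebra A C] [CommRing C] in
lemma exists_pow_of_map_eq' (u v : A) (h : algebraMap A Af u = algebraMap A Af v) :
    ∃ t : ℕ, f ^ t * u = f ^ t * v := by
  obtain ⟨⟨m, hm⟩, hmu⟩ := (IsLocalization.eq_iff_exists (Submonoid.powers f) Af).mp h
  obtain ⟨t, rfl⟩ := (Submonoid.mem_powers_iff _ _).mp hm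
  exact ⟨t, hmu⟩

lemma extract (e : Af) (he : IsIdempotentElem e) [IsLocalization.Away e Cf] :
    ∃ (a k1 : A) (N : ℕ), algebraMap A C k1 = 0 ∧
      (∃ t : ℕ, f ^ t * (a + k1) = f ^ t * f ^ N) ∧
      (∀ k : A, algebraMap A C k = 0 → ∃ m : ℕ, f ^ m * (a * k) = 0) ∧
      (∀ k : A, algebraMap A C k = 0 → ∃ n : ℕ, f ^ n * (k1 * k) = f ^ n * (f ^ N * k)) ∧
      (∀ c : C, ∃ (x : A) (s : ℕ), algebraMap A C x = algebraMap A C (f ^ s) * c) := by
  have hφe : algebraMap Af Cf e = 1 := by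
    have hu : IsUnit (algebraMap Af Cf e) := IsLocalization.Away.algebraMap_isUnit e
    have h2 : algebraMap Af Cf e * algebraMap Af Cf e = algebraMap Af Cf e * 1 := by
      rw [← map_mul, he.eq, mul_one]
    exact hu.mul_left_cancel h2
  have hker : ∀ z : Af, algebraMap Af Cf z = 0 → e * z = 0 := by
    intro z hz
    obtain ⟨⟨m, hm⟩, hmz⟩ := (IsLocalization.map_eq_zero_iff (Submonoid.powers e) Cf z).mp hz
    obtain ⟨n, rfl⟩ := (Submonoid.mem_powers_iff _ _).mp hm
    rcases n with _ | n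
    · have hz0 : z = 0 := by simpa using hmz
      rw [hz0, mul_zero]
    · have hmz' : e ^ (n + 1) * z = 0 := hmz
      rw [he.pow_succ_eq] at hmz'
      exact hmz'
  have hek : ∀ k : A, algebraMap A C k = 0 → e * algebraMap A Af k = 0 := by
    intro k hk
    apply hker
    rw [tower_eq (Af := Af) (C := C) (Cf := Cf), hk, map_zero]
  have h1e : algebraMap Af Cf (1 - e) = 0 := by rw [map_sub, map_one, hφe, sub_self]
  obtain ⟨N2, a0, ha0⟩ := IsLocalization.Away.surj f e
  obtain ⟨N0, b, hb⟩ := IsLocalization.Away.surj f (1 - e)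
  have hb0 : algebraMap C Cf (algebraMap A C b) = algebraMap C Cf 0 := by
    rw [← tower_eq (Af := Af) (C := C) (Cf := Cf), ← hb, map_mul, h1e, zero_mul, map_zero]
  obtain ⟨t, ht⟩ := exists_pow_of_map_eq f _ _ hb0
  rw [mul_zero] at ht
  have hA : algebraMap A Af (a0 * f ^ (N0 + t)) = e * algebraMap A Af f ^ (N2 + (N0 + t)) := by
    rw [map_mul, ← ha0, map_pow, pow_add (algebraMap A Af f) N2]
    ring
  have hK : algebraMap A Af (f ^ t * b * f ^ N2) =
      (1 - e) * algebraMap A Af f ^ (N2 + (N0 + t)) := by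
    rw [map_mul, map_mul, ← hb, map_pow, map_pow, pow_add (algebraMap A Af f) N2,
      pow_add (algebraMap A Af f) N0]
    ring
  refine ⟨a0 * f ^ (N0 + t), f ^ t * b * f ^ N2, N2 + (N0 + t), ?_, ?_, ?_, ?_, ?_⟩
  · rw [map_mul, map_mul, ht, zero_mul]
  · apply exists_pow_of_map_eq' f (Af := Af)
    rw [map_add, hA, hK, map_pow]
    ring
  · intro k hk
    have := exists_pow_of_map_eq' f (Af := Af) (a0 * f ^ (N0 + t) * k) 0 (by
      rw [map_mul, hA, map_zero]
      calc e * algebraMap A Af f ^ (N2 + (N0 + t)) * algebraMap A Af k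
          = (e * algebraMap A Af k) * algebraMap A Af f ^ (N2 + (N0 + t)) := by ring
        _ = 0 := by rw [hek k hk, zero_mul])
    obtain ⟨m, hm⟩ := this
    exact ⟨m, by rw [hm, mul_zero]⟩
  · intro k hk
    apply exists_pow_of_map_eq' f (Af := Af)
    rw [map_mul, hK, map_mul, map_pow]
    calc (1 - e) * algebraMap A Af f ^ (N2 + (N0 + t)) * algebraMap A Af k
        = algebraMap A Af f ^ (N2 + (N0 + t)) * algebraMap A Af k
          - (e * algebraMap A Af k) * algebraMap A Af f ^ (N2 + (N0 + t)) := by ring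
      _ = algebraMap A Af f ^ (N2 + (N0 + t)) * algebraMap A Af k := by
          rw [hek k hk, zero_mul, sub_zero]
  · intro c
    obtain ⟨n, y, hy⟩ := IsLocalization.Away.surj e (algebraMap C Cf c)
    rw [hφe, one_pow, mul_one] at hy
    obtain ⟨s, x, hx⟩ := IsLocalization.Away.surj f y
    have h3 : algebraMap C Cf (algebraMap A C x) = algebraMap C Cf (algebraMap A C (f ^ s) * c) := by
      have e1 := tower_eq (Af := Af) (C := C) (Cf := Cf) x
      have e2 := tower_eq (Af := Af) (C := C) (Cf := Cf) (f ^ s)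
      rw [← e1, ← hx, map_mul (algebraMap C Cf), ← e2, hy]
      simp only [map_mul, map_pow]
      ring
    obtain ⟨t', ht'⟩ := exists_pow_of_map_eq f _ _ h3
    refine ⟨f ^ t' * x, t' + s, ?_⟩
    rw [map_mul, ht', pow_add, map_mul]
    ring

end gen

section concl
variable {A : Type u} [CommRing A] {D : Type u} [CommRing D] [Algebra A D] (f : A)
variable {Af : Type u} [CommRing Af] [Algebra A Af] [IsLocalization.Away f Af]
variable {Df : Type u} [CommRing Df] [Algebra D Df]
  [IsLocalization (Algebra.algebraMapSubmonoid D (Submonoid.powers f)) Df]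
  [Algebra Af Df] [Algebra A Df] [IsScalarTower A Af Df] [IsScalarTower A D Df]

lemma bij_of (hinj : ∀ x : A, algebraMap A D x = 0 → ∃ m : ℕ, f ^ m * x = 0)
    (hsurj : ∀ d : D, ∃ (b : A) (M : ℕ), algebraMap A D b = algebraMap A D (f ^ M) * d) :
    Function.Bijective (algebraMap Af Df) := by
  have hunitA : ∀ n : ℕ, IsUnit (algebraMap A Af (f ^ n)) := fun n => by
    rw [map_pow]; exact (IsLocalization.Away.algebraMap_isUnit f).pow n
  have hunitD : ∀ n : ℕ, IsUnit (algebraMap D Df (algebraMap A D (f ^ n))) := fun n =>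
    IsLocalization.map_units Df (⟨algebraMap A D (f ^ n),
      Algebra.mem_algebraMapSubmonoid_of_mem (⟨f ^ n, ⟨n, rfl⟩⟩ : Submonoid.powers f)⟩ :
        Algebra.algebraMapSubmonoid D (Submonoid.powers f))
  constructor
  · rw [injective_iff_map_eq_zero]
    intro z hz
    obtain ⟨n, a, ha⟩ := IsLocalization.Away.surj f z
    have h1 : algebraMap D Df (algebraMap A D a) = algebraMap D Df 0 := by
      rw [← tower_eq (Af := Af) (C := D) (Cf := Df), ← ha, map_mul, hz, zero_mul, map_zero]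
    obtain ⟨t, ht⟩ := exists_pow_of_map_eq f _ _ h1
    rw [mul_zero, ← map_mul] at ht
    obtain ⟨m, hm⟩ := hinj _ ht
    have h2 : algebraMap A Af (f ^ (m + t)) * (z * algebraMap A Af f ^ n) = 0 := by
      rw [ha, ← map_mul, pow_add, mul_assoc, hm, map_zero]
    have h3 := ((hunitA (m + t)).mul_right_eq_zero).mp h2
    have hu : IsUnit (algebraMap A Af f ^ n) := (IsLocalization.Away.algebraMap_isUnit f).pow n
    exact (hu.mul_left_eq_zero).mp h3
  · intro w
    obtain ⟨⟨d, ⟨mm, hmm⟩⟩, hw⟩ :=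
      IsLocalization.surj (Algebra.algebraMapSubmonoid D (Submonoid.powers f)) w
    obtain ⟨x, hx, rfl⟩ := Submonoid.mem_map.mp hmm
    obtain ⟨n, rfl⟩ := (Submonoid.mem_powers_iff _ _).mp hx
    have hw' : w * algebraMap D Df (algebraMap A D (f ^ n)) = algebraMap D Df d := hw
    obtain ⟨b, M, hb⟩ := hsurj d
    obtain ⟨z0, hz0⟩ : ∃ z0 : Af, z0 * algebraMap A Af (f ^ (M + n)) = algebraMap A Af b :=
      ⟨IsLocalization.mk' Af b (⟨f ^ (M + n), ⟨M + n, rfl⟩⟩ : Submonoid.powers f),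
        IsLocalization.mk'_spec Af b (⟨f ^ (M + n), ⟨M + n, rfl⟩⟩ : Submonoid.powers f)⟩
    refine ⟨z0, ?_⟩
    have h1 : algebraMap Af Df z0 * algebraMap D Df (algebraMap A D (f ^ (M + n))) =
        w * algebraMap D Df (algebraMap A D (f ^ (M + n))) := by
      have e1 := tower_eq (Af := Af) (C := D) (Cf := Df) (f ^ (M + n))
      have e2 := tower_eq (Af := Af) (C := D) (Cf := Df) b
      rw [← e1, ← map_mul, hz0, e2, hb, map_mul, ← hw', pow_add]
      simp only [map_mul, tower_eq (Af := Af) (C := D) (Cf := Df)]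
      ring
    exact (hunitD _).mul_left_injective h1

end concl

theorem main9303 (A : Type u) [CommRing A]
    (I : Ideal A) (hI : I.FG) (C : Type u) [CommRing C] [Algebra A C]
    (h : ∀ f ∈ I, ∃ e : Localization.Away f, IsIdempotentElem e ∧
      IsLocalization.Away e (Localization (Algebra.algebraMapSubmonoid C (Submonoid.powers f)))) :
    ∃ K : Ideal A, ∀ f ∈ I, Function.Bijective
      (algebraMap (Localization.Away f)
        (Localization (Algebra.algebraMapSubmonoid (C × (A ⧸ K)) (Submonoid.powers f)))) := by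
  classical
  have hA : ∀ f : ↥I, ∃ (a k1 : A) (N : ℕ), algebraMap A C k1 = 0 ∧
      (∃ t : ℕ, (f : A) ^ t * (a + k1) = (f : A) ^ t * (f : A) ^ N) ∧
      (∀ k : A, algebraMap A C k = 0 → ∃ m : ℕ, (f : A) ^ m * (a * k) = 0) ∧
      (∀ k : A, algebraMap A C k = 0 →
        ∃ n : ℕ, (f : A) ^ n * (k1 * k) = (f : A) ^ n * ((f : A) ^ N * k)) ∧
      (∀ c : C, ∃ (x : A) (s : ℕ), algebraMap A C x = algebraMap A C ((f : A) ^ s) * c) := by
    rintro ⟨f, hf⟩
    obtain ⟨e, he, hloc⟩ := h f hf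
    exact extract f (Af := Localization.Away f)
      (Cf := Localization (Algebra.algebraMapSubmonoid C (Submonoid.powers f))) e he
  choose a k1 N hk1 hi hii hiii hR3 using hA
  let K : Ideal A :=
    { carrier := {x | ∀ k : A, algebraMap A C k = 0 → ∀ g ∈ I, ∃ n : ℕ, g ^ n * (x * k) = 0}
      add_mem' := by
        intro x y hx hy k hk g hg
        obtain ⟨n1, h1⟩ := hx k hk g hg
        obtain ⟨n2, h2⟩ := hy k hk g hg
        refine ⟨n1 + n2, ?_⟩
        have : g ^ (n1 + n2) * ((x + y) * k) =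
            g ^ n2 * (g ^ n1 * (x * k)) + g ^ n1 * (g ^ n2 * (y * k)) := by ring
        rw [this, h1, h2]; simp
      zero_mem' := by
        intro k hk g hg
        exact ⟨0, by simp⟩
      smul_mem' := by
        intro c x hx k hk g hg
        obtain ⟨n, hn⟩ := hx k hk g hg
        refine ⟨n, ?_⟩
        have : g ^ n * (c • x * k) = c * (g ^ n * (x * k)) := by rw [smul_eq_mul]; ring
        rw [this, hn, mul_zero] }
  have hKmem : ∀ x : A, x ∈ K ↔
      ∀ k : A, algebraMap A C k = 0 → ∀ g ∈ I, ∃ n : ℕ, g ^ n * (x * k) = 0 := fun x => Iff.rfl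
  refine ⟨K, fun f hf => ?_⟩
  obtain ⟨F, hF⟩ : ∃ F : ↥I, (F : A) = f := ⟨⟨f, hf⟩, rfl⟩
  subst hF
  apply bij_of (F : A) (D := C × (A ⧸ K))
  · intro x hx
    rw [Prod.algebraMap_apply, Prod.mk_eq_zero] at hx
    obtain ⟨hxC, hxK⟩ := hx
    have hxK' : x ∈ K := Ideal.Quotient.eq_zero_iff_mem.mp hxK
    obtain ⟨n, hn⟩ := (hKmem x).mp hxK' (k1 F) (hk1 F) F F.2
    obtain ⟨n', hn'⟩ := hiii F x hxC
    refine ⟨n + n' + N F, ?_⟩
    calc (F : A) ^ (n + n' + N F) * x
        = (F : A) ^ n * ((F : A) ^ n' * ((F : A) ^ N F * x)) := by ring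
      _ = (F : A) ^ n * ((F : A) ^ n' * (k1 F * x)) := by rw [← hn']
      _ = (F : A) ^ n' * ((F : A) ^ n * (x * k1 F)) := by ring
      _ = 0 := by rw [hn, mul_zero]
  · -- surjectivity data
    obtain ⟨r, s, hs⟩ := Submodule.fg_iff_exists_fin_generating_family.mp hI
    have hsI : ∀ i, s i ∈ I := fun i => by
      rw [← hs]; exact Submodule.subset_span ⟨i, rfl⟩
    obtain ⟨G, hG⟩ : ∃ G : Fin r → ↥I, ∀ i, (G i : A) = s i :=
      ⟨fun i => ⟨s i, hsI i⟩, fun i => rfl⟩
    choose m hm using fun i => hii F (k1 (G i)) (hk1 (G i))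
    obtain ⟨M', hM'⟩ : ∃ M' : ℕ, M' = ∑ i, m i := ⟨_, rfl⟩
    have hK2 : (F : A) ^ M' * a F ∈ K := by
      rw [hKmem]
      intro k hk g hg
      obtain ⟨y, hy⟩ : ∃ y : A, y = (F : A) ^ M' * a F * k := ⟨_, rfl⟩
      rw [← hy]
      have hle : Submodule.span A (Set.range s) ≤ ((Ideal.span {y}).annihilator).radical := by
        rw [Submodule.span_le]
        rintro _ ⟨i, rfl⟩
        obtain ⟨n, hn⟩ := hiii (G i) k hk
        rw [hG i] at hn
        refine ⟨n + N (G i), ?_⟩
        rw [Submodule.mem_annihilator_span_singleton, smul_eq_mul, hy]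
        have hsplit : (F : A) ^ M' = (F : A) ^ (M' - m i) * (F : A) ^ m i := by
          rw [← pow_add, Nat.sub_add_cancel]
          rw [hM']
          exact Finset.single_le_sum (fun _ _ => Nat.zero_le _) (Finset.mem_univ i)
        calc (s i) ^ (n + N (G i)) * ((F : A) ^ M' * a F * k)
            = (F : A) ^ M' * a F * ((s i) ^ n * ((s i) ^ (N (G i)) * k)) := by ring
          _ = (F : A) ^ M' * a F * ((s i) ^ n * (k1 (G i) * k)) := by rw [← hn]
          _ = (s i) ^ n * k * (F : A) ^ (M' - m i) * ((F : A) ^ m i * (a F * k1 (G i))) := by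
              rw [hsplit]; ring
          _ = 0 := by rw [hm i, mul_zero]
      rw [← hs] at hg
      obtain ⟨n, hn⟩ := hle hg
      exact ⟨n, by rwa [Submodule.mem_annihilator_span_singleton, smul_eq_mul] at hn⟩
    obtain ⟨t, ht⟩ := hi F
    rintro ⟨c, abar⟩
    obtain ⟨a', rfl⟩ := Ideal.Quotient.mk_surjective abar
    obtain ⟨x, s', hx⟩ := hR3 F c
    obtain ⟨k1', hk1'⟩ : ∃ k1' : A, k1' = (F : A) ^ M' * (F : A) ^ t * k1 F := ⟨_, rfl⟩
    obtain ⟨k2', hk2'⟩ : ∃ k2' : A, k2' = (F : A) ^ t * ((F : A) ^ M' * a F) := ⟨_, rfl⟩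
    have hk1C : algebraMap A C k1' = 0 := by rw [hk1', map_mul, hk1 F, mul_zero]
    have hk2K : k2' ∈ K := by rw [hk2']; exact K.mul_mem_left _ hK2
    have hM0 : (F : A) ^ (M' + t + N F) = k1' + k2' := by
      rw [hk1', hk2']
      calc (F : A) ^ (M' + t + N F) = (F : A) ^ M' * ((F : A) ^ t * (F : A) ^ N F) := by ring
        _ = (F : A) ^ M' * ((F : A) ^ t * (a F + k1 F)) := by rw [← ht]
        _ = _ := by ring
    have hk2C : algebraMap A C k2' = algebraMap A C ((F : A) ^ (M' + t + N F)) := by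
      rw [hM0, map_add, hk1C, zero_add]
    refine ⟨k2' * x + k1' * ((F : A) ^ s' * a'), M' + t + N F + s', ?_⟩
    rw [Prod.algebraMap_apply, Prod.algebraMap_apply, Prod.mk_mul_mk]
    refine Prod.ext ?_ ?_
    · show algebraMap A C (k2' * x + k1' * ((F : A) ^ s' * a')) =
        algebraMap A C ((F : A) ^ (M' + t + N F + s')) * c
      rw [map_add, map_mul, map_mul, hk1C, zero_mul, add_zero, hx, hk2C,
        pow_add (F : A) (M' + t + N F) s', map_mul]
      ring
    · show Ideal.Quotient.mk K (k2' * x + k1' * ((F : A) ^ s' * a')) =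
        Ideal.Quotient.mk K ((F : A) ^ (M' + t + N F + s')) * Ideal.Quotient.mk K a'
      rw [← map_mul, Ideal.Quotient.eq]
      have : k2' * x + k1' * ((F : A) ^ s' * a') - (F : A) ^ (M' + t + N F + s') * a' =
          k2' * (x - (F : A) ^ s' * a') := by
        rw [pow_add (F : A) (M' + t + N F) s', hM0]; ring
      rw [this]
      exact K.mul_mem_right _ hk2K

end Groth.Agent.H3Lg
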