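import Mathlib
import Groth.Agent.Lib.helper3.ArtA

set_option autoImplicit false
universe u

namespace Groth.Agent.H3LeftInv

open Groth.Agent.H3Art

variable {A : Type u} [CommRing A] {M : Type u} [AddCommGroup M] [Module A M]

/-- an endomorphism congruent to the identity modulo `J` is bijective -/
lemma bijective_of_congr_id (g : M →ₗ[A] M) (J : Ideal A)
    (hJ : IsNilpotent J ∨ (J ≤ (⊥ : Ideal A).jacobson ∧ Module.Finite A M))
    (hg : ∀ m, g m - m ∈ J • (⊤ : Submodule A M)) : Function.Bijective g := by
  have hsup : (⊤ : Submodule A M) ≤ LinearMap.range g ⊔ J • (⊤ : Submodule A M) := by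
    intro m _
    have : m = g m + -(g m - m) := by abel
    rw [this]
    exact Submodule.add_mem_sup ⟨m, rfl⟩ (Submodule.neg_mem _ (hg m))
  rcases hJ with hJ | ⟨hJ, hfin⟩
  · obtain ⟨n, hn⟩ := hJ
    rw [Ideal.zero_eq_bot] at hn
    have hs : Function.Surjective g := by
      rw [← LinearMap.range_eq_top]
      exact nil_nakayama J n hn _ hsup
    refine ⟨?_, hs⟩
    rw [injective_iff_map_eq_zero]
    intro m hm
    have key : ∀ k : ℕ, ∀ m : M, g m = 0 → m ∈ J ^ k • (⊤ : Submodule A M) := by
      intro k
      induction k with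
      | zero => intro m _; simp
      | succ k ih =>
        intro m hm
        have h1 := ih m hm
        -- m = -(g m - m) = (id - g) m
        let hh : M →ₗ[A] M := LinearMap.id - g
        have h2 : m = hh m := by
          simp [hh, hm]
        rw [h2]
        have h3 : hh m ∈ Submodule.map hh
            (J ^ k • (⊤ : Submodule A M)) := Submodule.mem_map_of_mem h1
        rw [Submodule.map_smul''] at h3
        have h4 : Submodule.map hh (⊤ : Submodule A M)
            ≤ J • (⊤ : Submodule A M) := by
          rintro _ ⟨x, -, rfl⟩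
          have := Submodule.neg_mem _ (hg x)
          simpa [hh] using this
        have h5 := Submodule.smul_mono (le_refl (J ^ k)) h4 h3
        rwa [← Submodule.mul_smul, ← pow_succ] at h5
    have := key n m hm
    rw [hn, Submodule.bot_smul] at this
    exact (Submodule.mem_bot A).mp this
  · have hs : Function.Surjective g := by
      rw [← LinearMap.range_eq_top, eq_top_iff]
      exact Submodule.le_of_le_smul_of_le_jacobson_bot Module.Finite.fg_top hJ hsup
    exact ⟨OrzechProperty.injective_of_surjective_endomorphism g hs, hs⟩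

theorem main {N : Type u} [AddCommGroup N] [Module A N] [Module.Projective A N]
    (u : M →ₗ[A] N) (J : Ideal A)
    (hJ : IsNilpotent J ∨ (J ≤ (⊥ : Ideal A).jacobson ∧ Module.Finite A M)) :
    (∃ w : N →ₗ[A] M, w ∘ₗ u = LinearMap.id) ↔
      ∃ v : N →ₗ[A] M ⧸ (J • ⊤ : Submodule A M), v ∘ₗ u = (J • ⊤ : Submodule A M).mkQ := by
  constructor
  · rintro ⟨w, hw⟩
    refine ⟨(J • ⊤ : Submodule A M).mkQ ∘ₗ w, ?_⟩
    rw [LinearMap.comp_assoc, hw, LinearMap.comp_id]
  · rintro ⟨v, hv⟩
    obtain ⟨w₀, hw₀⟩ := Module.projective_lifting_property (J • ⊤ : Submodule A M).mkQ v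
      (Submodule.mkQ_surjective _)
    have hg : ∀ m, (w₀ ∘ₗ u) m - m ∈ J • (⊤ : Submodule A M) := by
      intro m
      rw [← Submodule.Quotient.mk_eq_zero, Submodule.Quotient.mk_sub, sub_eq_zero]
      have h1 := LinearMap.congr_fun hw₀ (u m)
      have h2 := LinearMap.congr_fun hv m
      simp only [LinearMap.comp_apply, Submodule.mkQ_apply] at h1 h2 ⊢
      rw [h1, h2]
    have hbij := bijective_of_congr_id (w₀ ∘ₗ u) J hJ hg
    let e := LinearEquiv.ofBijective (w₀ ∘ₗ u) hbij
    refine ⟨e.symm.toLinearMap ∘ₗ w₀, ?_⟩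
    ext m
    simp only [LinearMap.comp_apply, LinearEquiv.coe_coe, LinearMap.id_apply]
    rw [LinearEquiv.symm_apply_eq]
    rfl

end Groth.Agent.H3LeftInv
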