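import Mathlib
import Groth.Agent.Lib.helper3.LiA
import Groth.Agent.Lib.helper3.NilA

set_option autoImplicit false
universe u

namespace Groth.Agent.H3LeftInv

open TensorProduct

variable {R : Type u} [CommRing R] (I : Ideal R)

lemma exists_lift_hom {P₁ P₂ : Type u} [AddCommGroup P₁] [Module R P₁] [AddCommGroup P₂]
    [Module R P₂] [Module.Projective R P₁]
    (e : (R ⧸ I) ⊗[R] P₁ →ₗ[R ⧸ I] (R ⧸ I) ⊗[R] P₂) :
    ∃ u : P₁ →ₗ[R] P₂, ∀ x, (1 : R ⧸ I) ⊗ₜ[R] u x = e ((1 : R ⧸ I) ⊗ₜ[R] x) := by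
  have hsurj : Function.Surjective (TensorProduct.mk R (R ⧸ I) P₂ 1) :=
    TensorProduct.mk_surjective R P₂ (R ⧸ I) Ideal.Quotient.mk_surjective
  obtain ⟨u, hu⟩ := Module.projective_lifting_property (TensorProduct.mk R (R ⧸ I) P₂ 1)
    ((e.restrictScalars R) ∘ₗ (TensorProduct.mk R (R ⧸ I) P₁ 1)) hsurj
  exact ⟨u, fun x => LinearMap.congr_fun hu x⟩

theorem main535 (hI : I ≤ (⊥ : Ideal R).jacobson) (P₁ P₂ : Type u) [AddCommGroup P₁]
    [Module R P₁] [AddCommGroup P₂]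
    [Module R P₂] [Module.Finite R P₁] [Module.Projective R P₁] [Module.Finite R P₂]
    [Module.Projective R P₂]
    (e : (R ⧸ I) ⊗[R] P₁ ≃ₗ[R ⧸ I] (R ⧸ I) ⊗[R] P₂) :
    Nonempty (P₁ ≃ₗ[R] P₂) := by
  obtain ⟨u, hu⟩ := exists_lift_hom I e.toLinearMap
  obtain ⟨v, hv⟩ := exists_lift_hom I e.symm.toLinearMap
  have h1 : Function.Bijective (v ∘ₗ u) := by
    apply bijective_of_congr_id _ I (Or.inr ⟨hI, inferInstance⟩)
    intro x
    apply Groth.Agent.H3Nil.mem_smul_top_of_one_tmul_eq_zero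
    rw [tmul_sub, LinearMap.comp_apply, hv, hu]
    simp
  have h2 : Function.Bijective (u ∘ₗ v) := by
    apply bijective_of_congr_id _ I (Or.inr ⟨hI, inferInstance⟩)
    intro x
    apply Groth.Agent.H3Nil.mem_smul_top_of_one_tmul_eq_zero
    rw [tmul_sub, LinearMap.comp_apply, hu, hv]
    simp
  have hinj : Function.Injective u := by
    have := h1.1
    rw [LinearMap.coe_comp] at this
    exact Function.Injective.of_comp this
  have hsurj : Function.Surjective u := by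
    have := h2.2
    rw [LinearMap.coe_comp] at this
    exact Function.Surjective.of_comp this
  exact ⟨LinearEquiv.ofBijective u ⟨hinj, hsurj⟩⟩

end Groth.Agent.H3LeftInv
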