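import Mathlib

set_option autoImplicit false
universe u v

namespace Groth.Agent.H3Ln

open TensorProduct

theorem mem_smul_top_of_flat_quot {R : Type u} [CommRing R] {M : Type v} [AddCommGroup M]
    [Module R M] (K : Submodule R M) [Module.Flat R (M ⧸ K)] (I : Ideal R) (k : K)
    (hk : (k : M) ∈ I • (⊤ : Submodule R M)) : k ∈ I • (⊤ : Submodule R K) := by
  have hinj : Function.Injective (K.subtype.lTensor (R ⧸ I)) :=
    LinearMap.lTensor_injective_of_exact_of_flat K.mkQ (Submodule.mkQ_surjective K) K.subtype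
      (Submodule.injective_subtype K) (LinearMap.exact_subtype_mkQ K) (R ⧸ I)
  have h1 : (1 : R ⧸ I) ⊗ₜ[R] (k : M) = 0 := by
    apply (quotTensorEquivQuotSMul M I).injective
    rw [quotTensorEquivQuotSMul_mk_one_tmul, map_zero, Submodule.Quotient.mk_eq_zero]
    exact hk
  have h2 : (1 : R ⧸ I) ⊗ₜ[R] k = (0 : (R ⧸ I) ⊗[R] K) := hinj (by
    rw [LinearMap.lTensor_tmul, map_zero]
    exact h1)
  have h3 := congrArg (quotTensorEquivQuotSMul K I) h2
  rw [quotTensorEquivQuotSMul_mk_one_tmul, map_zero, Submodule.Quotient.mk_eq_zero] at h3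
  exact h3

theorem eq_top_of_nilpotent {R : Type u} [CommRing R] {M : Type v} [AddCommGroup M] [Module R M]
    (I : Ideal R) (n : ℕ) (hI : I ^ n = ⊥) (N : Submodule R M)
    (h : (⊤ : Submodule R M) ≤ N ⊔ I • ⊤) : N = ⊤ := by
  have h1 : ∀ k, (⊤ : Submodule R M) ≤ N ⊔ I ^ k • ⊤ := by
    intro k
    induction k with
    | zero => simp
    | succ k ih =>
      refine ih.trans (sup_le le_sup_left ?_)
      calc I ^ k • (⊤ : Submodule R M) ≤ I ^ k • (N ⊔ I • ⊤) := Submodule.smul_mono le_rfl h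
        _ = I ^ k • N ⊔ I ^ (k + 1) • ⊤ := by rw [Submodule.smul_sup, ← mul_smul, ← pow_succ]
        _ ≤ N ⊔ I ^ (k + 1) • ⊤ := sup_le_sup_right Submodule.smul_le_right _
  have := h1 n
  rw [hI, Submodule.bot_smul, sup_bot_eq] at this
  exact top_le_iff.mp this

theorem exists_fg_le {R : Type u} [CommRing R] {M : Type v} [AddCommGroup M] [Module R M]
    (I : Ideal R) (N : Submodule R M) (z : M) (hz : z ∈ I • N) :
    ∃ I' : Ideal R, I'.FG ∧ I' ≤ I ∧ z ∈ I' • N := by
  refine Submodule.smul_induction_on hz (fun a ha y hy => ?_) (fun x y hx hy => ?_)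
  · refine ⟨Ideal.span {a}, ⟨{a}, by simp⟩, (Ideal.span_singleton_le_iff_mem I).mpr ha, ?_⟩
    exact Submodule.smul_mem_smul (Ideal.mem_span_singleton_self a) hy
  · obtain ⟨I₁, h1, h1', h1''⟩ := hx
    obtain ⟨I₂, h2, h2', h2''⟩ := hy
    refine ⟨I₁ ⊔ I₂, Submodule.FG.sup h1 h2, sup_le h1' h2', ?_⟩
    exact Submodule.add_mem _ (Submodule.smul_mono_left le_sup_left h1'')
      (Submodule.smul_mono_left le_sup_right h2'')

theorem nilpotent_of_fg_le {R : Type u} [CommRing R] (I I' : Ideal R)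
    (hI : ∀ x ∈ I, IsNilpotent x) (hfg : I'.FG) (hle : I' ≤ I) : ∃ n, I' ^ n = ⊥ := by
  have : IsNilpotent I' := by
    rw [Ideal.FG.isNilpotent_iff_le_nilradical hfg]
    intro x hx
    exact hI x (hle hx)
  exact this

end Groth.Agent.H3Ln
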