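import Mathlib
import Groth.Agent.Lib.helper3.LnA

set_option autoImplicit false
universe u v

namespace Groth.Agent.H3Ln

open TensorProduct

theorem surj9140 (R S S' : Type u)
    [CommRing R] [CommRing S] [CommRing S'] [Algebra R S] [Algebra R S']
    [Algebra.FiniteType R S'] (I : Ideal R) (hI : ∀ x ∈ I, IsNilpotent x)
    (f : S →ₐ[R] S')
    (hsurj : Function.Surjective ((Ideal.Quotient.mk (I.map (algebraMap R S'))).comp f.toRingHom)) :
    Function.Surjective f := by
  classical
  have hx' : ∀ x : S', ∃ I' : Ideal R, I'.FG ∧ I' ≤ I ∧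
      ∃ t : S, x - f t ∈ I'.map (algebraMap R S') := by
    intro x
    obtain ⟨t, ht⟩ := hsurj (Ideal.Quotient.mk _ x)
    have h1 : x - f t ∈ I.map (algebraMap R S') := by
      rw [← Ideal.Quotient.eq]
      exact ht.symm
    have h2 : x - f t ∈ I • (⊤ : Submodule R S') := by
      rw [Ideal.smul_top_eq_map]
      exact h1
    obtain ⟨I', h3, h4, h5⟩ := exists_fg_le I ⊤ _ h2
    refine ⟨I', h3, h4, t, ?_⟩
    rw [Ideal.smul_top_eq_map] at h5
    exact h5
  choose Ix hIx1 hIx2 tx hIx3 using hx'
  obtain ⟨s, hs⟩ := (Algebra.FiniteType.out : (⊤ : Subalgebra R S').FG)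
  let I₀ : Ideal R := s.sup Ix
  have hI₀fg : I₀.FG := by
    have : ∀ (u : Finset S'), (u.sup Ix).FG := by
      intro u
      induction u using Finset.induction_on with
      | empty =>
        rw [Finset.sup_empty]
        exact ⟨∅, by simp⟩
      | insert a u _ ih =>
        rw [Finset.sup_insert]
        exact Submodule.FG.sup (hIx1 a) ih
    exact this s
  have hI₀le : I₀ ≤ I := Finset.sup_le fun x _ => hIx2 x
  obtain ⟨n, hn⟩ := nilpotent_of_fg_le I I₀ hI hI₀fg hI₀le
  let J : Ideal S' := I₀.map (algebraMap R S')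
  let T : Subalgebra R S' :=
    { carrier := {x | ∃ t : S, x - f t ∈ J}
      mul_mem' := by
        rintro x y ⟨t, ht⟩ ⟨t', ht'⟩
        refine ⟨t * t', ?_⟩
        have : x * y - f (t * t') = x * (y - f t') + (x - f t) * f t' := by
          rw [map_mul]; ring
        rw [this]
        exact J.add_mem (J.mul_mem_left _ ht') (J.mul_mem_right _ ht)
      add_mem' := by
        rintro x y ⟨t, ht⟩ ⟨t', ht'⟩
        refine ⟨t + t', ?_⟩
        have : x + y - f (t + t') = (x - f t) + (y - f t') := by
          rw [map_add]; ring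
        rw [this]
        exact J.add_mem ht ht'
      algebraMap_mem' := by
        intro r
        refine ⟨algebraMap R S r, ?_⟩
        rw [AlgHom.commutes, sub_self]
        exact J.zero_mem }
  have hsT : (s : Set S') ⊆ T := by
    intro x hx
    refine ⟨tx x, ?_⟩
    exact Ideal.map_mono (Finset.le_sup (f := Ix) hx) (hIx3 x)
  have hT : T = ⊤ := by
    rw [eq_top_iff, ← hs]
    exact Algebra.adjoin_le hsT
  have hN : LinearMap.range f.toLinearMap = ⊤ := by
    apply eq_top_of_nilpotent I₀ n hn
    intro x _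
    have hxT : x ∈ T := by rw [hT]; trivial
    obtain ⟨t, ht⟩ := hxT
    have : x = f t + (x - f t) := by ring
    rw [this]
    refine Submodule.add_mem_sup ⟨t, rfl⟩ ?_
    rw [Ideal.smul_top_eq_map]
    exact ht
  intro y
  have : y ∈ LinearMap.range f.toLinearMap := by rw [hN]; trivial
  obtain ⟨t, ht⟩ := this
  exact ⟨t, ht⟩

end Groth.Agent.H3Ln
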