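import Mathlib
import Groth.Agent.Lib.helper3.LnB

set_option autoImplicit false
universe u v

namespace Groth.Agent.H3Ln

open TensorProduct

theorem main9140 (R S S' : Type u)
    [CommRing R] [CommRing S] [CommRing S'] [Algebra R S] [Algebra R S'] [Algebra.FiniteType R S]
    [Algebra.FinitePresentation R S'] [Module.Flat R S'] (I : Ideal R) (hI : ∀ x ∈ I, IsNilpotent x)
    (f : S →ₐ[R] S')
    (hsurj : Function.Surjective ((Ideal.Quotient.mk (I.map (algebraMap R S'))).comp f.toRingHom))
    (hker : ∀ s : S, f s ∈ I.map (algebraMap R S') → s ∈ I.map (algebraMap R S)) :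
    Function.Bijective f := by
  classical
  have hs : Function.Surjective f := surj9140 R S S' I hI f hsurj
  refine ⟨?_, hs⟩
  let K : Submodule R S := LinearMap.ker f.toLinearMap
  haveI : Module.Flat R (S ⧸ K) :=
    Module.Flat.of_linearEquiv (f.toLinearMap.quotKerEquivOfSurjective hs)
  have hKI : ∀ k : K, k ∈ I • (⊤ : Submodule R K) := fun k =>
    mem_smul_top_of_flat_quot K I k (by
      rw [Ideal.smul_top_eq_map]
      apply hker
      have : f (k : S) = 0 := k.2
      rw [this]
      exact zero_mem _)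
  have hKfg : (RingHom.ker f.toRingHom).FG := by
    obtain ⟨m, g, hg⟩ := Algebra.FiniteType.iff_quotient_mvPolynomial''.mp
      (inferInstance : Algebra.FiniteType R S)
    have h1 := Algebra.FinitePresentation.ker_fg_of_mvPolynomial (f.comp g) (hs.comp hg)
    have h2 : RingHom.ker f.toRingHom = Ideal.map g.toRingHom (RingHom.ker (f.comp g).toRingHom) := by
      have : RingHom.ker (f.comp g).toRingHom = Ideal.comap g.toRingHom (RingHom.ker f.toRingHom) := by
        ext x
        simp [RingHom.mem_ker]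
      rw [this]
      exact (Ideal.map_comap_of_surjective g.toRingHom hg _).symm
    rw [h2]
    exact h1.map _
  obtain ⟨gens, hgens⟩ := hKfg
  have hgK : ∀ x ∈ gens, x ∈ K := by
    intro x hx
    have : x ∈ RingHom.ker f.toRingHom := by
      rw [← hgens]
      exact Ideal.subset_span hx
    exact this
  have hex : ∀ k : K, ∃ I' : Ideal R, I'.FG ∧ I' ≤ I ∧ k ∈ I' • (⊤ : Submodule R K) :=
    fun k => exists_fg_le I ⊤ k (hKI k)
  choose Ik h1 h2 h3 using hex
  let I₁ : Ideal R := gens.attach.sup (fun x => Ik ⟨x.1, hgK x.1 x.2⟩)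
  have hI₁fg : I₁.FG := by
    have : ∀ (u : Finset {x // x ∈ gens}), (u.sup (fun x => Ik ⟨x.1, hgK x.1 x.2⟩)).FG := by
      intro u
      induction u using Finset.induction_on with
      | empty =>
        rw [Finset.sup_empty]
        exact ⟨∅, by simp⟩
      | insert a u _ ih =>
        rw [Finset.sup_insert]
        exact Submodule.FG.sup (h1 _) ih
    exact this _
  have hI₁le : I₁ ≤ I := Finset.sup_le fun x _ => h2 _
  obtain ⟨n, hn⟩ := nilpotent_of_fg_le I I₁ hI hI₁fg hI₁le
  let J₁ : Ideal S := I₁.map (algebraMap R S)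
  have hsub : ∀ (I' : Ideal R) (k : K), k ∈ I' • (⊤ : Submodule R K) →
      (k : S) ∈ I'.map (algebraMap R S) * RingHom.ker f.toRingHom := by
    intro I' k hk
    refine Submodule.smul_induction_on hk (fun a ha y _ => ?_) (fun x y hx hy => ?_)
    · have : ((a • y : K) : S) = algebraMap R S a * (y : S) := by
        rw [Submodule.coe_smul, Algebra.smul_def]
      rw [this]
      exact Ideal.mul_mem_mul (Ideal.mem_map_of_mem _ ha) y.2
    · rw [Submodule.coe_add]
      exact Ideal.add_mem _ hx hy
  have hK1 : RingHom.ker f.toRingHom ≤ J₁ * RingHom.ker f.toRingHom := by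
    rw [← hgens, Ideal.span_le]
    intro x hx
    have := hsub _ ⟨x, hgK x hx⟩ (h3 ⟨x, hgK x hx⟩)
    rw [hgens]
    refine Ideal.mul_mono_left (Ideal.map_mono ?_) this
    exact Finset.le_sup (f := fun x : {x // x ∈ gens} => Ik ⟨x.1, hgK x.1 x.2⟩)
      (Finset.mem_attach gens ⟨x, hx⟩)
  have hKk : ∀ k, RingHom.ker f.toRingHom ≤ J₁ ^ k * RingHom.ker f.toRingHom := by
    intro k
    induction k with
    | zero => simp
    | succ k ih =>
      calc RingHom.ker f.toRingHom ≤ J₁ ^ k * RingHom.ker f.toRingHom := ih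
        _ ≤ J₁ ^ k * (J₁ * RingHom.ker f.toRingHom) := Ideal.mul_mono_right hK1
        _ = J₁ ^ (k + 1) * RingHom.ker f.toRingHom := by rw [← mul_assoc, ← pow_succ]
  have hJ : J₁ ^ n = ⊥ := by
    rw [← Ideal.map_pow, hn, Ideal.map_bot]
  have hK0 : RingHom.ker f.toRingHom = ⊥ := by
    rw [eq_bot_iff]
    refine (hKk n).trans ?_
    rw [hJ, Ideal.bot_mul]
  rw [injective_iff_map_eq_zero]
  intro x hx
  have : x ∈ RingHom.ker f.toRingHom := hx
  rw [hK0] at this
  exact this

end Groth.Agent.H3Ln
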