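import Mathlib

set_option autoImplicit false
universe u v

namespace Groth.Agent.H3LeftInv

open TensorProduct Function

section basic
variable {A : Type u} [CommRing A] {M N N₂ : Type u} [AddCommGroup M] [Module A M]
  [AddCommGroup N] [Module A N] [AddCommGroup N₂] [Module A N₂]

/-- `u` is left invertible after localization at `S`. -/
def LeftInvAt (S : Submonoid A) (u : M →ₗ[A] N) : Prop :=
  ∃ w : LocalizedModule S N →ₗ[A] LocalizedModule S M,
    w ∘ₗ (LocalizedModule.map S u).restrictScalars A = LinearMap.id

lemma map_restrict_comp (S : Submonoid A) (f : M →ₗ[A] N) (g : N →ₗ[A] N₂) :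
    (LocalizedModule.map S (g ∘ₗ f)).restrictScalars A =
      (LocalizedModule.map S g).restrictScalars A ∘ₗ (LocalizedModule.map S f).restrictScalars A := by
  ext x
  induction x using LocalizedModule.induction_on with
  | h m s =>
    simp only [LinearMap.coe_restrictScalars, LinearMap.coe_comp, Function.comp_apply,
      LocalizedModule.map_mk]

lemma map_restrict_id (S : Submonoid A) :
    (LocalizedModule.map S (LinearMap.id : M →ₗ[A] M)).restrictScalars A = LinearMap.id := by
  rw [LocalizedModule.map_id]
  rfl

lemma leftInvAt_of_comp (S : Submonoid A) (u : M →ₗ[A] N) (g : N →ₗ[A] N₂)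
    (h : LeftInvAt S (g ∘ₗ u)) : LeftInvAt S u := by
  obtain ⟨w, hw⟩ := h
  refine ⟨w ∘ₗ (LocalizedModule.map S g).restrictScalars A, ?_⟩
  rw [LinearMap.comp_assoc, ← map_restrict_comp, hw]

lemma leftInvAt_mono {S T : Submonoid A} (hST : S ≤ T) (u : M →ₗ[A] N)
    (h : LeftInvAt S u) : LeftInvAt T u := by
  obtain ⟨w, hw⟩ := h
  have hunit : ∀ s : S, IsUnit ((algebraMap A (Module.End A (LocalizedModule T M))) s) :=
    fun s => IsLocalizedModule.map_units (LocalizedModule.mkLinearMap T M) ⟨s.1, hST s.2⟩
  set c : LocalizedModule S M →ₗ[A] LocalizedModule T M :=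
    LocalizedModule.lift S (LocalizedModule.mkLinearMap T M) hunit with hc
  have hcmk : ∀ m : M, c (LocalizedModule.mkLinearMap S M m) = LocalizedModule.mkLinearMap T M m :=
    fun m => LinearMap.congr_fun (LocalizedModule.lift_comp S _ hunit) m
  have hunitT : ∀ t : T, IsUnit ((algebraMap A (Module.End A (LocalizedModule T M))) t) :=
    IsLocalizedModule.map_units (LocalizedModule.mkLinearMap T M)
  set wT : LocalizedModule T N →ₗ[A] LocalizedModule T M :=
    LocalizedModule.lift T (c ∘ₗ w ∘ₗ LocalizedModule.mkLinearMap S N) hunitT with hwT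
  have hwTmk : ∀ n : N, wT (LocalizedModule.mkLinearMap T N n) =
      c (w (LocalizedModule.mkLinearMap S N n)) :=
    fun n => LinearMap.congr_fun (LocalizedModule.lift_comp T _ hunitT) n
  refine ⟨wT, ?_⟩
  apply IsLocalizedModule.ext T (LocalizedModule.mkLinearMap T M) hunitT
  ext m
  simp only [LinearMap.coe_comp, LinearMap.coe_restrictScalars, Function.comp_apply,
    LocalizedModule.mkLinearMap_apply, LocalizedModule.map_mk, LinearMap.id_coe, id_eq]
  have h1 := hwTmk (u m)
  rw [LocalizedModule.mkLinearMap_apply] at h1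
  rw [h1]
  have h2 : w (LocalizedModule.mkLinearMap S N (u m)) = LocalizedModule.mkLinearMap S M m := by
    have := LinearMap.congr_fun hw (LocalizedModule.mkLinearMap S M m)
    simpa only [LinearMap.coe_comp, LinearMap.coe_restrictScalars, Function.comp_apply,
      LocalizedModule.mkLinearMap_apply, LocalizedModule.map_mk, LinearMap.id_coe, id_eq] using this
  rw [h2, hcmk, LocalizedModule.mkLinearMap_apply]

end basic

end Groth.Agent.H3LeftInv
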