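import Mathlib

set_option autoImplicit false
universe u v

namespace Groth.Agent.H3LeftInv

open TensorProduct Function

section reduce
variable {A : Type u} [CommRing A] {M N : Type u} [AddCommGroup M] [Module A M]
  [AddCommGroup N] [Module A N]

/-- a map from a finitely generated module to a projective one factors through a finite free
module, compatibly with a map back -/
theorem exists_finite_free_factor [Module.Finite A M] [Module.Projective A N] (u : M →ₗ[A] N) :
    ∃ (ι : Type u) (_ : Fintype ι) (u₀ : M →ₗ[A] (ι → A)) (g : N →ₗ[A] (ι → A))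
      (h : (ι → A) →ₗ[A] N), g ∘ₗ u = u₀ ∧ h ∘ₗ u₀ = u := by
  classical
  obtain ⟨s, hs⟩ := Module.projective_def'.mp (inferInstance : Module.Projective A N)
  obtain ⟨G, hG⟩ := Module.Finite.fg_top (R := A) (M := M)
  set T : Finset N := G.biUnion (fun m => (s (u m)).support) with hT
  have hsupp : ∀ m : M, s (u m) ∈ Finsupp.supported A A (T : Set N) := by
    intro m
    have hm : m ∈ Submodule.span A (G : Set M) := by rw [hG]; trivial
    have : Submodule.span A (G : Set M) ≤
        (Finsupp.supported A A (T : Set N)).comap (s ∘ₗ u) := by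
      rw [Submodule.span_le]
      intro x hx
      rw [SetLike.mem_coe, Submodule.mem_comap, Finsupp.mem_supported]
      intro n hn
      rw [Finset.mem_coe, hT, Finset.mem_biUnion]
      exact ⟨x, hx, hn⟩
    exact this hm
  set r := Finsupp.restrictDom A A (T : Set N) with hr
  set e : Finsupp.supported A A (T : Set N) ≃ₗ[A] (↥(T : Set N) → A) :=
    (Finsupp.supportedEquivFinsupp (T : Set N)) ≪≫ₗ
      (Finsupp.linearEquivFunOnFinite A A ↥(T : Set N)) with he
  refine ⟨↥(T : Set N), inferInstance, (e.toLinearMap ∘ₗ r ∘ₗ s) ∘ₗ u, e.toLinearMap ∘ₗ r ∘ₗ s,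
    Finsupp.linearCombination A id ∘ₗ (Submodule.subtype _) ∘ₗ e.symm.toLinearMap, rfl, ?_⟩
  ext m
  simp only [LinearMap.coe_comp, LinearEquiv.coe_coe, Function.comp_apply,
    LinearEquiv.symm_apply_apply]
  have h1 : r (s (u m)) = ⟨s (u m), hsupp m⟩ := by
    have := LinearMap.congr_fun (Finsupp.restrictDom_comp_subtype (R := A) (M := A) (T : Set N))
      ⟨s (u m), hsupp m⟩
    simpa using this
  rw [h1]
  exact LinearMap.congr_fun hs (u m)

end reduce

end Groth.Agent.H3LeftInv
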