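import Mathlib
import Groth.Agent.Lib.helper3.LvA
import Groth.Agent.Lib.helper3.LvB

set_option autoImplicit false
universe u v

namespace Groth.Agent.H3LeftInv

open TensorProduct Function

section spread
variable {A : Type u} [CommRing A] {M N : Type u} [AddCommGroup M] [Module A M]
  [AddCommGroup N] [Module A N]

/-- spreading out a left inverse, finitely presented target -/
theorem exists_leftInvAt_powers_of_finitePresentation [Module.Finite A M]
    [Module.FinitePresentation A N] (S : Submonoid A) (u₀ : M →ₗ[A] N)
    (h : LeftInvAt S u₀) : ∃ f ∈ S, LeftInvAt (Submonoid.powers f) u₀ := by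
  obtain ⟨w, hw⟩ := h
  set g : N →ₗ[A] LocalizedModule S M := w ∘ₗ LocalizedModule.mkLinearMap S N with hg
  obtain ⟨w', s, hw'⟩ := Module.FinitePresentation.exists_lift_of_isLocalizedModule S
    (LocalizedModule.mkLinearMap S M) g
  have hwmk : ∀ m : M, w (LocalizedModule.mkLinearMap S N (u₀ m)) =
      LocalizedModule.mkLinearMap S M m := by
    intro m
    have := LinearMap.congr_fun hw (LocalizedModule.mkLinearMap S M m)
    simpa only [LinearMap.coe_comp, LinearMap.coe_restrictScalars, Function.comp_apply,
      LocalizedModule.mkLinearMap_apply, LocalizedModule.map_mk, LinearMap.id_coe, id_eq] using this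
  have h12 : (LocalizedModule.mkLinearMap S M).comp (w' ∘ₗ u₀) =
      (LocalizedModule.mkLinearMap S M).comp ((s : A) • (LinearMap.id : M →ₗ[A] M)) := by
    ext m
    have h1 := LinearMap.congr_fun hw' (u₀ m)
    simp only [LinearMap.coe_comp, Function.comp_apply] at h1
    simp only [LinearMap.coe_comp, Function.comp_apply, LinearMap.smul_apply, LinearMap.id_coe,
      id_eq, map_smul]
    rw [h1, LinearMap.smul_apply, hg, LinearMap.comp_apply, hwmk]
    rfl
  obtain ⟨t, ht⟩ := Module.Finite.exists_smul_of_comp_eq_of_isLocalizedModule S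
    (LocalizedModule.mkLinearMap S M) (w' ∘ₗ u₀) ((s : A) • (LinearMap.id : M →ₗ[A] M)) h12
  set f : A := (t : A) * (s : A) with hf
  have hfS : f ∈ S := S.mul_mem t.2 s.2
  have hcomp : ∀ m : M, (t : A) • w' (u₀ m) = f • m := by
    intro m
    have := LinearMap.congr_fun ht m
    simp only [LinearMap.smul_apply, LinearMap.coe_comp, Function.comp_apply, LinearMap.id_coe,
      id_eq, Submonoid.smul_def] at this
    rw [this, hf, mul_smul]
  refine ⟨f, hfS, ?_⟩
  set Sf := Submonoid.powers f with hSf
  set inv : Localization Sf := IsLocalization.mk' (Localization Sf) (1 : A)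
    (⟨f, Submonoid.mem_powers f⟩ : Sf) with hinv
  have hinvf : inv * algebraMap A (Localization Sf) f = 1 := by
    rw [hinv, mul_comm]
    have := IsLocalization.mk'_spec' (Localization Sf) (1 : A) (⟨f, Submonoid.mem_powers f⟩ : Sf)
    simpa using this
  refine ⟨(inv • LocalizedModule.map Sf ((t : A) • w')).restrictScalars A, ?_⟩
  ext x
  induction x using LocalizedModule.induction_on with
  | h m d =>
    simp only [LinearMap.coe_comp, LinearMap.coe_restrictScalars, Function.comp_apply,
      LocalizedModule.map_mk, LinearMap.smul_apply, LinearMap.id_coe, id_eq]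
    rw [hcomp, ← LocalizedModule.smul'_mk, ← algebraMap_smul (Localization Sf) f, ← mul_smul,
      hinvf, one_smul]

/-- spreading out a left inverse, projective target -/
theorem exists_leftInvAt_powers [Module.Finite A M] [Module.Projective A N] (S : Submonoid A)
    (u : M →ₗ[A] N) (h : LeftInvAt S u) : ∃ f ∈ S, LeftInvAt (Submonoid.powers f) u := by
  obtain ⟨ι, _, u₀, g, h', hg, hh⟩ := exists_finite_free_factor u
  have h0 : LeftInvAt S u₀ := by
    apply leftInvAt_of_comp S u₀ h'
    rw [hh]
    exact h
  obtain ⟨f, hf, hfu⟩ := exists_leftInvAt_powers_of_finitePresentation S u₀ h0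
  refine ⟨f, hf, ?_⟩
  apply leftInvAt_of_comp (Submonoid.powers f) u g
  rw [hg]
  exact hfu

end spread

end Groth.Agent.H3LeftInv
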