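import Mathlib
import Groth.Agent.Lib.helper3.LvA
import Groth.Agent.Lib.helper3.LiA

set_option autoImplicit false
universe u v

namespace Groth.Agent.H3LeftInv

open TensorProduct Function

section residue
variable {A : Type u} [CommRing A] (p : Ideal A) [p.IsPrime] {M N : Type u} [AddCommGroup M]
  [Module A M] [AddCommGroup N] [Module A N]

lemma lTensor_mk_bijective (K : Type u) [AddCommGroup K] [Module A K]
    [Module (Localization.AtPrime p) K] [IsScalarTower A (Localization.AtPrime p) K] :
    Function.Bijective ((LocalizedModule.mkLinearMap p.primeCompl M).lTensor K) := by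
  have h1 : IsLocalizedModule p.primeCompl (LinearMap.id : K →ₗ[A] K) :=
    isLocalizedModule_id p.primeCompl K (Localization.AtPrime p)
  have h2 : IsLocalizedModule p.primeCompl
      (TensorProduct.map (LinearMap.id : K →ₗ[A] K) (LocalizedModule.mkLinearMap p.primeCompl M)) :=
    inferInstance
  have h3 : IsLocalizedModule p.primeCompl (LinearMap.id : K ⊗[A] M →ₗ[A] K ⊗[A] M) :=
    isLocalizedModule_id p.primeCompl _ (Localization.AtPrime p)
  have h4 := (IsLocalizedModule.linearEquiv p.primeCompl (LinearMap.id : K ⊗[A] M →ₗ[A] K ⊗[A] M)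
    (TensorProduct.map (LinearMap.id : K →ₗ[A] K)
      (LocalizedModule.mkLinearMap p.primeCompl M))).bijective
  convert h4 using 1
  ext x
  exact (IsLocalizedModule.linearEquiv_apply p.primeCompl
    (LinearMap.id : K ⊗[A] M →ₗ[A] K ⊗[A] M) (TensorProduct.map (LinearMap.id : K →ₗ[A] K)
      (LocalizedModule.mkLinearMap p.primeCompl M)) x).symm


variable (M) in
/-- the comparison map `κ ⊗ M → M_p / m M_p` -/
noncomputable def theta :
    p.ResidueField ⊗[A] M →ₗ[A]
      (LocalizedModule p.primeCompl M ⧸ (IsLocalRing.maximalIdeal (Localization.AtPrime p) •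
        (⊤ : Submodule (Localization.AtPrime p) (LocalizedModule p.primeCompl M)))) :=
  ((TensorProduct.quotTensorEquivQuotSMul (LocalizedModule p.primeCompl M)
      (IsLocalRing.maximalIdeal (Localization.AtPrime p))).restrictScalars A).toLinearMap ∘ₗ
    ((IsLocalization.moduleTensorEquiv p.primeCompl (Localization.AtPrime p) p.ResidueField
      (LocalizedModule p.primeCompl M)).symm.restrictScalars A).toLinearMap ∘ₗ
    (LocalizedModule.mkLinearMap p.primeCompl M).lTensor p.ResidueField

lemma theta_one_tmul (x : M) :
    theta p M ((1 : p.ResidueField) ⊗ₜ[A] x) =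
      Submodule.Quotient.mk (LocalizedModule.mkLinearMap p.primeCompl M x) := by
  have h2 := TensorProduct.quotTensorEquivQuotSMul_mk_tmul
    (M := LocalizedModule p.primeCompl M) (IsLocalRing.maximalIdeal (Localization.AtPrime p))
    (1 : Localization.AtPrime p) (LocalizedModule.mkLinearMap p.primeCompl M x)
  rw [one_smul] at h2
  exact h2


lemma isUnit_algebraMap_end (K : Type u) [AddCommGroup K] [Module A K]
    [Module (Localization.AtPrime p) K] [IsScalarTower A (Localization.AtPrime p) K]
    (s : p.primeCompl) : IsUnit ((algebraMap A (Module.End A K)) s) :=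
  haveI := isLocalizedModule_id p.primeCompl K (Localization.AtPrime p)
  IsLocalizedModule.map_units (LinearMap.id : K →ₗ[A] K) s

variable (M) in
/-- the map `M_p → κ ⊗ M` -/
noncomputable def piMap :
    LocalizedModule p.primeCompl M →ₗ[Localization.AtPrime p] p.ResidueField ⊗[A] M :=
  LinearMap.extendScalarsOfIsLocalization p.primeCompl (Localization.AtPrime p)
    (LocalizedModule.lift p.primeCompl (TensorProduct.mk A p.ResidueField M 1)
      (isUnit_algebraMap_end p _))

lemma piMap_mk (x : M) :
    piMap p M (LocalizedModule.mkLinearMap p.primeCompl M x) = (1 : p.ResidueField) ⊗ₜ[A] x := by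
  unfold piMap
  rw [LinearMap.extendScalarsOfIsLocalization_apply']
  exact LinearMap.congr_fun (LocalizedModule.lift_comp p.primeCompl _ (isUnit_algebraMap_end p _)) x

theorem leftInvAt_of_injective_lTensor [Module.Finite A M] [Module.Projective A N] (u : M →ₗ[A] N)
    (h : Function.Injective (u.lTensor p.ResidueField)) : LeftInvAt p.primeCompl u := by
  have hinj : LinearMap.ker (u.baseChange p.ResidueField) = ⊥ := by
    rw [LinearMap.ker_eq_bot]
    intro a b hab
    apply h
    simpa only [LinearMap.baseChange_eq_ltensor] using hab
  obtain ⟨r, hr⟩ := LinearMap.exists_leftInverse_of_injective (u.baseChange p.ResidueField) hinj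
  have hr' : ∀ t, r (u.lTensor p.ResidueField t) = t := by
    intro t
    have := LinearMap.congr_fun hr t
    simpa only [LinearMap.comp_apply, LinearMap.baseChange_eq_ltensor, LinearMap.id_apply] using this
  set thetaE := LinearMap.extendScalarsOfIsLocalization p.primeCompl (Localization.AtPrime p)
    (theta p M) with hthetaE
  set v := thetaE ∘ₗ (r.restrictScalars (Localization.AtPrime p)) ∘ₗ piMap p N with hv
  have hvu : v ∘ₗ LocalizedModule.map p.primeCompl u =
      (IsLocalRing.maximalIdeal (Localization.AtPrime p) •
        (⊤ : Submodule (Localization.AtPrime p) (LocalizedModule p.primeCompl M))).mkQ := by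
    have hA : (v ∘ₗ LocalizedModule.map p.primeCompl u).restrictScalars A =
        ((IsLocalRing.maximalIdeal (Localization.AtPrime p) •
        (⊤ : Submodule (Localization.AtPrime p) (LocalizedModule p.primeCompl M))).mkQ).restrictScalars
          A := by
      apply IsLocalizedModule.ext p.primeCompl (LocalizedModule.mkLinearMap p.primeCompl M)
        (isUnit_algebraMap_end p _)
      ext x
      simp only [LinearMap.coe_comp, LinearMap.coe_restrictScalars, Function.comp_apply,
        Submodule.mkQ_apply]
      rw [LocalizedModule.mkLinearMap_apply, LocalizedModule.map_mk,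
        ← LocalizedModule.mkLinearMap_apply, hv]
      simp only [LinearMap.coe_comp, LinearMap.coe_restrictScalars, Function.comp_apply]
      rw [piMap_mk]
      have : (1 : p.ResidueField) ⊗ₜ[A] u x = u.lTensor p.ResidueField ((1 : p.ResidueField) ⊗ₜ[A] x) :=
        (LinearMap.lTensor_tmul _ _ _ _).symm
      rw [this, hr', hthetaE, LinearMap.extendScalarsOfIsLocalization_apply', theta_one_tmul,
        LocalizedModule.mkLinearMap_apply]
    exact LinearMap.ext fun y => LinearMap.congr_fun hA y
  have hJ : IsLocalRing.maximalIdeal (Localization.AtPrime p) ≤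
      (⊥ : Ideal (Localization.AtPrime p)).jacobson :=
    IsLocalRing.maximalIdeal_le_jacobson ⊥
  obtain ⟨w, hw⟩ := (main (LocalizedModule.map p.primeCompl u)
    (IsLocalRing.maximalIdeal (Localization.AtPrime p)) (Or.inr ⟨hJ, inferInstance⟩)).mpr ⟨v, hvu⟩
  refine ⟨w.restrictScalars A, ?_⟩
  ext y
  exact LinearMap.congr_fun hw y


theorem injective_lTensor_of_leftInvAt (u : M →ₗ[A] N) (h : LeftInvAt p.primeCompl u) :
    Function.Injective (u.lTensor p.ResidueField) := by
  obtain ⟨w, hw⟩ := h
  have h1 : Function.Injective
      (((LocalizedModule.map p.primeCompl u).restrictScalars A).lTensor p.ResidueField) := by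
    apply Function.LeftInverse.injective (g := w.lTensor p.ResidueField)
    intro t
    rw [← LinearMap.comp_apply, ← LinearMap.lTensor_comp, hw, LinearMap.lTensor_id,
      LinearMap.id_apply]
  have h2 := (lTensor_mk_bijective p (M := M) p.ResidueField).1
  have h3 : ((LocalizedModule.map p.primeCompl u).restrictScalars A).lTensor p.ResidueField ∘ₗ
      (LocalizedModule.mkLinearMap p.primeCompl M).lTensor p.ResidueField =
      (LocalizedModule.mkLinearMap p.primeCompl N).lTensor p.ResidueField ∘ₗ
        u.lTensor p.ResidueField := by
    rw [← LinearMap.lTensor_comp, ← LinearMap.lTensor_comp]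
    congr 1
    ext x
    simp only [LinearMap.coe_comp, LinearMap.coe_restrictScalars, Function.comp_apply,
      LocalizedModule.mkLinearMap_apply, LocalizedModule.map_mk]
  intro a b hab
  apply h2
  apply h1
  have ha := LinearMap.congr_fun h3 a
  have hb := LinearMap.congr_fun h3 b
  simp only [LinearMap.coe_comp, Function.comp_apply] at ha hb
  rw [ha, hb, hab]

theorem leftInvAt_primeCompl_iff [Module.Finite A M] [Module.Projective A N] (u : M →ₗ[A] N) :
    LeftInvAt p.primeCompl u ↔ Function.Injective (u.lTensor p.ResidueField) :=
  ⟨injective_lTensor_of_leftInvAt p u, leftInvAt_of_injective_lTensor p u⟩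

end residue

end Groth.Agent.H3LeftInv
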