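import Mathlib
import Groth.Agent.Lib.helper3.LvC
import Groth.Agent.Lib.helper3.LvD

set_option autoImplicit false
universe u v

namespace Groth.Agent.H3LeftInv

open TensorProduct Function

theorem main4530 {A : Type u} [CommRing A] {M N : Type u} [AddCommGroup M] [Module A M]
    [Module.Finite A M] [AddCommGroup N] [Module A N] [Module.Projective A N] (u : M →ₗ[A] N) :
    (∀ p : PrimeSpectrum A,
      [LeftInvAt p.asIdeal.primeCompl u,
       Function.Injective (u.lTensor p.asIdeal.ResidueField),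
       ∃ f : A, f ∉ p.asIdeal ∧ LeftInvAt (Submonoid.powers f) u].TFAE) ∧
    IsOpen {p : PrimeSpectrum A | LeftInvAt p.asIdeal.primeCompl u} := by
  have key : ∀ p : PrimeSpectrum A, LeftInvAt p.asIdeal.primeCompl u ↔
      ∃ f : A, f ∉ p.asIdeal ∧ LeftInvAt (Submonoid.powers f) u := by
    intro p
    constructor
    · intro h
      obtain ⟨f, hf, hfu⟩ := exists_leftInvAt_powers p.asIdeal.primeCompl u h
      exact ⟨f, hf, hfu⟩
    · rintro ⟨f, hf, hfu⟩
      exact leftInvAt_mono (Submonoid.powers_le.mpr hf) u hfu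
  refine ⟨fun p => ?_, ?_⟩
  · tfae_have 1 ↔ 2 := leftInvAt_primeCompl_iff p.asIdeal u
    tfae_have 1 ↔ 3 := key p
    tfae_finish
  · rw [isOpen_iff_forall_mem_open]
    intro p hp
    obtain ⟨f, hf, hfu⟩ := (key p).mp hp
    refine ⟨(PrimeSpectrum.basicOpen f : Set (PrimeSpectrum A)), ?_, (PrimeSpectrum.basicOpen f).isOpen,
      hf⟩
    intro q hq
    exact (key q).mpr ⟨f, hq, hfu⟩

end Groth.Agent.H3LeftInv
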