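import Mathlib
import Groth.Agent.Lib.helper3.LvC
import Groth.Agent.Lib.helper3.LvD

set_option autoImplicit false
universe u v

namespace Groth.Agent.H3LeftInv

open TensorProduct Function

section
variable {A : Type u} [CommRing A] {M N : Type u} [AddCommGroup M] [Module A M]
  [AddCommGroup N] [Module A N]

theorem exists_comp_eq_smul_id_of_fp [Module.Finite A M]
    [Module.FinitePresentation A N] (S : Submonoid A) (u₀ : M →ₗ[A] N)
    (h : LeftInvAt S u₀) : ∃ f ∈ S, ∃ w : N →ₗ[A] M, w ∘ₗ u₀ = f • LinearMap.id := by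
  obtain ⟨w, hw⟩ := h
  set g : N →ₗ[A] LocalizedModule S M := w ∘ₗ LocalizedModule.mkLinearMap S N with hg
  obtain ⟨w', s, hw'⟩ := Module.FinitePresentation.exists_lift_of_isLocalizedModule S
    (LocalizedModule.mkLinearMap S M) g
  have hwmk : ∀ m : M, w (LocalizedModule.mkLinearMap S N (u₀ m)) =
      LocalizedModule.mkLinearMap S M m := by
    intro m
    have := LinearMap.congr_fun hw (LocalizedModule.mkLinearMap S M m)
    simpa only [LinearMap.coe_comp, LinearMap.coe_restrictScalars, Function.comp_apply,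
      LocalizedModule.mkLinearMap_apply, LocalizedModule.map_mk, LinearMap.id_coe, id_eq] using this
  have h12 : (LocalizedModule.mkLinearMap S M).comp (w' ∘ₗ u₀) =
      (LocalizedModule.mkLinearMap S M).comp ((s : A) • (LinearMap.id : M →ₗ[A] M)) := by
    ext m
    have h1 := LinearMap.congr_fun hw' (u₀ m)
    simp only [LinearMap.coe_comp, Function.comp_apply] at h1
    simp only [LinearMap.coe_comp, Function.comp_apply, LinearMap.smul_apply, LinearMap.id_coe,
      id_eq, map_smul]
    rw [h1, LinearMap.smul_apply, hg, LinearMap.comp_apply, hwmk]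
    rfl
  obtain ⟨t, ht⟩ := Module.Finite.exists_smul_of_comp_eq_of_isLocalizedModule S
    (LocalizedModule.mkLinearMap S M) (w' ∘ₗ u₀) ((s : A) • (LinearMap.id : M →ₗ[A] M)) h12
  refine ⟨(t : A) * (s : A), S.mul_mem t.2 s.2, (t : A) • w', ?_⟩
  ext m
  have := LinearMap.congr_fun ht m
  simp only [LinearMap.smul_apply, LinearMap.coe_comp, Function.comp_apply, LinearMap.id_coe,
    id_eq, Submonoid.smul_def] at this
  simp only [LinearMap.smul_apply, LinearMap.coe_comp, Function.comp_apply, LinearMap.id_coe,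
    id_eq]
  rw [this, mul_smul]

theorem exists_comp_eq_smul_id [Module.Finite A M] [Module.Projective A N] (S : Submonoid A)
    (u : M →ₗ[A] N) (h : LeftInvAt S u) :
    ∃ f ∈ S, ∃ w : N →ₗ[A] M, w ∘ₗ u = f • LinearMap.id := by
  obtain ⟨ι, _, u₀, g, h', hg, hh⟩ := exists_finite_free_factor u
  have h0 : LeftInvAt S u₀ := by
    apply leftInvAt_of_comp S u₀ h'
    rw [hh]
    exact h
  obtain ⟨f, hf, w₀, hw₀⟩ := exists_comp_eq_smul_id_of_fp S u₀ h0
  refine ⟨f, hf, w₀ ∘ₗ g, ?_⟩
  rw [LinearMap.comp_assoc, hg, hw₀]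

theorem leftInvAt_of_leftInv (S : Submonoid A) (u : M →ₗ[A] N)
    (h : ∃ w : N →ₗ[A] M, w ∘ₗ u = LinearMap.id) : LeftInvAt S u := by
  obtain ⟨w, hw⟩ := h
  refine ⟨(LocalizedModule.map S w).restrictScalars A, ?_⟩
  rw [← map_restrict_comp, hw, map_restrict_id]

/-- the ideal of scalars `a` such that `a • id` factors through `u` -/
def factorIdeal (u : M →ₗ[A] N) : Ideal A where
  carrier := {a | ∃ w : N →ₗ[A] M, w ∘ₗ u = a • LinearMap.id}
  zero_mem' := ⟨0, by simp⟩
  add_mem' := by
    rintro a b ⟨w1, h1⟩ ⟨w2, h2⟩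
    exact ⟨w1 + w2, by rw [LinearMap.add_comp, h1, h2, add_smul]⟩
  smul_mem' := by
    rintro c a ⟨w, h⟩
    exact ⟨c • w, by rw [LinearMap.smul_comp, h, smul_eq_mul, mul_smul]⟩

theorem leftInv_iff_forall_maximal [Module.Finite A M] [Module.Projective A N] (u : M →ₗ[A] N) :
    (∃ w : N →ₗ[A] M, w ∘ₗ u = LinearMap.id) ↔
      ∀ (m : Ideal A) [m.IsMaximal], LeftInvAt m.primeCompl u := by
  constructor
  · intro h m _
    exact leftInvAt_of_leftInv _ u h
  · intro h
    have htop : factorIdeal u = ⊤ := by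
      by_contra hne
      obtain ⟨m, hm, hle⟩ := Ideal.exists_le_maximal _ hne
      obtain ⟨f, hf, w, hw⟩ := exists_comp_eq_smul_id m.primeCompl u (h m)
      exact hf (hle ⟨w, hw⟩)
    have h1 : (1 : A) ∈ factorIdeal u := by rw [htop]; trivial
    obtain ⟨w, hw⟩ := h1
    exact ⟨w, by rw [hw, one_smul]⟩

end

end Groth.Agent.H3LeftInv
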