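import Mathlib
import Groth.Agent.Lib.helper3.LvF

set_option autoImplicit false
universe u v

namespace Groth.Agent.H3LeftInv

open TensorProduct Function

section
variable {A : Type u} [CommRing A] {M N : Type u} [AddCommGroup M] [Module A M]
  [AddCommGroup N] [Module A N]

/-- injectivity of `K ⊗ u` descends along a faithfully flat `A'` -/
theorem lTensor_injective_of_leftInv_baseChange (K : Type u) [AddCommGroup K] [Module A K]
    (A' : Type u) [CommRing A'] [Algebra A A'] [Module.FaithfullyFlat A A'] (u : M →ₗ[A] N)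
    (h : ∃ w : A' ⊗[A] N →ₗ[A'] A' ⊗[A] M, w ∘ₗ u.baseChange A' = LinearMap.id) :
    Function.Injective (u.lTensor K) := by
  obtain ⟨w, hw⟩ := h
  have hwA : (w.restrictScalars A) ∘ₗ u.lTensor A' = LinearMap.id := by
    refine LinearMap.ext fun x => ?_
    have := LinearMap.congr_fun hw x
    simpa only [LinearMap.comp_apply, LinearMap.baseChange_eq_ltensor, LinearMap.id_apply,
      LinearMap.coe_restrictScalars] using this
  have h1 : Function.Injective ((u.lTensor A').lTensor K) := by
    apply Function.LeftInverse.injective (g := (w.restrictScalars A).lTensor K)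
    intro t
    rw [← LinearMap.comp_apply, ← LinearMap.lTensor_comp, hwA, LinearMap.lTensor_id,
      LinearMap.id_apply]
  have h2 : Function.Injective (TensorProduct.mk A A' (K ⊗[A] M) 1) :=
    Module.FaithfullyFlat.tensorProduct_mk_injective (A := A) (B := A') (K ⊗[A] M)
  have h3 : (TensorProduct.leftComm A A' K N).toLinearMap ∘ₗ (u.lTensor K).lTensor A' =
      (u.lTensor A').lTensor K ∘ₗ (TensorProduct.leftComm A A' K M).toLinearMap := by
    apply TensorProduct.ext'
    intro a t
    induction t using TensorProduct.induction_on with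
    | zero => simp
    | tmul k x => simp
    | add x y hx hy => simp only [TensorProduct.tmul_add, map_add, hx, hy]
  intro a b hab
  apply h2
  apply (TensorProduct.leftComm A A' K M).injective
  apply h1
  have ha := LinearMap.congr_fun h3 ((1 : A') ⊗ₜ[A] a)
  have hb := LinearMap.congr_fun h3 ((1 : A') ⊗ₜ[A] b)
  simp only [LinearMap.coe_comp, LinearEquiv.coe_coe, Function.comp_apply,
    LinearMap.lTensor_tmul] at ha hb
  simp only [TensorProduct.mk_apply]
  rw [← ha, ← hb, hab]

theorem main4531 {A : Type u} [CommRing A] {M N : Type u} [AddCommGroup M] [Module A M]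
    [Module.Finite A M] [AddCommGroup N] [Module A N] [Module.Projective A N] (u : M →ₗ[A] N) :
    ((∃ w : N →ₗ[A] M, w ∘ₗ u = LinearMap.id) ↔
      ∀ (m : Ideal A) [m.IsMaximal], LeftInvAt m.primeCompl u) ∧
    ∀ (A' : Type u) [CommRing A'] [Algebra A A'] [Module.FaithfullyFlat A A'],
      (∃ w : N →ₗ[A] M, w ∘ₗ u = LinearMap.id) ↔
        ∃ w : A' ⊗[A] N →ₗ[A'] A' ⊗[A] M, w ∘ₗ u.baseChange A' = LinearMap.id := by
  refine ⟨leftInv_iff_forall_maximal u, ?_⟩
  intro A' _ _ _
  constructor
  · rintro ⟨w, hw⟩
    exact ⟨w.baseChange A', by rw [← LinearMap.baseChange_comp, hw, LinearMap.baseChange_id]⟩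
  · intro h
    rw [leftInv_iff_forall_maximal]
    intro m _
    rw [leftInvAt_primeCompl_iff]
    exact lTensor_injective_of_leftInv_baseChange m.ResidueField A' u h

end

end Groth.Agent.H3LeftInv
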