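import Mathlib
import Groth.Agent.Lib.helper3.LvB

set_option autoImplicit false
universe u v

namespace Groth.Agent.H3LeftInv

open TensorProduct Function IsLocalRing

section
variable {A : Type u} [CommRing A] [IsLocalRing A] {M N : Type u} [AddCommGroup M] [Module A M]
  [AddCommGroup N] [Module A N]

theorem leftInv_iff_lTensor_residueField_injective [Module.Finite A M] [Module.Projective A N]
    (u : M →ₗ[A] N) :
    (∃ w : N →ₗ[A] M, w ∘ₗ u = LinearMap.id) ↔ Injective (u.lTensor (ResidueField A)) := by
  constructor
  · rintro ⟨w, hw⟩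
    apply Function.LeftInverse.injective (g := w.lTensor (ResidueField A))
    intro t
    rw [← LinearMap.comp_apply, ← LinearMap.lTensor_comp, hw, LinearMap.lTensor_id,
      LinearMap.id_apply]
  · intro h
    obtain ⟨ι, _, u₀, g, h', hg, hh⟩ := exists_finite_free_factor u
    have h0 : Injective (u₀.lTensor (ResidueField A)) := by
      have : (h'.lTensor (ResidueField A)) ∘ₗ (u₀.lTensor (ResidueField A)) =
          u.lTensor (ResidueField A) := by
        rw [← LinearMap.lTensor_comp, hh]
      intro a b hab
      apply h
      rw [← this, LinearMap.comp_apply, LinearMap.comp_apply, hab]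
    obtain ⟨l', hl'⟩ :=
      (IsLocalRing.split_injective_iff_lTensor_residueField_injective u₀).mpr h0
    refine ⟨l' ∘ₗ g, ?_⟩
    rw [LinearMap.comp_assoc, hg, hl']

lemma span_one_tmul_eq_top {m : ℕ} (x : Fin m → M) (hx : Submodule.span A (Set.range x) = ⊤) :
    Submodule.span (ResidueField A)
      (Set.range fun i => (1 : ResidueField A) ⊗ₜ[A] x i) = ⊤ := by
  rw [eq_top_iff]
  intro t _
  clear * - hx
  induction t using TensorProduct.induction_on with
  | zero => exact Submodule.zero_mem _
  | tmul c y =>
    have hy : y ∈ Submodule.span A (Set.range x) := by rw [hx]; trivial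
    obtain ⟨a, rfl⟩ := (Submodule.mem_span_range_iff_exists_fun A).mp hy
    rw [TensorProduct.tmul_sum]
    refine Submodule.sum_mem _ fun i _ => ?_
    have : c ⊗ₜ[A] (a i • x i) = (c * algebraMap A (ResidueField A) (a i)) •
        ((1 : ResidueField A) ⊗ₜ[A] x i) := by
      rw [TensorProduct.smul_tmul', smul_eq_mul, mul_one, TensorProduct.tmul_smul,
        TensorProduct.smul_tmul', Algebra.smul_def, mul_comm]
    rw [this]
    exact Submodule.smul_mem _ _ (Submodule.subset_span ⟨i, rfl⟩)
  | add a b ha hb => exact Submodule.add_mem _ ha hb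

lemma lTensor_injective_of_linearIndependent {m : ℕ} (u : M →ₗ[A] N) (x : Fin m → M)
    (hx : Submodule.span A (Set.range x) = ⊤)
    (hli : LinearIndependent (ResidueField A) (fun i => (1 : ResidueField A) ⊗ₜ[A] u (x i))) :
    Injective (u.lTensor (ResidueField A)) := by
  have hcoe : ∀ t, u.lTensor (ResidueField A) t = u.baseChange (ResidueField A) t := by
    intro t
    rw [LinearMap.baseChange_eq_ltensor]
  rw [injective_iff_map_eq_zero]
  intro t ht
  have ht' : t ∈ Submodule.span (ResidueField A)
      (Set.range fun i => (1 : ResidueField A) ⊗ₜ[A] x i) := by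
    rw [span_one_tmul_eq_top x hx]; trivial
  obtain ⟨c, rfl⟩ := (Submodule.mem_span_range_iff_exists_fun (ResidueField A)).mp ht'
  rw [hcoe, map_sum] at ht
  simp only [map_smul, LinearMap.baseChange_tmul] at ht
  have hc := (Fintype.linearIndependent_iff.mp hli) c ht
  simp only [hc, zero_smul, Finset.sum_const_zero]

theorem main4547 [Module.Finite A M] [Module.Projective A N] (u : M →ₗ[A] N) :
    ((∃ w : N →ₗ[A] M, w ∘ₗ u = LinearMap.id) ↔
      ∃ (m : ℕ) (x : Fin m → M), Submodule.span A (Set.range x) = ⊤ ∧
        LinearIndependent (ResidueField A) (fun i => (1 : ResidueField A) ⊗ₜ[A] u (x i))) ∧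
    ∀ (m : ℕ) (x : Fin m → M), Submodule.span A (Set.range x) = ⊤ →
      LinearIndependent (ResidueField A) (fun i => (1 : ResidueField A) ⊗ₜ[A] u (x i)) →
        ∃ b : Module.Basis (Fin m) A M, ∀ i, b i = x i := by
  have key : ∀ (m : ℕ) (x : Fin m → M), Submodule.span A (Set.range x) = ⊤ →
      LinearIndependent (ResidueField A) (fun i => (1 : ResidueField A) ⊗ₜ[A] u (x i)) →
      (∃ w : N →ₗ[A] M, w ∘ₗ u = LinearMap.id) := by
    intro m x hx hli
    exact (leftInv_iff_lTensor_residueField_injective u).mpr
      (lTensor_injective_of_linearIndependent u x hx hli)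
  have hproj : (∃ w : N →ₗ[A] M, w ∘ₗ u = LinearMap.id) → Module.Projective A M := by
    rintro ⟨w, hw⟩
    exact Module.Projective.of_split u w hw
  refine ⟨⟨?_, ?_⟩, ?_⟩
  · intro h
    haveI := hproj h
    haveI : Module.Free A M := Module.free_of_flat_of_isLocalRing
    let b := Module.Free.chooseBasis A M
    haveI : Fintype (Module.Free.ChooseBasisIndex A M) := Module.Free.ChooseBasisIndex.fintype A M
    let e := Fintype.equivFin (Module.Free.ChooseBasisIndex A M)
    let b' := b.reindex e
    refine ⟨_, fun i => b' i, b'.span_eq, ?_⟩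
    have hinj := (leftInv_iff_lTensor_residueField_injective u).mp h
    have h1 : LinearIndependent (ResidueField A)
        (fun i => (1 : ResidueField A) ⊗ₜ[A] b' i) := by
      have := (b'.baseChange (ResidueField A)).linearIndependent
      convert this using 1
      ext i
      simp
    have h2 : LinearMap.ker (u.baseChange (ResidueField A)) = ⊥ := by
      rw [LinearMap.ker_eq_bot]
      intro a c hac
      apply hinj
      simpa only [LinearMap.baseChange_eq_ltensor] using hac
    have h3 := h1.map' (u.baseChange (ResidueField A)) h2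
    exact h3
  · rintro ⟨m, x, hx, hli⟩
    exact key m x hx hli
  · intro m x hx hli
    haveI := hproj (key m x hx hli)
    have h1 : LinearIndependent (ResidueField A)
        (TensorProduct.mk A (ResidueField A) M 1 ∘ x) := by
      apply LinearIndependent.of_comp (u.baseChange (ResidueField A))
      exact hli
    have h2 := Module.IsLocalRing.linearIndependent_of_flat x h1
    refine ⟨Module.Basis.mk h2 (by rw [hx]), fun i => ?_⟩
    rw [Module.Basis.mk_apply]

end

end Groth.Agent.H3LeftInv
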