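import Mathlib

namespace Groth.Agent.H3Lvz

open IsLocalRing

universe u

theorem dvr_data (A : Type u) [CommRing A] [IsDomain A] [IsNoetherianRing A] [IsIntegrallyClosed A]
    (z : A) (hz0 : z ≠ 0) (p : Ideal A) [hp : p.IsPrime] (hpz : p = (Ideal.span {z}).radical) :
    ∃ t0 : A, t0 ∈ p ∧ (∀ x ∈ p, ∃ s b : A, s ∉ p ∧ s * x = b * t0) ∧
      ∃ (n : ℕ) (s1 a1 s2 a2 : A), s1 ∉ p ∧ s2 ∉ p ∧ s1 * z = a1 * t0 ^ n ∧
        s2 * t0 ^ n = a2 * z := by
  classical
  let R := Localization.AtPrime p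
  have hM : p.primeCompl ≤ nonZeroDivisors A := by
    intro x hx
    apply mem_nonZeroDivisors_of_ne_zero
    rintro rfl
    exact hx (Ideal.zero_mem p)
  have hinj : Function.Injective (algebraMap A R) := IsLocalization.injective R hM
  haveI : IsDomain R := IsLocalization.isDomain_localization hM
  haveI : IsNoetherianRing R := IsLocalization.isNoetherianRing p.primeCompl R inferInstance
  haveI : IsIntegrallyClosed R := isIntegrallyClosed_of_isLocalization R p.primeCompl hM
  have hmin : p ∈ (Ideal.span {z}).minimalPrimes := by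
    rw [← Ideal.radical_minimalPrimes, ← hpz, Ideal.minimalPrimes_eq_subsingleton_self]
    rfl
  have hht : p.height ≤ 1 := Ideal.height_le_one_of_isPrincipal_of_mem_minimalPrimes _ p hmin
  have hprimes : ∀ P : Ideal R, P ≠ ⊥ → P.IsPrime → P = maximalIdeal R := by
    intro P hP0 hP
    have hdisj := ((IsLocalization.isPrime_iff_isPrime_disjoint p.primeCompl R P).mp hP).2
    obtain ⟨q, hq⟩ : ∃ q, q = P.comap (algebraMap A R) := ⟨_, rfl⟩
    haveI : q.IsPrime := by rw [hq]; exact Ideal.comap_isPrime _ _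
    have hmc : q.map (algebraMap A R) = P := by
      rw [hq]; exact IsLocalization.map_under p.primeCompl R P
    have hqp : q ≤ p := by
      intro x hx
      by_contra hxp
      rw [hq] at hx
      exact Set.disjoint_left.mp hdisj (show x ∈ (p.primeCompl : Set A) from hxp) hx
    have hq0 : q ≠ ⊥ := by
      intro h0
      apply hP0
      rw [← hmc, h0, Ideal.map_bot]
    have hqeq : q = p := by
      by_contra hne
      have hlt : q < p := lt_of_le_of_ne hqp hne
      have h1 : q.height < ((1 : ℕ) : ℕ∞) :=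
        (Ideal.height_le_iff.mp (by exact_mod_cast hht)) q inferInstance hlt
      have h2 : q.height = 0 := by
        rw [Nat.cast_one] at h1
        exact Order.lt_one_iff.mp h1
      exact hq0 (Ideal.height_eq_zero_iff_eq_bot.mp h2)
    rw [← hmc, hqeq, Localization.AtPrime.map_eq_maximalIdeal]
  have htfae := tfae_of_isNoetherianRing_of_isLocalRing_of_isDomain R
  have h34 : (IsIntegrallyClosed R ∧ ∀ P : Ideal R, P ≠ ⊥ → P.IsPrime → P = maximalIdeal R) →
      (maximalIdeal R).IsPrincipal := (htfae.out 3 4).mp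
  have h36 : (IsIntegrallyClosed R ∧ ∀ P : Ideal R, P ≠ ⊥ → P.IsPrime → P = maximalIdeal R) →
      ∀ I ≠ (⊥ : Ideal R), ∃ n : ℕ, I = maximalIdeal R ^ n := (htfae.out 3 6).mp
  have hprin : (maximalIdeal R).IsPrincipal := h34 ⟨inferInstance, hprimes⟩
  have hpow : ∀ I ≠ (⊥ : Ideal R), ∃ n : ℕ, I = maximalIdeal R ^ n :=
    h36 ⟨inferInstance, hprimes⟩
  obtain ⟨g, hg⟩ := hprin.principal
  obtain ⟨t0, s0, hgs⟩ := IsLocalization.exists_mk'_eq p.primeCompl g
  have ht0 : algebraMap A R t0 = g * algebraMap A R s0 := by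
    rw [← hgs, IsLocalization.mk'_spec]
  have hs0u : IsUnit (algebraMap A R s0) := IsLocalization.map_units R s0
  have hspan : Ideal.span {algebraMap A R t0} = maximalIdeal R := by
    rw [ht0, Ideal.span_singleton_mul_right_unit hs0u, hg]
  have key : ∀ x y : A, algebraMap A R x ∈ Ideal.span {algebraMap A R y} →
      ∃ s b : A, s ∉ p ∧ s * x = b * y := by
    intro x y h
    obtain ⟨c, hc⟩ := Ideal.mem_span_singleton'.mp h
    obtain ⟨b, s, hbs⟩ := IsLocalization.exists_mk'_eq p.primeCompl c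
    refine ⟨s, b, s.2, hinj ?_⟩
    rw [map_mul, map_mul, ← hc, ← hbs, ← mul_assoc, mul_comm (algebraMap A R s),
      IsLocalization.mk'_spec]
  have hmem : ∀ x : A, algebraMap A R x ∈ maximalIdeal R ↔ x ∈ p := fun x =>
    IsLocalization.AtPrime.to_map_mem_maximal_iff R p x
  refine ⟨t0, ?_, ?_, ?_⟩
  · rw [← hmem, ← hspan]
    exact Ideal.subset_span rfl
  · intro x hx
    apply key
    rw [hspan, hmem]
    exact hx
  · have hz' : Ideal.span {algebraMap A R z} ≠ ⊥ := by
      rw [Ne, Ideal.span_singleton_eq_bot]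
      exact (map_ne_zero_iff _ hinj).mpr hz0
    obtain ⟨n, hn⟩ := hpow _ hz'
    rw [← hspan, Ideal.span_singleton_pow, ← map_pow] at hn
    obtain ⟨s1, a1, hs1, e1⟩ := key z (t0 ^ n) (by rw [← hn]; exact Ideal.subset_span rfl)
    obtain ⟨s2, a2, hs2, e2⟩ := key (t0 ^ n) z (by rw [hn]; exact Ideal.subset_span rfl)
    exact ⟨n, s1, a1, s2, a2, hs1, hs2, e1, e2⟩

theorem main18391 (A : Type u) [CommRing A] [IsDomain A]
    [IsNoetherianRing A] [IsIntegrallyClosed A] (z : A) (hz : (Ideal.span {z}).radical.IsPrime) :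
    ∃ (w t : A) (r : ℕ), w ∉ (Ideal.span {z}).radical ∧
      Ideal.span {algebraMap A (Localization.Away w) z} =
        Ideal.span {algebraMap A (Localization.Away w) t ^ r} ∧
      (Ideal.span {algebraMap A (Localization.Away w) t}).IsPrime := by
  classical
  by_cases hz0 : z = 0
  · subst hz0
    refine ⟨1, 0, 1, ?_, ?_, ?_⟩
    · intro h
      exact hz.ne_top ((Ideal.eq_top_iff_one _).mpr h)
    · simp
    · haveI : IsDomain (Localization.Away (1 : A)) :=
        IsLocalization.isDomain_localization (Submonoid.powers_le.mpr (one_mem _))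
      rw [map_zero, Ideal.span_singleton_eq_bot.mpr rfl]
      exact Ideal.isPrime_bot
  obtain ⟨p, hp⟩ : ∃ p, p = (Ideal.span {z}).radical := ⟨_, rfl⟩
  rw [← hp]
  haveI hpp : p.IsPrime := by rw [hp]; exact hz
  obtain ⟨t0, ht0p, hgen, n, s1, a1, s2, a2, hs1, hs2, e1, e2⟩ := dvr_data A z hz0 p hp
  obtain ⟨F, hF⟩ := (IsNoetherian.noetherian p : p.FG)
  choose! sf bf hsf using hgen
  obtain ⟨w, hwdef⟩ : ∃ w, w = s1 * s2 * ∏ x ∈ F, sf x := ⟨_, rfl⟩
  have hFp : ∀ x ∈ F, x ∈ p := fun x hx => hF ▸ Ideal.subset_span hx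
  have hprod : ∏ x ∈ F, sf x ∉ p := by
    rw [Ideal.IsPrime.prod_mem_iff]
    rintro ⟨x, hx, hxp⟩
    exact (hsf x (hFp x hx)).1 hxp
  have hw : w ∉ p := by
    intro h
    rw [hwdef] at h
    rcases (Ideal.IsPrime.mem_or_mem hpp h) with h | h
    · rcases Ideal.IsPrime.mem_or_mem hpp h with h | h
      exacts [hs1 h, hs2 h]
    · exact hprod h
  have hu : ∀ s : A, s ∣ w → IsUnit (algebraMap A (Localization.Away w) s) := fun s hs =>
    isUnit_of_dvd_unit (map_dvd (algebraMap A (Localization.Away w)) hs)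
      (IsLocalization.Away.algebraMap_isUnit w)
  refine ⟨w, t0, n, hw, ?_, ?_⟩
  · apply le_antisymm
    · rw [Ideal.span_singleton_le_iff_mem]
      obtain ⟨u1, hu1⟩ := hu s1 (by rw [hwdef]; exact Dvd.intro _ (mul_assoc _ _ _).symm)
      refine Ideal.mem_span_singleton'.mpr ⟨↑u1⁻¹ * algebraMap A _ a1, ?_⟩
      have := congrArg (algebraMap A (Localization.Away w)) e1
      simp only [map_mul, map_pow] at this
      rw [mul_assoc, ← this, ← hu1, ← mul_assoc, Units.inv_mul, one_mul]
    · rw [Ideal.span_singleton_le_iff_mem]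
      obtain ⟨u2, hu2⟩ := hu s2 (by
        rw [hwdef]; exact ⟨s1 * ∏ x ∈ F, sf x, by ring⟩)
      refine Ideal.mem_span_singleton'.mpr ⟨↑u2⁻¹ * algebraMap A _ a2, ?_⟩
      have := congrArg (algebraMap A (Localization.Away w)) e2
      simp only [map_mul, map_pow] at this
      rw [mul_assoc, ← this, ← hu2, ← mul_assoc, Units.inv_mul, one_mul]
  · have hmap : Ideal.map (algebraMap A (Localization.Away w)) p =
        Ideal.span {algebraMap A (Localization.Away w) t0} := by
      apply le_antisymm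
      · rw [← hF, Ideal.map_span, Ideal.span_le]
        rintro _ ⟨x, hx, rfl⟩
        have hxF : x ∈ F := hx
        obtain ⟨u, hu'⟩ := hu (sf x) (by
          rw [hwdef]; exact dvd_mul_of_dvd_right (Finset.dvd_prod_of_mem sf hxF) _)
        refine Ideal.mem_span_singleton'.mpr ⟨↑u⁻¹ * algebraMap A _ (bf x), ?_⟩
        have := congrArg (algebraMap A (Localization.Away w)) (hsf x (hFp x hxF)).2
        simp only [map_mul] at this
        rw [mul_assoc, ← this, ← hu', ← mul_assoc, Units.inv_mul, one_mul]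
      · rw [Ideal.span_singleton_le_iff_mem]
        exact Ideal.mem_map_of_mem _ ht0p
    rw [← hmap]
    apply IsLocalization.isPrime_of_isPrime_disjoint (Submonoid.powers w) _ p hpp
    rw [Set.disjoint_left]
    rintro _ ⟨k, rfl⟩ hk
    exact hw (Ideal.IsPrime.mem_of_pow_mem hpp k hk)

end Groth.Agent.H3Lvz
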