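import Mathlib

namespace Groth.Agent.H3Lz

open PrimeSpectrum

theorem idem_of {R : Type*} [CommRing R] (I : Ideal R) (S : Submonoid R)
    (ha : ∀ x, x ∈ I ↔ ∃ s ∈ S, s * x = 0)
    (hb : ∀ s ∈ S, ∃ c, 1 - c * s ∈ I)
    (hc : ∃ t ∈ S, ∀ x ∈ I, ∃ m : ℕ, t * x ^ (m + 1) = 0) :
    ∃ e : R, e * e = e ∧ ∀ x, x ∈ I ↔ e * x = 0 := by
  obtain ⟨t, htS, ht⟩ := hc
  obtain ⟨c, hcI⟩ := hb t htS
  obtain ⟨m, hm⟩ := ht _ hcI
  obtain ⟨d, hd⟩ : (1 - (1 - c * t)) ∣ 1 ^ (m + 1) - (1 - c * t) ^ (m + 1) :=
    sub_dvd_pow_sub_pow _ _ _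
  have hd' : (1 - c * t) ^ (m + 1) = 1 - c * t * d := by
    have : (1 : R) - (1 - c * t) = c * t := by ring
    rw [this, one_pow] at hd
    rw [← hd]; ring
  have htt : t = c * d * (t * t) := by
    have h0 : t * (1 - c * t * d) = 0 := by rw [← hd']; exact hm
    have : t - c * d * (t * t) = t * (1 - c * t * d) := by ring
    rw [h0] at this
    exact sub_eq_zero.1 this
  set e := c * d * t with he
  have hee : e * e = e := by
    rw [he]
    calc c * d * t * (c * d * t) = c * d * (c * d * (t * t)) := by ring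
      _ = c * d * t := by rw [← htt]
  have hte : t * e = t := by
    rw [he]
    calc t * (c * d * t) = c * d * (t * t) := by ring
      _ = t := htt.symm
  refine ⟨e, hee, fun x => ⟨fun hx => ?_, fun hx => ?_⟩⟩
  · obtain ⟨u, huS, hu⟩ := (ha x).1 hx
    obtain ⟨c', hc'⟩ := hb u huS
    set i' := 1 - c' * u with hi'
    have hxi : x = i' * x := by
      have : i' * x = x - c' * (u * x) := by rw [hi']; ring
      rw [this, hu]; ring
    obtain ⟨k, hk⟩ := ht _ hc'
    have hpow : ∀ n : ℕ, x = i' ^ n * x := by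
      intro n
      induction n with
      | zero => simp
      | succ n ih =>
        calc x = i' ^ n * x := ih
          _ = i' ^ n * (i' * x) := by rw [← hxi]
          _ = i' ^ (n + 1) * x := by ring
    have hek : e * i' ^ (k + 1) = 0 := by
      rw [he]
      calc c * d * t * i' ^ (k + 1) = c * d * (t * i' ^ (k + 1)) := by ring
        _ = 0 := by rw [hk]; ring
    calc e * x = e * (i' ^ (k + 1) * x) := by rw [← hpow]
      _ = (e * i' ^ (k + 1)) * x := by ring
      _ = 0 := by rw [hek]; ring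
  · rw [ha]
    refine ⟨t, htS, ?_⟩
    calc t * x = t * e * x := by rw [hte]
      _ = t * (e * x) := by ring
      _ = 0 := by rw [hx]; ring

universe u

theorem iso_of {R : Type u} [CommRing R] (S : Submonoid R) (A : Type u) [CommRing A] [Algebra R A]
    [IsLocalization S A]
    (hb : ∀ s ∈ S, ∃ c, 1 - c * s ∈ RingHom.ker (algebraMap R A))
    (e : R) (hee : e * e = e) (he : ∀ x, x ∈ RingHom.ker (algebraMap R A) ↔ e * x = 0) :
    ∃ (R' : Type u) (_ : CommRing R') (f : R ≃+* A × R'), ∀ x : R, (f x).1 = algebraMap R A x := by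
  have h1e : algebraMap R A (1 - e) = 0 := by
    have : (1 - e) ∈ RingHom.ker (algebraMap R A) := by
      rw [he]
      calc e * (1 - e) = e - e * e := by ring
        _ = 0 := by rw [hee]; ring
    exact this
  have he1 : algebraMap R A e = 1 := by
    have : algebraMap R A (1 - e) = 1 - algebraMap R A e := by simp
    rw [this] at h1e
    exact (sub_eq_zero.1 h1e).symm
  have hsurj : Function.Surjective (algebraMap R A) := by
    intro a
    obtain ⟨x, s, rfl⟩ := IsLocalization.exists_mk'_eq S a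
    obtain ⟨c, hc⟩ := hb s.1 s.2
    refine ⟨c * x, ?_⟩
    rw [IsLocalization.eq_mk'_iff_mul_eq]
    have h0 : algebraMap R A (1 - c * s.1) = 0 := hc
    have h1 : algebraMap R A (c * s.1) = 1 := by
      have : algebraMap R A (1 - c * s.1) = 1 - algebraMap R A (c * s.1) := by simp
      rw [this] at h0
      exact (sub_eq_zero.1 h0).symm
    calc algebraMap R A (c * x) * algebraMap R A s.1
        = algebraMap R A (c * s.1) * algebraMap R A x := by
          simp only [map_mul]; ring
      _ = algebraMap R A x := by rw [h1, one_mul]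
  let φ : R →+* A × (R ⧸ Ideal.span {e}) :=
    RingHom.prod (algebraMap R A) (Ideal.Quotient.mk (Ideal.span {e}))
  have hinj : Function.Injective φ := by
    rw [injective_iff_map_eq_zero]
    intro x hx
    have hx1 : algebraMap R A x = 0 := congrArg Prod.fst hx
    have hx2 : Ideal.Quotient.mk (Ideal.span {e}) x = 0 := congrArg Prod.snd hx
    rw [Ideal.Quotient.eq_zero_iff_mem, Ideal.mem_span_singleton'] at hx2
    obtain ⟨r, rfl⟩ := hx2
    have : e * (r * e) = 0 := (he _).1 hx1
    calc r * e = r * (e * e) := by rw [hee]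
      _ = e * (r * e) := by ring
      _ = 0 := this
  have hsur : Function.Surjective φ := by
    rintro ⟨a, q⟩
    obtain ⟨x, rfl⟩ := hsurj a
    obtain ⟨r, rfl⟩ := Ideal.Quotient.mk_surjective q
    refine ⟨e * x + (1 - e) * r, ?_⟩
    refine Prod.ext ?_ ?_
    · change algebraMap R A (e * x + (1 - e) * r) = algebraMap R A x
      rw [map_add, map_mul, map_mul, h1e, he1]; ring
    · change Ideal.Quotient.mk (Ideal.span {e}) (e * x + (1 - e) * r) = Ideal.Quotient.mk _ r
      rw [Ideal.Quotient.eq, Ideal.mem_span_singleton']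
      exact ⟨x - r, by ring⟩
  exact ⟨R ⧸ Ideal.span {e}, inferInstance, RingEquiv.ofBijective φ ⟨hinj, hsur⟩, fun x => rfl⟩

theorem unit_mod {R : Type u} [CommRing R] (S : Submonoid R) (A : Type u) [CommRing A]
    [Algebra R A] [IsLocalization S A]
    (hcl : IsClosed (Set.range (PrimeSpectrum.comap (algebraMap R A)))) :
    ∀ s ∈ S, ∃ c, 1 - c * s ∈ RingHom.ker (algebraMap R A) := by
  intro s hs
  have hrange : Set.range (PrimeSpectrum.comap (algebraMap R A)) =
      zeroLocus (RingHom.ker (algebraMap R A)) := by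
    rw [← closure_range_comap, hcl.closure_eq]
  by_contra hcon
  have hne : Ideal.span {s} ⊔ RingHom.ker (algebraMap R A) ≠ ⊤ := by
    intro htop
    have h1 : (1 : R) ∈ Ideal.span {s} ⊔ RingHom.ker (algebraMap R A) := by rw [htop]; trivial
    obtain ⟨y, hy, z, hz, hyz⟩ := Submodule.mem_sup.1 h1
    obtain ⟨c, rfl⟩ := Ideal.mem_span_singleton'.1 hy
    apply hcon
    refine ⟨c, ?_⟩
    have : 1 - c * s = z := by rw [← hyz]; ring
    rw [this]; exact hz
  obtain ⟨m, hm, hle⟩ := Ideal.exists_le_maximal _ hne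
  have hmem : (⟨m, hm.isPrime⟩ : PrimeSpectrum R) ∈ zeroLocus (RingHom.ker (algebraMap R A)) := by
    rw [mem_zeroLocus]
    exact fun x hx => hle (Ideal.mem_sup_right hx)
  rw [← hrange, localization_comap_range A S] at hmem
  have hsm : s ∈ m := hle (Ideal.mem_sup_left (Ideal.mem_span_singleton_self s))
  exact Set.disjoint_left.1 hmem hs hsm

end Groth.Agent.H3Lz
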