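import Mathlib
import Groth.Agent.Lib.helper3.LzA

namespace Groth.Agent.H3Lz

open PrimeSpectrum

universe u

theorem hc_fg {R : Type u} [CommRing R] (S : Submonoid R) (I : Ideal R)
    (ha : ∀ x, x ∈ I ↔ ∃ s ∈ S, s * x = 0)
    (hb : ∀ s ∈ S, ∃ c, 1 - c * s ∈ I) (hfg : S.FG) :
    ∃ t ∈ S, ∀ x ∈ I, ∃ m : ℕ, t * x ^ (m + 1) = 0 := by
  obtain ⟨F, hF⟩ := hfg
  set s := ∏ f ∈ F, f with hs
  have hsS : s ∈ S := by
    rw [hs]
    refine Submonoid.prod_mem _ fun f hf => ?_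
    rw [← hF]
    exact Submonoid.subset_closure hf
  have hdvd : ∀ u ∈ S, ∃ N : ℕ, u ∣ s ^ N := by
    intro u hu
    rw [← hF] at hu
    induction hu using Submonoid.closure_induction with
    | mem f hf => exact ⟨1, by rw [pow_one]; exact Finset.dvd_prod_of_mem _ hf⟩
    | one => exact ⟨0, by simp⟩
    | mul a b _ _ iha ihb =>
      obtain ⟨N1, h1⟩ := iha
      obtain ⟨N2, h2⟩ := ihb
      exact ⟨N1 + N2, by rw [pow_add]; exact mul_dvd_mul h1 h2⟩
  obtain ⟨c, hc⟩ := hb s hsS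
  obtain ⟨u, huS, hu⟩ := (ha _).1 hc
  obtain ⟨N, v, hv⟩ := hdvd u huS
  have hsN : s ^ N * (1 - c * s) = 0 := by
    rw [hv]
    calc u * v * (1 - c * s) = v * (u * (1 - c * s)) := by ring
      _ = 0 := by rw [hu]; ring
  have hstep : s ^ N = c * s ^ (N + 1) := by
    have : s ^ N - c * s ^ (N + 1) = s ^ N * (1 - c * s) := by ring
    rw [hsN] at this
    exact sub_eq_zero.1 this
  have hstep' : ∀ k : ℕ, s ^ N = c ^ k * s ^ (N + k) := by
    intro k
    induction k with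
    | zero => simp
    | succ k ih =>
      calc s ^ N = c ^ k * s ^ (N + k) := ih
        _ = c ^ k * (s ^ N * s ^ k) := by rw [pow_add]
        _ = c ^ k * (c * s ^ (N + 1) * s ^ k) := by rw [← hstep]
        _ = c ^ (k + 1) * s ^ (N + (k + 1)) := by ring
  refine ⟨s ^ N, pow_mem hsS N, fun x hx => ⟨0, ?_⟩⟩
  obtain ⟨w, hwS, hw⟩ := (ha x).1 hx
  obtain ⟨M, v', hv'⟩ := hdvd w hwS
  have hsM : s ^ M * x = 0 := by
    rw [hv']
    calc w * v' * x = v' * (w * x) := by ring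
      _ = 0 := by rw [hw]; ring
  rw [zero_add, pow_one, hstep' M]
  calc c ^ M * s ^ (N + M) * x = c ^ M * s ^ N * (s ^ M * x) := by ring
    _ = 0 := by rw [hsM]; ring

theorem hc_noeth {R : Type u} [CommRing R] (S : Submonoid R) (I : Ideal R)
    (ha : ∀ x, x ∈ I ↔ ∃ s ∈ S, s * x = 0)
    [TopologicalSpace.NoetherianSpace (PrimeSpectrum R)] :
    ∃ t ∈ S, ∀ x ∈ I, ∃ m : ℕ, t * x ^ (m + 1) = 0 := by
  classical
  have hcomp : IsCompact ((zeroLocus (I : Set R))ᶜ) :=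
    TopologicalSpace.NoetherianSpace.isCompact _
  have hcover : (zeroLocus (I : Set R))ᶜ ⊆ ⋃ i : I, (basicOpen (i : R) : Set (PrimeSpectrum R)) := by
    intro p hp
    rw [Set.mem_compl_iff, mem_zeroLocus, Set.not_subset] at hp
    obtain ⟨i, hiI, hip⟩ := hp
    exact Set.mem_iUnion.2 ⟨⟨i, hiI⟩, hip⟩
  obtain ⟨T, hT⟩ := hcomp.elim_finite_subcover _ (fun i : I => (basicOpen (i : R)).isOpen) hcover
  choose u huS hu using fun i : I => (ha i.1).1 i.2
  set t := ∏ j ∈ T, u j with ht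
  have htS : t ∈ S := Submonoid.prod_mem _ fun j _ => huS j
  have hkill : ∀ j ∈ T, t * (j : R) = 0 := by
    intro j hj
    obtain ⟨v, hv⟩ := Finset.dvd_prod_of_mem u hj
    rw [ht, hv]
    calc u j * v * (j : R) = v * (u j * j) := by ring
      _ = 0 := by rw [hu]; ring
  set I0 : Ideal R := Ideal.span ((fun j : I => (j : R)) '' (T : Set I)) with hI0
  have hI0kill : ∀ y ∈ I0, t * y = 0 := by
    intro y hy
    rw [hI0] at hy
    induction hy using Submodule.span_induction with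
    | mem y hy =>
      obtain ⟨j, hj, rfl⟩ := hy
      exact hkill j hj
    | zero => simp
    | add a b _ _ iha ihb => rw [mul_add, iha, ihb, add_zero]
    | smul r a _ iha => rw [smul_eq_mul, mul_left_comm, iha, mul_zero]
  have hrad : I ≤ I0.radical := by
    rw [← zeroLocus_subset_zeroLocus_iff]
    intro p hp
    by_contra hpI
    have := hT hpI
    simp only [Set.mem_iUnion] at this
    obtain ⟨j, hjT, hjp⟩ := this
    apply hjp
    rw [mem_zeroLocus] at hp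
    exact hp (Ideal.subset_span ⟨j, hjT, rfl⟩)
  refine ⟨t, htS, fun x hx => ?_⟩
  obtain ⟨m, hm⟩ := hrad hx
  refine ⟨m, ?_⟩
  rw [pow_succ, ← mul_assoc, hI0kill _ hm, zero_mul]

theorem main6274 {R : Type u} [CommRing R] (S : Submonoid R) (A : Type u) [CommRing A] [Algebra R A] [IsLocalization S A] (hcl : IsClosed (Set.range (PrimeSpectrum.comap (algebraMap R A)))) (h : TopologicalSpace.NoetherianSpace (PrimeSpectrum R) ∨ S.FG) : ∃ (R' : Type u) (_ : CommRing R') (e : R ≃+* A × R'), ∀ x : R, (e x).1 = algebraMap R A x := by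
  have ha : ∀ x, x ∈ RingHom.ker (algebraMap R A) ↔ ∃ s ∈ S, s * x = 0 := by
    intro x
    rw [RingHom.mem_ker, IsLocalization.map_eq_zero_iff S A x]
    exact ⟨fun ⟨m, hm⟩ => ⟨m.1, m.2, hm⟩, fun ⟨s, hs, h⟩ => ⟨⟨s, hs⟩, h⟩⟩
  have hb := unit_mod S A hcl
  have hc : ∃ t ∈ S, ∀ x ∈ RingHom.ker (algebraMap R A), ∃ m : ℕ, t * x ^ (m + 1) = 0 := by
    rcases h with h | h
    · exact hc_noeth S _ ha
    · exact hc_fg S _ ha hb h
  obtain ⟨e, hee, he⟩ := idem_of _ S ha hb hc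
  exact iso_of S A hb e hee he

end Groth.Agent.H3Lz
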