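import Mathlib
import Groth.Agent.Lib.helper3.GlA

set_option autoImplicit false
universe u

open CategoryTheory CategoryTheory.Limits Opposite

namespace Groth.Agent.H3Ml

open Groth.Agent.H3AdL

variable (F : ℕᵒᵖ ⥤ AddCommGrpCat.{u})

theorem hom_eq {a b : ℕ} (f : (op a : ℕᵒᵖ) ⟶ op b) (h : b ≤ a) : f = (homOfLE h).op :=
  Subsingleton.elim _ _

theorem range_pi_le (n k : ℕ) (hk : n ≤ k) (y : F.obj (op n))
    (hy : y ∈ (limit.π F (op n)).hom.range) : y ∈ (F.map (homOfLE hk).op).hom.range := by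
  obtain ⟨z, rfl⟩ := hy
  refine ⟨(limit.π F (op k)).hom z, ?_⟩
  have := limit.w F (homOfLE hk).op
  rw [← this]
  rfl

theorem mem_range_pi (hF : (F ⋙ forget AddCommGrpCat).IsMittagLeffler) (n : ℕ) (y : F.obj (op n))
    (hy : ∀ k (hk : n ≤ k), y ∈ (F.map (homOfLE hk).op).hom.range) :
    y ∈ (limit.π F (op n)).hom.range := by
  let T := F ⋙ forget AddCommGrpCat
  have hyE : y ∈ T.eventualRange (op n) := by
    rw [Functor.mem_eventualRange_iff]
    intro i f
    obtain ⟨k⟩ := i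
    have hk : n ≤ k := leOfHom f.unop
    rw [hom_eq f hk]
    obtain ⟨z, hz⟩ := hy k hk
    exact ⟨z, hz⟩
  let X : ℕ → Type u := fun k => {x : T.obj (op k) // x ∈ T.eventualRange (op k)}
  let uu : ∀ k, X (k + 1) → X k := fun k x =>
    ⟨T.map (homOfLE (Nat.le_succ k)).op x.1, T.eventualRange_mapsTo _ x.2⟩
  have huu : ∀ k, Function.Surjective (uu k) := by
    intro k ⟨x, hx⟩
    obtain ⟨w, hw, hwx⟩ := hF.subset_image_eventualRange T (homOfLE (Nat.le_succ k)).op hx
    exact ⟨⟨w, hw⟩, Subtype.ext hwx⟩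
  obtain ⟨x, hx, hxn⟩ := exists_compat_seq uu huu n ⟨y, hyE⟩
  let s : ∀ j : ℕᵒᵖ, T.obj j := fun j => (x j.unop).1
  have hx' : ∀ m, T.map (homOfLE (Nat.le_succ m)).op (s (op (m + 1))) = s (op m) := by
    intro m
    have := congrArg Subtype.val (hx m)
    exact this
  have hs1 : ∀ (b a : ℕ) (h : b ≤ a), T.map (homOfLE h).op (s (op a)) = s (op b) := by
    intro b a h
    induction a, h using Nat.le_induction with
    | base =>
      have : (homOfLE (le_refl b)).op = 𝟙 (op b : ℕᵒᵖ) := Subsingleton.elim _ _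
      rw [this, T.map_id]
      rfl
    | succ a hab ih =>
      have : (homOfLE (hab.trans (Nat.le_succ a))).op =
          (homOfLE (Nat.le_succ a)).op ≫ (homOfLE hab).op := Subsingleton.elim _ _
      rw [this, T.map_comp]
      change T.map (homOfLE hab).op (T.map (homOfLE (Nat.le_succ a)).op (s (op (a + 1)))) = _
      rw [hx', ih]
  have hs : s ∈ T.sections := by
    intro j j' f
    obtain ⟨a⟩ := j
    obtain ⟨b⟩ := j'
    have h : b ≤ a := leOfHom f.unop
    rw [hom_eq f h]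
    exact hs1 b a h
  let hl := isLimitOfPreserves (forget AddCommGrpCat) (limit.isLimit F)
  let z := (Types.isLimitEquivSections hl).symm ⟨s, hs⟩
  refine ⟨z, ?_⟩
  have h1 := Types.isLimitEquivSections_symm_apply hl ⟨s, hs⟩ (op n)
  have h2 : s (op n) = y := congrArg Subtype.val hxn
  rw [← h2]
  exact h1

end Groth.Agent.H3Ml

namespace Groth.Agent.H3Ml

theorem main8352 (F : ℕᵒᵖ ⥤ AddCommGrpCat.{u})
    (hF : (F ⋙ forget AddCommGrpCat).IsMittagLeffler) :
    (limit.π F (op 0)).hom.range = ⨅ k : ℕ, (F.map (homOfLE (Nat.zero_le k)).op).hom.range ∧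
      ∀ p : ℕ, (limit.π F (op (p + 1))).hom.range ⊓ (F.map (homOfLE (Nat.le_succ p)).op).hom.ker =
        ⨅ (k : ℕ) (hk : p + 1 ≤ k),
          (F.map (homOfLE hk).op).hom.range ⊓ (F.map (homOfLE (Nat.le_succ p)).op).hom.ker := by
  constructor
  · ext y
    rw [AddSubgroup.mem_iInf]
    constructor
    · intro hy k
      exact range_pi_le F 0 k (Nat.zero_le k) y hy
    · intro hy
      exact mem_range_pi F hF 0 y fun k _ => hy k
  · intro p
    ext y
    simp only [AddSubgroup.mem_inf, AddSubgroup.mem_iInf]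
    constructor
    · rintro ⟨hy, hker⟩ k hk
      exact ⟨range_pi_le F (p + 1) k hk y hy, hker⟩
    · intro hy
      exact ⟨mem_range_pi F hF (p + 1) y fun k hk => (hy k hk).1, (hy (p + 1) le_rfl).2⟩

end Groth.Agent.H3Ml
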