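import Mathlib
import Groth.Agent.Lib.helper3.MlA

set_option autoImplicit false
universe u

open CategoryTheory CategoryTheory.Limits Opposite

namespace Groth.Agent.H3Ml

open Groth.Agent.H3AdL

section
variable (T : ℕᵒᵖ ⥤ Type u)

theorem map_trans {a b c : ℕ} (hab : a ≤ b) (hbc : b ≤ c) (x : T.obj (op c)) :
    T.map (homOfLE hab).op (T.map (homOfLE hbc).op x) = T.map (homOfLE (hab.trans hbc)).op x := by
  have : (homOfLE (hab.trans hbc)).op = (homOfLE hbc).op ≫ (homOfLE hab).op :=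
    Subsingleton.elim _ _
  rw [this, T.map_comp]
  rfl

theorem map_refl {a : ℕ} (x : T.obj (op a)) : T.map (homOfLE (le_refl a)).op x = x := by
  have : (homOfLE (le_refl a)).op = 𝟙 (op a : ℕᵒᵖ) := Subsingleton.elim _ _
  rw [this, T.map_id]
  rfl

theorem surj_of_steps (j₀ : ℕ)
    (hs : ∀ j : ℕ, j₀ ≤ j → Function.Surjective (T.map (homOfLE (Nat.le_succ j)).op))
    (a b : ℕ) (ha : j₀ ≤ a) (hab : a ≤ b) : Function.Surjective (T.map (homOfLE hab).op) := by
  induction b, hab using Nat.le_induction with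
  | base =>
    intro y
    exact ⟨y, map_refl T y⟩
  | succ b hab ih =>
    intro y
    obtain ⟨z, hz⟩ := ih y
    obtain ⟨w, hw⟩ := hs b (ha.trans hab) z
    refine ⟨w, ?_⟩
    rw [← map_trans T hab (Nat.le_succ b), hw, hz]

theorem inj_of_steps (j₀ : ℕ)
    (hs : ∀ j : ℕ, j₀ ≤ j → Function.Injective (T.map (homOfLE (Nat.le_succ j)).op))
    (a b : ℕ) (ha : j₀ ≤ a) (hab : a ≤ b) : Function.Injective (T.map (homOfLE hab).op) := by
  induction b, hab using Nat.le_induction with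
  | base =>
    intro y y' h
    rwa [map_refl, map_refl] at h
  | succ b hab ih =>
    intro y y' h
    rw [← map_trans T hab (Nat.le_succ b), ← map_trans T hab (Nat.le_succ b)] at h
    exact hs b (ha.trans hab) (ih h)

theorem ml_of_steps (j₀ : ℕ)
    (hs : ∀ j : ℕ, j₀ ≤ j → Function.Surjective (T.map (homOfLE (Nat.le_succ j)).op)) :
    T.IsMittagLeffler := by
  rw [Functor.isMittagLeffler_iff_subset_range_comp]
  intro j
  obtain ⟨n⟩ := j
  refine ⟨op (max n j₀), (homOfLE (le_max_left n j₀)).op, ?_⟩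
  intro k g
  obtain ⟨m⟩ := k
  have hm : max n j₀ ≤ m := leOfHom g.unop
  rw [hom_eq g hm]
  rintro _ ⟨y, rfl⟩
  obtain ⟨z, rfl⟩ := surj_of_steps T j₀ hs (max n j₀) m (le_max_right n j₀) hm y
  exact ⟨z, by rw [T.map_comp]; rfl⟩

theorem eval_surj (j₀ : ℕ)
    (hs : ∀ j : ℕ, j₀ ≤ j → Function.Surjective (T.map (homOfLE (Nat.le_succ j)).op)) :
    Function.Surjective (fun s : T.sections => s.1 (op j₀)) := by
  intro y
  let X : ℕ → Type u := fun m => T.obj (op (j₀ + m))
  let uu : ∀ m, X (m + 1) → X m := fun m x => T.map (homOfLE (Nat.le_succ (j₀ + m))).op x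
  obtain ⟨x, hx, hx0⟩ := exists_compat_seq uu (fun m => hs (j₀ + m) (Nat.le_add_right _ _)) 0 y
  have hx2 : ∀ (b a : ℕ) (h : b ≤ a),
      T.map (homOfLE (Nat.add_le_add_left h j₀)).op (x a) = x b := by
    intro b a h
    induction a, h using Nat.le_induction with
    | base => exact map_refl T _
    | succ a hab ih =>
      rw [← ih, ← hx a]
      exact (map_trans T _ _ _).symm
  let s : ∀ j : ℕᵒᵖ, T.obj j := fun j => T.map (homOfLE (Nat.le_add_left j.unop j₀)).op (x j.unop)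
  have hsec : s ∈ T.sections := by
    intro j j' f
    obtain ⟨a⟩ := j
    obtain ⟨b⟩ := j'
    have h : b ≤ a := leOfHom f.unop
    rw [hom_eq f h]
    change T.map (homOfLE h).op (T.map (homOfLE (Nat.le_add_left a j₀)).op (x a)) =
      T.map (homOfLE (Nat.le_add_left b j₀)).op (x b)
    rw [map_trans, ← hx2 b a h, map_trans]
  refine ⟨⟨s, hsec⟩, ?_⟩
  change T.map (homOfLE (Nat.le_add_left j₀ j₀)).op (x j₀) = y
  have := hx2 0 j₀ (Nat.zero_le _)
  rw [hx0] at this
  rw [← this]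

theorem eval_inj (j₀ : ℕ)
    (hs : ∀ j : ℕ, j₀ ≤ j → Function.Injective (T.map (homOfLE (Nat.le_succ j)).op)) :
    Function.Injective (fun s : T.sections => s.1 (op j₀)) := by
  intro s s' h
  apply Subtype.ext
  funext j
  obtain ⟨n⟩ := j
  rcases le_total n j₀ with hn | hn
  · rw [← s.2 (homOfLE hn).op, ← s'.2 (homOfLE hn).op]
    exact congrArg _ h
  · apply inj_of_steps T j₀ hs j₀ n le_rfl hn
    rw [s.2 (homOfLE hn).op, s'.2 (homOfLE hn).op]
    exact h

end

theorem main15235 (G : ℕᵒᵖ ⥤ AddCommGrpCat.{u})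
    (j₀ : ℕ) (hs : ∀ j : ℕ, j₀ ≤ j → Function.Surjective (G.map (homOfLE (Nat.le_succ j)).op).hom) :
    (G ⋙ forget AddCommGrpCat.{u}).IsMittagLeffler ∧
      Function.Surjective (fun s : (G ⋙ forget AddCommGrpCat.{u}).sections => s.1 (op j₀)) ∧
      ((∀ j : ℕ, j₀ ≤ j → Function.Injective (G.map (homOfLE (Nat.le_succ j)).op).hom) →
        Function.Bijective (fun s : (G ⋙ forget AddCommGrpCat.{u}).sections => s.1 (op j₀))) := by
  have hs' : ∀ j : ℕ, j₀ ≤ j → Function.Surjective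
      ((G ⋙ forget AddCommGrpCat.{u}).map (homOfLE (Nat.le_succ j)).op) := hs
  refine ⟨ml_of_steps _ j₀ hs', eval_surj _ j₀ hs', fun hi => ⟨eval_inj _ j₀ hi, eval_surj _ j₀ hs'⟩⟩

end Groth.Agent.H3Ml
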