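import Mathlib
import Groth.Agent.Lib.helper3.MlB

set_option autoImplicit false
universe u

open CategoryTheory CategoryTheory.Limits Opposite

namespace Groth.Agent.H3Ml

section
variable (F : ℕᵒᵖ ⥤ AddCommGrpCat.{u})

theorem r_trans {a b c : ℕ} (hab : a ≤ b) (hbc : b ≤ c) (x : F.obj (op c)) :
    (F.map (homOfLE hab).op).hom ((F.map (homOfLE hbc).op).hom x) =
      (F.map (homOfLE (hab.trans hbc)).op).hom x := by
  have : (homOfLE (hab.trans hbc)).op = (homOfLE hbc).op ≫ (homOfLE hab).op :=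
    Subsingleton.elim _ _
  rw [this, F.map_comp]
  rfl

theorem range_anti {a b c : ℕ} (hab : a ≤ b) (hbc : b ≤ c) :
    (F.map (homOfLE (hab.trans hbc)).op).hom.range ≤ (F.map (homOfLE hab).op).hom.range := by
  rintro _ ⟨x, rfl⟩
  exact ⟨(F.map (homOfLE hbc).op).hom x, r_trans F hab hbc x⟩

/-- stabilization at level `n` -/
def StabAt (n : ℕ) : Prop :=
  ∃ k₀, ∃ h₀ : n ≤ k₀, ∀ k (hk : k₀ ≤ k),
    (F.map (homOfLE h₀).op).hom.range ≤ (F.map (homOfLE (h₀.trans hk)).op).hom.range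

theorem ml_iff_stab : (F ⋙ forget AddCommGrpCat).IsMittagLeffler ↔ ∀ n, StabAt F n := by
  rw [Functor.isMittagLeffler_iff_subset_range_comp]
  constructor
  · intro h n
    obtain ⟨i, f, hf⟩ := h (op n)
    obtain ⟨k₀⟩ := i
    have h₀ : n ≤ k₀ := leOfHom f.unop
    refine ⟨k₀, h₀, fun k hk => ?_⟩
    rintro _ ⟨x, rfl⟩
    have := hf (homOfLE hk).op ⟨x, rfl⟩
    obtain ⟨z, hz⟩ := this
    refine ⟨z, ?_⟩
    rw [hom_eq ((homOfLE hk).op ≫ f) (h₀.trans hk)] at hz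
    rw [hom_eq f h₀] at hz
    exact hz
  · intro h j
    obtain ⟨n⟩ := j
    obtain ⟨k₀, h₀, hk₀⟩ := h n
    refine ⟨op k₀, (homOfLE h₀).op, ?_⟩
    intro k g
    obtain ⟨m⟩ := k
    have hm : k₀ ≤ m := leOfHom g.unop
    rintro _ ⟨x, rfl⟩
    obtain ⟨z, hz⟩ := hk₀ m hm ⟨x, rfl⟩
    refine ⟨z, ?_⟩
    rw [hom_eq (g ≫ (homOfLE h₀).op) (h₀.trans hm)]
    exact hz

theorem stab_succ (p : ℕ) (hp : StabAt F p)
    (h2 : ∃ k₀ : ℕ, ∃ h₀ : p + 1 ≤ k₀, ∀ (k : ℕ) (hk : k₀ ≤ k),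
      (F.map (homOfLE (h₀.trans hk)).op).hom.range ⊓ (F.map (homOfLE (Nat.le_succ p)).op).hom.ker =
        (F.map (homOfLE h₀).op).hom.range ⊓ (F.map (homOfLE (Nat.le_succ p)).op).hom.ker) :
    StabAt F (p + 1) := by
  obtain ⟨k₁, h₁, hk₁⟩ := hp
  obtain ⟨k₂, h₂, hk₂⟩ := h2
  have h₃ : p + 1 ≤ max k₁ k₂ := h₂.trans (le_max_right _ _)
  refine ⟨max k₁ k₂, h₃, fun k hk => ?_⟩
  rintro _ ⟨x, rfl⟩
  -- y = image of x in level p+1
  obtain ⟨y, hy⟩ : ∃ y, y = (F.map (homOfLE h₃).op).hom x := ⟨_, rfl⟩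
  rw [← hy]
  -- image of y at level p lies in stable range
  have hyp : (F.map (homOfLE (Nat.le_succ p)).op).hom y ∈
      (F.map (homOfLE (h₁.trans ((le_max_left k₁ k₂).trans hk))).op).hom.range := by
    apply hk₁ k ((le_max_left k₁ k₂).trans hk)
    refine ⟨(F.map (homOfLE (le_max_left k₁ k₂)).op).hom x, ?_⟩
    rw [hy, r_trans, r_trans]
  obtain ⟨w, hw⟩ := hyp
  obtain ⟨w', hw'⟩ : ∃ w', w' = (F.map (homOfLE (h₃.trans hk)).op).hom w := ⟨_, rfl⟩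
  have hker : y - w' ∈ (F.map (homOfLE (Nat.le_succ p)).op).hom.ker := by
    rw [AddMonoidHom.mem_ker, map_sub, hw', r_trans, hw, sub_self]
  have hw'2 : w' ∈ (F.map (homOfLE h₂).op).hom.range := by
    refine ⟨(F.map (homOfLE ((le_max_right k₁ k₂).trans hk)).op).hom w, ?_⟩
    rw [hw', r_trans]
  have hy2 : y ∈ (F.map (homOfLE h₂).op).hom.range := by
    refine ⟨(F.map (homOfLE (le_max_right k₁ k₂)).op).hom x, ?_⟩
    rw [hy, r_trans]
  have h3 : y - w' ∈ (F.map (homOfLE h₂).op).hom.range ⊓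
      (F.map (homOfLE (Nat.le_succ p)).op).hom.ker :=
    ⟨AddSubgroup.sub_mem _ hy2 hw'2, hker⟩
  rw [← hk₂ k ((le_max_right k₁ k₂).trans hk)] at h3
  have h4 : y - w' ∈ (F.map (homOfLE (h₃.trans hk)).op).hom.range := h3.1
  have h5 : w' ∈ (F.map (homOfLE (h₃.trans hk)).op).hom.range := ⟨w, hw'.symm⟩
  have : y = (y - w') + w' := by abel
  rw [this]
  exact AddSubgroup.add_mem _ h4 h5

theorem main3532 :
    (F ⋙ forget AddCommGrpCat).IsMittagLeffler ↔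
      ((∃ k₀ : ℕ, ∀ (k : ℕ) (hk : k₀ ≤ k),
          (F.map (homOfLE (Nat.zero_le k)).op).hom.range = (F.map (homOfLE (Nat.zero_le k₀)).op).hom.range) ∧
        ∀ p : ℕ, ∃ k₀ : ℕ, ∃ h₀ : p + 1 ≤ k₀, ∀ (k : ℕ) (hk : k₀ ≤ k),
          (F.map (homOfLE (h₀.trans hk)).op).hom.range ⊓ (F.map (homOfLE (Nat.le_succ p)).op).hom.ker =
            (F.map (homOfLE h₀).op).hom.range ⊓ (F.map (homOfLE (Nat.le_succ p)).op).hom.ker) := by
  rw [ml_iff_stab]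
  constructor
  · intro h
    constructor
    · obtain ⟨k₀, h₀, hk₀⟩ := h 0
      exact ⟨k₀, fun k hk => le_antisymm (range_anti F h₀ hk) (hk₀ k hk)⟩
    · intro p
      obtain ⟨k₀, h₀, hk₀⟩ := h (p + 1)
      refine ⟨k₀, h₀, fun k hk => ?_⟩
      rw [le_antisymm (range_anti F h₀ hk) (hk₀ k hk)]
  · rintro ⟨h1, h2⟩ n
    induction n with
    | zero =>
      obtain ⟨k₀, hk₀⟩ := h1
      exact ⟨k₀, Nat.zero_le _, fun k hk => (hk₀ k hk).ge⟩
    | succ p ih => exact stab_succ F p ih (h2 p)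

end

end Groth.Agent.H3Ml
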