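import Mathlib
import Groth.Agent.Lib.helper3.MlC

set_option autoImplicit false
universe u

open CategoryTheory CategoryTheory.Limits Opposite

namespace Groth.Agent.H3Ml

open Groth.Agent.H3AdL

theorem exists_section_through (T : ℕᵒᵖ ⥤ Type u) (hT : T.IsMittagLeffler) (n : ℕ)
    (y : T.obj (op n)) (hyE : y ∈ T.eventualRange (op n)) :
    ∃ s : ∀ j : ℕᵒᵖ, T.obj j, s ∈ T.sections ∧ s (op n) = y := by
  let X : ℕ → Type u := fun k => {x : T.obj (op k) // x ∈ T.eventualRange (op k)}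
  let uu : ∀ k, X (k + 1) → X k := fun k x =>
    ⟨T.map (homOfLE (Nat.le_succ k)).op x.1, T.eventualRange_mapsTo _ x.2⟩
  have huu : ∀ k, Function.Surjective (uu k) := by
    intro k ⟨x, hx⟩
    obtain ⟨w, hw, hwx⟩ := hT.subset_image_eventualRange T (homOfLE (Nat.le_succ k)).op hx
    exact ⟨⟨w, hw⟩, Subtype.ext hwx⟩
  obtain ⟨x, hx, hxn⟩ := exists_compat_seq uu huu n ⟨y, hyE⟩
  let s : ∀ j : ℕᵒᵖ, T.obj j := fun j => (x j.unop).1
  have hx' : ∀ m, T.map (homOfLE (Nat.le_succ m)).op (s (op (m + 1))) = s (op m) := by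
    intro m
    have := congrArg Subtype.val (hx m)
    exact this
  have hs1 : ∀ (b a : ℕ) (h : b ≤ a), T.map (homOfLE h).op (s (op a)) = s (op b) := by
    intro b a h
    induction a, h using Nat.le_induction with
    | base => exact map_refl T _
    | succ a hab ih =>
      rw [← map_trans T hab (Nat.le_succ a), hx', ih]
  have hs : s ∈ T.sections := by
    intro j j' f
    obtain ⟨a⟩ := j
    obtain ⟨b⟩ := j'
    have h : b ≤ a := leOfHom f.unop
    rw [hom_eq f h]
    exact hs1 b a h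
  exact ⟨s, hs, congrArg Subtype.val hxn⟩

theorem exists_section_of_ml (T : ℕᵒᵖ ⥤ Type u) (hT : T.IsMittagLeffler)
    (hne : ∀ j, Nonempty (T.obj j)) : ∃ s : ∀ j : ℕᵒᵖ, T.obj j, s ∈ T.sections := by
  obtain ⟨i, f, hf⟩ := T.isMittagLeffler_iff_eventualRange.1 hT (op 0)
  obtain ⟨x⟩ := hne i
  have hy : T.map f x ∈ T.eventualRange (op 0) := by
    rw [hf]
    exact ⟨x, rfl⟩
  obtain ⟨s, hs, -⟩ := exists_section_through T hT 0 _ hy
  exact ⟨s, hs⟩

end Groth.Agent.H3Ml
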