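import Mathlib
import Groth.Agent.Lib.helper3.MlD

set_option autoImplicit false
universe u

open CategoryTheory CategoryTheory.Limits Opposite

namespace Groth.Agent.H3Ml

section
variable {B C : ℕᵒᵖ ⥤ AddCommGrpCat.{u}} (b : B ⟶ C) (z : (limit C : AddCommGrpCat.{u}))

theorem nat_apply {j j' : ℕᵒᵖ} (f : j ⟶ j') (y : B.obj j) :
    (b.app j').hom ((B.map f).hom y) = (C.map f).hom ((b.app j).hom y) := by
  have := b.naturality f
  exact congrArg (fun g => g.hom y) this

theorem lim_w_apply {j j' : ℕᵒᵖ} (f : j ⟶ j') :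
    (C.map f).hom ((limit.π C j).hom z) = (limit.π C j').hom z := by
  have := limit.w C f
  exact congrArg (fun g => g.hom z) this

/-- the fibre functor -/
def fib : ℕᵒᵖ ⥤ Type u where
  obj j := {y : B.obj j // (b.app j).hom y = (limit.π C j).hom z}
  map {j j'} f := ↾(fun y => ⟨(B.map f).hom y.1, by
    rw [nat_apply, y.2, lim_w_apply]⟩)
  map_id j := by
    refine ConcreteCategory.hom_ext _ _ fun y => ?_
    apply Subtype.ext
    simp
  map_comp f g := by
    refine ConcreteCategory.hom_ext _ _ fun y => ?_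
    apply Subtype.ext
    simp

@[simp] theorem fib_map_val {j j' : ℕᵒᵖ} (f : j ⟶ j') (y : (fib b z).obj j) :
    ((fib b z).map f y).1 = (B.map f).hom y.1 := rfl

end

end Groth.Agent.H3Ml

namespace Groth.Agent.H3Ml

section
variable {A B C : ℕᵒᵖ ⥤ AddCommGrpCat.{u}} (a : A ⟶ B) (b : B ⟶ C)

theorem fib_ml (hB : ∀ i, (b.app i).hom.ker = (a.app i).hom.range)
    (hA : (A ⋙ forget AddCommGrpCat).IsMittagLeffler) (z : (limit C : AddCommGrpCat.{u}))
    (hne : ∀ j, Nonempty ((fib b z).obj j)) : (fib b z).IsMittagLeffler := by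
  rw [Functor.isMittagLeffler_iff_subset_range_comp]
  intro j
  obtain ⟨n⟩ := j
  obtain ⟨k₀, h₀, hk₀⟩ := (ml_iff_stab A).1 hA n
  refine ⟨op k₀, (homOfLE h₀).op, ?_⟩
  intro k g
  obtain ⟨m⟩ := k
  have hm : k₀ ≤ m := leOfHom g.unop
  have hg := hom_eq g hm
  subst hg
  rintro _ ⟨y, rfl⟩
  obtain ⟨w⟩ := hne (op m)
  have hd : (B.map (homOfLE hm).op).hom w.1 - y.1 ∈ (b.app (op k₀)).hom.ker := by
    rw [AddMonoidHom.mem_ker, map_sub, nat_apply, w.2, lim_w_apply, y.2, sub_self]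
  rw [hB] at hd
  obtain ⟨α, hα⟩ := hd
  obtain ⟨β, hβ⟩ := hk₀ m hm ⟨α, rfl⟩
  have hab : ∀ i (t : A.obj i), (b.app i).hom ((a.app i).hom t) = 0 := fun i t => by
    have : (a.app i).hom t ∈ (b.app i).hom.ker := by rw [hB]; exact ⟨t, rfl⟩
    exact this
  let w' : (fib b z).obj (op m) :=
    ⟨w.1 - (a.app (op m)).hom β, by rw [map_sub, hab, sub_zero, w.2]⟩
  refine ⟨w', ?_⟩
  apply Subtype.ext
  rw [fib_map_val, fib_map_val]
  have e1 : ((homOfLE hm).op ≫ (homOfLE h₀).op : (op m : ℕᵒᵖ) ⟶ op n) =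
      (homOfLE (h₀.trans hm)).op := Subsingleton.elim _ _
  rw [e1]
  change (B.map (homOfLE (h₀.trans hm)).op).hom (w.1 - (a.app (op m)).hom β) = _
  rw [map_sub, ← nat_apply a, hβ, nat_apply a, hα, map_sub, r_trans B h₀ hm]
  abel

end

end Groth.Agent.H3Ml

namespace Groth.Agent.H3Ml

theorem limMap_pi_apply {X Y : ℕᵒᵖ ⥤ AddCommGrpCat.{u}} (t : X ⟶ Y) (j : ℕᵒᵖ)
    (x : (limit X : AddCommGrpCat.{u})) :
    (limit.π Y j).hom ((limMap t).hom x) = (t.app j).hom ((limit.π X j).hom x) := by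
  have := limMap_π t j
  exact congrArg (fun g => g.hom x) this

theorem main6786 {A B C D : ℕᵒᵖ ⥤ AddCommGrpCat.{u}} (a : A ⟶ B) (b : B ⟶ C) (c : C ⟶ D)
    (hB : ∀ i, (b.app i).hom.ker = (a.app i).hom.range)
    (hC : ∀ i, (c.app i).hom.ker = (b.app i).hom.range)
    (hA : (A ⋙ forget AddCommGrpCat).IsMittagLeffler) :
    (limMap c).hom.ker = (limMap b).hom.range := by
  ext z
  rw [AddMonoidHom.mem_ker, AddMonoidHom.mem_range]
  constructor
  · intro hz
    have hzn : ∀ j, (limit.π C j).hom z ∈ (b.app j).hom.range := by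
      intro j
      rw [← hC, AddMonoidHom.mem_ker, ← limMap_pi_apply, hz, map_zero]
    have hne : ∀ j, Nonempty ((fib b z).obj j) := fun j => by
      obtain ⟨y, hy⟩ := hzn j
      exact ⟨⟨y, hy⟩⟩
    obtain ⟨s, hs⟩ := exists_section_of_ml _ (fib_ml a b hB hA z hne) hne
    let T := B ⋙ forget AddCommGrpCat
    let s' : ∀ j, T.obj j := fun j => (s j).1
    have hs' : s' ∈ T.sections := by
      intro j j' f
      have := hs f
      exact congrArg Subtype.val this
    let hl := isLimitOfPreserves (forget AddCommGrpCat) (limit.isLimit B)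
    let y := (Types.isLimitEquivSections hl).symm ⟨s', hs'⟩
    have hy : ∀ j, (limit.π B j).hom y = s' j := fun j =>
      Types.isLimitEquivSections_symm_apply hl ⟨s', hs'⟩ j
    refine ⟨y, ?_⟩
    apply Concrete.limit_ext
    intro j
    change (limit.π C j).hom ((limMap b).hom y) = (limit.π C j).hom z
    rw [limMap_pi_apply, hy]
    exact (s j).2
  · rintro ⟨y, rfl⟩
    apply Concrete.limit_ext
    intro j
    change (limit.π D j).hom ((limMap c).hom ((limMap b).hom y)) = (limit.π D j).hom 0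
    rw [limMap_pi_apply, limMap_pi_apply, map_zero]
    have : (b.app j).hom ((limit.π B j).hom y) ∈ (c.app j).hom.ker := by
      rw [hC]
      exact ⟨_, rfl⟩
    exact this

end Groth.Agent.H3Ml
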