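import Mathlib

namespace Groth.Agent.H3Ng

universe u

variable {A : Type u} [CommRing A] [IsDomain A] (P : Set A) (hP : ∀ p ∈ P, Prime p)

include hP in
theorem K1 : ∀ s ∈ Submonoid.closure P, ∀ a b x : A, (∀ p ∈ P, ¬ p ∣ a) → s * b = a * x → a ∣ b := by
  intro s hs
  induction hs using Submonoid.closure_induction with
  | mem p hp =>
    intro a b x ha h
    have hpp := hP p hp
    have h1 : p ∣ a * x := ⟨b, h.symm⟩
    rcases hpp.dvd_or_dvd h1 with h2 | h2
    · exact absurd h2 (ha p hp)
    · obtain ⟨x', rfl⟩ := h2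
      refine ⟨x', ?_⟩
      have h3 : p * b = p * (a * x') := by rw [h]; ring
      exact mul_left_cancel₀ hpp.ne_zero h3
  | one =>
    intro a b x _ h
    exact ⟨x, by rw [← h, one_mul]⟩
  | mul s1 s2 _ _ ih1 ih2 =>
    intro a b x ha h
    obtain ⟨x', hx'⟩ := ih1 a (s2 * b) x ha (by rw [← h]; ring)
    exact ih2 a b x' ha hx'

include hP in
theorem K2 : ∀ s ∈ Submonoid.closure P, ∀ a x y : A, s * a = x * y →
    ∃ s1 ∈ Submonoid.closure P, ∃ s2 ∈ Submonoid.closure P, ∃ x' y' : A,
      x = s1 * x' ∧ y = s2 * y' ∧ a = x' * y' := by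
  intro s hs
  induction hs using Submonoid.closure_induction with
  | mem p hp =>
    intro a x y h
    have hpp := hP p hp
    have h1 : p ∣ x * y := ⟨a, h.symm⟩
    rcases hpp.dvd_or_dvd h1 with h2 | h2
    · obtain ⟨x', rfl⟩ := h2
      refine ⟨p, Submonoid.subset_closure hp, 1, Submonoid.one_mem _, x', y, rfl, (one_mul y).symm, ?_⟩
      have h3 : p * a = p * (x' * y) := by rw [h]; ring
      exact mul_left_cancel₀ hpp.ne_zero h3
    · obtain ⟨y', rfl⟩ := h2
      refine ⟨1, Submonoid.one_mem _, p, Submonoid.subset_closure hp, x, y', (one_mul x).symm, rfl, ?_⟩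
      have h3 : p * a = p * (x * y') := by rw [h]; ring
      exact mul_left_cancel₀ hpp.ne_zero h3
  | one =>
    intro a x y h
    exact ⟨1, Submonoid.one_mem _, 1, Submonoid.one_mem _, x, y, (one_mul x).symm, (one_mul y).symm,
      by rw [← h, one_mul]⟩
  | mul s1 s2 _ _ ih1 ih2 =>
    intro a x y h
    obtain ⟨t1, ht1, t2, ht2, x', y', rfl, rfl, h3⟩ := ih1 (s2 * a) x y (by rw [← h]; ring)
    obtain ⟨u1, hu1, u2, hu2, x'', y'', rfl, rfl, h4⟩ := ih2 a x' y' h3
    exact ⟨t1 * u1, Submonoid.mul_mem _ ht1 hu1, t2 * u2, Submonoid.mul_mem _ ht2 hu2, x'', y'',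
      by ring, by ring, h4⟩

include hP in
theorem closure_le : Submonoid.closure P ≤ nonZeroDivisors A := by
  rw [Submonoid.closure_le]
  intro p hp
  exact mem_nonZeroDivisors_of_ne_zero (hP p hp).ne_zero

include hP in
theorem prime_of_irreducible [IsDomain (Localization (Submonoid.closure P))]
    (hS : UniqueFactorizationMonoid (Localization (Submonoid.closure P)))
    (a : A) (ha : Irreducible a) : Prime a := by
  by_cases hdiv : ∃ p ∈ P, p ∣ a
  · obtain ⟨p, hp, c, rfl⟩ := hdiv
    have hpp := hP p hp
    rcases ha.isUnit_or_isUnit rfl with h | h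
    · exact absurd h hpp.not_isUnit
    · exact (associated_mul_unit_right p c h).prime hpp
  · have hnd : ∀ p ∈ P, ¬ p ∣ a := fun p hp h => hdiv ⟨p, hp, h⟩
    set L := Localization (Submonoid.closure P) with hL
    have hinj : Function.Injective (algebraMap A L) :=
      IsLocalization.injective L (closure_le P hP)
    have hunitS : ∀ s ∈ Submonoid.closure P, IsUnit (algebraMap A L s) := fun s hs =>
      IsLocalization.map_units L (⟨s, hs⟩ : Submonoid.closure P)
    -- irreducible in L
    have hirr : Irreducible (algebraMap A L a) := by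
      constructor
      · intro hu
        obtain ⟨z, hz⟩ := hu.exists_right_inv
        obtain ⟨⟨b, s⟩, hbs⟩ := IsLocalization.surj (Submonoid.closure P) z
        have h1 : algebraMap A L (a * b) = algebraMap A L s := by
          rw [map_mul, ← hbs, ← mul_assoc, hz, one_mul]
        have h2 : a * b = s := hinj h1
        have h3 : a ∣ 1 := K1 P hP s s.2 a 1 b hnd (by rw [mul_one, h2])
        exact ha.not_isUnit (isUnit_of_dvd_one h3)
      · intro u v huv
        obtain ⟨⟨x, s⟩, hxs⟩ := IsLocalization.surj (Submonoid.closure P) u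
        obtain ⟨⟨y, t⟩, hyt⟩ := IsLocalization.surj (Submonoid.closure P) v
        have h1 : algebraMap A L ((s * t : A) * a) = algebraMap A L (x * y) := by
          rw [map_mul, map_mul, map_mul, huv, ← hxs, ← hyt]; ring
        have h2 : (s * t : A) * a = x * y := hinj h1
        obtain ⟨s1, hs1, s2, hs2, x', y', hx, hy, hxy⟩ :=
          K2 P hP (s * t) (Submonoid.mul_mem _ s.2 t.2) a x y h2
        rcases ha.isUnit_or_isUnit hxy with h | h
        · left
          have h4 : IsUnit (u * algebraMap A L s) := by
            rw [hxs]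
            change IsUnit (algebraMap A L x)
            rw [hx, map_mul]
            exact (hunitS s1 hs1).mul (h.map _)
          exact isUnit_of_mul_isUnit_left h4
        · right
          have h4 : IsUnit (v * algebraMap A L t) := by
            rw [hyt]
            change IsUnit (algebraMap A L y)
            rw [hy, map_mul]
            exact (hunitS s2 hs2).mul (h.map _)
          exact isUnit_of_mul_isUnit_left h4
    have hprime : Prime (algebraMap A L a) := UniqueFactorizationMonoid.irreducible_iff_prime.mp hirr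
    refine ⟨ha.ne_zero, ha.not_isUnit, ?_⟩
    intro b c hbc
    have h1 : algebraMap A L a ∣ algebraMap A L b * algebraMap A L c := by
      rw [← map_mul]; exact map_dvd _ hbc
    have key : ∀ b : A, algebraMap A L a ∣ algebraMap A L b → a ∣ b := by
      intro b hb
      obtain ⟨z, hz⟩ := hb
      obtain ⟨⟨x, s⟩, hxs⟩ := IsLocalization.surj (Submonoid.closure P) z
      have h2 : algebraMap A L ((s : A) * b) = algebraMap A L (a * x) := by
        rw [map_mul, map_mul, hz, ← hxs]; ring
      exact K1 P hP s s.2 a b x hnd (hinj h2)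
    rcases hprime.dvd_or_dvd h1 with h | h
    · exact Or.inl (key b h)
    · exact Or.inr (key c h)

include hP in
theorem main2119
    (hfac : ∀ a : A, a ≠ 0 → ¬ IsUnit a →
      ∃ f : Multiset A, (∀ b ∈ f, Irreducible b) ∧ Associated f.prod a)
    [IsDomain (Localization (Submonoid.closure P))]
    (hS : UniqueFactorizationMonoid (Localization (Submonoid.closure P))) :
    UniqueFactorizationMonoid A := by
  apply UniqueFactorizationMonoid.of_exists_prime_factors
  intro a ha
  by_cases hu : IsUnit a
  · exact ⟨0, by simp, by rw [Multiset.prod_zero]; exact (associated_one_iff_isUnit.mpr hu).symm⟩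
  · obtain ⟨f, hf, hfa⟩ := hfac a ha hu
    exact ⟨f, fun b hb => prime_of_irreducible P hP hS b (hf b hb), hfa⟩

end Groth.Agent.H3Ng
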