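import Mathlib
import Groth.Agent.Lib.helper3.NilA

set_option autoImplicit false
universe u

namespace Groth.Agent.H3Nil

open TensorProduct

theorem main563 {A : Type u} [CommRing A] (J : Ideal A) (hJ : IsNilpotent J)
    {ι : Type u} (B : ι → Type u) [∀ i, CommRing (B i)] [∀ i, Algebra A (B i)]
    (hB : ∀ a : A, (∀ i, algebraMap A (B i) a = 0) → a = 0)
    (M : Type u) [AddCommGroup M] [Module A M]
    (hfree : ∀ i, Module.Flat (B i) (B i ⊗[A] M)) (hfreeJ : Module.Free (A ⧸ J) ((A ⧸ J) ⊗[A] M)) :
    Module.Free A M := by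
  obtain ⟨n, hn⟩ := hJ
  rw [Ideal.zero_eq_bot] at hn
  let b := Module.Free.chooseBasis (A ⧸ J) ((A ⧸ J) ⊗[A] M)
  have hs := phi_surjective J b n hn
  have hi : Function.Injective (phi J b) := by
    rw [injective_iff_map_eq_zero]
    intro f hf
    ext j
    apply hB
    intro i
    haveI := hfree i
    have hinj := phiB_injective_of_flat J b (B := B i) (g := TensorProduct.mk A (B i) M 1)
      (TensorProduct.isBaseChange A M (B i)) n hn
    have h0 : iota (B i) f = 0 := hinj (by rw [phiB_iota, hf, map_zero, map_zero])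
    have := DFunLike.congr_fun h0 j
    simpa [iota] using this
  exact Module.Free.of_equiv (LinearEquiv.ofBijective _ ⟨hi, hs⟩)

end Groth.Agent.H3Nil
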