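import Mathlib
import Groth.Agent.Lib.helper3.NilA

set_option autoImplicit false
universe u

namespace Groth.Agent.H3Nil

open TensorProduct

variable {A : Type u} [CommRing A] (J : Ideal A) {M : Type u} [AddCommGroup M] [Module A M]
  {I : Type u} (b : Module.Basis I (A ⧸ J) ((A ⧸ J) ⊗[A] M))

/-- the ideal of coordinates of relations -/
noncomputable def relIdeal : Ideal A :=
  Ideal.span {a : A | ∃ f ∈ LinearMap.ker (phi J b), ∃ j : I, f j = a}

variable {B : Type u} [CommRing B] [Algebra A B]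

lemma map_relIdeal_eq_bot_of_flat (n : ℕ) (hJ : J ^ n = ⊥) [Module.Flat B (B ⊗[A] M)] :
    (relIdeal J b).map (algebraMap A B) = ⊥ := by
  have hinj := phiB_injective_of_flat J b (B := B) (g := TensorProduct.mk A B M 1)
    (TensorProduct.isBaseChange A M B) n hJ
  rw [relIdeal, Ideal.map_span, Ideal.span_eq_bot]
  rintro _ ⟨a, ⟨f, hf, j, rfl⟩, rfl⟩
  have h0 : iota B f = 0 := hinj (by rw [phiB_iota, LinearMap.mem_ker.mp hf, map_zero, map_zero])
  have := DFunLike.congr_fun h0 j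
  simpa [iota] using this

lemma free_of_map_relIdeal_eq_bot (n : ℕ) (hJ : J ^ n = ⊥)
    (h : (relIdeal J b).map (algebraMap A B) = ⊥) : Module.Free B (B ⊗[A] M) := by
  have hs := phi_surjective J b n hJ
  have hg := TensorProduct.isBaseChange A M B
  have hle : LinearMap.ker (phi J b) ≤ LinearMap.ker (iota (I := I) B) := by
    intro f hf
    rw [LinearMap.mem_ker]
    ext j
    have hmem : algebraMap A B (f j) ∈ (relIdeal J b).map (algebraMap A B) :=
      Ideal.mem_map_of_mem _ (Ideal.subset_span ⟨f, hf, j, rfl⟩)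
    rw [h, Ideal.mem_bot] at hmem
    simpa [iota] using hmem
  let e := (phi J b).quotKerEquivOfSurjective hs
  let ψ : M →ₗ[A] (I →₀ B) := (Submodule.liftQ (LinearMap.ker (phi J b)) (iota B) hle) ∘ₗ
    e.symm.toLinearMap
  have hψ : ∀ f, ψ (phi J b f) = iota B f := by
    intro f
    have : e.symm (phi J b f) = Submodule.Quotient.mk f := by
      rw [LinearEquiv.symm_apply_eq]
      exact (LinearMap.quotKerEquivOfSurjective_apply_mk _ hs f).symm
    simp only [ψ, LinearMap.comp_apply, LinearEquiv.coe_coe, this, Submodule.liftQ_apply]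
  let ψ' : B ⊗[A] M →ₗ[B] (I →₀ B) := hg.lift ψ
  have hleft : ψ' ∘ₗ (phiB J b B (TensorProduct.mk A B M 1)) = LinearMap.id := by
    apply Finsupp.lhom_ext'
    intro i
    apply LinearMap.ext_ring
    have h1 : phiB J b B (TensorProduct.mk A B M 1) (Finsupp.single i 1)
        = (TensorProduct.mk A B M 1) (phi J b (Finsupp.single i 1)) := by
      simp [phiB, phi]
    simp only [LinearMap.comp_apply, Finsupp.lsingle_apply, LinearMap.id_apply, h1, ψ']
    rw [hg.lift_eq, hψ]
    simp [iota]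
  have hinj : Function.Injective (phiB J b B (TensorProduct.mk A B M 1)) := by
    intro x y hxy
    have := congrArg ψ' hxy
    rw [← LinearMap.comp_apply, ← LinearMap.comp_apply, hleft] at this
    exact this
  exact Module.Free.of_equiv (LinearEquiv.ofBijective _ ⟨hinj, phiB_surjective J b hg n hJ⟩)

theorem main853 (M : Type u) [AddCommGroup M] [Module A M]
    (J : Ideal A) (hJ : IsNilpotent J) (hfree : Module.Free (A ⧸ J) ((A ⧸ J) ⊗[A] M)) :
    ∃ R₀ : Ideal A,
      IsLeast {R : Ideal A | Module.Free (A ⧸ R) ((A ⧸ R) ⊗[A] M)} R₀ ∧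
      IsLeast {R : Ideal A | Module.Flat (A ⧸ R) ((A ⧸ R) ⊗[A] M)} R₀ ∧
      ∀ (A' : Type u) [CommRing A'] [Algebra A A'],
        (Module.Free A' (A' ⊗[A] M) ↔ Ideal.map (algebraMap A A') R₀ = ⊥) ∧
        (Module.Flat A' (A' ⊗[A] M) ↔ Ideal.map (algebraMap A A') R₀ = ⊥) := by
  obtain ⟨n, hn⟩ := hJ
  rw [Ideal.zero_eq_bot] at hn
  let b := Module.Free.chooseBasis (A ⧸ J) ((A ⧸ J) ⊗[A] M)
  have key : ∀ (A' : Type u) [CommRing A'] [Algebra A A'],
        (Module.Free A' (A' ⊗[A] M) ↔ Ideal.map (algebraMap A A') (relIdeal J b) = ⊥) ∧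
        (Module.Flat A' (A' ⊗[A] M) ↔ Ideal.map (algebraMap A A') (relIdeal J b) = ⊥) := by
    intro A' _ _
    refine ⟨⟨fun h => ?_, fun h => free_of_map_relIdeal_eq_bot J b n hn h⟩,
      ⟨fun h => map_relIdeal_eq_bot_of_flat J b n hn, fun h => ?_⟩⟩
    · haveI := h
      exact map_relIdeal_eq_bot_of_flat J b n hn
    · haveI := free_of_map_relIdeal_eq_bot J b n hn h
      infer_instance
  have hq : ∀ R : Ideal A, Ideal.map (algebraMap A (A ⧸ R)) (relIdeal J b) = ⊥ ↔ relIdeal J b ≤ R := by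
    intro R
    rw [Ideal.map_eq_bot_iff_le_ker]
    have : RingHom.ker (algebraMap A (A ⧸ R)) = R := Ideal.mk_ker
    rw [this]
  refine ⟨relIdeal J b, ⟨?_, ?_⟩, ⟨?_, ?_⟩, key⟩
  · show Module.Free (A ⧸ relIdeal J b) ((A ⧸ relIdeal J b) ⊗[A] M)
    rw [(key (A ⧸ relIdeal J b)).1, hq]
  · intro R hR
    have : Module.Free (A ⧸ R) ((A ⧸ R) ⊗[A] M) := hR
    rw [(key (A ⧸ R)).1, hq] at this
    exact this
  · show Module.Flat (A ⧸ relIdeal J b) ((A ⧸ relIdeal J b) ⊗[A] M)
    rw [(key (A ⧸ relIdeal J b)).2, hq]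
  · intro R hR
    have : Module.Flat (A ⧸ R) ((A ⧸ R) ⊗[A] M) := hR
    rw [(key (A ⧸ R)).2, hq] at this
    exact this

end Groth.Agent.H3Nil
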