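import Mathlib
import Groth.Agent.Lib.helper3.NilB

set_option autoImplicit false
universe u

namespace Groth.Agent.H3Nil

open TensorProduct IsLocalRing

lemma exists_local_idem {A : Type u} [CommRing A] [Finite (MaximalSpectrum A)] (n : ℕ)
    (hn : (Ring.jacobson A) ^ n = ⊥) (P : Ideal A) [hP : P.IsMaximal] :
    ∃ e : A, e ∉ P ∧ ∀ u ∈ P ^ n, e * u = 0 := by
  classical
  haveI := Fintype.ofFinite (MaximalSpectrum A)
  have hn0 : n ≠ 0 := by
    rintro rfl
    rw [pow_zero, Ideal.one_eq_top] at hn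
    have : (1 : A) ∈ (⊥ : Ideal A) := hn ▸ Submodule.mem_top
    rw [Ideal.mem_bot] at this
    apply hP.ne_top
    rw [Ideal.eq_top_iff_one, this]
    exact P.zero_mem
  let P' : MaximalSpectrum A := ⟨P, hP⟩
  obtain ⟨𝔟, h𝔟⟩ : ∃ 𝔟 : Ideal A, 𝔟 = ∏ m ∈ Finset.univ.erase P', m.asIdeal ^ n := ⟨_, rfl⟩
  have h1 : P ^ n ⊔ 𝔟 = ⊤ := by
    rw [h𝔟]
    apply Ideal.sup_prod_eq_top
    intro m hm
    apply Ideal.pow_sup_pow_eq_top
    apply Ideal.IsMaximal.coprime_of_ne hP m.isMaximal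
    intro h
    apply Finset.ne_of_mem_erase hm
    ext1
    exact h.symm
  have h2 : (1 : A) ∈ P ^ n ⊔ 𝔟 := h1 ▸ Submodule.mem_top
  obtain ⟨u₀, hu₀, e, he, hsum⟩ := Submodule.mem_sup.mp h2
  refine ⟨e, ?_, ?_⟩
  · intro heP
    apply hP.ne_top
    rw [Ideal.eq_top_iff_one, ← hsum]
    exact P.add_mem (Ideal.pow_le_self hn0 hu₀) heP
  · intro u hu
    have h3 : e * u ∈ 𝔟 * P ^ n := Ideal.mul_mem_mul he hu
    have h4 : 𝔟 * P ^ n = (∏ m : MaximalSpectrum A, m.asIdeal) ^ n := by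
      rw [mul_comm, h𝔟, ← Finset.prod_pow]
      have := Finset.mul_prod_erase Finset.univ (fun m : MaximalSpectrum A => m.asIdeal ^ n)
        (Finset.mem_univ P')
      exact this
    have h5 : (∏ m : MaximalSpectrum A, m.asIdeal) ≤ Ring.jacobson A := by
      rw [← Ideal.jacobson_bot, Ideal.jacobson]
      apply le_sInf
      rintro M ⟨-, hM⟩
      exact Ideal.prod_le_inf.trans (Finset.inf_le (b := (⟨M, hM⟩ : MaximalSpectrum A))
        (Finset.mem_univ _))
    rw [h4] at h3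
    have h6 := Ideal.pow_right_mono h5 n h3
    rw [hn, Ideal.mem_bot] at h6
    exact h6

end Groth.Agent.H3Nil
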