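import Mathlib
import Groth.Agent.Lib.helper3.NilD

set_option autoImplicit false
universe u

namespace Groth.Agent.H3Nil

open TensorProduct IsLocalRing

theorem main852 {A : Type u} [CommRing A]
    [Finite (MaximalSpectrum A)] (hnil : IsNilpotent (Ring.jacobson A))
    {ι : Type u} (B : ι → Type u) [∀ i, CommRing (B i)] [∀ i, Algebra A (B i)]
    (hB : ∀ a : A, (∀ i, algebraMap A (B i) a = 0) → a = 0)
    (M : Type u) [AddCommGroup M] [Module A M] :
    Module.Flat A M ↔ ∀ i, Module.Flat (B i) (B i ⊗[A] M) := by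
  constructor
  · intro h i
    infer_instance
  intro h
  obtain ⟨n, hn⟩ := hnil
  rw [Ideal.zero_eq_bot] at hn
  apply Module.flat_of_isLocalized_maximal A M (fun P _ => Localization.AtPrime P ⊗[A] M)
    (fun P _ => TensorProduct.mk A (Localization.AtPrime P) M 1)
  intro P hP
  obtain ⟨e, heP, he⟩ := exists_local_idem n hn P
  let Ap := Localization.AtPrime P
  -- nilpotency of the maximal ideal
  have hmax : IsNilpotent (maximalIdeal Ap) := by
    refine ⟨n, ?_⟩
    rw [Ideal.zero_eq_bot, ← Localization.AtPrime.map_eq_maximalIdeal (I := P), ← Ideal.map_pow,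
      Ideal.map_eq_bot_iff_le_ker]
    intro u hu
    rw [RingHom.mem_ker, IsLocalization.map_eq_zero_iff P.primeCompl]
    exact ⟨⟨e, heP⟩, he u hu⟩
  -- joint injectivity
  have hB' : ∀ x : Ap, (∀ i, algebraMap Ap
      (Localization (Algebra.algebraMapSubmonoid (B i) P.primeCompl)) x = 0) → x = 0 := by
    intro x hx
    obtain ⟨a, s, rfl⟩ := IsLocalization.exists_mk'_eq P.primeCompl x
    rw [IsLocalization.mk'_eq_zero_iff]
    refine ⟨⟨e, heP⟩, ?_⟩
    apply hB
    intro i
    have h1 : algebraMap Ap (Localization (Algebra.algebraMapSubmonoid (B i) P.primeCompl))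
        (algebraMap A Ap a) = 0 := by
      rw [← IsLocalization.mk'_spec Ap a s, map_mul, hx i, zero_mul]
    rw [← IsScalarTower.algebraMap_apply A Ap,
      IsScalarTower.algebraMap_apply A (B i)
        (Localization (Algebra.algebraMapSubmonoid (B i) P.primeCompl)),
      IsLocalization.map_eq_zero_iff (Algebra.algebraMapSubmonoid (B i) P.primeCompl)] at h1
    obtain ⟨⟨c, hc⟩, hc0⟩ := h1
    obtain ⟨s', hs', rfl⟩ := hc
    obtain ⟨t, i₀, hi₀, hti⟩ := Ideal.IsMaximal.exists_inv_pow P hs' n
    have h2 : e * a = (e * t) * (s' * a) := by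
      have : e * a = e * (t * s' + i₀) * a := by rw [hti, mul_one]
      rw [this, mul_add, he i₀ hi₀]
      ring
    show algebraMap A (B i) (e * a) = 0
    rw [h2, map_mul, map_mul (algebraMap A (B i)) s' a]
    simp only at hc0
    rw [hc0, mul_zero]
  have hfreeJ : Module.Free (Ap ⧸ maximalIdeal Ap)
      ((Ap ⧸ maximalIdeal Ap) ⊗[Ap] (Ap ⊗[A] M)) := by
    letI := Ideal.Quotient.field (maximalIdeal Ap)
    infer_instance
  have hflat' : ∀ i, Module.Flat (Localization (Algebra.algebraMapSubmonoid (B i) P.primeCompl))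
      ((Localization (Algebra.algebraMapSubmonoid (B i) P.primeCompl)) ⊗[Ap] (Ap ⊗[A] M)) := by
    intro i
    let S' := Localization (Algebra.algebraMapSubmonoid (B i) P.primeCompl)
    let e₁ := AlgebraTensorModule.cancelBaseChange A Ap S' S' M
    let e₂ := AlgebraTensorModule.cancelBaseChange A (B i) S' S' M
    haveI := h i
    haveI : Module.Flat S' (S' ⊗[A] M) := Module.Flat.of_linearEquiv e₂.symm
    exact Module.Flat.of_linearEquiv e₁
  haveI : Module.Free Ap (Ap ⊗[A] M) := main563 (maximalIdeal Ap) hmax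
    (fun i => Localization (Algebra.algebraMapSubmonoid (B i) P.primeCompl)) hB' (Ap ⊗[A] M)
    hflat' hfreeJ
  exact Module.Flat.trans A Ap _

end Groth.Agent.H3Nil
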