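import Mathlib

set_option autoImplicit false
universe u

namespace Groth.Agent.H3Nak

open Function Polynomial

variable {R : Type u} [CommRing R]

lemma exists_pow_add_smul_eq_zero (s : R) (I : Ideal R) (Q : Type u) [AddCommGroup Q] [Module R Q]
    [Module.Finite R Q] (h : ∀ q : Q, s • q ∈ I • (⊤ : Submodule R Q)) :
    ∃ (n : ℕ) (i : R), i ∈ I ∧ ∀ q : Q, (s ^ n + i) • q = 0 := by
  have hrange : LinearMap.range (algebraMap R (Module.End R Q) s) ≤ I • (⊤ : Submodule R Q) := by
    rintro _ ⟨q, rfl⟩
    simpa using h q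
  obtain ⟨p, hmonic, -, hcoeff, hp⟩ :=
    LinearMap.exists_monic_and_natDegree_eq_and_coeff_mem_pow_and_aeval_eq_zero R
      (algebraMap R (Module.End R Q) s) I hrange
  rw [Polynomial.aeval_algebraMap_apply] at hp
  have heval : Polynomial.aeval s p = s ^ p.natDegree +
      ∑ k ∈ Finset.range p.natDegree, p.coeff k * s ^ k := by
    rw [Polynomial.coe_aeval_eq_eval, Polynomial.eval_eq_sum_range, Finset.sum_range_succ,
      hmonic.coeff_natDegree, one_mul, add_comm]
  refine ⟨p.natDegree, ∑ k ∈ Finset.range p.natDegree, p.coeff k * s ^ k, ?_, ?_⟩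
  · refine Ideal.sum_mem _ fun k hk => Ideal.mul_mem_right _ _ ?_
    have hk' : p.natDegree - k ≠ 0 := by
      have := Finset.mem_range.mp hk
      omega
    exact Ideal.pow_le_self hk' (hcoeff k)
  · intro q
    rw [← heval]
    have := LinearMap.congr_fun hp q
    simpa using this

end Groth.Agent.H3Nak
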