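import Mathlib
import Groth.Agent.Lib.helper3.NkA

set_option autoImplicit false
universe u

namespace Groth.Agent.H3Nak

open Function

variable {R : Type u} [CommRing R]

/-- step 1: elements of `M` are pushed into `N + I M` by elements of `S` -/
lemma exists_smul_mem_sup (S : Submonoid R) (I : Ideal R) (M : Type u) [AddCommGroup M]
    [Module R M] {r : ℕ} (x : Fin r → M)
    (hx : Submodule.span (Localization S) (Set.range fun j =>
      LocalizedModule.mkLinearMap S (M ⧸ (I • (⊤ : Submodule R M)))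
        (Submodule.Quotient.mk (x j))) = ⊤) (m : M) :
    ∃ s ∈ S, s • m ∈ Submodule.span R (Set.range x) ⊔ I • (⊤ : Submodule R M) := by
  set π := (I • (⊤ : Submodule R M)).mkQ with hπ
  set N := Submodule.span R (Set.range x) with hN
  have hloc : (Submodule.map π N).localized' (Localization S) S
      (LocalizedModule.mkLinearMap S (M ⧸ (I • (⊤ : Submodule R M)))) = ⊤ := by
    rw [hN, Submodule.map_span, Submodule.localized'_span, ← hx]
    congr 1
    ext y
    constructor
    · rintro ⟨_, ⟨_, ⟨j, rfl⟩, rfl⟩, rfl⟩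
      exact ⟨j, rfl⟩
    · rintro ⟨j, rfl⟩
      exact ⟨π (x j), ⟨x j, ⟨j, rfl⟩, rfl⟩, rfl⟩
  have hm : LocalizedModule.mkLinearMap S (M ⧸ (I • (⊤ : Submodule R M))) (π m) ∈
      (Submodule.map π N).localized' (Localization S) S
      (LocalizedModule.mkLinearMap S (M ⧸ (I • (⊤ : Submodule R M)))) := by
    rw [hloc]; trivial
  obtain ⟨n, hn, t, ht⟩ := hm
  rw [IsLocalizedModule.mk'_eq_iff, Submonoid.smul_def, ← map_smul] at ht
  obtain ⟨c, hc⟩ := (IsLocalizedModule.eq_iff_exists S
    (LocalizedModule.mkLinearMap S (M ⧸ (I • (⊤ : Submodule R M))))).mp ht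
  refine ⟨(c : R) * (t : R), S.mul_mem c.2 t.2, ?_⟩
  have h1 : π (((c : R) * (t : R)) • m) ∈ Submodule.map π N := by
    rw [map_smul, mul_smul]
    have : (c : R) • (t : R) • π m = (c : R) • n := hc.symm
    rw [this]
    exact Submodule.smul_mem _ _ hn
  have h2 : ((c : R) * (t : R)) • m ∈ Submodule.comap π (Submodule.map π N) := h1
  rw [hπ, Submodule.comap_map_mkQ] at h2
  rw [sup_comm]
  exact h2

theorem main6310 (S : Submonoid R) (I : Ideal R) (M : Type u) [AddCommGroup M] [Module R M]
    [Module.Finite R M] {r : ℕ} (x : Fin r → M)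
    (hx : Submodule.span (Localization S) (Set.range fun j =>
      LocalizedModule.mkLinearMap S (M ⧸ (I • (⊤ : Submodule R M)))
        (Submodule.Quotient.mk (x j))) = ⊤) :
    ∃ (s : R) (i : R), s ∈ S ∧ i ∈ I ∧ Submodule.span (Localization.Away (s + i))
      (Set.range fun j => LocalizedModule.mkLinearMap (Submonoid.powers (s + i)) M (x j)) = ⊤ := by
  classical
  set N := Submodule.span R (Set.range x) with hN
  obtain ⟨G, hG⟩ := (Module.Finite.fg_top : (⊤ : Submodule R M).FG)
  have hch : ∀ g : M, ∃ s ∈ S, s • g ∈ N ⊔ I • (⊤ : Submodule R M) :=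
    fun g => exists_smul_mem_sup S I M x hx g
  choose sf hsfS hsf using hch
  set s₀ : R := ∏ g ∈ G, sf g with hs₀
  have hs₀S : s₀ ∈ S := Submonoid.prod_mem S fun g _ => hsfS g
  have hall : ∀ m : M, s₀ • m ∈ N ⊔ I • (⊤ : Submodule R M) := by
    intro m
    have hm : m ∈ Submodule.span R (G : Set M) := by rw [hG]; trivial
    induction hm using Submodule.span_induction with
    | mem g hg =>
      obtain ⟨c, hc⟩ := Finset.dvd_prod_of_mem sf hg
      rw [hs₀, hc, mul_comm, mul_smul]
      exact Submodule.smul_mem _ _ (hsf g)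
    | zero => rw [smul_zero]; exact Submodule.zero_mem _
    | add a b _ _ ha hb => rw [smul_add]; exact Submodule.add_mem _ ha hb
    | smul a b _ hb => rw [smul_comm]; exact Submodule.smul_mem _ _ hb
  have hQ : ∀ q : M ⧸ N, s₀ • q ∈ I • (⊤ : Submodule R (M ⧸ N)) := by
    intro q
    obtain ⟨m, rfl⟩ := Submodule.Quotient.mk_surjective N q
    obtain ⟨n, hn, y, hy, hny⟩ := Submodule.mem_sup.mp (hall m)
    have h1 : s₀ • (Submodule.Quotient.mk m : M ⧸ N) = N.mkQ y := by
      rw [← Submodule.Quotient.mk_smul, ← hny, Submodule.Quotient.mk_add,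
        (Submodule.Quotient.mk_eq_zero N).mpr hn, zero_add]
      rfl
    rw [h1]
    have h2 : N.mkQ y ∈ Submodule.map N.mkQ (I • (⊤ : Submodule R M)) :=
      Submodule.mem_map_of_mem hy
    rw [Submodule.map_smul''] at h2
    exact Submodule.smul_mono (le_refl I) le_top h2
  obtain ⟨n, i, hi, hkill⟩ := exists_pow_add_smul_eq_zero s₀ I (M ⧸ N) hQ
  refine ⟨s₀ ^ n, i, S.pow_mem hs₀S n, hi, ?_⟩
  set g : R := s₀ ^ n + i with hg
  have hgN : ∀ m : M, g • m ∈ N := by
    intro m
    have := hkill (Submodule.Quotient.mk m)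
    rwa [← Submodule.Quotient.mk_smul, Submodule.Quotient.mk_eq_zero] at this
  have hspan : Submodule.span (Localization.Away g)
      (Set.range fun j => LocalizedModule.mkLinearMap (Submonoid.powers g) M (x j)) =
      N.localized' (Localization.Away g) (Submonoid.powers g)
        (LocalizedModule.mkLinearMap (Submonoid.powers g) M) := by
    rw [hN, Submodule.localized'_span]
    congr 1
    ext y
    constructor
    · rintro ⟨j, rfl⟩
      exact ⟨x j, ⟨j, rfl⟩, rfl⟩
    · rintro ⟨_, ⟨j, rfl⟩, rfl⟩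
      exact ⟨j, rfl⟩
  rw [hspan, eq_top_iff]
  intro y _
  obtain ⟨⟨m, t⟩, rfl⟩ := IsLocalizedModule.mk'_surjective (Submonoid.powers g)
    (LocalizedModule.mkLinearMap (Submonoid.powers g) M) y
  refine ⟨g • m, hgN m, ⟨g, Submonoid.mem_powers g⟩ * t, ?_⟩
  exact IsLocalizedModule.mk'_cancel_left (LocalizedModule.mkLinearMap (Submonoid.powers g) M) m
    ⟨g, Submonoid.mem_powers g⟩ t

end Groth.Agent.H3Nak
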