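import Mathlib
import Groth.Agent.Lib.helper3.NoC
import Groth.Agent.Lib.helper3.CpA

set_option autoImplicit false
universe u v w

namespace Groth.Agent.H3Noe

open Groth.Agent.H3Cpl

theorem main8800 (A : Type u) [CommRing A] [IsNoetherianRing A] (I : Ideal A) (B : Type v)
    [CommRing B] [Algebra A B] [IsAdicComplete (I.map (algebraMap A B)) B]
    (hB : Algebra.FiniteType A (B ⧸ I.map (algebraMap A B))) : IsNoetherianRing B := by
  have hfg : (I.map (algebraMap A B)).FG := Ideal.FG.map (IsNoetherian.noetherian I) _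
  haveI : IsNoetherianRing (B ⧸ I.map (algebraMap A B)) :=
    Algebra.FiniteType.isNoetherianRing A _
  exact noetherian_of_complete B _ hfg

theorem main0542 (R : Type u) [CommRing R] (I : Ideal R)
    (hI : I.FG) [IsNoetherianRing (R ⧸ I)] : IsNoetherianRing (AdicCompletion I R) := by
  haveI := AdicCompletion.isAdicComplete_self I hI
  have hfg : (I.map (algebraMap R (AdicCompletion I R))).FG := Ideal.FG.map hI _
  haveI : IsNoetherianRing (AdicCompletion I R ⧸ I.map (algebraMap R (AdicCompletion I R))) := by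
    rw [← AdicCompletion.ker_evalOneₐ_eq_map I hI]
    exact isNoetherianRing_of_ringEquiv _
      (RingHom.quotientKerEquivOfSurjective (AdicCompletion.evalOneₐ_surjective I)).symm
  exact noetherian_of_complete _ _ hfg

theorem fg_of_complete_of_le_sup_sq (A : Type u) [CommRing A] (J : Ideal A) [IsAdicComplete J A]
    {r : ℕ} (x : Fin r → A) (hx : ∀ i, x i ∈ J)
    (hle : J ≤ Ideal.span (Set.range x) ⊔ J ^ 2) : J = Ideal.span (Set.range x) := by
  classical
  haveI : IsPrecomplete J (Fin r → A) := precomplete_pi J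
  haveI : IsHausdorff J ↥J := by
    refine ⟨fun y hy => ?_⟩
    apply Subtype.ext
    apply IsHausdorff.haus' (I := J)
    intro n
    have := hy n
    rw [SModEq.sub_mem, sub_zero] at this ⊢
    exact map_mem_smul_top J J.subtype n _ this
  let f : (Fin r → A) →ₗ[A] ↥J := Fintype.linearCombination A (fun i => (⟨x i, hx i⟩ : J))
  have hf : ∀ a, ((f a : J) : A) = ∑ i, a i * x i := by
    intro a
    simp [f, Fintype.linearCombination_apply]
  have hsurj : Function.Surjective f := by
    apply surjective_of_mkQ_comp_surjective (I := J)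
    intro y'
    obtain ⟨y, rfl⟩ := Submodule.mkQ_surjective _ y'
    obtain ⟨y₀, hy₀, z, hz, hsum⟩ := Submodule.mem_sup.mp (hle y.2)
    obtain ⟨a, ha⟩ := (Ideal.mem_span_range_iff_exists_fun).mp hy₀
    refine ⟨a, ?_⟩
    rw [LinearMap.comp_apply, Submodule.mkQ_apply, Submodule.mkQ_apply, Submodule.Quotient.eq]
    have h5 : (J • (⊤ : Submodule A J)).map J.subtype = J ^ 2 := by
      rw [Submodule.map_smul'', Submodule.map_top, Submodule.range_subtype, pow_two]
      rfl
    have h6 : ((f a - y : J) : A) ∈ (J • (⊤ : Submodule A J)).map J.subtype := by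
      rw [h5, Submodule.coe_sub, hf, ha, ← hsum, sub_add_cancel_left]
      exact Ideal.neg_mem_iff _ |>.mpr hz
    obtain ⟨w, hw, hweq⟩ := h6
    have : w = f a - y := Subtype.ext hweq
    rw [← this]
    exact hw
  apply le_antisymm
  · intro y hy
    obtain ⟨a, ha⟩ := hsurj ⟨y, hy⟩
    have : ∑ i, a i * x i = y := by
      rw [← hf, ha]
    rw [← this]
    exact Ideal.sum_mem _ fun i _ => Ideal.mul_mem_left _ _ (Ideal.subset_span ⟨i, rfl⟩)
  · rw [Ideal.span_le]
    rintro _ ⟨i, rfl⟩
    exact hx i

theorem main3856 (A : Type u) [CommRing A]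
    (J : Ideal A) [IsAdicComplete J A] [IsNoetherianRing (A ⧸ J ^ 2)] : IsNoetherianRing A := by
  have hle2 : J ^ 2 ≤ J := Ideal.pow_le_self (by norm_num)
  haveI : IsNoetherianRing (A ⧸ J) :=
    isNoetherianRing_of_surjective _ _ (Ideal.Quotient.factor hle2)
      (Ideal.Quotient.factor_surjective hle2)
  have hfg' : (J.map (Ideal.Quotient.mk (J ^ 2))).FG := IsNoetherian.noetherian _
  obtain ⟨r, g, hg⟩ := Submodule.fg_iff_exists_fin_generating_family.mp hfg'
  have hgmem : ∀ i, g i ∈ J.map (Ideal.Quotient.mk (J ^ 2)) := fun i => by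
    rw [← hg]
    exact Submodule.subset_span ⟨i, rfl⟩
  have hlift : ∀ i, ∃ xi ∈ J, Ideal.Quotient.mk (J ^ 2) xi = g i := fun i =>
    (Ideal.mem_map_iff_of_surjective _ Ideal.Quotient.mk_surjective).mp (hgmem i)
  choose x hx hxg using hlift
  have hle : J ≤ Ideal.span (Set.range x) ⊔ J ^ 2 := by
    intro y hy
    have h1 : Ideal.Quotient.mk (J ^ 2) y ∈ Ideal.span (Set.range g) := by
      have h2 : Ideal.span (Set.range g) = J.map (Ideal.Quotient.mk (J ^ 2)) := hg
      rw [h2]
      exact Ideal.mem_map_of_mem _ hy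
    obtain ⟨c, hc⟩ := (Ideal.mem_span_range_iff_exists_fun).mp h1
    choose ct hct using fun i => Ideal.Quotient.mk_surjective (c i)
    have h3 : y - ∑ i, ct i * x i ∈ J ^ 2 := by
      rw [← Ideal.Quotient.eq_zero_iff_mem, map_sub, map_sum, ← hc, sub_eq_zero]
      refine Finset.sum_congr rfl fun i _ => ?_
      rw [map_mul, hct, hxg]
    have h4 : y = ∑ i, ct i * x i + (y - ∑ i, ct i * x i) := by ring
    rw [h4]
    exact Submodule.add_mem_sup
      (Ideal.sum_mem _ fun i _ => Ideal.mul_mem_left _ _ (Ideal.subset_span ⟨i, rfl⟩)) h3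
  have hJ : J = Ideal.span (Set.range x) := fg_of_complete_of_le_sup_sq A J x hx hle
  have hfg : J.FG := by
    rw [hJ]
    exact Submodule.fg_span (Set.finite_range x)
  exact noetherian_of_complete A J hfg

end Groth.Agent.H3Noe
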