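import Mathlib
import Groth.Agent.Lib.helper3.NoD

set_option autoImplicit false
universe u v w

namespace Groth.Agent.H3Noe

open Groth.Agent.H3Cpl

theorem main8822 (A : Type u) [CommRing A] [IsNoetherianRing A] (I : Ideal A) (B : Type v)
    [CommRing B] [Algebra A B] [IsAdicComplete (I.map (algebraMap A B)) B]
    (hB : Algebra.FiniteType A (B ⧸ I.map (algebraMap A B))) (J : Ideal B) :
    IsAdicComplete (I.map (algebraMap A (B ⧸ J))) (B ⧸ J) := by
  haveI : IsNoetherianRing B := main8800 A I B hB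
  set 𝔞 : Ideal B := I.map (algebraMap A B) with h𝔞
  have hjac : 𝔞 ≤ Ideal.jacobson ⊥ := IsAdicComplete.le_jacobson_bot 𝔞
  haveI : IsHausdorff 𝔞 (B ⧸ J) := IsHausdorff.of_le_jacobson 𝔞 (B ⧸ J) hjac
  haveI : IsPrecomplete 𝔞 (B ⧸ J) :=
    precomplete_of_surjective 𝔞 (Submodule.mkQ J) (Submodule.mkQ_surjective J)
  haveI : IsAdicComplete 𝔞 (B ⧸ J) := { }
  have h1 : I.map (algebraMap A (B ⧸ J)) = 𝔞.map (algebraMap B (B ⧸ J)) := by
    rw [h𝔞, Ideal.map_map, ← IsScalarTower.algebraMap_eq]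
  rw [h1]
  exact (IsAdicComplete.map_algebraMap_iff 𝔞 (B ⧸ J)).mpr inferInstance

end Groth.Agent.H3Noe
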