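import Mathlib
universe u
namespace Groth.Agent.H3Np

theorem main6967 (R : Type u) [CommRing R] (I : Ideal R)
    {K P M : Type u} [AddCommGroup K] [Module R K] [AddCommGroup P] [Module R P] [Module.Projective R P]
    [AddCommGroup M] [Module R M] (f : K →ₗ[R] P) (g : P →ₗ[R] M) (hf : Function.Injective f)
    (hg : Function.Surjective g) (hfg : LinearMap.range f = LinearMap.ker g)
    (hM : ∀ a ∈ I, ∃ (P : Type u) (_ : AddCommGroup P) (_ : Module R P) (_ : Module.Projective R P)
        (f : M →ₗ[R] P) (g : P →ₗ[R] M), g ∘ₗ f = a • LinearMap.id) :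
    ∀ a ∈ I, ∃ (P : Type u) (_ : AddCommGroup P) (_ : Module R P) (_ : Module.Projective R P)
        (f : K →ₗ[R] P) (g : P →ₗ[R] K), g ∘ₗ f = a • LinearMap.id := by
  intro a ha
  obtain ⟨Q, _, _, _, α, β, hαβ⟩ := hM a ha
  obtain ⟨β', hβ'⟩ := Module.projective_lifting_property g β hg
  let h : P →ₗ[R] P := a • LinearMap.id - β' ∘ₗ α ∘ₗ g
  have hgh : ∀ x, h x ∈ LinearMap.range f := by
    intro x
    rw [hfg, LinearMap.mem_ker]
    have h1 : g (β' (α (g x))) = a • g x := by
      have := LinearMap.congr_fun hβ' (α (g x))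
      simp only [LinearMap.comp_apply] at this
      rw [this]
      have := LinearMap.congr_fun hαβ (g x)
      simpa using this
    simp [h, h1]
  let e := LinearEquiv.ofInjective f hf
  let h' : P →ₗ[R] K := e.symm.toLinearMap ∘ₗ (h.codRestrict (LinearMap.range f) hgh)
  refine ⟨P, inferInstance, inferInstance, inferInstance, f, h', ?_⟩
  ext x
  apply hf
  have h2 : f (h' (f x)) = h (f x) := by
    simp only [h', LinearMap.comp_apply, LinearEquiv.coe_coe]
    have := e.apply_symm_apply (h.codRestrict (LinearMap.range f) hgh (f x))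
    exact congrArg Subtype.val this
  rw [LinearMap.comp_apply, h2]
  have h3 : g (f x) = 0 := by
    rw [← LinearMap.mem_ker, ← hfg]; exact ⟨x, rfl⟩
  simp [h, h3]

end Groth.Agent.H3Np
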