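import Mathlib
universe u
namespace Groth.Agent.H3Pf

theorem main14262 (p : ℕ) [Fact p.Prime] (A : Type u) [CommRing A]
    [CharP A p] [PerfectRing A p] (f : A) :
    Module.Flat A ((Ideal.span {f}).radical) := by
  have hp : p.Prime := Fact.out
  rw [Module.Flat.iff_forall_isTrivialRelation]
  intro l a x hx
  have h1 : ∀ i, ∃ m : ℕ, (x i : A) ^ m ∈ Ideal.span {f} := fun i => (x i).2
  choose m hm using h1
  obtain ⟨n, hn⟩ : ∃ n : ℕ, n = ∑ i, m i := ⟨_, rfl⟩
  have hN : ∀ i, m i ≤ p ^ n := fun i =>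
    le_trans (Finset.single_le_sum (f := m) (fun _ _ => Nat.zero_le _) (Finset.mem_univ i))
      (hn ▸ (Nat.lt_pow_self hp.one_lt).le)
  have h2 : ∀ i, ∃ g : A, g * f = (x i : A) ^ (p ^ n) := fun i =>
    Ideal.mem_span_singleton'.mp (Ideal.pow_mem_of_pow_mem _ (hm i) (hN i))
  choose g hg using h2
  obtain ⟨r, hr⟩ : ∃ r : A ≃+* A, r = (iterateFrobeniusEquiv A p n).symm := ⟨_, rfl⟩
  have hr1 : ∀ z : A, r (z ^ p ^ n) = z := fun z => by
    rw [hr, ← iterateFrobeniusEquiv_def A p n z, RingEquiv.symm_apply_apply]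
  have hr2 : ∀ z : A, (r z) ^ p ^ n = z := fun z => by
    rw [hr, ← iterateFrobeniusEquiv_def A p n, RingEquiv.apply_symm_apply]
  obtain ⟨fn, hfn⟩ : ∃ fn : A, fn = r f := ⟨_, rfl⟩
  obtain ⟨fn1, hfn1⟩ : ∃ fn1 : A, fn1 = (frobeniusEquiv A p).symm fn := ⟨_, rfl⟩
  have hpow : fn1 ^ p = fn := by rw [hfn1, frobeniusEquiv_symm_pow_p]
  have hxi : ∀ i, (x i : A) = r (g i) * fn := fun i => by
    rw [hfn, ← map_mul, hg i, hr1]
  have hmem : fn1 ∈ (Ideal.span {f}).radical := by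
    refine ⟨p * p ^ n, ?_⟩
    rw [pow_mul, hpow, hfn, hr2]
    exact Ideal.mem_span_singleton_self f
  have hp1 : p = (p - 1) + 1 := by have := hp.one_lt; omega
  have hfn' : fn = fn1 ^ (p - 1) * fn1 := by rw [← pow_succ, ← hp1, hpow]
  refine ⟨1, fun i _ => r (g i) * fn1 ^ (p - 1), fun _ => ⟨fn1, hmem⟩, fun i => ?_, fun j => ?_⟩
  · ext
    simp only [Finset.univ_unique, Fin.default_eq_zero, Finset.sum_singleton, Submodule.coe_smul,
      smul_eq_mul]
    rw [hxi i, mul_assoc, ← hfn']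
  · have hs : (∑ i, a i * r (g i)) * fn = 0 := by
      have := congrArg (Subtype.val) hx
      simp only [Submodule.coe_sum, Submodule.coe_smul, smul_eq_mul, Submodule.coe_zero] at this
      rw [Finset.sum_mul, ← this]
      refine Finset.sum_congr rfl (fun i _ => ?_)
      rw [hxi i, mul_assoc]
    obtain ⟨s, hs'⟩ : ∃ s : A, s = ∑ i, a i * r (g i) := ⟨_, rfl⟩
    rw [← hs'] at hs
    have h3 : s * fn1 = 0 := by
      apply injective_pow_p A p
      rw [mul_pow, hpow, zero_pow hp.ne_zero, hp1, pow_succ, mul_assoc, hs, mul_zero]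
    have h4 : s * fn1 ^ (p - 1) = 0 := by
      obtain ⟨k, hk⟩ : ∃ k, p - 1 = k + 1 := ⟨p - 2, by have := hp.two_le; omega⟩
      rw [hk, pow_succ, ← mul_assoc, mul_comm s, mul_assoc, h3, mul_zero]
    calc ∑ i, a i * (r (g i) * fn1 ^ (p - 1)) = s * fn1 ^ (p - 1) := by
          rw [hs', Finset.sum_mul]
          exact Finset.sum_congr rfl (fun i _ => by ring)
      _ = 0 := h4

end Groth.Agent.H3Pf
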