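import Mathlib

set_option autoImplicit false
universe u

namespace Groth.Agent.H3ProjLift

variable {R : Type u} [CommRing R] {n : ℕ}

lemma matrix_pow_mem (J : Ideal R) (N : Matrix (Fin n) (Fin n) R) (hN : ∀ i j, N i j ∈ J) :
    ∀ k : ℕ, ∀ i j, (N ^ k) i j ∈ J ^ k := by
  intro k
  induction k with
  | zero => intro i j; simp
  | succ k ih =>
    intro i j
    rw [pow_succ N k, Matrix.mul_apply, pow_succ J k]
    apply Ideal.sum_mem
    intro l _
    exact Ideal.mul_mem_mul (ih i l) (hN l j)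

lemma matrix_isNilpotent (I : Ideal R) (hI : ∀ x ∈ I, IsNilpotent x)
    (N : Matrix (Fin n) (Fin n) R) (hN : ∀ i j, N i j ∈ I) : IsNilpotent N := by
  set J₀ : Ideal R := Ideal.span (Set.range (fun p : Fin n × Fin n => N p.1 p.2)) with hJ₀
  have hfg : J₀.FG := Submodule.fg_span (Set.finite_range _)
  have hle : J₀ ≤ nilradical R := by
    rw [hJ₀, Ideal.span_le]
    rintro _ ⟨p, rfl⟩
    exact mem_nilradical.mpr (hI _ (hN p.1 p.2))
  obtain ⟨m, hm⟩ := (Ideal.FG.isNilpotent_iff_le_nilradical hfg).mpr hle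
  refine ⟨m, ?_⟩
  ext i j
  have h1 := matrix_pow_mem J₀ N (fun i j => Ideal.subset_span ⟨(i, j), rfl⟩) m i j
  rw [hm] at h1
  simpa using h1

theorem exists_idempotent_lift (I : Ideal R) (hI : ∀ x ∈ I, IsNilpotent x)
    (E' : Matrix (Fin n) (Fin n) (R ⧸ I)) (hE' : IsIdempotentElem E') :
    ∃ E : Matrix (Fin n) (Fin n) R, IsIdempotentElem E ∧ E.map (Ideal.Quotient.mk I) = E' := by
  let f : Matrix (Fin n) (Fin n) R →+* Matrix (Fin n) (Fin n) (R ⧸ I) :=
    (Ideal.Quotient.mk I).mapMatrix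
  have hker : ∀ x ∈ RingHom.ker f, IsNilpotent x := by
    intro N hN
    apply matrix_isNilpotent I hI
    intro i j
    rw [RingHom.mem_ker] at hN
    have := congrFun (congrFun hN i) j
    simp only [f, RingHom.mapMatrix_apply, Matrix.map_apply, Matrix.zero_apply] at this
    exact Ideal.Quotient.eq_zero_iff_mem.mp this
  have hrange : E' ∈ f.range := by
    refine ⟨Matrix.of fun i j => (Ideal.Quotient.mk_surjective (E' i j)).choose, ?_⟩
    ext i j
    simp only [f, RingHom.mapMatrix_apply, Matrix.map_apply, Matrix.of_apply]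
    exact (Ideal.Quotient.mk_surjective (E' i j)).choose_spec
  obtain ⟨E, hE, hfE⟩ := exists_isIdempotentElem_eq_of_ker_isNilpotent f hker E' hrange hE'
  exact ⟨E, hE, hfE⟩

end Groth.Agent.H3ProjLift
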