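import Mathlib
import Groth.Agent.Lib.helper3.PlA

set_option autoImplicit false
universe u v w x

namespace Groth.Agent.H3ProjLift

open TensorProduct

section retract

variable {K : Type u} [CommRing K] {V : Type v} {A : Type w} {B : Type x}
  [AddCommGroup V] [Module K V] [AddCommGroup A] [Module K A] [AddCommGroup B] [Module K B]

noncomputable def equivOfRetracts (ε : V →ₗ[K] V) (ιA : A →ₗ[K] V) (ρA : V →ₗ[K] A)
    (hA1 : ρA ∘ₗ ιA = LinearMap.id) (hA2 : ιA ∘ₗ ρA = ε)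
    (ιB : B →ₗ[K] V) (ρB : V →ₗ[K] B)
    (hB1 : ρB ∘ₗ ιB = LinearMap.id) (hB2 : ιB ∘ₗ ρB = ε) : A ≃ₗ[K] B :=
  LinearEquiv.ofLinearMap (ρB ∘ₗ ιA) (ρA ∘ₗ ιB)
    (by
      have : (ρB ∘ₗ ιA) ∘ₗ (ρA ∘ₗ ιB) = ρB ∘ₗ (ιA ∘ₗ ρA) ∘ₗ ιB := by
        simp only [LinearMap.comp_assoc]
      rw [this, hA2, ← hB2]
      have : ρB ∘ₗ (ιB ∘ₗ ρB) ∘ₗ ιB = (ρB ∘ₗ ιB) ∘ₗ (ρB ∘ₗ ιB) := by
        simp only [LinearMap.comp_assoc]
      rw [this, hB1, LinearMap.comp_id])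
    (by
      have : (ρA ∘ₗ ιB) ∘ₗ (ρB ∘ₗ ιA) = ρA ∘ₗ (ιB ∘ₗ ρB) ∘ₗ ιA := by
        simp only [LinearMap.comp_assoc]
      rw [this, hB2, ← hA2]
      have : ρA ∘ₗ (ιA ∘ₗ ρA) ∘ₗ ιA = (ρA ∘ₗ ιA) ∘ₗ (ρA ∘ₗ ιA) := by
        simp only [LinearMap.comp_assoc]
      rw [this, hA1, LinearMap.comp_id])

end retract

theorem main271 {R : Type u} [CommRing R] (I : Ideal R) (hI : ∀ x ∈ I, IsNilpotent x)
    (Pb : Type u) [AddCommGroup Pb] [Module (R ⧸ I) Pb] [Module.Projective (R ⧸ I) Pb]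
    [Module.Finite (R ⧸ I) Pb] :
    ∃ (P : Type u) (_ : AddCommGroup P) (_ : Module R P), Module.Projective R P ∧
      Module.Finite R P ∧ Nonempty (((R ⧸ I) ⊗[R] P) ≃ₗ[R ⧸ I] Pb) := by
  classical
  obtain ⟨n, π', hπ'⟩ := Module.Finite.exists_fin' (R ⧸ I) Pb
  obtain ⟨s', hs'⟩ := Module.projective_lifting_property π' LinearMap.id hπ'
  let ē : (Fin n → R ⧸ I) →ₗ[R ⧸ I] (Fin n → R ⧸ I) := s' ∘ₗ π'
  have hēē : ē ∘ₗ ē = ē := by
    have : (s' ∘ₗ π') ∘ₗ (s' ∘ₗ π') = s' ∘ₗ (π' ∘ₗ s') ∘ₗ π' := by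
      simp only [LinearMap.comp_assoc]
    simp only [ē]
    rw [this, hs', LinearMap.id_comp]
  let E' := LinearMap.toMatrix' ē
  have hE' : IsIdempotentElem E' := by
    show E' * E' = E'
    rw [← LinearMap.toMatrix'_comp, hēē]
  obtain ⟨E, hE, hEE'⟩ := exists_idempotent_lift I hI E' hE'
  let e : (Fin n → R) →ₗ[R] (Fin n → R) := Matrix.toLin' E
  have hee : e ∘ₗ e = e := by
    simp only [e]
    rw [← Matrix.toLin'_mul, hE.eq]
  let P := LinearMap.range e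
  let ι : P →ₗ[R] (Fin n → R) := P.subtype
  let ρ : (Fin n → R) →ₗ[R] P := e.rangeRestrict
  have hρι : ρ ∘ₗ ι = LinearMap.id := by
    ext ⟨_, y, rfl⟩ : 2
    show e (e y) = e y
    exact LinearMap.congr_fun hee y
  have hιρ : ι ∘ₗ ρ = e := rfl
  refine ⟨P, inferInstance, inferInstance, Module.Projective.of_split ι ρ hρι, inferInstance, ⟨?_⟩⟩
  let ψ := TensorProduct.piScalarRight R (R ⧸ I) (R ⧸ I) (Fin n)
  let ιA : (R ⧸ I) ⊗[R] P →ₗ[R ⧸ I] (Fin n → R ⧸ I) := ψ.toLinearMap ∘ₗ ι.baseChange (R ⧸ I)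
  let ρA : (Fin n → R ⧸ I) →ₗ[R ⧸ I] (R ⧸ I) ⊗[R] P :=
    ρ.baseChange (R ⧸ I) ∘ₗ ψ.symm.toLinearMap
  have hA1 : ρA ∘ₗ ιA = LinearMap.id := by
    apply LinearMap.ext
    intro t
    simp only [ρA, ιA, LinearMap.comp_apply, LinearEquiv.coe_coe, LinearEquiv.symm_apply_apply]
    rw [← LinearMap.comp_apply, ← LinearMap.baseChange_comp, hρι, LinearMap.baseChange_id]
  have hkey : ∀ t, ψ (e.baseChange (R ⧸ I) t) = ē (ψ t) := by
    intro t
    induction t using TensorProduct.induction_on with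
    | zero => simp
    | add a b ha hb => simp only [map_add, ha, hb]
    | tmul k x =>
      rw [LinearMap.baseChange_tmul]
      have h1 : ∀ y : Fin n → R, ψ (k ⊗ₜ[R] y) = k • ((Ideal.Quotient.mk I) ∘ y) := by
        intro y
        ext j
        simp [ψ, Algebra.smul_def, mul_comm]
      rw [h1, h1, map_smul]
      congr 1
      rw [← LinearMap.toMatrix'_mulVec ē]
      ext j
      show (Ideal.Quotient.mk I) ((Matrix.toLin' E x) j) = _
      rw [Matrix.toLin'_apply, RingHom.map_mulVec, hEE']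
  have hA2 : ιA ∘ₗ ρA = ē := by
    apply LinearMap.ext
    intro v
    simp only [ρA, ιA, LinearMap.comp_apply, LinearEquiv.coe_coe]
    rw [← LinearMap.comp_apply (ι.baseChange (R ⧸ I)), ← LinearMap.baseChange_comp, hιρ, hkey,
      LinearEquiv.apply_symm_apply]
  exact equivOfRetracts ē ιA ρA hA1 hA2 s' π' hs' rfl

end Groth.Agent.H3ProjLift
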