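import Mathlib
import Groth.Agent.Lib.helper3.PlB
import Groth.Agent.Lib.helper3.LiB

set_option autoImplicit false
universe u

namespace Groth.Agent.H3Pic

open TensorProduct CommRing Groth.Agent.H3ProjLift Groth.Agent.H3LeftInv

theorem pic_quot_bijective {A' : Type u} [CommRing A'] (I : Ideal A') (hI : IsNilpotent I) :
    Function.Bijective (Pic.mapAlgebra A' (A' ⧸ I)) := by
  have hnil : ∀ x ∈ I, IsNilpotent x := by
    intro x hx
    obtain ⟨n, hn⟩ := hI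
    refine ⟨n, ?_⟩
    have := Ideal.pow_mem_pow hx n
    rw [hn] at this
    exact this
  have hjac : I ≤ (⊥ : Ideal A').jacobson := by
    intro x hx
    rw [Ideal.jacobson_bot]
    exact nilradical_le_jacobson A' (mem_nilradical.mpr (hnil x hx))
  constructor
  · rw [injective_iff_map_eq_one]
    intro M hM
    rw [Pic.mapAlgebra_apply, Pic.mk_eq_one_iff] at hM
    obtain ⟨e⟩ := hM
    have e' : (A' ⧸ I) ⊗[A'] M ≃ₗ[A' ⧸ I] (A' ⧸ I) ⊗[A'] A' :=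
      e ≪≫ₗ (AlgebraTensorModule.rid A' (A' ⧸ I) (A' ⧸ I)).symm
    obtain ⟨e₀⟩ := main535 I hjac M A' e'
    rw [← Pic.mk_eq_self (M := M), Pic.mk_eq_one_iff]
    exact ⟨e₀⟩
  · intro x
    obtain ⟨P, _, _, hPproj, hPfin, ⟨eP⟩⟩ := main271 I hnil (x : Type u)
    obtain ⟨Q, _, _, hQproj, hQfin, ⟨eQ⟩⟩ := main271 I hnil (Module.Dual (A' ⧸ I) x)
    let e1 : (A' ⧸ I) ⊗[A'] (Q ⊗[A'] P) ≃ₗ[A' ⧸ I] (A' ⧸ I) ⊗[A'] A' :=
      (AlgebraTensorModule.distribBaseChange A' (A' ⧸ I) Q P) ≪≫ₗ (TensorProduct.congr eQ eP) ≪≫ₗ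
        (Module.Invertible.linearEquiv (A' ⧸ I) x) ≪≫ₗ
        (AlgebraTensorModule.rid A' (A' ⧸ I) (A' ⧸ I)).symm
    obtain ⟨e2⟩ := main535 I hjac (Q ⊗[A'] P) A' e1
    haveI : Module.Invertible A' P := Module.Invertible.right e2
    refine ⟨Pic.mk A' P, ?_⟩
    rw [Pic.mapAlgebra_apply, Pic.mk_eq_iff]
    exact ⟨(AlgebraTensorModule.congr (LinearEquiv.refl _ _) (Pic.mk.linearEquiv A' P)) ≪≫ₗ eP⟩

end Groth.Agent.H3Pic
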