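import Mathlib
import Groth.Agent.Lib.helper3.PicA

set_option autoImplicit false
universe u

namespace Groth.Agent.H3Pic

open CommRing

lemma mapRingHom_bijective_of_equiv {S T : Type u} [CommRing S] [CommRing T] (g : S ≃+* T) :
    Function.Bijective (Pic.mapRingHom g.toRingHom) := by
  have h1 : (Pic.mapRingHom g.symm.toRingHom).comp (Pic.mapRingHom g.toRingHom) = .id _ := by
    rw [Pic.mapRingHom_comp_mapRingHom]
    have : g.symm.toRingHom.comp g.toRingHom = RingHom.id S := by ext; simp
    rw [this, Pic.mapRingHom_id]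
  have h2 : (Pic.mapRingHom g.toRingHom).comp (Pic.mapRingHom g.symm.toRingHom) = .id _ := by
    rw [Pic.mapRingHom_comp_mapRingHom]
    have : g.toRingHom.comp g.symm.toRingHom = RingHom.id T := by ext; simp
    rw [this, Pic.mapRingHom_id]
  refine ⟨?_, ?_⟩
  · intro a b hab
    have := congrArg (Pic.mapRingHom g.symm.toRingHom) hab
    rw [← MonoidHom.comp_apply, ← MonoidHom.comp_apply, h1] at this
    exact this
  · intro y
    refine ⟨Pic.mapRingHom g.symm.toRingHom y, ?_⟩
    rw [← MonoidHom.comp_apply, h2]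
    rfl

theorem main353 {A' A : Type u} [CommRing A'] [CommRing A]
    (f : A' →+* A) (hf : Function.Surjective f) (hker : IsNilpotent (RingHom.ker f)) :
    Function.Bijective (Pic.mapRingHom f) := by
  let g : (A' ⧸ RingHom.ker f) ≃+* A := RingHom.quotientKerEquivOfSurjective hf
  have hfg : f = g.toRingHom.comp (Ideal.Quotient.mk (RingHom.ker f)) := by
    ext x
    simp [g]
  rw [hfg, ← Pic.mapRingHom_comp_mapRingHom, MonoidHom.coe_comp]
  apply Function.Bijective.comp (mapRingHom_bijective_of_equiv g)
  have : Pic.mapRingHom (Ideal.Quotient.mk (RingHom.ker f))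
      = Pic.mapAlgebra A' (A' ⧸ RingHom.ker f) :=
    Pic.mapRingHom_algebraMap (R := A') (A := A' ⧸ RingHom.ker f)
  rw [this]
  exact pic_quot_bijective _ hker

end Groth.Agent.H3Pic
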