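import Mathlib

set_option autoImplicit false
universe u v

namespace Groth.Agent.H3Vd

section
variable {R : Type u} [CommRing R] {G : Type v} [AddCommGroup G] [Module R G]

/-- projection killing the line through `(1, g₀)` -/
def q (g₀ : G) : (R × G) →ₗ[R] G :=
  LinearMap.snd R R G - (LinearMap.fst R R G).smulRight g₀

@[simp] theorem q_apply (g₀ : G) (w : R × G) : q g₀ w = w.2 - w.1 • g₀ := rfl

theorem step' (K : Submodule R (R × G)) (g₀ : G) (a : R) (hau : a • ((1 : R), g₀) ∈ K)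
    (hdiv : ∀ w ∈ K, a ∣ w.1) :
    Nonempty (((R × G) ⧸ K) ≃ₗ[R] (R ⧸ Ideal.span {a}) × (G ⧸ K.map (q g₀))) := by
  let Φ : (R × G) →ₗ[R] (R ⧸ Ideal.span {a}) × (G ⧸ K.map (q g₀)) :=
    LinearMap.prod ((Submodule.mkQ (Ideal.span {a})) ∘ₗ LinearMap.fst R R G)
      ((K.map (q g₀)).mkQ ∘ₗ q g₀)
  have hsurj : Function.Surjective Φ := by
    rintro ⟨r, g⟩
    obtain ⟨r, rfl⟩ := Submodule.mkQ_surjective _ r
    obtain ⟨g, rfl⟩ := Submodule.mkQ_surjective _ g
    refine ⟨(r, g + r • g₀), ?_⟩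
    simp [Φ]
  have hker : LinearMap.ker Φ = K := by
    ext w
    have hΦ : Φ w = ((Submodule.mkQ (Ideal.span {a})) w.1, (K.map (q g₀)).mkQ (q g₀ w)) := rfl
    rw [LinearMap.mem_ker, hΦ, Prod.mk_eq_zero, Submodule.mkQ_apply, Submodule.mkQ_apply,
      Submodule.Quotient.mk_eq_zero, Submodule.Quotient.mk_eq_zero, Ideal.mem_span_singleton]
    constructor
    · rintro ⟨⟨c, hc⟩, k, hk, hkq⟩
      obtain ⟨c', hc'⟩ := hdiv k hk
      have h1 : w - k = (c - c') • (a • ((1 : R), g₀)) := by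
        have h2 : w.2 - k.2 = (w.1 - k.1) • g₀ := by
          have := hkq
          simp only [q_apply] at this
          have e : w.2 - k.2 = (w.2 - w.1 • g₀) - (k.2 - k.1 • g₀) + (w.1 - k.1) • g₀ := by
            rw [sub_smul]; abel
          rw [e, ← this, sub_self, zero_add]
        ext
        · simp [hc, hc']; ring
        · simp only [Prod.snd_sub, h2, hc, hc', Prod.smul_snd, smul_smul]
          congr 1
          ring
      have : w = k + (w - k) := by abel
      rw [this, h1]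
      exact K.add_mem hk (K.smul_mem _ hau)
    · intro hw
      exact ⟨hdiv w hw, w, hw, rfl⟩
  exact ⟨(Submodule.quotEquivOfEq _ _ hker.symm) ≪≫ₗ Φ.quotKerEquivOfSurjective hsurj⟩

end

end Groth.Agent.H3Vd
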