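import Mathlib
import Groth.Agent.Lib.helper3.VdA

set_option autoImplicit false
universe u v

namespace Groth.Agent.H3Vd

variable {R : Type u} [CommRing R]

theorem exists_dvd_all (h : ∀ a b : R, a ∣ b ∨ b ∣ a) (E : Finset R)
    (hE : E.Nonempty) : ∃ a ∈ E, ∀ b ∈ E, a ∣ b := by
  induction hE using Finset.Nonempty.cons_induction with
  | singleton a =>
    exact ⟨a, Finset.mem_singleton_self a, fun b hb => by rw [Finset.mem_singleton.mp hb]⟩
  | cons a s ha hs ih =>
    obtain ⟨m, hm, hmall⟩ := ih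
    rcases h a m with h1 | h1
    · refine ⟨a, Finset.mem_cons_self a s, fun b hb => ?_⟩
      rcases Finset.mem_cons.mp hb with rfl | hb
      · exact dvd_rfl
      · exact h1.trans (hmall b hb)
    · refine ⟨m, Finset.mem_cons.mpr (Or.inr hm), fun b hb => ?_⟩
      rcases Finset.mem_cons.mp hb with rfl | hb
      · exact h1
      · exact hmall b hb

theorem decomp (h : ∀ a b : R, a ∣ b ∨ b ∣ a) (n : ℕ) :
    ∀ (K : Submodule R (Fin n → R)), K.FG →
    ∃ (m : ℕ) (f : Fin m → R),
      Nonempty (((Fin n → R) ⧸ K) ≃ₗ[R] ((i : Fin m) → R ⧸ Ideal.span {f i})) := by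
  induction n with
  | zero =>
    intro K _
    refine ⟨0, Fin.elim0, ⟨?_⟩⟩
    haveI : Subsingleton ((Fin 0 → R) ⧸ K) := ⟨fun a b => by
      obtain ⟨a, rfl⟩ := Submodule.mkQ_surjective _ a
      obtain ⟨b, rfl⟩ := Submodule.mkQ_surjective _ b
      rw [Subsingleton.elim a b]⟩
    exact LinearEquiv.ofSubsingleton _ _
  | succ n ih =>
    intro K hK
    classical
    obtain ⟨s, hs⟩ := id hK
    let s' : Finset (Fin (n + 1) → R) := insert 0 s
    let E : Finset R := s'.biUnion (fun v => Finset.univ.image v)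
    have hE : E.Nonempty := by
      refine ⟨0, ?_⟩
      simp only [E, Finset.mem_biUnion, Finset.mem_image, Finset.mem_univ, true_and]
      exact ⟨0, Finset.mem_insert_self 0 s, 0, rfl⟩
    obtain ⟨a, haE, hall⟩ := exists_dvd_all h E hE
    obtain ⟨v, hv, j, rfl⟩ : ∃ v ∈ s', ∃ j, v j = a := by
      simpa only [E, Finset.mem_biUnion, Finset.mem_image, Finset.mem_univ, true_and] using haE
    have hs'K : ∀ x ∈ s', x ∈ K := by
      intro x hx
      rcases Finset.mem_insert.mp hx with rfl | hx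
      · exact K.zero_mem
      · rw [← hs]
        exact Submodule.subset_span hx
    have hvK : v ∈ K := hs'K v hv
    have hdivK : ∀ w ∈ K, ∀ i, v j ∣ w i := by
      intro w hw
      rw [← hs] at hw
      induction hw using Submodule.span_induction with
      | mem x hx =>
        intro i
        apply hall
        simp only [E, Finset.mem_biUnion, Finset.mem_image, Finset.mem_univ, true_and]
        exact ⟨x, Finset.mem_insert_of_mem hx, i, rfl⟩
      | zero => intro i; exact dvd_zero _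
      | add x y _ _ hx hy => intro i; exact dvd_add (hx i) (hy i)
      | smul c x _ hx => intro i; exact Dvd.dvd.mul_left (hx i) c
    choose c hc using fun i => hdivK v hvK i
    let u : Fin (n + 1) → R := Function.update c j 1
    have hvu : v = v j • u := by
      funext i
      by_cases hi : i = j
      · subst hi; simp [u]
      · simp [u, hi, hc i]
    let e : (Fin (n + 1) → R) ≃ₗ[R] R × (Fin n → R) :=
      (LinearEquiv.funCongrLeft R R (Equiv.swap 0 j)) ≪≫ₗ
        (Fin.consLinearEquiv R (fun _ : Fin (n + 1) => R)).symm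
    have he1 : ∀ w, (e w).1 = w j := by
      intro w
      simp [e, Fin.consLinearEquiv, Fin.consEquiv, LinearEquiv.funCongrLeft]
    let K₁ : Submodule R (R × (Fin n → R)) := K.map (e : (Fin (n + 1) → R) →ₗ[R] R × (Fin n → R))
    have h1 : e u = (1, (e u).2) := Prod.ext (by rw [he1]; simp [u]) rfl
    have hau : v j • ((1 : R), (e u).2) ∈ K₁ := ⟨v, hvK, by
      rw [← h1]
      conv_lhs => rw [hvu]
      exact map_smul _ _ _⟩
    have hdiv₁ : ∀ w ∈ K₁, v j ∣ w.1 := by
      rintro _ ⟨w, hw, rfl⟩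
      change v j ∣ (e w).1
      rw [he1]
      exact hdivK w hw j
    obtain ⟨e₂⟩ := step' K₁ (e u).2 (v j) hau hdiv₁
    have hK' : (K₁.map (q (e u).2)).FG := (hK.map _).map _
    obtain ⟨m, f, ⟨e₃⟩⟩ := ih _ hK'
    refine ⟨m + 1, Fin.cons (v j) f, ⟨?_⟩⟩
    exact (Submodule.Quotient.equiv K K₁ e rfl) ≪≫ₗ e₂ ≪≫ₗ
      (LinearEquiv.prodCongr (LinearEquiv.refl R _) e₃) ≪≫ₗ
      (Fin.consLinearEquiv R (fun i : Fin (m + 1) => R ⧸ Ideal.span {(Fin.cons (v j) f : Fin (m + 1) → R) i}))

theorem main2015 (R : Type u) [CommRing R] [Nontrivial R] (h : ∀ a b : R, a ∣ b ∨ b ∣ a)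
    (M : Type u) [AddCommGroup M] [Module R M] [Module.FinitePresentation R M] :
    ∃ (n : ℕ) (f : Fin n → R), Nonempty (M ≃ₗ[R] ((i : Fin n) → R ⧸ Ideal.span {f i})) := by
  obtain ⟨n, K, e, hK⟩ := Module.FinitePresentation.exists_fin R M
  obtain ⟨m, f, ⟨e'⟩⟩ := decomp h n K hK
  exact ⟨m, f, ⟨e ≪≫ₗ e'⟩⟩

end Groth.Agent.H3Vd
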