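import Mathlib
import Groth.Agent.Lib.helper3.VdB
universe u
namespace Groth.Agent.H3Pv
open nonZeroDivisors

section
variable {J : Type u} (A : J → Type u) [∀ j, CommRing (A j)] [∀ j, IsDomain (A j)]
    [∀ j, ValuationRing (A j)]

theorem flat_ideal (I : Ideal (∀ j, A j)) : Module.Flat (∀ j, A j) I := by
  classical
  rw [Module.Flat.iff_forall_isTrivialRelation]
  intro l a x hx
  rcases Nat.eq_zero_or_pos l with hl | hl
  · subst hl
    exact ⟨0, fun i => Fin.elim0 i, Fin.elim0, fun i => Fin.elim0 i, fun j => Fin.elim0 j⟩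
  haveI : Nonempty (Fin l) := ⟨⟨0, hl⟩⟩
  have h1 : ∀ j : J, ∃ s : Fin l, ∀ i : Fin l, (x s).1 j ∣ (x i).1 j := by
    intro j
    obtain ⟨a0, ha0, hall⟩ := H3Vd.exists_dvd_all (fun a b => ValuationRing.dvd_total a b)
      (Finset.univ.image (fun i : Fin l => (x i).1 j)) (Finset.image_nonempty.mpr Finset.univ_nonempty)
    obtain ⟨s, _, rfl⟩ := Finset.mem_image.mp ha0
    exact ⟨s, fun i => hall _ (Finset.mem_image_of_mem _ (Finset.mem_univ i))⟩
  choose σ hσ using h1
  obtain ⟨d, hd⟩ : ∃ d : ∀ j, A j, d = fun j => (x (σ j)).1 j := ⟨_, rfl⟩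
  have hdI : d ∈ I := by
    have : d = ∑ i, (fun j => if σ j = i then (1 : A j) else 0) * (x i).1 := by
      funext j
      rw [hd, Finset.sum_apply, Finset.sum_eq_single (σ j)]
      · simp
      · intro i _ hi
        simp [Ne.symm hi]
      · intro h; exact absurd (Finset.mem_univ _) h
    rw [this]
    exact I.sum_mem (fun i _ => I.mul_mem_left _ (x i).2)
  have h2 : ∀ j i, ∃ c : A j, (x i).1 j = d j * c := fun j i => by
    rw [hd]; exact hσ j i
  choose c hc using h2
  let c' : Fin l → ∀ j, A j := fun i j => if d j = 0 then 0 else c j i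
  have hxc : ∀ i, (x i).1 = c' i * d := by
    intro i
    funext j
    simp only [c', Pi.mul_apply]
    by_cases hdj : d j = 0
    · rw [if_pos hdj, zero_mul, hc j i, hdj, zero_mul]
    · rw [if_neg hdj, hc j i, mul_comm]
  refine ⟨1, fun i _ => c' i, fun _ => ⟨d, hdI⟩, fun i => ?_, fun _ => ?_⟩
  · apply Subtype.ext
    simp only [Finset.univ_unique, Fin.default_eq_zero, Finset.sum_singleton, Submodule.coe_smul,
      smul_eq_mul]
    exact hxc i
  · funext j
    rw [Finset.sum_apply, Pi.zero_apply]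
    by_cases hdj : d j = 0
    · apply Finset.sum_eq_zero
      intro i _
      simp [c', hdj]
    · have h3 : (∑ i, (a i * c' i) j) * d j = 0 := by
        have h4 := congrArg (fun z : I => z.1 j) hx
        simp only [Submodule.coe_sum, Submodule.coe_smul, smul_eq_mul, Finset.sum_apply,
          Pi.mul_apply, Submodule.coe_zero, Pi.zero_apply] at h4
        rw [Finset.sum_mul, ← h4]
        refine Finset.sum_congr rfl (fun i _ => ?_)
        rw [hxc i]
        simp only [Pi.mul_apply]
        ring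
      exact (mul_eq_zero.mp h3).resolve_right hdj

variable (K : J → Type u) [∀ j, Field (K j)] [∀ j, Algebra (A j) (K j)]
    [∀ j, IsFractionRing (A j) (K j)]

theorem isLoc : IsLocalization (nonZeroDivisors (∀ j, A j)) (∀ j, K j) := by
  classical
  have hnz : ∀ s : (∀ j, A j), s ∈ (∀ j, A j)⁰ → ∀ j, s j ≠ 0 := by
    intro s hs j hj
    have h1 : (Pi.single j (1 : A j) : ∀ j, A j) * s = 0 := by
      funext k
      by_cases hk : k = j
      · subst hk; simp [hj]
      · simp [Pi.single_eq_of_ne hk]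
    have h2 := (mem_nonZeroDivisors_iff_right.mp hs) _ h1
    have := congrFun h2 j
    simp at this
  have hinj : Function.Injective (algebraMap (∀ j, A j) (∀ j, K j)) := by
    intro x y hxy
    funext j
    exact IsFractionRing.injective (A j) (K j) (congrFun hxy j)
  refine ⟨?_, ?_, ?_⟩
  · intro s
    rw [Pi.isUnit_iff]
    intro j
    have : algebraMap (A j) (K j) (s.1 j) ≠ 0 := by
      intro h
      exact hnz s.1 s.2 j ((IsFractionRing.injective (A j) (K j)) (by rw [h, map_zero]))
    exact isUnit_iff_ne_zero.mpr this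
  · intro z
    have h1 : ∀ j, ∃ (a : A j) (s : A j), s ≠ 0 ∧ z j * algebraMap (A j) (K j) s = algebraMap (A j) (K j) a := by
      intro j
      obtain ⟨⟨a, s⟩, h⟩ := IsLocalization.surj (A j)⁰ (z j)
      exact ⟨a, s.1, nonZeroDivisors.ne_zero s.2, h⟩
    choose a s hs0 hs using h1
    have hsm : s ∈ (∀ j, A j)⁰ := by
      rw [mem_nonZeroDivisors_iff_right]
      intro y hy
      funext j
      have := congrFun hy j
      simp only [Pi.mul_apply, Pi.zero_apply] at this
      exact (mul_eq_zero.mp this).resolve_right (hs0 j)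
    refine ⟨(a, ⟨s, hsm⟩), ?_⟩
    funext j
    exact hs j
  · intro x y hxy
    exact ⟨1, by rw [hinj hxy]⟩

end

theorem main1968 {J : Type u} (A : J → Type u) [∀ j, CommRing (A j)] [∀ j, IsDomain (A j)]
    [∀ j, ValuationRing (A j)] (K : J → Type u) [∀ j, Field (K j)] [∀ j, Algebra (A j) (K j)]
    [∀ j, IsFractionRing (A j) (K j)] :
    (∀ I : Ideal (∀ j, A j), Module.Flat (∀ j, A j) I) ∧
      IsLocalization (nonZeroDivisors (∀ j, A j)) (∀ j, K j) :=
  ⟨flat_ideal A, isLoc A K⟩

end Groth.Agent.H3Pv
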