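import Mathlib
import Groth.Agent.Lib.helper3.FmB

set_option autoImplicit false
universe u

namespace Groth.Agent.H3LocCrit

open TensorProduct Function

lemma zmod_sq_mul_eq_zero (p : ℕ) [Fact p.Prime] (a : ZMod (p ^ 2))
    (h : (p : ZMod (p ^ 2)) * a = 0) : ∃ c : ZMod (p ^ 2), a = (p : ZMod (p ^ 2)) * c := by
  have hp : p.Prime := Fact.out
  haveI : NeZero (p ^ 2) := ⟨pow_ne_zero 2 hp.ne_zero⟩
  have ha : ((a.val : ℕ) : ZMod (p ^ 2)) = a := ZMod.natCast_zmod_val a
  rw [← ha, ← Nat.cast_mul, ZMod.natCast_eq_zero_iff] at h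
  have h2 : p ∣ a.val := by
    obtain ⟨d, hd⟩ := h
    refine ⟨d, ?_⟩
    apply Nat.eq_of_mul_eq_mul_left hp.pos
    rw [hd]
    ring
  obtain ⟨c, hc⟩ := h2
  refine ⟨(c : ZMod (p ^ 2)), ?_⟩
  rw [← ha, hc, Nat.cast_mul]

theorem main16742 (p : ℕ) [Fact p.Prime]
    (Al : Type u) [CommRing Al] [Algebra (ZMod (p ^ 2)) Al] [Module.Flat (ZMod (p ^ 2)) Al]
    (Bl : Type u) [CommRing Bl] [Algebra Al Bl]
    (hB : Module.Flat (Al ⧸ Ideal.span {(p : Al)})
      (Bl ⧸ (Ideal.span {(p : Al)}).map (algebraMap Al Bl))) :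
    Module.Flat Al Bl ↔ ∀ b : Bl, (p : Bl) * b = 0 → b ∈ Ideal.span {(p : Bl)} := by
  have hp2 : (p : Al) * (p : Al) = 0 := by
    have h1 : ((p ^ 2 : ℕ) : ZMod (p ^ 2)) = 0 := ZMod.natCast_self _
    have h2 := congrArg (algebraMap (ZMod (p ^ 2)) Al) h1
    rw [map_natCast, map_zero, Nat.cast_pow, pow_two] at h2
    exact h2
  constructor
  · intro hfl b hb
    letI : Algebra (ZMod (p ^ 2)) Bl :=
      ((algebraMap Al Bl).comp (algebraMap (ZMod (p ^ 2)) Al)).toAlgebra
    haveI : IsScalarTower (ZMod (p ^ 2)) Al Bl := IsScalarTower.of_algebraMap_eq (fun _ => rfl)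
    haveI : Module.Flat (ZMod (p ^ 2)) Bl := Module.Flat.trans (ZMod (p ^ 2)) Al Bl
    obtain ⟨k, a, y, hxy, hay⟩ := Module.Flat.isTrivialRelation_of_sum_smul_eq_zero
      (R := ZMod (p ^ 2)) (M := Bl) (ι := Fin 1) (f := fun _ => (p : ZMod (p ^ 2)))
      (x := fun _ => b) (by
        simp only [Finset.univ_unique, Finset.sum_singleton]
        rw [Algebra.smul_def, map_natCast]
        exact hb)
    have h0 := hxy 0
    simp only at h0
    have hc : ∀ j, ∃ c : ZMod (p ^ 2), a 0 j = (p : ZMod (p ^ 2)) * c := by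
      intro j
      apply zmod_sq_mul_eq_zero
      have := hay j
      simpa only [Finset.univ_unique, Finset.sum_singleton, Fin.default_eq_zero] using this
    choose c hc using hc
    rw [h0, Ideal.mem_span_singleton']
    refine ⟨∑ j, c j • y j, ?_⟩
    rw [Finset.sum_mul]
    refine Finset.sum_congr rfl fun j _ => ?_
    rw [hc j, mul_smul, Algebra.smul_def (p : ZMod (p ^ 2)), map_natCast, mul_comm]
  · intro h
    haveI := hB
    haveI : Module.Flat (Al ⧸ Ideal.span {(p : Al)}) ((Al ⧸ Ideal.span {(p : Al)}) ⊗[Al] Bl) :=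
      flat_tensor_of_flat_quot (Ideal.span {(p : Al)})
    have hnil : IsNilpotent (Ideal.span {(p : Al)}) := by
      refine ⟨2, ?_⟩
      rw [Ideal.span_singleton_pow, pow_two, hp2]
      simp
    apply flat_of_nilpotent (Ideal.span {(p : Al)}) hnil
    have hpm : (p : Al) ∈ Ideal.span {(p : Al)} := Ideal.mem_span_singleton_self _
    have hform : ∀ t : (Ideal.span {(p : Al)}) ⊗[Al] Bl, ∃ b : Bl,
        t = (⟨(p : Al), hpm⟩ : Ideal.span {(p : Al)}) ⊗ₜ[Al] b := by
      intro t
      induction t using TensorProduct.induction_on with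
      | zero => exact ⟨0, by simp⟩
      | tmul x b =>
        obtain ⟨a, ha⟩ := Ideal.mem_span_singleton'.mp x.2
        refine ⟨a • b, ?_⟩
        rw [TensorProduct.tmul_smul, TensorProduct.smul_tmul']
        congr 1
        apply Subtype.ext
        simp only [Submodule.coe_smul, smul_eq_mul]
        exact ha.symm
      | add x y hx hy =>
        obtain ⟨b, rfl⟩ := hx
        obtain ⟨b', rfl⟩ := hy
        exact ⟨b + b', by rw [TensorProduct.tmul_add]⟩
    rw [injective_iff_map_eq_zero]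
    intro t ht
    obtain ⟨b, rfl⟩ := hform t
    rw [LinearMap.rTensor_tmul, Submodule.subtype_apply] at ht
    have h1 := congrArg (TensorProduct.lid Al Bl) ht
    rw [TensorProduct.lid_tmul, map_zero, Algebra.smul_def, map_natCast] at h1
    obtain ⟨c, hc⟩ := Ideal.mem_span_singleton'.mp (h b h1)
    have h2 : b = (p : Al) • c := by
      rw [Algebra.smul_def, map_natCast, mul_comm, hc]
    rw [h2, TensorProduct.tmul_smul, TensorProduct.smul_tmul']
    have h3 : (p : Al) • (⟨(p : Al), hpm⟩ : Ideal.span {(p : Al)}) = 0 := by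
      apply Subtype.ext
      simp only [Submodule.coe_smul, smul_eq_mul, Submodule.coe_zero]
      exact hp2
    rw [h3, TensorProduct.zero_tmul]

end Groth.Agent.H3LocCrit
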