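import Mathlib

namespace Groth.Agent.H3Qh

universe u

section basic
variable {X : Type u} [TopologicalSpace X]

def IsC (Z : Set X) : Prop :=
  ∃ T : Set (Set X), T.Finite ∧ (∀ t ∈ T, IsLocallyClosed t) ∧ Z = ⋃₀ T

def IsLC (Z : Set X) : Prop :=
  ∀ x : X, ∃ U : Set X, IsOpen U ∧ x ∈ U ∧ IsC (U ∩ Z)

theorem IsC.of_lc {Z : Set X} (h : IsLocallyClosed Z) : IsC Z :=
  ⟨{Z}, Set.finite_singleton Z, fun t ht => by rw [Set.mem_singleton_iff.mp ht]; exact h,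
    (Set.sUnion_singleton Z).symm⟩

theorem isC_empty : IsC (∅ : Set X) :=
  ⟨∅, Set.finite_empty, fun t ht => absurd ht (Set.notMem_empty t), Set.sUnion_empty.symm⟩

theorem IsC.inter_lc {Z W : Set X} (h : IsC Z) (hW : IsLocallyClosed W) : IsC (W ∩ Z) := by
  obtain ⟨T, hT, hl, rfl⟩ := h
  refine ⟨(fun t => W ∩ t) '' T, hT.image _, ?_, ?_⟩
  · rintro _ ⟨t, ht, rfl⟩
    exact hW.inter (hl t ht)
  · ext z
    simp only [Set.mem_inter_iff, Set.mem_sUnion, Set.mem_image]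
    constructor
    · rintro ⟨hzW, t, ht, hzt⟩
      exact ⟨W ∩ t, ⟨t, ht, rfl⟩, hzW, hzt⟩
    · rintro ⟨_, ⟨t, ht, rfl⟩, hzW, hzt⟩
      exact ⟨hzW, t, ht, hzt⟩

theorem IsC.preimage {Y : Type u} [TopologicalSpace Y] {f : X → Y} (hf : Continuous f)
    {Z : Set Y} (h : IsC Z) : IsC (f ⁻¹' Z) := by
  obtain ⟨T, hT, hl, rfl⟩ := h
  refine ⟨(fun t => f ⁻¹' t) '' T, hT.image _, ?_, ?_⟩
  · rintro _ ⟨t, ht, rfl⟩
    exact (hl t ht).preimage hf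
  · ext z
    simp only [Set.mem_preimage, Set.mem_sUnion, Set.mem_image]
    constructor
    · rintro ⟨t, ht, hzt⟩
      exact ⟨f ⁻¹' t, ⟨t, ht, rfl⟩, hzt⟩
    · rintro ⟨_, ⟨t, ht, rfl⟩, hzt⟩
      exact ⟨t, ht, hzt⟩

theorem IsC.isLC {Z : Set X} (h : IsC Z) : IsLC Z := fun _ =>
  ⟨Set.univ, isOpen_univ, trivial, by rw [Set.univ_inter]; exact h⟩

theorem IsLC.inter_open {Z V : Set X} (h : IsLC Z) (hV : IsOpen V) : IsLC (V ∩ Z) := by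
  intro x
  obtain ⟨U, hU, hxU, hc⟩ := h x
  refine ⟨U, hU, hxU, ?_⟩
  have h1 : U ∩ (V ∩ Z) = V ∩ (U ∩ Z) := Set.inter_left_comm U V Z
  rw [h1]
  exact hc.inter_lc hV.isLocallyClosed

theorem sep0 {T : Set (Set X)} (hT : T.Finite) : (∀ t ∈ T, IsLocallyClosed t) → ∀ y : X,
    y ∉ ⋃₀ T → ∃ W : Set X, IsLocallyClosed W ∧ y ∈ W ∧ W ∩ ⋃₀ T = ∅ := by
  induction T, hT using Set.Finite.induction_on with
  | empty =>
    intro _ y _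
    exact ⟨Set.univ, isOpen_univ.isLocallyClosed, trivial, by simp⟩
  | @insert t s hts hs ih =>
    intro hl y hy
    rw [Set.sUnion_insert] at hy ⊢
    have hy1 : y ∉ t := fun h => hy (Or.inl h)
    have hy2 : y ∉ ⋃₀ s := fun h => hy (Or.inr h)
    obtain ⟨W, hW, hyW, hWs⟩ := ih (fun t' ht' => hl t' (Set.mem_insert_of_mem _ ht')) y hy2
    obtain ⟨U, F, hU, hF, rfl⟩ := hl t (Set.mem_insert _ _)
    by_cases hyU : y ∈ U
    · have hyF : y ∉ F := fun h => hy1 ⟨hyU, h⟩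
      refine ⟨W ∩ Fᶜ, hW.inter hF.isOpen_compl.isLocallyClosed, ⟨hyW, hyF⟩, ?_⟩
      rw [Set.eq_empty_iff_forall_notMem]
      rintro z ⟨⟨hzW, hzF⟩, (⟨_, h⟩ | h)⟩
      · exact hzF h
      · have h3 : z ∈ W ∩ ⋃₀ s := ⟨hzW, h⟩
        rw [hWs] at h3
        exact h3
    · refine ⟨W ∩ Uᶜ, hW.inter hU.isClosed_compl.isLocallyClosed, ⟨hyW, hyU⟩, ?_⟩
      rw [Set.eq_empty_iff_forall_notMem]
      rintro z ⟨⟨hzW, hzU⟩, (⟨h, _⟩ | h)⟩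
      · exact hzU h
      · have h3 : z ∈ W ∩ ⋃₀ s := ⟨hzW, h⟩
        rw [hWs] at h3
        exact h3

theorem sep {Z Z' : Set X} (hZ : IsLC Z) (hZ' : IsLC Z') (y : X) (hy : y ∈ Z) (hy' : y ∉ Z') :
    ∃ W : Set X, IsLocallyClosed W ∧ y ∈ W ∧ W ⊆ Z ∧ W ∩ Z' = ∅ := by
  obtain ⟨U, hU, hyU, T, hT, hl, he⟩ := hZ y
  obtain ⟨U', hU', hyU', T', hT', hl', he'⟩ := hZ' y
  have h1 : y ∈ ⋃₀ T := by rw [← he]; exact ⟨hyU, hy⟩
  obtain ⟨t, ht, hyt⟩ := h1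
  have h2 : y ∉ ⋃₀ T' := by rw [← he']; exact fun h => hy' h.2
  obtain ⟨W0, hW0, hyW0, hW0e⟩ := sep0 hT' hl' y h2
  refine ⟨t ∩ W0 ∩ U', ((hl t ht).inter hW0).inter hU'.isLocallyClosed, ⟨⟨hyt, hyW0⟩, hyU'⟩, ?_, ?_⟩
  · rintro z ⟨⟨hzt, _⟩, _⟩
    have h3 : z ∈ U ∩ Z := by rw [he]; exact ⟨t, ht, hzt⟩
    exact h3.2
  · rw [Set.eq_empty_iff_forall_notMem]
    rintro z ⟨⟨⟨_, hzW0⟩, hzU'⟩, hzZ'⟩
    have h3 : z ∈ W0 ∩ ⋃₀ T' := ⟨hzW0, by rw [← he']; exact ⟨hzU', hzZ'⟩⟩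
    rw [hW0e] at h3
    exact h3

theorem lemR {V Z : Set X} (hV : IsOpen V) :
    (∃ T : Set (Set V), T.Finite ∧ (∀ t ∈ T, IsLocallyClosed t) ∧
      (Subtype.val ⁻¹' Z : Set V) = ⋃₀ T) ↔ IsC (V ∩ Z) := by
  constructor
  · rintro ⟨T, hT, hl, he⟩
    refine ⟨(fun t : Set V => Subtype.val '' t) '' T, hT.image _, ?_, ?_⟩
    · rintro _ ⟨t, ht, rfl⟩
      exact (hl t ht).image Topology.IsInducing.subtypeVal
        (by rw [Subtype.range_coe]; exact hV.isLocallyClosed)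
    · rw [← Subtype.image_preimage_coe, he]
      ext z
      simp only [Set.mem_image, Set.mem_sUnion]
      constructor
      · rintro ⟨w, ⟨t, ht, hwt⟩, rfl⟩
        exact ⟨Subtype.val '' t, ⟨t, ht, rfl⟩, w, hwt, rfl⟩
      · rintro ⟨_, ⟨t, ht, rfl⟩, w, hwt, rfl⟩
        exact ⟨w, ⟨t, ht, hwt⟩, rfl⟩
  · intro h
    have h1 : IsC (Subtype.val ⁻¹' (V ∩ Z) : Set V) := h.preimage continuous_subtype_val
    have h2 : (Subtype.val ⁻¹' (V ∩ Z) : Set V) = Subtype.val ⁻¹' Z := by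
      ext w
      simp only [Set.mem_preimage, Set.mem_inter_iff]
      exact ⟨fun h => h.2, fun h => ⟨w.2, h⟩⟩
    rw [h2] at h1
    exact h1

theorem isLC_iff_sub {Z : Set X} :
    (∀ y : X, ∃ V : Set X, IsOpen V ∧ y ∈ V ∧ ∃ T : Set (Set V), T.Finite ∧
      (∀ t ∈ T, IsLocallyClosed t) ∧ (Subtype.val ⁻¹' Z : Set V) = ⋃₀ T) ↔ IsLC Z := by
  constructor
  · intro h y
    obtain ⟨V, hV, hy, hT⟩ := h y
    exact ⟨V, hV, hy, (lemR hV).mp hT⟩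
  · intro h y
    obtain ⟨V, hV, hy, hc⟩ := h y
    exact ⟨V, hV, hy, (lemR hV).mpr hc⟩

end basic

section qh
variable {X Y : Type u} [TopologicalSpace X] [TopologicalSpace Y] (f : X → Y) (hf : Continuous f)
  (hq : Function.Bijective (fun U : TopologicalSpace.Opens Y =>
      (⟨f ⁻¹' (U : Set Y), U.isOpen.preimage hf⟩ : TopologicalSpace.Opens X)))

include hq in
theorem q_inj_open {U U' : Set Y} (hU : IsOpen U) (hU' : IsOpen U') (h : f ⁻¹' U = f ⁻¹' U') :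
    U = U' := by
  have h1 := hq.1 (a₁ := ⟨U, hU⟩) (a₂ := ⟨U', hU'⟩) (TopologicalSpace.Opens.ext h)
  exact congrArg (fun O : TopologicalSpace.Opens Y => (O : Set Y)) h1

include hq in
theorem q_surj_open {U' : Set X} (hU' : IsOpen U') : ∃ U : Set Y, IsOpen U ∧ f ⁻¹' U = U' := by
  obtain ⟨O, hO⟩ := hq.2 ⟨U', hU'⟩
  exact ⟨O, O.isOpen, congrArg (fun O : TopologicalSpace.Opens X => (O : Set X)) hO⟩

include hq in
theorem qA {W : Set Y} (hW : IsLocallyClosed W) (hne : W.Nonempty) : (f ⁻¹' W).Nonempty := by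
  obtain ⟨U, F, hU, hF, rfl⟩ := hW
  by_contra hemp
  rw [Set.not_nonempty_iff_eq_empty] at hemp
  have h1 : f ⁻¹' U = f ⁻¹' (U ∩ Fᶜ) := by
    ext x
    constructor
    · intro hx
      refine ⟨hx, fun hxF => ?_⟩
      have h3 : x ∈ f ⁻¹' (U ∩ F) := ⟨hx, hxF⟩
      rw [hemp] at h3
      exact h3
    · intro hx
      exact hx.1
  have h2 := q_inj_open f hf hq hU (hU.inter hF.isOpen_compl) h1
  obtain ⟨y, hyU, hyF⟩ := hne
  have h3 : y ∈ U ∩ Fᶜ := by rw [← h2]; exact hyU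
  exact h3.2 hyF

include hq in
theorem qB {W' : Set X} (hW' : IsLocallyClosed W') :
    ∃ W : Set Y, IsLocallyClosed W ∧ f ⁻¹' W = W' := by
  obtain ⟨U', F', hU', hF', rfl⟩ := hW'
  obtain ⟨U, hU, hUe⟩ := q_surj_open f hf hq hU'
  obtain ⟨V, hV, hVe⟩ := q_surj_open f hf hq hF'.isOpen_compl
  refine ⟨U ∩ Vᶜ, ⟨U, Vᶜ, hU, hV.isClosed_compl, rfl⟩, ?_⟩
  rw [Set.preimage_inter, Set.preimage_compl, hUe, hVe, compl_compl]

include hq in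
theorem qC_surj {Z' : Set X} (h : IsC Z') : ∃ Z : Set Y, IsC Z ∧ f ⁻¹' Z = Z' := by
  obtain ⟨T', hT', hl, rfl⟩ := h
  have hex : ∀ t' : Set X, t' ∈ T' → ∃ W : Set Y, IsLocallyClosed W ∧ f ⁻¹' W = t' :=
    fun t' ht' => qB f hf hq (hl t' ht')
  choose! g hg1 hg2 using hex
  refine ⟨⋃₀ (g '' T'), ⟨g '' T', hT'.image g, ?_, rfl⟩, ?_⟩
  · rintro _ ⟨t', ht', rfl⟩
    exact hg1 t' ht'
  · ext x
    simp only [Set.mem_preimage, Set.mem_sUnion, Set.mem_image]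
    constructor
    · rintro ⟨_, ⟨t', ht', rfl⟩, hx⟩
      exact ⟨t', ht', (Set.ext_iff.mp (hg2 t' ht') x).mp hx⟩
    · rintro ⟨t', ht', hx⟩
      exact ⟨g t', ⟨t', ht', rfl⟩, (Set.ext_iff.mp (hg2 t' ht') x).mpr hx⟩

include hq in
theorem qSub {Z Z' : Set Y} (hZ : IsLC Z) (hZ' : IsLC Z') (h : f ⁻¹' Z ⊆ f ⁻¹' Z') : Z ⊆ Z' := by
  intro y hy
  by_contra hy'
  obtain ⟨W, hW, hyW, hWZ, hWZ'⟩ := sep hZ hZ' y hy hy'
  obtain ⟨x, hx⟩ := qA f hf hq hW ⟨y, hyW⟩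
  have h1 : x ∈ f ⁻¹' Z' := h (hWZ hx)
  have h2 : f x ∈ W ∩ Z' := ⟨hx, h1⟩
  rw [hWZ'] at h2
  exact h2

include hq in
theorem qInj {Z Z' : Set Y} (hZ : IsLC Z) (hZ' : IsLC Z') (h : f ⁻¹' Z = f ⁻¹' Z') : Z = Z' :=
  Set.Subset.antisymm (qSub f hf hq hZ hZ' h.subset) (qSub f hf hq hZ' hZ h.symm.subset)

include hf in
theorem qLC_maps {Z : Set Y} (hZ : IsLC Z) : IsLC (f ⁻¹' Z) := by
  intro x
  obtain ⟨U, hU, hxU, hc⟩ := hZ (f x)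
  refine ⟨f ⁻¹' U, hU.preimage hf, hxU, ?_⟩
  rw [← Set.preimage_inter]
  exact hc.preimage hf

include hq in
theorem qLC_surj {Z' : Set X} (h : IsLC Z') : ∃ Z : Set Y, IsLC Z ∧ f ⁻¹' Z = Z' := by
  choose U' hU'o hU'x hU'c using h
  have hV : ∀ x, ∃ V : Set Y, IsOpen V ∧ f ⁻¹' V = U' x :=
    fun x => q_surj_open f hf hq (hU'o x)
  choose V hVo hVe using hV
  have hC : ∀ x, ∃ C : Set Y, IsC C ∧ f ⁻¹' C = U' x ∩ Z' :=
    fun x => qC_surj f hf hq (hU'c x)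
  choose C hCc hCe using hC
  have hDc : ∀ x, IsC (V x ∩ C x) := fun x => (hCc x).inter_lc (hVo x).isLocallyClosed
  have hDe : ∀ x, f ⁻¹' (V x ∩ C x) = U' x ∩ Z' := by
    intro x
    rw [Set.preimage_inter, hVe, hCe, ← Set.inter_assoc, Set.inter_self]
  have hcov : ∀ y : Y, ∃ x, y ∈ V x := by
    have h1 : (⋃ x, V x) = Set.univ := by
      apply q_inj_open f hf hq (isOpen_iUnion hVo) isOpen_univ
      rw [Set.preimage_iUnion, Set.preimage_univ]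
      apply Set.eq_univ_of_forall
      intro x
      exact Set.mem_iUnion.mpr ⟨x, by rw [hVe]; exact hU'x x⟩
    intro y
    have h2 : y ∈ ⋃ x, V x := by rw [h1]; trivial
    exact Set.mem_iUnion.mp h2
  have hsymm : ∀ x x', V x ∩ (V x' ∩ C x') = V x' ∩ (V x ∩ C x) := by
    intro x x'
    apply qInj f hf hq ((hDc x').inter_lc (hVo x).isLocallyClosed).isLC
      ((hDc x).inter_lc (hVo x').isLocallyClosed).isLC
    have e1 : f ⁻¹' (V x ∩ (V x' ∩ C x')) = U' x ∩ (U' x' ∩ Z') := by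
      rw [Set.preimage_inter, hVe, hDe]
    have e2 : f ⁻¹' (V x' ∩ (V x ∩ C x)) = U' x' ∩ (U' x ∩ Z') := by
      rw [Set.preimage_inter, hVe, hDe]
    rw [e1, e2]
    exact Set.inter_left_comm _ _ _
  refine ⟨⋃ x, (V x ∩ C x), ?_, ?_⟩
  · intro y
    obtain ⟨x, hx⟩ := hcov y
    refine ⟨V x, hVo x, hx, ?_⟩
    have h2 : V x ∩ ⋃ x', (V x' ∩ C x') = V x ∩ C x := by
      rw [Set.inter_iUnion]
      apply Set.Subset.antisymm
      · apply Set.iUnion_subset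
        intro x'
        rw [hsymm x x']
        exact Set.inter_subset_right
      · intro z hz
        exact Set.mem_iUnion.mpr ⟨x, ⟨hz.1, hz⟩⟩
    rw [h2]
    exact hDc x
  · rw [Set.preimage_iUnion]
    ext x
    simp only [Set.mem_iUnion]
    constructor
    · rintro ⟨x', hx'⟩
      rw [hDe] at hx'
      exact hx'.2
    · intro hx
      exact ⟨x, by rw [hDe]; exact ⟨hU'x x, hx⟩⟩

end qh

theorem main12127 {X Y : Type u}
    [TopologicalSpace X] [TopologicalSpace Y] (f : X → Y) (hf : Continuous f)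
    (hq : Function.Bijective (fun U : TopologicalSpace.Opens Y =>
      (⟨f ⁻¹' (U : Set Y), U.isOpen.preimage hf⟩ : TopologicalSpace.Opens X))) :
    Set.BijOn (fun Z : Set Y => f ⁻¹' Z)
        {Z : Set Y | ∃ T : Set (Set Y), T.Finite ∧ (∀ t ∈ T, IsLocallyClosed t) ∧ Z = ⋃₀ T}
        {Z : Set X | ∃ T : Set (Set X), T.Finite ∧ (∀ t ∈ T, IsLocallyClosed t) ∧ Z = ⋃₀ T} ∧
      Set.BijOn (fun Z : Set Y => f ⁻¹' Z)
        {Z : Set Y | ∀ y : Y, ∃ V : Set Y, IsOpen V ∧ y ∈ V ∧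
          ∃ T : Set (Set V), T.Finite ∧ (∀ t ∈ T, IsLocallyClosed t) ∧ (Subtype.val ⁻¹' Z : Set V) = ⋃₀ T}
        {Z : Set X | ∀ x : X, ∃ V : Set X, IsOpen V ∧ x ∈ V ∧
          ∃ T : Set (Set V), T.Finite ∧ (∀ t ∈ T, IsLocallyClosed t) ∧ (Subtype.val ⁻¹' Z : Set V) = ⋃₀ T} := by
  refine ⟨⟨?_, ?_, ?_⟩, ⟨?_, ?_, ?_⟩⟩
  · intro Z hZ
    exact IsC.preimage hf hZ
  · intro Z hZ Z' hZ' h
    exact qInj f hf hq (IsC.isLC hZ) (IsC.isLC hZ') h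
  · intro Z' hZ'
    obtain ⟨Z, hZ, he⟩ := qC_surj f hf hq hZ'
    exact ⟨Z, hZ, he⟩
  · intro Z hZ
    exact isLC_iff_sub.mpr (qLC_maps f hf (isLC_iff_sub.mp hZ))
  · intro Z hZ Z' hZ' h
    exact qInj f hf hq (isLC_iff_sub.mp hZ) (isLC_iff_sub.mp hZ') h
  · intro Z' hZ'
    obtain ⟨Z, hZ, he⟩ := qLC_surj f hf hq (isLC_iff_sub.mp hZ')
    exact ⟨Z, isLC_iff_sub.mpr hZ, he⟩

end Groth.Agent.H3Qh
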