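import Mathlib
import Groth.Agent.Lib.helper3.QhA

namespace Groth.Agent.H3Qh

universe u

theorem vd_sub {X : Type u} [TopologicalSpace X] (X₀ : Set X)
    (h1 : ∀ Z : Set X, IsLocallyClosed Z → Z.Nonempty → (Z ∩ X₀).Nonempty)
    {Z Z' : Set X} (hZ : IsLC Z) (hZ' : IsLC Z') (he : Z ∩ X₀ ⊆ Z' ∩ X₀) : Z ⊆ Z' := by
  intro y hy
  by_contra hy'
  obtain ⟨W, hW, hyW, hWZ, hWZ'⟩ := sep hZ hZ' y hy hy'
  obtain ⟨z, hzW, hz0⟩ := h1 W hW ⟨y, hyW⟩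
  have h2 : z ∈ Z' ∩ X₀ := he ⟨hWZ hzW, hz0⟩
  have h3 : z ∈ W ∩ Z' := ⟨hzW, h2.1⟩
  rw [hWZ'] at h3
  exact h3

theorem main4903 {X : Type u} [TopologicalSpace X] (X₀ : Set X) :
    [∀ Z : Set X, IsLocallyClosed Z → Z.Nonempty → (Z ∩ X₀).Nonempty,
      ∀ Z : Set X, (∀ x : X, ∃ U : Set X, IsOpen U ∧ x ∈ U ∧ ∃ T : Set (Set X), T.Finite ∧ (∀ t ∈ T, IsLocallyClosed t) ∧ U ∩ Z = ⋃₀ T) → Z.Nonempty → (Z ∩ X₀).Nonempty,
      ∀ Z : Set X, (∀ x : X, ∃ U : Set X, IsOpen U ∧ x ∈ U ∧ ∃ T : Set (Set X), T.Finite ∧ (∀ t ∈ T, IsLocallyClosed t) ∧ U ∩ Z = ⋃₀ T) → Z ⊆ closure (Z ∩ X₀),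
      ∀ Z Z' : Set X, (∃ T : Set (Set X), T.Finite ∧ (∀ t ∈ T, IsLocallyClosed t) ∧ Z = ⋃₀ T) → (∃ T : Set (Set X), T.Finite ∧ (∀ t ∈ T, IsLocallyClosed t) ∧ Z' = ⋃₀ T) → Z ∩ X₀ = Z' ∩ X₀ → Z = Z',
      ∀ Z Z' : Set X, (∀ x : X, ∃ U : Set X, IsOpen U ∧ x ∈ U ∧ ∃ T : Set (Set X), T.Finite ∧ (∀ t ∈ T, IsLocallyClosed t) ∧ U ∩ Z = ⋃₀ T) → (∀ x : X, ∃ U : Set X, IsOpen U ∧ x ∈ U ∧ ∃ T : Set (Set X), T.Finite ∧ (∀ t ∈ T, IsLocallyClosed t) ∧ U ∩ Z' = ⋃₀ T) → Z ∩ X₀ = Z' ∩ X₀ → Z = Z'].TFAE ∧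
    ((∀ Z : Set X, IsLocallyClosed Z → Z.Nonempty → (Z ∩ X₀).Nonempty) →
      ∀ Z₀ : Set ↥X₀, (∀ x : ↥X₀, ∃ U : Set ↥X₀, IsOpen U ∧ x ∈ U ∧ ∃ T : Set (Set ↥X₀), T.Finite ∧ (∀ t ∈ T, IsLocallyClosed t) ∧ U ∩ Z₀ = ⋃₀ T) →
        ∃ Z : Set X, (∀ x : X, ∃ U : Set X, IsOpen U ∧ x ∈ U ∧ ∃ T : Set (Set X), T.Finite ∧ (∀ t ∈ T, IsLocallyClosed t) ∧ U ∩ Z = ⋃₀ T) ∧ Subtype.val ⁻¹' Z = Z₀) := by
  refine ⟨?_, ?_⟩
  · tfae_have 1 → 2 := by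
      intro h1 Z hZ hne
      obtain ⟨x, hx⟩ := hne
      obtain ⟨U, hU, hxU, T, hT, hl, he⟩ := hZ x
      have h2 : x ∈ ⋃₀ T := by rw [← he]; exact ⟨hxU, hx⟩
      obtain ⟨t, ht, hxt⟩ := h2
      obtain ⟨z, hzt, hz0⟩ := h1 t (hl t ht) ⟨x, hxt⟩
      have h3 : z ∈ U ∩ Z := by rw [he]; exact ⟨t, ht, hzt⟩
      exact ⟨z, h3.2, hz0⟩
    tfae_have 2 → 3 := by
      intro h2 Z hZ x hx
      rw [mem_closure_iff]
      intro V hV hxV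
      have hlc : IsLC (V ∩ Z) := IsLC.inter_open hZ hV
      obtain ⟨z, ⟨hzV, hzZ⟩, hz0⟩ := h2 (V ∩ Z) hlc ⟨x, hxV, hx⟩
      exact ⟨z, hzV, hzZ, hz0⟩
    tfae_have 3 → 1 := by
      intro h3 Z hZ hne
      have h4 := h3 Z (IsC.of_lc hZ).isLC
      by_contra hemp
      rw [Set.not_nonempty_iff_eq_empty] at hemp
      rw [hemp, closure_empty] at h4
      obtain ⟨x, hx⟩ := hne
      exact h4 hx
    tfae_have 1 → 5 := by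
      intro h1 Z Z' hZ hZ' he
      exact Set.Subset.antisymm (vd_sub X₀ h1 hZ hZ' he.subset) (vd_sub X₀ h1 hZ' hZ he.symm.subset)
    tfae_have 5 → 4 := by
      intro h5 Z Z' hZ hZ' he
      exact h5 Z Z' (IsC.isLC hZ) (IsC.isLC hZ') he
    tfae_have 4 → 1 := by
      intro h4 Z hZ hne
      by_contra hemp
      rw [Set.not_nonempty_iff_eq_empty] at hemp
      have h5 : Z = ∅ := h4 Z ∅ (IsC.of_lc hZ) isC_empty (by rw [hemp, Set.empty_inter])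
      rw [h5] at hne
      exact Set.not_nonempty_empty hne
    tfae_finish
  · intro h1 Z₀ hZ₀
    have hq : Function.Bijective (fun U : TopologicalSpace.Opens X =>
        (⟨Subtype.val ⁻¹' (U : Set X), U.isOpen.preimage continuous_subtype_val⟩ :
          TopologicalSpace.Opens ↥X₀)) := by
      constructor
      · intro U U' h
        have h' : (Subtype.val ⁻¹' (U : Set X) : Set ↥X₀) = Subtype.val ⁻¹' (U' : Set X) :=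
          congrArg (fun O : TopologicalSpace.Opens ↥X₀ => (O : Set ↥X₀)) h
        apply TopologicalSpace.Opens.ext
        have key : ∀ (O O' : TopologicalSpace.Opens X),
            (Subtype.val ⁻¹' (O : Set X) : Set ↥X₀) = Subtype.val ⁻¹' (O' : Set X) →
            (O : Set X) ⊆ O' := by
          intro O O' hOO' x hx
          by_contra hx'
          have hlc : IsLocallyClosed ((O : Set X) ∩ (O' : Set X)ᶜ) :=
            ⟨O, (O' : Set X)ᶜ, O.isOpen, O'.isOpen.isClosed_compl, rfl⟩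
          obtain ⟨z, ⟨hzO, hzO'⟩, hz0⟩ := h1 _ hlc ⟨x, hx, hx'⟩
          have h6 : (⟨z, hz0⟩ : ↥X₀) ∈ (Subtype.val ⁻¹' (O : Set X) : Set ↥X₀) := hzO
          rw [hOO'] at h6
          exact hzO' h6
        exact Set.Subset.antisymm (key U U' h') (key U' U h'.symm)
      · intro O
        obtain ⟨t, ht, hte⟩ := isOpen_induced_iff.mp O.isOpen
        exact ⟨⟨t, ht⟩, TopologicalSpace.Opens.ext hte⟩
    exact qLC_surj Subtype.val continuous_subtype_val hq hZ₀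

end Groth.Agent.H3Qh
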