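import Mathlib
import Groth.Agent.Lib.helper3.QhA

open Topology
open scoped Set.Notation

namespace Groth.Agent.H3Qh

universe u

section basic2
variable {X : Type u} [TopologicalSpace X]

theorem IsC.union {Z Z' : Set X} (h : IsC Z) (h' : IsC Z') : IsC (Z ∪ Z') := by
  obtain ⟨T, hT, hl, rfl⟩ := h
  obtain ⟨T', hT', hl', rfl⟩ := h'
  refine ⟨T ∪ T', hT.union hT', ?_, (Set.sUnion_union T T').symm⟩
  rintro t (ht | ht)
  · exact hl t ht
  · exact hl' t ht

theorem isC_univ : IsC (Set.univ : Set X) := IsC.of_lc isOpen_univ.isLocallyClosed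

theorem isC_sUnion_inter {T : Set (Set X)} (hT : T.Finite) {Z' : Set X} (h' : IsC Z') :
    (∀ t ∈ T, IsLocallyClosed t) → IsC (⋃₀ T ∩ Z') := by
  induction T, hT using Set.Finite.induction_on with
  | empty =>
    intro _
    rw [Set.sUnion_empty, Set.empty_inter]
    exact isC_empty
  | @insert a s has hs ih =>
    intro hl
    rw [Set.sUnion_insert, Set.union_inter_distrib_right]
    exact (h'.inter_lc (hl a (Set.mem_insert a s))).union
      (ih fun t ht => hl t (Set.mem_insert_of_mem a ht))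

theorem IsC.inter {Z Z' : Set X} (h : IsC Z) (h' : IsC Z') : IsC (Z ∩ Z') := by
  obtain ⟨T, hT, hl, rfl⟩ := h
  exact isC_sUnion_inter hT h' hl

theorem isC_compl_lc {W : Set X} (hW : IsLocallyClosed W) : IsC Wᶜ := by
  obtain ⟨U, F, hU, hF, rfl⟩ := hW
  rw [Set.compl_inter]
  exact (IsC.of_lc hU.isClosed_compl.isLocallyClosed).union
    (IsC.of_lc hF.isOpen_compl.isLocallyClosed)

theorem isC_compl_sUnion {T : Set (Set X)} (hT : T.Finite) :
    (∀ t ∈ T, IsLocallyClosed t) → IsC (⋃₀ T)ᶜ := by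
  induction T, hT using Set.Finite.induction_on with
  | empty =>
    intro _
    rw [Set.sUnion_empty, Set.compl_empty]
    exact isC_univ
  | @insert a s has hs ih =>
    intro hl
    rw [Set.sUnion_insert, Set.compl_union]
    exact (isC_compl_lc (hl a (Set.mem_insert a s))).inter
      (ih fun t ht => hl t (Set.mem_insert_of_mem a ht))

theorem IsC.compl {Z : Set X} (h : IsC Z) : IsC Zᶜ := by
  obtain ⟨T, hT, hl, rfl⟩ := h
  exact isC_compl_sUnion hT hl

theorem isC_of_constructible {Z : Set X} (h : Topology.IsConstructible Z) : IsC Z := by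
  induction h using Topology.IsConstructible.empty_union_induction with
  | open_retrocompact U hUopen hUcomp => exact IsC.of_lc hUopen.isLocallyClosed
  | union s hs t ht hs' ht' => exact hs'.union ht'
  | compl s hs hs' => exact hs'.compl

theorem isLC_of_locallyConstructible {Z : Set X} (h : Topology.IsLocallyConstructible Z) :
    IsLC Z := by
  rw [← isLC_iff_sub]
  intro y
  obtain ⟨U, hUy, hU, hc⟩ := h y
  exact ⟨U, hU, mem_of_mem_nhds hUy, isC_of_constructible hc⟩

end basic2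

section qh2
variable {X Y : Type u} [TopologicalSpace X] [TopologicalSpace Y] (f : X → Y) (hf : Continuous f)
  (hq : Function.Bijective (fun U : TopologicalSpace.Opens Y =>
      (⟨f ⁻¹' (U : Set Y), U.isOpen.preimage hf⟩ : TopologicalSpace.Opens X)))

include hq in
theorem q_sub_open {U V : Set Y} (hU : IsOpen U) (hV : IsOpen V) (h : f ⁻¹' U ⊆ f ⁻¹' V) :
    U ⊆ V := by
  have h1 : f ⁻¹' (U ∩ V) = f ⁻¹' U := by
    rw [Set.preimage_inter]
    exact Set.inter_eq_left.mpr h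
  have h2 := q_inj_open f hf hq (hU.inter hV) hU h1
  exact Set.inter_eq_left.mp h2

include hq in
theorem q_compact_iff {W : Set Y} (hW : IsOpen W) : IsCompact (f ⁻¹' W) ↔ IsCompact W := by
  constructor
  · intro hc
    rw [isCompact_iff_finite_subcover]
    intro ι U hUo hcov
    have hcov' : f ⁻¹' W ⊆ ⋃ i, f ⁻¹' (U i) := by
      rw [← Set.preimage_iUnion]
      exact Set.preimage_mono hcov
    obtain ⟨t, ht⟩ := hc.elim_finite_subcover (fun i => f ⁻¹' (U i))
      (fun i => (hUo i).preimage hf) hcov'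
    refine ⟨t, ?_⟩
    apply q_sub_open f hf hq hW (isOpen_biUnion fun i _ => hUo i)
    rw [Set.preimage_iUnion₂]
    exact ht
  · intro hc
    rw [isCompact_iff_finite_subcover]
    intro ι U' hUo hcov
    choose U hU hUe using fun i => q_surj_open f hf hq (hUo i)
    have hcov2 : W ⊆ ⋃ i, U i := by
      apply q_sub_open f hf hq hW (isOpen_iUnion hU)
      rw [Set.preimage_iUnion]
      simp_rw [hUe]
      exact hcov
    obtain ⟨t, ht⟩ := hc.elim_finite_subcover U hU hcov2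
    refine ⟨t, ?_⟩
    have h3 := Set.preimage_mono (f := f) ht
    rw [Set.preimage_iUnion₂] at h3
    simp_rw [hUe] at h3
    exact h3

include hq in
theorem q_retro_iff {U : Set Y} (hU : IsOpen U) :
    IsRetrocompact (f ⁻¹' U) ↔ IsRetrocompact U := by
  constructor
  · intro h V hVc hVo
    have h1 : IsCompact (f ⁻¹' V) := (q_compact_iff f hf hq hVo).mpr hVc
    have h2 := h h1 (hVo.preimage hf)
    rw [← Set.preimage_inter] at h2
    exact (q_compact_iff f hf hq (hU.inter hVo)).mp h2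
  · intro h V' hVc hVo
    obtain ⟨V, hV, rfl⟩ := q_surj_open f hf hq hVo
    have h1 : IsCompact V := (q_compact_iff f hf hq hV).mp hVc
    have h2 := h h1 hV
    rw [← Set.preimage_inter]
    exact (q_compact_iff f hf hq (hU.inter hV)).mpr h2

include hq in
theorem qK_maps {Z : Set Y} (hZ : Topology.IsConstructible Z) :
    Topology.IsConstructible (f ⁻¹' Z) :=
  hZ.preimage hf fun _ hs hr => (q_retro_iff f hf hq hs).mpr hr

include hq in
theorem qK_surj {Z' : Set X} (hZ' : Topology.IsConstructible Z') :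
    ∃ Z : Set Y, Topology.IsConstructible Z ∧ f ⁻¹' Z = Z' := by
  induction hZ' using Topology.IsConstructible.empty_union_induction with
  | open_retrocompact U' hUopen hUcomp =>
    obtain ⟨U, hU, rfl⟩ := q_surj_open f hf hq hUopen
    exact ⟨U, ((q_retro_iff f hf hq hU).mp hUcomp).isConstructible hU, rfl⟩
  | union s hs t ht hs' ht' =>
    obtain ⟨Zs, hZs, rfl⟩ := hs'
    obtain ⟨Zt, hZt, rfl⟩ := ht'
    exact ⟨Zs ∪ Zt, hZs.union hZt, Set.preimage_union⟩
  | compl s hs hs' =>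
    obtain ⟨Zs, hZs, rfl⟩ := hs'
    exact ⟨Zsᶜ, hZs.compl, Set.preimage_compl⟩

theorem restrict_image_eq {U : Set Y} (O : Set U) :
    Subtype.val '' ((U.restrictPreimage f) ⁻¹' O) = f ⁻¹' (Subtype.val '' O) := by
  ext x
  constructor
  · rintro ⟨⟨x', hx'⟩, h, rfl⟩
    exact ⟨U.restrictPreimage f ⟨x', hx'⟩, h, rfl⟩
  · rintro ⟨⟨y, hy⟩, hO, hyx⟩
    have hyx' : y = f x := hyx
    have hx : x ∈ f ⁻¹' U := by
      change f x ∈ U
      rw [← hyx']
      exact hy
    refine ⟨⟨x, hx⟩, ?_, rfl⟩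
    have h4 : U.restrictPreimage f ⟨x, hx⟩ = ⟨y, hy⟩ := Subtype.ext hyx'.symm
    change U.restrictPreimage f ⟨x, hx⟩ ∈ O
    rw [h4]
    exact hO

include hq in
theorem q_restrict {U : Set Y} (hU : IsOpen U) :
    Function.Bijective (fun O : TopologicalSpace.Opens U =>
      (⟨(U.restrictPreimage f) ⁻¹' (O : Set U), O.isOpen.preimage hf.restrictPreimage⟩ :
        TopologicalSpace.Opens (f ⁻¹' U))) := by
  constructor
  · intro O₁ O₂ h
    have h1 : (U.restrictPreimage f) ⁻¹' (O₁ : Set U) = (U.restrictPreimage f) ⁻¹' (O₂ : Set U) :=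
      congrArg (fun O : TopologicalSpace.Opens (f ⁻¹' U) => (O : Set (f ⁻¹' U))) h
    have h2 : f ⁻¹' (Subtype.val '' (O₁ : Set U)) = f ⁻¹' (Subtype.val '' (O₂ : Set U)) := by
      rw [← restrict_image_eq, ← restrict_image_eq, h1]
    have h3 := q_inj_open f hf hq (hU.isOpenMap_subtype_val _ O₁.isOpen)
      (hU.isOpenMap_subtype_val _ O₂.isOpen) h2
    exact TopologicalSpace.Opens.ext (Subtype.val_injective.image_injective h3)
  · intro O'
    have hW' : IsOpen (Subtype.val '' (O' : Set (f ⁻¹' U))) :=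
      (hU.preimage hf).isOpenMap_subtype_val _ O'.isOpen
    obtain ⟨V, hV, hVe⟩ := q_surj_open f hf hq hW'
    refine ⟨⟨Subtype.val ⁻¹' V, hV.preimage continuous_subtype_val⟩, ?_⟩
    apply TopologicalSpace.Opens.ext
    ext p
    change f p.1 ∈ V ↔ p ∈ (O' : Set (f ⁻¹' U))
    have h5 : f p.1 ∈ V ↔ p.1 ∈ Subtype.val '' (O' : Set (f ⁻¹' U)) := by
      rw [← hVe]
      rfl
    rw [h5]
    constructor
    · rintro ⟨p', hp', hpe⟩
      rw [← Subtype.ext hpe]
      exact hp'
    · intro hp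
      exact ⟨p, hp, rfl⟩

include hq in
theorem qM_maps {Z : Set Y} (hZ : Topology.IsLocallyConstructible Z) :
    Topology.IsLocallyConstructible (f ⁻¹' Z) := by
  intro x
  obtain ⟨U, hUx, hU, hc⟩ := hZ (f x)
  refine ⟨f ⁻¹' U, (hU.preimage hf).mem_nhds (show f x ∈ U from mem_of_mem_nhds hUx), hU.preimage hf, ?_⟩
  exact qK_maps (U.restrictPreimage f) hf.restrictPreimage (q_restrict f hf hq hU) hc

include hq in
theorem qM_surj {Z' : Set X} (hZ' : Topology.IsLocallyConstructible Z') :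
    ∃ Z : Set Y, Topology.IsLocallyConstructible Z ∧ f ⁻¹' Z = Z' := by
  obtain ⟨Z, hZ, rfl⟩ := qLC_surj f hf hq (isLC_of_locallyConstructible hZ')
  refine ⟨Z, ?_, rfl⟩
  have hex : ∀ x : X, ∃ V : Set Y, x ∈ f ⁻¹' V ∧ IsOpen V ∧
      Topology.IsConstructible ((f ⁻¹' V) ↓∩ (f ⁻¹' Z)) := by
    intro x
    obtain ⟨U', hx, ho, hc⟩ := hZ' x
    obtain ⟨V, hV, rfl⟩ := q_surj_open f hf hq ho
    exact ⟨V, mem_of_mem_nhds hx, hV, hc⟩
  choose V hVx hVo hVc using hex
  have hcover : (Set.univ : Set Y) ⊆ ⋃ x, V x := by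
    apply q_sub_open f hf hq isOpen_univ (isOpen_iUnion hVo)
    rw [Set.preimage_iUnion]
    intro x _
    exact Set.mem_iUnion.mpr ⟨x, hVx x⟩
  intro y
  obtain ⟨x, hyx⟩ := Set.mem_iUnion.mp (hcover (Set.mem_univ y))
  refine ⟨V x, (hVo x).mem_nhds hyx, hVo x, ?_⟩
  have hqV := q_restrict f hf hq (hVo x)
  obtain ⟨Z₀, hZ₀, he⟩ := qK_surj ((V x).restrictPreimage f) hf.restrictPreimage hqV (hVc x)
  have h6 : Z₀ = ((V x) ↓∩ Z) :=
    qInj ((V x).restrictPreimage f) hf.restrictPreimage hqV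
      (IsC.isLC (isC_of_constructible hZ₀))
      (qLC_maps Subtype.val continuous_subtype_val hZ) he
  rw [← h6]
  exact hZ₀

end qh2

theorem main4897 {X Y : Type u}
    [TopologicalSpace X] [TopologicalSpace Y] (f : X → Y) (hf : Continuous f)
    (hq : Function.Bijective (fun U : TopologicalSpace.Opens Y =>
      (⟨f ⁻¹' (U : Set Y), U.isOpen.preimage hf⟩ : TopologicalSpace.Opens X))) :
    Function.Bijective (fun Z : {Z : Set Y // IsLocallyClosed Z} =>
        (⟨f ⁻¹' Z.1, Z.2.preimage hf⟩ : {Z : Set X // IsLocallyClosed Z})) ∧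
      Set.BijOn (fun Z : Set Y => f ⁻¹' Z) {Z | Topology.IsConstructible Z} {Z | Topology.IsConstructible Z} ∧
      Set.BijOn (fun Z : Set Y => f ⁻¹' Z) {Z | Topology.IsLocallyConstructible Z}
        {Z | Topology.IsLocallyConstructible Z} := by
  refine ⟨⟨?_, ?_⟩, ⟨?_, ?_, ?_⟩, ⟨?_, ?_, ?_⟩⟩
  · rintro ⟨Z, hZ⟩ ⟨Z', hZ'⟩ h
    have h1 : f ⁻¹' Z = f ⁻¹' Z' := congrArg Subtype.val h
    exact Subtype.ext (qInj f hf hq (IsC.isLC (IsC.of_lc hZ)) (IsC.isLC (IsC.of_lc hZ')) h1)
  · rintro ⟨Z', hZ'⟩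
    obtain ⟨Z, hZ, he⟩ := qB f hf hq hZ'
    exact ⟨⟨Z, hZ⟩, Subtype.ext he⟩
  · intro Z hZ
    exact qK_maps f hf hq hZ
  · intro Z hZ Z' hZ' h
    exact qInj f hf hq (IsC.isLC (isC_of_constructible hZ))
      (IsC.isLC (isC_of_constructible hZ')) h
  · intro Z' hZ'
    obtain ⟨Z, hZ, he⟩ := qK_surj f hf hq hZ'
    exact ⟨Z, hZ, he⟩
  · intro Z hZ
    exact qM_maps f hf hq hZ
  · intro Z hZ Z' hZ' h
    exact qInj f hf hq (isLC_of_locallyConstructible hZ) (isLC_of_locallyConstructible hZ') h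
  · intro Z' hZ'
    obtain ⟨Z, hZ, he⟩ := qM_surj f hf hq hZ'
    exact ⟨Z, hZ, he⟩

end Groth.Agent.H3Qh
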