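import Mathlib
universe u
namespace Groth.Agent.H3Rd
open DirectSum

section
variable {R : Type u} [CommRing R]

/-- lifting for a cyclic module -/
theorem lift_cyclic {B C : Type u} [AddCommGroup B] [Module R B] [AddCommGroup C] [Module R C]
    (π : B →ₗ[R] C) (hπ : Function.Surjective π)
    (hrd : ∀ (f : R) (b : B), π (f • b) = 0 → ∃ a : B, π a = 0 ∧ f • a = f • b)
    (f : R) (ψ : (R ⧸ Ideal.span {f}) →ₗ[R] C) :
    ∃ φ : (R ⧸ Ideal.span {f}) →ₗ[R] B, π ∘ₗ φ = ψ := by
  obtain ⟨b, hb⟩ := hπ (ψ (Submodule.Quotient.mk 1))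
  have hf0 : f • ψ (Submodule.Quotient.mk (1 : R)) = 0 := by
    rw [← map_smul, ← Submodule.Quotient.mk_smul, smul_eq_mul, mul_one]
    have : (Submodule.Quotient.mk f : R ⧸ Ideal.span {f}) = 0 :=
      (Submodule.Quotient.mk_eq_zero _).mpr (Ideal.mem_span_singleton_self f)
    rw [this, map_zero]
  obtain ⟨a, ha0, haf⟩ := hrd f b (by rw [map_smul, hb, hf0])
  have hker : Ideal.span {f} ≤ LinearMap.ker (LinearMap.toSpanSingleton R B (b - a)) := by
    intro r hr
    obtain ⟨c, rfl⟩ := Ideal.mem_span_singleton'.mp hr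
    rw [LinearMap.mem_ker, LinearMap.toSpanSingleton_apply, mul_smul, smul_sub, haf, sub_self,
      smul_zero]
  refine ⟨Submodule.liftQ _ (LinearMap.toSpanSingleton R B (b - a)) hker, ?_⟩
  apply LinearMap.ext
  intro x
  obtain ⟨r, rfl⟩ := Submodule.Quotient.mk_surjective _ x
  rw [LinearMap.comp_apply, Submodule.liftQ_apply, LinearMap.toSpanSingleton_apply, map_smul,
    map_sub, ha0, sub_zero, hb, ← map_smul, ← Submodule.Quotient.mk_smul, smul_eq_mul, mul_one]

theorem main7123 (R : Type u) [CommRing R] (P : Type u)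
    [AddCommGroup P] [Module R P] :
    (∃ (ι : Type u) (f : ι → R) (i : P →ₗ[R] (⨁ j, R ⧸ Ideal.span {f j}))
        (p : (⨁ j, R ⧸ Ideal.span {f j}) →ₗ[R] P), p ∘ₗ i = LinearMap.id) ↔
      ∀ (B C : Type u) [AddCommGroup B] [Module R B] [AddCommGroup C] [Module R C] (π : B →ₗ[R] C),
        Function.Surjective π →
        (∀ (f : R) (b : B), π (f • b) = 0 → ∃ a : B, π a = 0 ∧ f • a = f • b) →
        ∀ ψ : P →ₗ[R] C, ∃ φ : P →ₗ[R] B, π ∘ₗ φ = ψ := by
  classical
  constructor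
  · rintro ⟨ι, f, i, p, hpi⟩ B C _ _ _ _ π hπ hrd ψ
    have h1 : ∀ j, ∃ φ : (R ⧸ Ideal.span {f j}) →ₗ[R] B,
        π ∘ₗ φ = (ψ ∘ₗ p) ∘ₗ DirectSum.lof R ι (fun j => R ⧸ Ideal.span {f j}) j :=
      fun j => lift_cyclic π hπ hrd (f j) _
    choose φ hφ using h1
    refine ⟨(DirectSum.toModule R ι B φ) ∘ₗ i, ?_⟩
    have h2 : π ∘ₗ (DirectSum.toModule R ι B φ) = ψ ∘ₗ p := by
      apply DirectSum.linearMap_ext
      intro j
      rw [← hφ j]
      apply LinearMap.ext
      intro x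
      simp only [LinearMap.comp_apply, DirectSum.toModule_lof]
    rw [← LinearMap.comp_assoc, h2, LinearMap.comp_assoc, hpi, LinearMap.comp_id]
  · intro h
    let ι : Type u := {xf : P × R // xf.2 • xf.1 = 0}
    let f : ι → R := fun j => j.1.2
    have hk : ∀ j : ι, Ideal.span {f j} ≤ LinearMap.ker (LinearMap.toSpanSingleton R P j.1.1) := by
      intro j r hr
      obtain ⟨c, rfl⟩ := Ideal.mem_span_singleton'.mp hr
      rw [LinearMap.mem_ker, LinearMap.toSpanSingleton_apply, mul_smul, j.2, smul_zero]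
    let q : ∀ j : ι, (R ⧸ Ideal.span {f j}) →ₗ[R] P := fun j =>
      Submodule.liftQ _ (LinearMap.toSpanSingleton R P j.1.1) (hk j)
    let π : (⨁ j, R ⧸ Ideal.span {f j}) →ₗ[R] P := DirectSum.toModule R ι P q
    have hq1 : ∀ j : ι, π (DirectSum.lof R ι (fun j => R ⧸ Ideal.span {f j}) j
        (Submodule.Quotient.mk 1)) = j.1.1 := by
      intro j
      simp only [π, DirectSum.toModule_lof, q]
      rw [Submodule.liftQ_apply, LinearMap.toSpanSingleton_apply, one_smul]
    have hπ : Function.Surjective π := by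
      intro x
      exact ⟨_, hq1 ⟨(x, 0), zero_smul _ _⟩⟩
    have hrd : ∀ (r : R) (b : ⨁ j, R ⧸ Ideal.span {f j}), π (r • b) = 0 →
        ∃ a, π a = 0 ∧ r • a = r • b := by
      intro r b hb
      rw [map_smul] at hb
      let j : ι := ⟨(π b, r), hb⟩
      let e := DirectSum.lof R ι (fun j => R ⧸ Ideal.span {f j}) j (Submodule.Quotient.mk 1)
      have he : r • e = 0 := by
        simp only [e]
        rw [← map_smul, ← Submodule.Quotient.mk_smul, smul_eq_mul, mul_one]
        have : (Submodule.Quotient.mk r : R ⧸ Ideal.span {f j}) = 0 :=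
          (Submodule.Quotient.mk_eq_zero _).mpr (Ideal.mem_span_singleton_self r)
        rw [this, map_zero]
      refine ⟨b - e, ?_, ?_⟩
      · rw [map_sub, hq1 j, sub_self]
      · rw [smul_sub, he, sub_zero]
    obtain ⟨φ, hφ⟩ := h _ P π hπ hrd LinearMap.id
    exact ⟨ι, f, φ, π, hφ⟩

end
end Groth.Agent.H3Rd
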