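import Mathlib
import Groth.Agent.Lib.helper3.RdA
import Groth.Agent.Lib.helper3.VdB
universe u
namespace Groth.Agent.H3Rd

section
variable {R : Type u} [CommRing R]

/-- RD-pure surjection -/
def RD {B C : Type u} [AddCommGroup B] [Module R B] [AddCommGroup C] [Module R C]
    (π : B →ₗ[R] C) : Prop :=
  ∀ (f : R) (b : B), π (f • b) = 0 → ∃ a : B, π a = 0 ∧ f • a = f • b

theorem lift_pi {B C : Type u} [AddCommGroup B] [Module R B] [AddCommGroup C] [Module R C]
    (π : B →ₗ[R] C) (hπ : Function.Surjective π) (hrd : RD π)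
    {n : ℕ} (f : Fin n → R) (ψ : ((i : Fin n) → R ⧸ Ideal.span {f i}) →ₗ[R] C) :
    ∃ φ : ((i : Fin n) → R ⧸ Ideal.span {f i}) →ₗ[R] B, π ∘ₗ φ = ψ := by
  classical
  have h1 : ∀ i, ∃ φ : (R ⧸ Ideal.span {f i}) →ₗ[R] B,
      π ∘ₗ φ = ψ ∘ₗ LinearMap.single R (fun i => R ⧸ Ideal.span {f i}) i :=
    fun i => lift_cyclic π hπ hrd (f i) _
  choose φ hφ using h1
  refine ⟨∑ i, (φ i) ∘ₗ LinearMap.proj i, ?_⟩
  apply LinearMap.pi_ext'
  intro i
  rw [← hφ i]
  apply LinearMap.ext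
  intro x
  simp only [LinearMap.comp_apply, LinearMap.sum_apply, LinearMap.proj_apply, LinearMap.single_apply]
  rw [Finset.sum_eq_single i]
  · simp
  · intro j _ hj
    simp [Pi.single_eq_of_ne hj]
  · intro h; exact absurd (Finset.mem_univ i) h

theorem lift_equiv {B C P Q : Type u} [AddCommGroup B] [Module R B] [AddCommGroup C] [Module R C]
    [AddCommGroup P] [Module R P] [AddCommGroup Q] [Module R Q]
    (π : B →ₗ[R] C) (e : P ≃ₗ[R] Q) (h : ∀ ψ : Q →ₗ[R] C, ∃ φ : Q →ₗ[R] B, π ∘ₗ φ = ψ)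
    (ψ : P →ₗ[R] C) : ∃ φ : P →ₗ[R] B, π ∘ₗ φ = ψ := by
  obtain ⟨φ, hφ⟩ := h (ψ ∘ₗ e.symm.toLinearMap)
  refine ⟨φ ∘ₗ e.toLinearMap, ?_⟩
  rw [← LinearMap.comp_assoc, hφ]
  ext x
  simp

/-- RD-purity localizes -/
theorem rd_localized {B C : Type u} [AddCommGroup B] [Module R B] [AddCommGroup C] [Module R C]
    (π : B →ₗ[R] C) (hrd : RD π) (S : Submonoid R) :
    RD (LocalizedModule.map S π) := by
  intro f b
  induction f using Localization.induction_on with | _ rs
  obtain ⟨r, s⟩ := rs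
  induction b using LocalizedModule.induction_on with | _ b' t
  intro h0
  rw [LocalizedModule.mk_smul_mk, LocalizedModule.map_mk, ← LocalizedModule.zero_mk (s * t),
    LocalizedModule.mk_eq] at h0
  obtain ⟨u, hu⟩ := h0
  obtain ⟨w, hw⟩ : ∃ w : S, w = u * (s * t) := ⟨_, rfl⟩
  have h1 : π (r • ((w : R) • b')) = 0 := by
    rw [smul_zero, smul_zero] at hu
    rw [smul_comm, map_smul, hw]
    rw [← hu, Submonoid.smul_def, Submonoid.smul_def, smul_smul]
    rfl
  obtain ⟨a', ha0, har⟩ := hrd r _ h1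
  refine ⟨LocalizedModule.mk a' (w * t), ?_, ?_⟩
  · rw [LocalizedModule.map_mk, ha0, LocalizedModule.zero_mk]
  · rw [LocalizedModule.mk_smul_mk, LocalizedModule.mk_smul_mk, har]
    have : r • (w : R) • b' = w • (r • b') := by
      rw [Submonoid.smul_def, smul_comm]
    rw [this, show s * (w * t) = w * (s * t) by rw [mul_left_comm],
      LocalizedModule.mk_cancel_common_left]

theorem lift_fp (h : ∀ (m : Ideal R) [m.IsMaximal], ∀ a b : Localization.AtPrime m, a ∣ b ∨ b ∣ a)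
    (M : Type u) [AddCommGroup M] [Module R M] [Module.FinitePresentation R M]
    {B C : Type u} [AddCommGroup B] [Module R B] [AddCommGroup C] [Module R C]
    (π : B →ₗ[R] C) (hπ : Function.Surjective π) (hrd : RD π) (ψ : M →ₗ[R] C) :
    ∃ φ : M →ₗ[R] B, π ∘ₗ φ = ψ := by
  let 𝔞 : Ideal R :=
    { carrier := {u | ∃ φ : M →ₗ[R] B, π ∘ₗ φ = u • ψ}
      add_mem' := by
        rintro u v ⟨φ1, h1⟩ ⟨φ2, h2⟩
        exact ⟨φ1 + φ2, by rw [LinearMap.comp_add, h1, h2, add_smul]⟩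
      zero_mem' := ⟨0, by rw [LinearMap.comp_zero, zero_smul]⟩
      smul_mem' := by
        rintro c u ⟨φ, h1⟩
        exact ⟨c • φ, by rw [LinearMap.comp_smul, h1, smul_eq_mul, mul_smul]⟩ }
  suffices h1 : (1 : R) ∈ 𝔞 by
    obtain ⟨φ, hφ⟩ := h1
    exact ⟨φ, by rw [hφ, one_smul]⟩
  by_contra hne
  have hne' : 𝔞 ≠ ⊤ := (Ideal.ne_top_iff_one _).mpr hne
  obtain ⟨J, hJ, hle⟩ := Ideal.exists_le_maximal 𝔞 hne'
  haveI := hJ
  obtain ⟨S, hS⟩ : ∃ S : Submonoid R, S = J.primeCompl := ⟨_, rfl⟩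
  have hSJ : ∀ x : S, (x : R) ∉ J := by subst hS; exact fun x => x.2
  have hloc : ∃ φJ : LocalizedModule S M →ₗ[Localization S] LocalizedModule S B,
      (LocalizedModule.map S π) ∘ₗ φJ = LocalizedModule.map S ψ := by
    subst hS
    obtain ⟨n, f, ⟨e⟩⟩ := H3Vd.main2015 (Localization.AtPrime J) (h J)
      (LocalizedModule J.primeCompl M)
    exact lift_equiv _ e (fun ψ' => lift_pi _ (LocalizedModule.map_surjective _ π hπ)
      (rd_localized π hrd _) f ψ') _
  obtain ⟨φJ, hφJ⟩ := hloc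
  obtain ⟨φ', s, hφ'⟩ := Module.FinitePresentation.exists_lift_of_isLocalizedModule S
    (LocalizedModule.mkLinearMap S B) ((φJ.restrictScalars R) ∘ₗ LocalizedModule.mkLinearMap S M)
  have hcomp : (LocalizedModule.mkLinearMap S C) ∘ₗ (π ∘ₗ φ') =
      (LocalizedModule.mkLinearMap S C) ∘ₗ ((s : R) • ψ) := by
    apply LinearMap.ext
    intro x
    have e1 : LocalizedModule.mkLinearMap S C (π (φ' x)) =
        LocalizedModule.map S π (LocalizedModule.mkLinearMap S B (φ' x)) := by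
      rw [LocalizedModule.mkLinearMap_apply, LocalizedModule.mkLinearMap_apply,
        LocalizedModule.map_mk]
    have e2 : LocalizedModule.mkLinearMap S B (φ' x) =
        (s : R) • φJ (LocalizedModule.mkLinearMap S M x) := by
      have := LinearMap.congr_fun hφ' x
      simpa [Submonoid.smul_def] using this
    have e3 : LocalizedModule.map S π (φJ (LocalizedModule.mkLinearMap S M x)) =
        LocalizedModule.mkLinearMap S C (ψ x) := by
      have := LinearMap.congr_fun hφJ (LocalizedModule.mkLinearMap S M x)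
      rw [LinearMap.comp_apply] at this
      rw [this, LocalizedModule.mkLinearMap_apply, LocalizedModule.map_mk,
        LocalizedModule.mkLinearMap_apply]
    rw [LinearMap.comp_apply, LinearMap.comp_apply, LinearMap.comp_apply, e1, e2,
      LinearMap.map_smul_of_tower, e3, LinearMap.smul_apply, map_smul]
  obtain ⟨t, ht⟩ := Module.Finite.exists_smul_of_comp_eq_of_isLocalizedModule S
    (LocalizedModule.mkLinearMap S C) _ _ hcomp
  have hmem : ((t * s : S) : R) ∈ 𝔞 := by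
    refine ⟨(t : R) • φ', ?_⟩
    rw [LinearMap.comp_smul]
    have : (t : R) • (π ∘ₗ φ') = (t : R) • ((s : R) • ψ) := ht
    rw [this, smul_smul]
    rfl
  exact hSJ (t * s) (hle hmem)

end
end Groth.Agent.H3Rd
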