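import Mathlib
import Groth.Agent.Lib.helper3.RdB
universe u
namespace Groth.Agent.H3Rd
open DirectSum

section
variable {R : Type u} [CommRing R]

theorem prod_of_retract {M T : Type u} [AddCommGroup M] [Module R M] [AddCommGroup T] [Module R T]
    (i : M →ₗ[R] T) (p : T →ₗ[R] M) (h : p ∘ₗ i = LinearMap.id) :
    Nonempty ((M × LinearMap.ker p) ≃ₗ[R] T) := by
  have hpi : ∀ m, p (i m) = m := fun m => LinearMap.congr_fun h m
  obtain ⟨q, hq⟩ : ∃ q : T →ₗ[R] T, q = LinearMap.id - i ∘ₗ p := ⟨_, rfl⟩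
  have hqa : ∀ t, q t = t - i (p t) := fun t => by rw [hq]; rfl
  have hk : ∀ t, q t ∈ LinearMap.ker p := by
    intro t
    rw [hqa, LinearMap.mem_ker, map_sub, hpi, sub_self]
  refine ⟨LinearEquiv.ofLinearMap (i.coprod (LinearMap.ker p).subtype)
    (p.prod (LinearMap.codRestrict (LinearMap.ker p) q hk)) ?_ ?_⟩
  · apply LinearMap.ext
    intro t
    simp [hqa]
  · apply LinearMap.ext
    rintro ⟨m, ⟨k, hk'⟩⟩
    have hk0 : p k = 0 := hk'
    apply Prod.ext
    · simp [hpi, hk0]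
    · apply Subtype.ext
      simp [hpi, hk0, hqa]

theorem retract_finite (M : Type u) [AddCommGroup M] [Module R M] [Module.Finite R M]
    (ι : Type u) (f : ι → R) (i : M →ₗ[R] (⨁ j, R ⧸ Ideal.span {f j}))
    (p : (⨁ j, R ⧸ Ideal.span {f j}) →ₗ[R] M) (hpi : p ∘ₗ i = LinearMap.id) :
    ∃ (n : ℕ) (g : Fin n → R) (i' : M →ₗ[R] ((k : Fin n) → R ⧸ Ideal.span {g k}))
      (p' : ((k : Fin n) → R ⧸ Ideal.span {g k}) →ₗ[R] M), p' ∘ₗ i' = LinearMap.id := by
  classical
  obtain ⟨σ, hσ⟩ := (Module.Finite.fg_top : (⊤ : Submodule R M).FG)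
  let F : Finset ι := σ.biUnion (fun m => DFinsupp.support (i m))
  have hF : ∀ m : M, ∀ j, j ∉ F → (i m) j = 0 := by
    intro m
    have hm : m ∈ Submodule.span R (σ : Set M) := hσ ▸ Submodule.mem_top
    induction hm using Submodule.span_induction with
    | mem x hx =>
      intro j hj
      by_contra h
      exact hj (Finset.mem_biUnion.mpr ⟨x, hx, DFinsupp.mem_support_iff.mpr h⟩)
    | zero => intro j _; rw [map_zero]; rfl
    | add x y _ _ hx hy =>
      intro j hj
      rw [map_add, DirectSum.add_apply, hx j hj, hy j hj, add_zero]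
    | smul a x _ hx =>
      intro j hj
      rw [map_smul, DirectSum.smul_apply, hx j hj, smul_zero]
  let i₁ : M →ₗ[R] ((j : ↥F) → R ⧸ Ideal.span {f j}) :=
    LinearMap.pi (fun j => DirectSum.component R ι (fun j => R ⧸ Ideal.span {f j}) j ∘ₗ i)
  let p₁ : ((j : ↥F) → R ⧸ Ideal.span {f j}) →ₗ[R] M :=
    ∑ j : ↥F, (p ∘ₗ DirectSum.lof R ι (fun j => R ⧸ Ideal.span {f j}) j) ∘ₗ LinearMap.proj j
  have h1 : p₁ ∘ₗ i₁ = LinearMap.id := by
    apply LinearMap.ext
    intro m
    have e1 : p₁ (i₁ m) = p (∑ j : ↥F, DirectSum.lof R ι (fun j => R ⧸ Ideal.span {f j}) j ((i m) j)) := by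
      simp only [p₁, i₁, LinearMap.sum_apply, LinearMap.comp_apply, LinearMap.proj_apply,
        LinearMap.pi_apply, map_sum]
      rfl
    have e2 : (∑ j : ↥F, DirectSum.lof R ι (fun j => R ⧸ Ideal.span {f j}) j ((i m) j)) = i m := by
      rw [Finset.sum_coe_sort F (fun j => DirectSum.lof R ι (fun j => R ⧸ Ideal.span {f j}) j ((i m) j))]
      conv_rhs => rw [← DirectSum.sum_support_of (i m)]
      symm
      apply Finset.sum_subset
      · intro j hj
        by_contra hjF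
        exact (DFinsupp.mem_support_iff.mp hj) (hF m j hjF)
      · intro j _ hj
        rw [DFinsupp.notMem_support_iff.mp hj, map_zero]
    rw [LinearMap.comp_apply, e1, e2]
    exact LinearMap.congr_fun hpi m
  let e : ↥F ≃ Fin F.card := F.equivFin
  let E := LinearEquiv.piCongrLeft' R (fun j : ↥F => R ⧸ Ideal.span {f j}) e
  refine ⟨F.card, fun k => f (e.symm k), E.toLinearMap ∘ₗ i₁, p₁ ∘ₗ E.symm.toLinearMap, ?_⟩
  apply LinearMap.ext
  intro m
  simp only [LinearMap.comp_apply, LinearEquiv.coe_coe, LinearEquiv.symm_apply_apply]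
  exact LinearMap.congr_fun h1 m

theorem main2016 (R : Type u) [CommRing R]
    (h : ∀ (m : Ideal R) [m.IsMaximal], ∀ a b : Localization.AtPrime m, a ∣ b ∨ b ∣ a)
    (M : Type u) [AddCommGroup M] [Module R M] [Module.FinitePresentation R M] :
    ∃ (n : ℕ) (f : Fin n → R) (N : Type u) (_ : AddCommGroup N) (_ : Module R N),
      Nonempty ((M × N) ≃ₗ[R] ((i : Fin n) → R ⧸ Ideal.span {f i})) := by
  obtain ⟨ι, f, i, p, hpi⟩ := (main7123 R M).mpr
    (fun B C _ _ _ _ π hπ hrd ψ => lift_fp h M π hπ hrd ψ)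
  obtain ⟨n, g, i', p', h'⟩ := retract_finite M ι f i p hpi
  exact ⟨n, g, LinearMap.ker p', inferInstance, inferInstance, prod_of_retract i' p' h'⟩

end
end Groth.Agent.H3Rd
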