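import Mathlib
import Groth.Agent.Lib.helper3.RdC
import Groth.Agent.Lib.helper4.BezoutFree
universe u
namespace Groth.Agent.H3Rd
open DirectSum nonZeroDivisors

section
variable {R : Type u} [CommRing R] [IsDomain R] [IsBezout R]

theorem bez_local (m : Ideal R) [m.IsMaximal] (a b : Localization.AtPrime m) : a ∣ b ∨ b ∣ a := by
  obtain ⟨x, s, rfl⟩ := IsLocalization.exists_mk'_eq m.primeCompl a
  obtain ⟨y, t, rfl⟩ := IsLocalization.exists_mk'_eq m.primeCompl b
  have key : ∀ (x y : R) (s t : m.primeCompl),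
      algebraMap R (Localization.AtPrime m) x ∣ algebraMap R (Localization.AtPrime m) y →
      IsLocalization.mk' (Localization.AtPrime m) x s ∣ IsLocalization.mk' (Localization.AtPrime m) y t := by
    intro x y s t hxy
    have hs := IsLocalization.map_units (Localization.AtPrime m) s
    have ht := IsLocalization.map_units (Localization.AtPrime m) t
    rw [← IsLocalization.mk'_spec (Localization.AtPrime m) x s,
      ← IsLocalization.mk'_spec (Localization.AtPrime m) y t, hs.mul_right_dvd, ht.dvd_mul_right] at hxy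
    exact hxy
  obtain ⟨d, hd⟩ := (IsBezout.span_pair_isPrincipal x y).principal
  have hx : x ∈ Ideal.span {d} := by
    have : x ∈ Ideal.span {x, y} := Ideal.subset_span (by simp)
    rw [show Ideal.span {x, y} = Ideal.span {d} from hd] at this
    exact this
  have hy : y ∈ Ideal.span {d} := by
    have : y ∈ Ideal.span {x, y} := Ideal.subset_span (by simp)
    rw [show Ideal.span {x, y} = Ideal.span {d} from hd] at this
    exact this
  have hdm : d ∈ Ideal.span {x, y} := by
    rw [show Ideal.span {x, y} = Ideal.span {d} from hd]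
    exact Ideal.mem_span_singleton_self d
  obtain ⟨x', rfl⟩ := Ideal.mem_span_singleton'.mp hx
  obtain ⟨y', rfl⟩ := Ideal.mem_span_singleton'.mp hy
  obtain ⟨u, v, huv⟩ := Ideal.mem_span_pair.mp hdm
  by_cases hd0 : d = 0
  · left
    subst hd0
    simp
  have h1 : u * x' + v * y' = 1 := by
    have : d * (u * x' + v * y') = d * 1 := by
      rw [mul_one]
      calc d * (u * x' + v * y') = u * (x' * d) + v * (y' * d) := by ring
        _ = d := huv
    exact mul_left_cancel₀ hd0 this
  have h2 : x' ∉ m ∨ y' ∉ m := by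
    by_contra hcon
    rw [not_or, not_not, not_not] at hcon
    have : (1 : R) ∈ m := h1 ▸ m.add_mem (m.mul_mem_left u hcon.1) (m.mul_mem_left v hcon.2)
    exact (Ideal.IsPrime.ne_top (Ideal.IsMaximal.isPrime inferInstance)) ((Ideal.eq_top_iff_one m).mpr this)
  rcases h2 with h2 | h2
  · left
    apply key
    have hu' := IsLocalization.map_units (Localization.AtPrime m) (⟨x', h2⟩ : m.primeCompl)
    rw [map_mul, map_mul, hu'.mul_left_dvd]
    exact Dvd.intro_left _ rfl
  · right
    apply key
    have hu' := IsLocalization.map_units (Localization.AtPrime m) (⟨y', h2⟩ : m.primeCompl)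
    rw [map_mul, map_mul, hu'.mul_left_dvd]
    exact Dvd.intro_left _ rfl

omit [IsDomain R] [IsBezout R] in
theorem smul_quot_zero (f : R) (x : R ⧸ Ideal.span {f}) : f • x = 0 := by
  obtain ⟨y, rfl⟩ := Submodule.Quotient.mk_surjective _ x
  rw [← Submodule.Quotient.mk_smul, Submodule.Quotient.mk_eq_zero, smul_eq_mul]
  exact Ideal.mul_mem_right _ _ (Ideal.mem_span_singleton_self f)

omit [IsBezout R] in
theorem quot_zero_torsionfree (f : R) (hf : f = 0) (a : R) (ha : a ≠ 0) (x : R ⧸ Ideal.span {f})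
    (hx : a • x = 0) : x = 0 := by
  obtain ⟨y, rfl⟩ := Submodule.Quotient.mk_surjective _ x
  rw [← Submodule.Quotient.mk_smul, Submodule.Quotient.mk_eq_zero, smul_eq_mul, hf,
    Ideal.mem_span_singleton, zero_dvd_iff] at hx
  rw [Submodule.Quotient.mk_eq_zero, hf, Ideal.mem_span_singleton, zero_dvd_iff]
  exact (mul_eq_zero.mp hx).resolve_left ha

theorem torsion_parts {n : ℕ} (g : Fin n → R) (M : Type u) [AddCommGroup M] [Module R M]
    [Module.Finite R M]
    (i : M →ₗ[R] ((k : Fin n) → R ⧸ Ideal.span {g k}))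
    (p : ((k : Fin n) → R ⧸ Ideal.span {g k}) →ₗ[R] M) (hpi : p ∘ₗ i = LinearMap.id) :
    (∃ r : ℕ, Nonempty (M ≃ₗ[R] ((Fin r → R) × Submodule.torsion R M))) ∧
      ∃ (n' : ℕ) (f : Fin n' → R), (∀ j, f j ≠ 0) ∧
        ∃ (i' : Submodule.torsion R M →ₗ[R] ((j : Fin n') → R ⧸ Ideal.span {f j}))
          (p' : ((j : Fin n') → R ⧸ Ideal.span {f j}) →ₗ[R] Submodule.torsion R M),
          p' ∘ₗ i' = LinearMap.id := by
  classical
  have hpi' : ∀ m, p (i m) = m := fun m => LinearMap.congr_fun hpi m
  have hinj : Function.Injective i := fun a b hab => by rw [← hpi' a, ← hpi' b, hab]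
  have ha : ∀ m ∈ Submodule.torsion R M, ∀ k, g k = 0 → (i m) k = 0 := by
    intro m hm k hk
    obtain ⟨a, ha⟩ := (Submodule.mem_torsion_iff m).mp hm
    have h1 : (a : R) • (i m) k = 0 := by
      have : (a : R) • m = 0 := ha
      rw [← Pi.smul_apply, ← map_smul, this, map_zero]; rfl
    exact quot_zero_torsionfree (g k) hk a (nonZeroDivisors.ne_zero a.2) _ h1
  obtain ⟨A, hAdef⟩ : ∃ A : R, A = ∏ k, (if g k = 0 then 1 else g k) := ⟨_, rfl⟩
  have hA0 : A ≠ 0 := by
    rw [hAdef, Finset.prod_ne_zero_iff]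
    intro k _
    split_ifs with h
    · exact one_ne_zero
    · exact h
  have hAmem : A ∈ R⁰ := mem_nonZeroDivisors_of_ne_zero hA0
  have hb : ∀ t : ((k : Fin n) → R ⧸ Ideal.span {g k}), (∀ k, g k = 0 → t k = 0) → A • t = 0 := by
    intro t ht
    funext k
    rw [Pi.smul_apply, Pi.zero_apply]
    by_cases hk : g k = 0
    · rw [ht k hk, smul_zero]
    · have hdvd : g k ∣ A := by
        have := Finset.dvd_prod_of_mem (fun k => if g k = 0 then 1 else g k) (Finset.mem_univ k)
        rw [if_neg hk] at this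
        rw [hAdef]; exact this
      obtain ⟨c, hc⟩ := hdvd
      rw [hc, mul_comm, mul_smul, smul_quot_zero (g k) (t k), smul_zero]
  constructor
  · -- free part
    let Z := {k : Fin n // g k = 0}
    let F := (k : Z) → R ⧸ Ideal.span {g k.1}
    let θ : M →ₗ[R] F := LinearMap.pi (fun k : Z => LinearMap.proj k.1 ∘ₗ i)
    have hker : LinearMap.ker θ = Submodule.torsion R M := by
      ext m
      rw [LinearMap.mem_ker]
      constructor
      · intro hm
        have h1 : A • i m = 0 := hb (i m) (fun k hk => congrFun hm ⟨k, hk⟩)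
        have h2 : A • m = 0 := hinj (by rw [map_smul, h1, map_zero])
        exact (Submodule.mem_torsion_iff m).mpr ⟨⟨A, hAmem⟩, h2⟩
      · intro hm
        funext k
        exact ha m hm k.1 k.2
    let θb : (M ⧸ Submodule.torsion R M) →ₗ[R] F :=
      (Submodule.torsion R M).liftQ θ (le_of_eq hker.symm)
    have hθb : Function.Injective θb := by
      rw [← LinearMap.ker_eq_bot]
      exact Submodule.ker_liftQ_eq_bot _ _ _ (le_of_eq hker)
    haveI : ∀ k : Z, Module.Free R (R ⧸ Ideal.span {g k.1}) := fun k =>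
      Module.Free.of_equiv (Submodule.quotEquivOfEqBot (Ideal.span {g k.1})
        (by rw [k.2]; exact Ideal.span_singleton_eq_bot.mpr rfl)).symm
    haveI : Module.Free R F := inferInstance
    have hN : (LinearMap.range θb).FG := by
      rw [LinearMap.range_eq_map]
      exact Module.Finite.fg_top.map θb
    obtain ⟨hfree, hfin⟩ := Groth.Agent.H4.H4_bezout_fg_submodule_free R F (LinearMap.range θb) hN
    haveI : Module.Free R (M ⧸ Submodule.torsion R M) :=
      Module.Free.of_equiv (LinearEquiv.ofInjective θb hθb).symm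
    let eQ : (M ⧸ Submodule.torsion R M) ≃ₗ[R]
        (Fin (Module.finrank R (M ⧸ Submodule.torsion R M)) → R) :=
      (Module.finBasis R (M ⧸ Submodule.torsion R M)).equivFun
    obtain ⟨sec, hsec⟩ := Module.projective_lifting_property (Submodule.mkQ (Submodule.torsion R M))
      LinearMap.id (Submodule.mkQ_surjective _)
    obtain ⟨e⟩ := prod_of_retract sec (Submodule.mkQ (Submodule.torsion R M)) hsec
    refine ⟨Module.finrank R (M ⧸ Submodule.torsion R M), ⟨e.symm ≪≫ₗ
      LinearEquiv.prodCongr eQ (LinearEquiv.ofEq _ _ (Submodule.ker_mkQ _))⟩⟩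
  · -- torsion part
    let NZ := {k : Fin n // g k ≠ 0}
    let T' := (k : NZ) → R ⧸ Ideal.span {g k.1}
    let ext : T' →ₗ[R] ((k : Fin n) → R ⧸ Ideal.span {g k}) :=
      LinearMap.pi (fun k => if h : g k ≠ 0 then LinearMap.proj (⟨k, h⟩ : NZ) else 0)
    have hext0 : ∀ (t : T') k, g k = 0 → (ext t) k = 0 := by
      intro t k hk
      simp only [ext, LinearMap.pi_apply]
      rw [dif_neg (not_not.mpr hk)]
      rfl
    have hext1 : ∀ (t : T') (k : NZ), (ext t) k.1 = t k := by
      intro t k
      simp only [ext, LinearMap.pi_apply]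
      rw [dif_pos k.2]
      rfl
    have hpt : ∀ t : T', p (ext t) ∈ Submodule.torsion R M := by
      intro t
      refine (Submodule.mem_torsion_iff _).mpr ⟨⟨A, hAmem⟩, ?_⟩
      change A • p (ext t) = 0
      rw [← map_smul, hb (ext t) (hext0 t), map_zero]
    let i₂ : Submodule.torsion R M →ₗ[R] T' :=
      LinearMap.pi (fun k : NZ => LinearMap.proj k.1 ∘ₗ i ∘ₗ (Submodule.torsion R M).subtype)
    let p₂ : T' →ₗ[R] Submodule.torsion R M :=
      LinearMap.codRestrict (Submodule.torsion R M) (p ∘ₗ ext) hpt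
    have h2 : p₂ ∘ₗ i₂ = LinearMap.id := by
      apply LinearMap.ext
      intro m
      apply Subtype.ext
      have e1 : ext (i₂ m) = i m.1 := by
        funext k
        by_cases hk : g k = 0
        · rw [hext0 _ k hk, ha m.1 m.2 k hk]
        · exact hext1 (i₂ m) ⟨k, hk⟩
      change p (ext (i₂ m)) = m.1
      rw [e1, hpi']
    let e : NZ ≃ Fin (Fintype.card NZ) := Fintype.equivFin NZ
    let E := LinearEquiv.piCongrLeft' R (fun k : NZ => R ⧸ Ideal.span {g k.1}) e
    refine ⟨Fintype.card NZ, fun j => g (e.symm j).1, fun j => (e.symm j).2,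
      E.toLinearMap ∘ₗ i₂, p₂ ∘ₗ E.symm.toLinearMap, ?_⟩
    apply LinearMap.ext
    intro m
    simp only [LinearMap.comp_apply, LinearEquiv.coe_coe, LinearEquiv.symm_apply_apply]
    exact LinearMap.congr_fun h2 m

theorem main7121 (R : Type u) [CommRing R] [IsDomain R] [IsBezout R]
    (M : Type u) [AddCommGroup M] [Module R M] [Module.FinitePresentation R M] :
    (∃ r : ℕ, Nonempty (M ≃ₗ[R] ((Fin r → R) × Submodule.torsion R M))) ∧
      ∃ (n : ℕ) (f : Fin n → R), (∀ j, f j ≠ 0) ∧
        ∃ (i : Submodule.torsion R M →ₗ[R] ((j : Fin n) → R ⧸ Ideal.span {f j}))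
          (p : ((j : Fin n) → R ⧸ Ideal.span {f j}) →ₗ[R] Submodule.torsion R M),
          p ∘ₗ i = LinearMap.id := by
  obtain ⟨ι, f, i, p, hpi⟩ := (main7123 R M).mpr
    (fun B C _ _ _ _ π hπ hrd ψ => lift_fp (fun m _ => bez_local m) M π hπ hrd ψ)
  obtain ⟨n, g, i', p', h'⟩ := retract_finite M ι f i p hpi
  exact torsion_parts g M i' p' h'

end
end Groth.Agent.H3Rd
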