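import Mathlib

namespace Groth.Agent.H3Rk

universe u
variable (S R : Type u) [CommRing S] [CommRing R] [Algebra S R] [Module.Finite S R]
  [Module.Projective S R]

def J : Ideal S where
  carrier := {s | ∃ φ : R →ₗ[S] S, φ 1 = s}
  add_mem' := by rintro _ _ ⟨φ, rfl⟩ ⟨ψ, rfl⟩; exact ⟨φ + ψ, rfl⟩
  zero_mem' := ⟨0, rfl⟩
  smul_mem' := by rintro c _ ⟨φ, rfl⟩; exact ⟨c • φ, rfl⟩

theorem J_eq_top (h2 : ∀ p : PrimeSpectrum S, Module.rankAtStalk (R := S) R p = 2) :
    J S R = ⊤ := by
  by_contra hne
  obtain ⟨m, hm, hle⟩ := Ideal.exists_le_maximal _ hne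
  have hpos : ∀ p, 0 < Module.rankAtStalk (R := S) R p := fun p => by rw [h2 p]; norm_num
  have hsurj := PrimeSpectrum.rankAtStalk_pos_iff_comap_surjective.mp hpos
  obtain ⟨Q, hQ⟩ := hsurj ⟨m, hm.isPrime⟩
  have h1 : (1 : R) ∉ (m • ⊤ : Submodule S R) := by
    intro h1
    rw [Ideal.smul_top_eq_map] at h1
    have h1' : (1 : R) ∈ m.map (algebraMap S R) := h1
    have hmQ : m.map (algebraMap S R) ≤ Q.asIdeal := by
      rw [Ideal.map_le_iff_le_comap]
      have := congrArg PrimeSpectrum.asIdeal hQ
      simp only [PrimeSpectrum.comap_asIdeal] at this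
      rw [this]
    exact Q.2.ne_top ((Ideal.eq_top_iff_one _).mpr (hmQ h1'))
  letI : Field (S ⧸ m) := Ideal.Quotient.field m
  have hv : (Submodule.Quotient.mk (p := (m • ⊤ : Submodule S R)) (1 : R)) ≠ 0 := by
    intro h0
    exact h1 ((Submodule.Quotient.mk_eq_zero _).mp h0)
  obtain ⟨ψ, hψ⟩ := Module.Projective.exists_dual_eq_one (S ⧸ m) hv
  let g : R →ₗ[S] (S ⧸ m) :=
    { toFun := fun x => ψ (Submodule.Quotient.mk x)
      map_add' := fun x y => by simp
      map_smul' := fun s x => by
        simp only [RingHom.id_apply]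
        rw [← Module.Quotient.mk_smul_mk, map_smul]
        rfl }
  obtain ⟨φ, hφ⟩ := Module.projective_lifting_property (Submodule.mkQ m) g
    (Submodule.mkQ_surjective m)
  have h3 : Ideal.Quotient.mk m (φ 1) = 1 := by
    have := LinearMap.congr_fun hφ 1
    simpa [g, hψ] using this
  have h4 : φ 1 ∈ m := hle ⟨φ, rfl⟩
  rw [Ideal.Quotient.eq_zero_iff_mem.mpr h4] at h3
  exact zero_ne_one h3

theorem exists_retraction (h2 : ∀ p : PrimeSpectrum S, Module.rankAtStalk (R := S) R p = 2) :
    ∃ φ : R →ₗ[S] S, φ 1 = 1 := by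
  have : (1 : S) ∈ J S R := by rw [J_eq_top S R h2]; trivial
  exact this

theorem main (h2 : ∀ p : PrimeSpectrum S, Module.rankAtStalk (R := S) R p = 2) :
    Module.Projective S (R ⧸ LinearMap.range (Algebra.linearMap S R)) ∧
      ∀ p : PrimeSpectrum S,
        Module.rankAtStalk (R := S) (R ⧸ LinearMap.range (Algebra.linearMap S R)) p = 1 := by
  obtain ⟨φ, hφ⟩ := exists_retraction S R h2
  set N := LinearMap.range (Algebra.linearMap S R) with hN
  have hφa : ∀ s : S, φ (algebraMap S R s) = s := fun s => by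
    rw [Algebra.algebraMap_eq_smul_one, map_smul, hφ, smul_eq_mul, mul_one]
  let τ : R →ₗ[S] R := LinearMap.id - (Algebra.linearMap S R) ∘ₗ φ
  have hτ : N ≤ LinearMap.ker τ := by
    rintro _ ⟨s, rfl⟩
    simp [τ, hφa]
  let σ : (R ⧸ N) →ₗ[S] R := N.liftQ τ hτ
  have hσ : ∀ x : R, σ (Submodule.Quotient.mk x) = x - algebraMap S R (φ x) := fun x => by
    simp [σ, τ]
  have hmk : ∀ s : S, (Submodule.Quotient.mk (algebraMap S R s) : R ⧸ N) = 0 := fun s => by
    rw [Submodule.Quotient.mk_eq_zero]
    exact ⟨s, rfl⟩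
  have hsplit : N.mkQ ∘ₗ σ = LinearMap.id := by
    apply Submodule.linearMap_qext
    ext x
    simp only [LinearMap.coe_comp, Function.comp_apply, Submodule.mkQ_apply, LinearMap.id_coe,
      id_eq]
    rw [hσ, Submodule.Quotient.mk_sub, hmk, sub_zero]
  have hproj : Module.Projective S (R ⧸ N) := Module.Projective.of_split σ N.mkQ hsplit
  refine ⟨hproj, fun p => ?_⟩
  haveI : Nontrivial S := by
    refine ⟨⟨0, 1, fun h01 => p.2.ne_top ?_⟩⟩
    rw [Ideal.eq_top_iff_one, ← h01]
    exact zero_mem _
  have hφσ : ∀ q : R ⧸ N, φ (σ q) = 0 := by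
    intro q
    induction q using Submodule.Quotient.induction_on with
    | H x => rw [hσ, map_sub, hφa, sub_self]
  let e : R ≃ₗ[S] S × (R ⧸ N) :=
    { toFun := fun x => (φ x, Submodule.Quotient.mk x)
      map_add' := fun x y => by simp
      map_smul' := fun s x => by simp
      invFun := fun y => algebraMap S R y.1 + σ y.2
      left_inv := fun x => by
        show algebraMap S R (φ x) + σ (Submodule.Quotient.mk x) = x
        rw [hσ]; ring
      right_inv := by
        rintro ⟨s, q⟩
        induction q using Submodule.Quotient.induction_on with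
        | H x =>
          show (φ (algebraMap S R s + σ (Submodule.Quotient.mk x)),
            (Submodule.Quotient.mk (algebraMap S R s + σ (Submodule.Quotient.mk x)) : R ⧸ N)) =
            (s, Submodule.Quotient.mk x)
          rw [hσ]
          refine Prod.ext ?_ ?_
          · show φ (algebraMap S R s + (x - algebraMap S R (φ x))) = s
            rw [map_add, map_sub, hφa, hφa, sub_self, add_zero]
          · show (Submodule.Quotient.mk (algebraMap S R s + (x - algebraMap S R (φ x))) : R ⧸ N) =
              Submodule.Quotient.mk x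
            rw [Submodule.Quotient.mk_add, Submodule.Quotient.mk_sub, hmk, hmk, zero_add,
              sub_zero] }
  have hr := Module.rankAtStalk_eq_of_equiv e
  rw [Module.rankAtStalk_prod, Module.rankAtStalk_self] at hr
  have := congrFun hr p
  rw [h2 p] at this
  simp only [Pi.add_apply, Pi.one_apply] at this
  omega

end Groth.Agent.H3Rk
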