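import Groth.Prelude.Def_W4sga3xxiRoot
import Mathlib

set_option autoImplicit false

namespace Groth.Agent.H3RootD

variable {ι M N : Type*} [AddCommGroup M] [AddCommGroup N] (P : RootPairing ι ℤ M N)

theorem neg_root (i : ι) : P.root (P.reflectionPerm i i) = -P.root i := by
  rw [P.root_reflectionPerm, P.reflection_apply_self]

/-- An element of `natSpan` is a linear combination with non-negative integer coefficients
supported in `Δ`. -/
theorem natSpan_exists_finsupp (Δ : Set ι) (x : M) (hx : x ∈ RootD.natSpan P Δ) :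
    ∃ c : ι →₀ ℤ, c ∈ Finsupp.supported ℤ ℤ Δ ∧ (∀ d, 0 ≤ c d) ∧
      Finsupp.linearCombination ℤ P.root c = x := by
  classical
  refine AddSubmonoid.closure_induction
    (motive := fun y _ => ∃ c : ι →₀ ℤ, c ∈ Finsupp.supported ℤ ℤ Δ ∧ (∀ d, 0 ≤ c d) ∧
      Finsupp.linearCombination ℤ P.root c = y) ?_ ?_ ?_ hx
  · rintro y ⟨d, hd, rfl⟩
    refine ⟨Finsupp.single d 1, Finsupp.single_mem_supported ℤ 1 hd, fun e => ?_, by simp⟩
    rw [Finsupp.single_apply]
    split_ifs <;> norm_num
  · exact ⟨0, Submodule.zero_mem _, fun _ => le_refl _, by simp⟩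
  · rintro a b _ _ ⟨c1, h1, h1', h1''⟩ ⟨c2, h2, h2', h2''⟩
    exact ⟨c1 + c2, Submodule.add_mem _ h1 h2, fun d => add_nonneg (h1' d) (h2' d),
      by rw [map_add, h1'', h2'']⟩

theorem finsupp_mem_natSpan (Δ : Set ι) (c : ι →₀ ℤ) (hc : c ∈ Finsupp.supported ℤ ℤ Δ)
    (hpos : ∀ d, 0 ≤ c d) : Finsupp.linearCombination ℤ P.root c ∈ RootD.natSpan P Δ := by
  classical
  rw [Finsupp.linearCombination_apply, Finsupp.sum]
  refine AddSubmonoid.sum_mem _ (fun d hd => ?_)
  have hdΔ : d ∈ Δ := hc hd
  obtain ⟨n, hn⟩ := Int.eq_ofNat_of_zero_le (hpos d)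
  rw [hn, natCast_zsmul]
  have hmem : P.root d ∈ RootD.natSpan P Δ := AddSubmonoid.subset_closure ⟨d, hdΔ, rfl⟩
  exact AddSubmonoid.nsmul_mem _ hmem n

/-- Coefficients along a simple system: every root is a combination with all coefficients
of the same sign. -/
theorem exists_coeff (Δ : Set ι) (hΔ : RootD.IsSimpleSys P Δ) (k : ι) :
    ∃ c : ι →₀ ℤ, c ∈ Finsupp.supported ℤ ℤ Δ ∧ ((∀ d, 0 ≤ c d) ∨ (∀ d, c d ≤ 0)) ∧
      Finsupp.linearCombination ℤ P.root c = P.root k := by
  rcases hΔ.mem_or_neg_mem k with h | h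
  · obtain ⟨c, hc, hpos, hsum⟩ := natSpan_exists_finsupp P Δ _ h
    exact ⟨c, hc, Or.inl hpos, hsum⟩
  · obtain ⟨c, hc, hpos, hsum⟩ := natSpan_exists_finsupp P Δ _ h
    refine ⟨-c, Submodule.neg_mem _ hc, Or.inr (fun d => ?_), ?_⟩
    · rw [Finsupp.neg_apply]; linarith [hpos d]
    · rw [map_neg, hsum, neg_neg]

theorem coeff_unique (Δ : Set ι) (hli : LinearIndepOn ℤ P.root Δ) (c1 c2 : ι →₀ ℤ)
    (h1 : c1 ∈ Finsupp.supported ℤ ℤ Δ) (h2 : c2 ∈ Finsupp.supported ℤ ℤ Δ)
    (h : Finsupp.linearCombination ℤ P.root c1 = Finsupp.linearCombination ℤ P.root c2) :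
    c1 = c2 :=
  linearIndepOn_iffₛ.mp hli c1 h1 c2 h2 h

end Groth.Agent.H3RootD

namespace Groth.Agent.H3RootD

variable {ι M N : Type*} [AddCommGroup M] [AddCommGroup N] (P : RootPairing ι ℤ M N)

theorem pairingIn_int (i j : ι) : P.pairingIn ℤ i j = P.pairing i j := by
  have := P.algebraMap_pairingIn ℤ i j
  simpa using this

/-- If a positive multiple of a root `k` is a non-negative combination of roots `a l ≠ k`, one of them
with non-zero coefficient pairs positively with `k` and `root k - root (a l)` is a root. -/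
theorem exists_pairing_pos_sub_mem [Finite ι] {κ : Type*} (T : Finset κ) (a : κ → ι) (m : κ → ℕ)
    (k : ι) (hne : ∀ l ∈ T, a l ≠ k) (c : ℕ) (hc : 0 < c)
    (hk : c • P.root k = ∑ l ∈ T, m l • P.root (a l)) :
    ∃ l ∈ T, m l ≠ 0 ∧ 0 < P.pairing (a l) k ∧ P.root k - P.root (a l) ∈ Set.range P.root := by
  classical
  have h1 : (c : ℤ) * 2 = ∑ l ∈ T, (m l : ℤ) * P.pairing (a l) k := by
    have := congrArg (fun x => P.toLinearMap x (P.coroot k)) hk
    simp only [map_sum, map_nsmul, LinearMap.sum_apply, LinearMap.smul_apply,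
      P.root_coroot_eq_pairing, P.pairing_same, nsmul_eq_mul] at this
    exact_mod_cast this
  have hex : ∃ l ∈ T, 0 < (m l : ℤ) * P.pairing (a l) k := by
    by_contra hcon
    push Not at hcon
    have : ∑ l ∈ T, (m l : ℤ) * P.pairing (a l) k ≤ 0 := Finset.sum_nonpos hcon
    have hc' : (0 : ℤ) < c := by exact_mod_cast hc
    omega
  obtain ⟨l, hl, hpos⟩ := hex
  have hml : m l ≠ 0 := by
    intro h0
    rw [h0] at hpos
    simp at hpos
  have hpair : 0 < P.pairing (a l) k := by
    have hm : (0 : ℤ) ≤ m l := by exact_mod_cast Nat.zero_le _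
    by_contra hle
    rw [not_lt] at hle
    have := mul_nonpos_of_nonneg_of_nonpos hm hle
    omega
  refine ⟨l, hl, hml, hpair, ?_⟩
  have h2 := P.root_sub_root_mem_of_pairingIn_pos (i := a l) (j := k)
    (by rw [pairingIn_int]; exact hpair) (hne l hl)
  rw [← P.neg_mem_range_root_iff, neg_sub]
  exact h2

end Groth.Agent.H3RootD

namespace Groth.Agent.H3RootD

variable {ι M N : Type*} [AddCommGroup M] [AddCommGroup N] (P : RootPairing ι ℤ M N)

theorem natSpan_exists_multiset (S : Set ι) (x : M) (hx : x ∈ RootD.natSpan P S) :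
    ∃ s : Multiset ι, (∀ a ∈ s, a ∈ S) ∧ (s.map P.root).sum = x := by
  refine AddSubmonoid.closure_induction
    (motive := fun y _ => ∃ s : Multiset ι, (∀ a ∈ s, a ∈ S) ∧ (s.map P.root).sum = y) ?_ ?_ ?_ hx
  · rintro y ⟨d, hd, rfl⟩
    exact ⟨{d}, by simpa using hd, by simp⟩
  · exact ⟨0, by simp, by simp⟩
  · rintro a b _ _ ⟨s1, h1, h1'⟩ ⟨s2, h2, h2'⟩
    refine ⟨s1 + s2, fun a ha => ?_, by rw [Multiset.map_add, Multiset.sum_add, h1', h2']⟩
    rcases Multiset.mem_add.mp ha with h | h
    · exact h1 a h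
    · exact h2 a h

theorem multiset_sum_mem_natSpan (S : Set ι) (s : Multiset ι) (hs : ∀ a ∈ s, a ∈ S) :
    (s.map P.root).sum ∈ RootD.natSpan P S := by
  refine AddSubmonoid.multiset_sum_mem _ _ (fun x hx => ?_)
  obtain ⟨a, ha, rfl⟩ := Multiset.mem_map.mp hx
  exact AddSubmonoid.subset_closure ⟨a, hs a ha, rfl⟩

/-- A closed set of roots contains every root that is a non-empty sum of its roots. -/
theorem closed_multiset_sum_mem [Finite ι] (S : Set ι) (hS : RootD.IsClosedSub P S) :
    ∀ (n : ℕ) (s : Multiset ι), Multiset.card s = n → (∀ a ∈ s, a ∈ S) →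
      ∀ k : ι, (s.map P.root).sum = P.root k → k ∈ S := by
  classical
  intro n
  induction n using Nat.strong_induction_on with
  | _ n ih =>
    intro s hcard hs k hk
    by_cases hks : k ∈ s
    · exact hs k hks
    have hne : ∀ l ∈ s.toFinset, (id l : ι) ≠ k := by
      intro l hl h
      exact hks (h ▸ Multiset.mem_toFinset.mp hl)
    have hk' : (1 : ℕ) • P.root k = ∑ l ∈ s.toFinset, s.count l • P.root (id l) := by
      rw [one_smul, ← hk, Finset.sum_multiset_map_count]
      rfl
    obtain ⟨a, ha, -, -, ⟨k', hk''⟩⟩ := exists_pairing_pos_sub_mem P s.toFinset id (fun l => s.count l) k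
      hne 1 one_pos hk'
    have has : a ∈ s := Multiset.mem_toFinset.mp ha
    have hsum : ((s.erase a).map P.root).sum = P.root k' := by
      have := Multiset.sum_map_erase (f := P.root) has
      rw [hk'', ← hk, ← this]
      simp
    have hcard' : Multiset.card (s.erase a) < n := by
      rw [← hcard]
      exact Multiset.card_erase_lt_of_mem has
    have hk'S : k' ∈ S := ih _ hcard' (s.erase a) rfl
      (fun b hb => hs b (Multiset.mem_of_mem_erase hb)) k' hsum
    refine hS hk'S (hs a has) ?_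
    rw [hk'']; simp

end Groth.Agent.H3RootD

namespace Groth.Agent.H3RootD

variable {ι M N : Type*} [AddCommGroup M] [AddCommGroup N] (P : RootPairing ι ℤ M N)

/-- A root that is a non-negative combination of roots of `Δ`, and is not in `Δ`, is the sum of an
element of `Δ` pairing positively with it and another such combination. -/
theorem pos_nonsimple_decomp [Finite ι] (Δ : Set ι) (k : ι) (hk : P.root k ∈ RootD.natSpan P Δ)
    (hkΔ : k ∉ Δ) :
    ∃ l ∈ Δ, ∃ k' : ι, 0 < P.pairing l k ∧ P.root k' = P.root k - P.root l ∧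
      P.root k' ∈ RootD.natSpan P Δ := by
  classical
  obtain ⟨c, hc, hpos, hsum⟩ := natSpan_exists_finsupp P Δ _ hk
  have hk1 : (1 : ℕ) • P.root k = ∑ d ∈ c.support, (c d).toNat • P.root (id d) := by
    rw [one_smul, ← hsum, Finsupp.linearCombination_apply, Finsupp.sum]
    refine Finset.sum_congr rfl (fun d _ => ?_)
    rw [← natCast_zsmul, Int.toNat_of_nonneg (hpos d)]
    rfl
  have hne : ∀ d ∈ c.support, (id d : ι) ≠ k := by
    intro d hd h
    exact hkΔ (h ▸ hc hd)
  obtain ⟨l, hl, hml, hpair, ⟨k', hk'⟩⟩ := exists_pairing_pos_sub_mem P c.support id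
    (fun d => (c d).toNat) k hne 1 one_pos hk1
  refine ⟨l, hc hl, k', hpair, hk', ?_⟩
  have hcl : 1 ≤ c l := by
    have := hpos l
    have h0 : c l ≠ 0 := Finsupp.mem_support_iff.mp hl
    omega
  have : P.root k' = Finsupp.linearCombination ℤ P.root (c - Finsupp.single l 1) := by
    rw [map_sub, hsum, hk']
    simp
  rw [this]
  refine finsupp_mem_natSpan P Δ _ (Submodule.sub_mem _ hc
    (Finsupp.single_mem_supported ℤ 1 (hc hl))) (fun d => ?_)
  rw [Finsupp.sub_apply, Finsupp.single_apply]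
  split_ifs with h
  · subst h; omega
  · simpa using hpos d

end Groth.Agent.H3RootD

namespace Groth.Agent.H3RootD

variable {ι M N : Type*} [AddCommGroup M] [AddCommGroup N] (P : RootPairing ι ℤ M N)

include P in
theorem tfM : IsAddTorsionFree M := by
  have : Module.IsReflexive ℤ M := .of_isPerfPair P.toLinearMap
  exact .of_isTorsionFree ℤ M

include P in
theorem tfN : IsAddTorsionFree N := by
  have : Module.IsReflexive ℤ N := .of_isPerfPair P.flip.toLinearMap
  exact .of_isTorsionFree ℤ N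

end Groth.Agent.H3RootD

namespace Groth.Agent.H3RootD

variable {ι M N : Type*} [AddCommGroup M] [AddCommGroup N] (P : RootPairing ι ℤ M N)

open RootPairing

theorem aut_smul_root (g : P.Aut) (i : ι) : g • P.root i = P.root (g • i) :=
  (Equiv.root_indexEquiv_eq_smul (P := P) i g).symm

theorem aut_smul_def (g : P.Aut) (m : M) : g • m = g.weightMap m := rfl

theorem aut_pairing' (g : P.Aut) (m : M) (n : N) :
    P.toLinearMap (g • m) n = P.toLinearMap m (g.coweightMap n) := by
  have := Hom.weight_coweight_transpose_apply P P n g.toHom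
  have h2 := congrArg (fun φ => φ m) this
  rw [aut_smul_def]
  simpa using h2

theorem aut_coweight_coroot (g : P.Aut) (i : ι) : g.coweightMap (P.coroot (g • i)) = P.coroot i := by
  have := Hom.coroot_coweightMap_apply P P (g • i) g.toHom
  rw [this]
  congr 1
  exact g.indexEquiv.symm_apply_apply i

theorem aut_pairing (g : P.Aut) (m : M) (i : ι) :
    P.toLinearMap (g • m) (P.coroot (g • i)) = P.toLinearMap m (P.coroot i) := by
  rw [aut_pairing', aut_coweight_coroot]

theorem aut_pairing_idx (g : P.Aut) (i j : ι) : P.pairing (g • i) (g • j) = P.pairing i j := by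
  rw [← P.root_coroot_eq_pairing, ← aut_smul_root, aut_pairing, P.root_coroot_eq_pairing]

theorem aut_reflection_conj (u : P.Aut) (i : ι) :
    u * Equiv.reflection P i * u⁻¹ = Equiv.reflection P (u • i) := by
  apply Equiv.weightHom_injective P
  ext x
  have h1 : ∀ (g h : P.Aut) (y : M), Equiv.weightHom P (g * h) y = g • (h • y) := fun g h y => rfl
  have h2 : ∀ (g : P.Aut) (y : M), Equiv.weightHom P g y = g • y := fun g y => rfl
  rw [h2, h2, mul_smul, mul_smul, Equiv.reflection_smul, Equiv.reflection_smul, P.reflection_apply,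
    P.reflection_apply, smul_sub, smul_inv_smul, smul_comm u, aut_smul_root]
  congr 2
  change P.toLinearMap (u⁻¹ • x) (P.coroot i) = P.toLinearMap x (P.coroot (u • i))
  rw [← aut_pairing P u (u⁻¹ • x) i, smul_inv_smul]

end Groth.Agent.H3RootD
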