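import Mathlib
import Groth.Agent.Lib.helper3.RootD

namespace Groth.Agent.H3RootD

variable {ι M N : Type*} [AddCommGroup M] [AddCommGroup N] (P : RootPairing ι ℤ M N)

theorem pairing_pos_symm [Finite ι] (i j : ι) : 0 < P.pairing i j ↔ 0 < P.pairing j i := by
  have := P.zero_lt_pairingIn_iff' ℤ (i := i) (j := j)
  rwa [pairingIn_int, pairingIn_int] at this

theorem pairing_neg_symm [Finite ι] (i j : ι) : P.pairing i j < 0 ↔ P.pairing j i < 0 := by
  have := P.pairingIn_lt_zero_iff ℤ (i := i) (j := j)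
  rwa [pairingIn_int, pairingIn_int] at this

theorem pairing_zero_symm [Finite ι] (i j : ι) : P.pairing i j = 0 ↔ P.pairing j i = 0 := by
  have h1 := pairing_pos_symm P i j
  have h2 := pairing_neg_symm P i j
  constructor <;> intro h <;> omega

open Classical in
/-- Coefficient vector of the root `k` along `Δ`. -/
noncomputable def coeff (Δ : Set ι) (k : ι) : ι →₀ ℤ :=
  if h : ∃ c : ι →₀ ℤ, c ∈ Finsupp.supported ℤ ℤ Δ ∧ Finsupp.linearCombination ℤ P.root c = P.root k
  then h.choose else 0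

variable {P} {Δ : Set ι}

theorem coeff_mem (_hΔ : RootD.IsSimpleSys P Δ) (k : ι) :
    coeff P Δ k ∈ Finsupp.supported ℤ ℤ Δ := by
  unfold coeff
  split_ifs with h
  · exact h.choose_spec.1
  · exact Submodule.zero_mem _

theorem coeff_sum (hΔ : RootD.IsSimpleSys P Δ) (k : ι) :
    Finsupp.linearCombination ℤ P.root (coeff P Δ k) = P.root k := by
  have h : ∃ c : ι →₀ ℤ, c ∈ Finsupp.supported ℤ ℤ Δ ∧
      Finsupp.linearCombination ℤ P.root c = P.root k := by
    obtain ⟨c, hc, -, hs⟩ := exists_coeff P Δ hΔ k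
    exact ⟨c, hc, hs⟩
  unfold coeff
  rw [dif_pos h]
  exact h.choose_spec.2

theorem coeff_eq (hΔ : RootD.IsSimpleSys P Δ) (k : ι) (c : ι →₀ ℤ)
    (hc : c ∈ Finsupp.supported ℤ ℤ Δ) (hs : Finsupp.linearCombination ℤ P.root c = P.root k) :
    coeff P Δ k = c :=
  coeff_unique P Δ hΔ.linInd _ _ (coeff_mem hΔ k) hc ((coeff_sum hΔ k).trans hs.symm)

theorem coeff_apply_of_notMem (hΔ : RootD.IsSimpleSys P Δ) (k : ι) {d : ι} (hd : d ∉ Δ) :
    coeff P Δ k d = 0 := by
  by_contra h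
  exact hd (coeff_mem hΔ k (Finsupp.mem_support_iff.mpr h))

theorem coeff_sign (hΔ : RootD.IsSimpleSys P Δ) (k : ι) :
    (∀ d, 0 ≤ coeff P Δ k d) ∨ (∀ d, coeff P Δ k d ≤ 0) := by
  obtain ⟨c, hc, hsign, hs⟩ := exists_coeff P Δ hΔ k
  rw [coeff_eq hΔ k c hc hs]
  exact hsign

theorem coeff_ne_zero (hΔ : RootD.IsSimpleSys P Δ) (k : ι) : coeff P Δ k ≠ 0 := by
  intro h
  have := coeff_sum hΔ k
  rw [h, map_zero] at this
  exact P.ne_zero k this.symm

theorem mem_posOf_iff (hΔ : RootD.IsSimpleSys P Δ) (k : ι) :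
    k ∈ RootD.posOf P Δ ↔ ∀ d, 0 ≤ coeff P Δ k d := by
  constructor
  · intro hk
    obtain ⟨c, hc, hpos, hs⟩ := natSpan_exists_finsupp P Δ _ hk
    rw [coeff_eq hΔ k c hc hs]
    exact hpos
  · intro h
    change P.root k ∈ RootD.natSpan P Δ
    rw [← coeff_sum hΔ k]
    exact finsupp_mem_natSpan P Δ _ (coeff_mem hΔ k) h

theorem coeff_neg (hΔ : RootD.IsSimpleSys P Δ) (k : ι) :
    coeff P Δ (P.reflectionPerm k k) = -coeff P Δ k := by
  refine coeff_eq hΔ _ _ (Submodule.neg_mem _ (coeff_mem hΔ k)) ?_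
  rw [map_neg, coeff_sum hΔ k, neg_root]

theorem neg_mem_natSpan_iff (hΔ : RootD.IsSimpleSys P Δ) (k : ι) :
    -P.root k ∈ RootD.natSpan P Δ ↔ ∀ d, coeff P Δ k d ≤ 0 := by
  have := mem_posOf_iff hΔ (P.reflectionPerm k k)
  rw [coeff_neg hΔ k] at this
  change P.root (P.reflectionPerm k k) ∈ RootD.natSpan P Δ ↔ _ at this
  rw [neg_root] at this
  rw [this]
  simp

theorem coeff_simple (hΔ : RootD.IsSimpleSys P Δ) {d : ι} (hd : d ∈ Δ) :
    coeff P Δ d = Finsupp.single d 1 :=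
  coeff_eq hΔ d _ (Finsupp.single_mem_supported ℤ 1 hd) (by simp)

theorem coeff_reflection (hΔ : RootD.IsSimpleSys P Δ) (i k : ι) :
    coeff P Δ (P.reflectionPerm i k) = coeff P Δ k - P.pairing k i • coeff P Δ i := by
  refine coeff_eq hΔ _ _ (Submodule.sub_mem _ (coeff_mem hΔ k)
    (Submodule.smul_mem _ _ (coeff_mem hΔ i))) ?_
  rw [map_sub, map_smul, coeff_sum hΔ, coeff_sum hΔ, P.root_reflectionPerm, P.reflection_apply_root]

/-- If some coefficient is positive, the root is positive. -/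
theorem mem_posOf_of_coeff_pos (hΔ : RootD.IsSimpleSys P Δ) (k : ι) (d : ι)
    (hd : 0 < coeff P Δ k d) : k ∈ RootD.posOf P Δ := by
  rw [mem_posOf_iff hΔ]
  rcases coeff_sign hΔ k with h | h
  · exact h
  · have := h d
    omega

theorem pos_or_neg (hΔ : RootD.IsSimpleSys P Δ) (k : ι) :
    k ∈ RootD.posOf P Δ ∨ P.reflectionPerm k k ∈ RootD.posOf P Δ := by
  rcases hΔ.mem_or_neg_mem k with h | h
  · exact Or.inl h
  · right
    change P.root _ ∈ RootD.natSpan P Δ
    rwa [neg_root]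

theorem not_pos_and_neg (hΔ : RootD.IsSimpleSys P Δ) (k : ι) (h1 : k ∈ RootD.posOf P Δ)
    (h2 : P.reflectionPerm k k ∈ RootD.posOf P Δ) : False := by
  rw [mem_posOf_iff hΔ] at h1 h2
  rw [coeff_neg hΔ] at h2
  apply coeff_ne_zero hΔ k
  ext d
  have := h1 d
  have := h2 d
  simp only [Finsupp.coe_neg, Pi.neg_apply, Finsupp.coe_zero, Pi.zero_apply] at *
  omega

end Groth.Agent.H3RootD

namespace Groth.Agent.H3RootD

variable {ι M N : Type*} [AddCommGroup M] [AddCommGroup N] {P : RootPairing ι ℤ M N} {Δ : Set ι}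

/-- A root proportional to a simple root `l`: if all coefficients off `l` vanish then the root is
`±l` or `±2l`. -/
theorem coeff_eq_single_cases [Finite ι] (hΔ : RootD.IsSimpleSys P Δ) (k l : ι)
    (h : ∀ d, d ≠ l → coeff P Δ k d = 0) :
    coeff P Δ k l = 1 ∨ coeff P Δ k l = -1 ∨ coeff P Δ k l = 2 ∨ coeff P Δ k l = -2 := by
  classical
  have hc : coeff P Δ k = Finsupp.single l (coeff P Δ k l) := by
    ext d
    rw [Finsupp.single_apply]
    split_ifs with hd
    · rw [hd]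
    · exact h d (Ne.symm hd)
  have hroot : P.root k = coeff P Δ k l • P.root l := by
    rw [← coeff_sum hΔ k, hc]
    simp
  set a := coeff P Δ k l with ha
  have h1 : (2 : ℤ) = a * P.pairing l k := by
    have := congrArg (fun x => P.toLinearMap x (P.coroot k)) hroot
    simpa [P.root_coroot_eq_pairing] using this
  have hdvd : a ∣ 2 := ⟨_, h1⟩
  have hle : a ≤ 2 := Int.le_of_dvd (by norm_num) hdvd
  have hge : -2 ≤ a := by
    have : -a ∣ 2 := (neg_dvd).mpr hdvd
    have := Int.le_of_dvd (by norm_num) this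
    linarith
  have h0 : a ≠ 0 := by
    rintro h0
    rw [h0] at h1
    simp at h1
  omega

theorem exists_other_coeff_pos [Finite ι] (hΔ : RootD.IsSimpleSys P Δ) (k : ι)
    (hk : k ∈ RootD.posOf P Δ) (hkΔ : k ∉ Δ) (hind : RootD.IsIndiv P k) (l : ι) (hl : l ∈ Δ) :
    ∃ d, d ≠ l ∧ 0 < coeff P Δ k d := by
  classical
  by_contra hcon
  push Not at hcon
  have hpos := (mem_posOf_iff hΔ k).mp hk
  have hz : ∀ d, d ≠ l → coeff P Δ k d = 0 := fun d hd => le_antisymm (hcon d hd) (hpos d)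
  have hc : coeff P Δ k = Finsupp.single l (coeff P Δ k l) := by
    ext d
    rw [Finsupp.single_apply]
    split_ifs with hd
    · rw [hd]
    · exact hz d (Ne.symm hd)
  have hroot : P.root k = coeff P Δ k l • P.root l := by
    rw [← coeff_sum hΔ k, hc]
    simp
  have := hpos l
  rcases coeff_eq_single_cases hΔ k l hz with h | h | h | h
  · rw [h, one_smul] at hroot
    exact hkΔ (P.root.injective hroot ▸ hl)
  · omega
  · rw [h] at hroot
    exact hind l hroot.symm
  · omega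

end Groth.Agent.H3RootD

namespace Groth.Agent.H3RootD

variable {ι M N : Type*} [AddCommGroup M] [AddCommGroup N] {P : RootPairing ι ℤ M N} {Δ : Set ι}

theorem mem_inSpan_iff (hΔ : RootD.IsSimpleSys P Δ) {Δ' : Set ι} (hsub : Δ' ⊆ Δ) (k : ι) :
    k ∈ RootD.inSpan P Δ' ↔ ∀ d, d ∉ Δ' → coeff P Δ k d = 0 := by
  constructor
  · intro hk d hd
    obtain ⟨c, hc, hs⟩ := (Finsupp.mem_span_image_iff_linearCombination ℤ).mp hk
    have hc' : c ∈ Finsupp.supported ℤ ℤ Δ := Finsupp.supported_mono hsub hc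
    rw [coeff_eq hΔ k c hc' hs]
    by_contra h
    exact hd (hc (Finsupp.mem_support_iff.mpr h))
  · intro h
    change P.root k ∈ Submodule.span ℤ (P.root '' Δ')
    rw [← coeff_sum hΔ k]
    refine (Finsupp.mem_span_image_iff_linearCombination ℤ).mpr ⟨_, ?_, rfl⟩
    intro d hd
    by_contra hd'
    exact (Finsupp.mem_support_iff.mp hd) (h d hd')

theorem reflection_smul_idx (i k : ι) : (RootPairing.Equiv.reflection P i) • k = P.reflectionPerm i k := rfl

theorem coeff_reflection_simple (hΔ : RootD.IsSimpleSys P Δ) {i : ι} (hi : i ∈ Δ) (k d : ι) (hd : d ≠ i) :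
    coeff P Δ (P.reflectionPerm i k) d = coeff P Δ k d := by
  classical
  rw [coeff_reflection hΔ, coeff_simple hΔ hi]
  simp [hd.symm]


end Groth.Agent.H3RootD
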