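import Mathlib
import Groth.Agent.Lib.helper3.RootCoeff

namespace Groth.Agent.H3RootD

variable {ι M N : Type*} [AddCommGroup M] [AddCommGroup N] {P : RootPairing ι ℤ M N} {Δ : Set ι}

/-- Height of a root along `Δ`. -/
noncomputable def ht (P : RootPairing ι ℤ M N) (Δ : Set ι) (k : ι) : ℤ :=
  (coeff P Δ k).sum fun _ a => a

theorem ht_nonneg (hΔ : RootD.IsSimpleSys P Δ) (k : ι) (hk : k ∈ RootD.posOf P Δ) :
    0 ≤ ht P Δ k :=
  Finset.sum_nonneg (fun d _ => (mem_posOf_iff hΔ k).mp hk d)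

/-- Decomposition of a positive non-simple root, with coefficients. -/
theorem pos_decomp [Finite ι] (hΔ : RootD.IsSimpleSys P Δ) (k : ι) (hk : k ∈ RootD.posOf P Δ)
    (hkΔ : k ∉ Δ) :
    ∃ l ∈ Δ, ∃ k' : ι, 0 < P.pairing l k ∧ P.root k = P.root k' + P.root l ∧
      k' ∈ RootD.posOf P Δ ∧ coeff P Δ k' = coeff P Δ k - Finsupp.single l 1 ∧
      ht P Δ k' = ht P Δ k - 1 := by
  obtain ⟨l, hl, k', hpair, hk', hk'pos⟩ := pos_nonsimple_decomp P Δ k hk hkΔ
  have hc : coeff P Δ k' = coeff P Δ k - Finsupp.single l 1 := by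
    refine coeff_eq hΔ _ _ (Submodule.sub_mem _ (coeff_mem hΔ k)
      (Finsupp.single_mem_supported ℤ 1 hl)) ?_
    rw [map_sub, coeff_sum hΔ, hk']
    simp
  refine ⟨l, hl, k', hpair, by rw [hk']; abel, hk'pos, hc, ?_⟩
  unfold ht
  rw [hc, Finsupp.sum_sub_index (fun _ _ _ => rfl), Finsupp.sum_single_index rfl]

theorem pos_induction [Finite ι] (hΔ : RootD.IsSimpleSys P Δ) {p : ι → Prop} (h0 : ∀ d ∈ Δ, p d)
    (hstep : ∀ k k' l, k ∈ RootD.posOf P Δ → l ∈ Δ → k' ∈ RootD.posOf P Δ → p k' →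
      P.root k = P.root k' + P.root l → 0 < P.pairing l k →
      coeff P Δ k' = coeff P Δ k - Finsupp.single l 1 → p k)
    (k : ι) (hk : k ∈ RootD.posOf P Δ) : p k := by
  have key : ∀ n : ℕ, ∀ k, k ∈ RootD.posOf P Δ → ht P Δ k = n → p k := by
    intro n
    induction n using Nat.strong_induction_on with
    | _ n ih =>
      intro k hk hn
      by_cases hkΔ : k ∈ Δ
      · exact h0 k hkΔ
      obtain ⟨l, hl, k', hpair, hsum, hk'pos, hc, hht⟩ := pos_decomp hΔ k hk hkΔ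
      have h0' := ht_nonneg hΔ k' hk'pos
      have : ht P Δ k' = ((n - 1 : ℕ) : ℤ) := by omega
      have hlt : n - 1 < n := by omega
      exact hstep k k' l hk hl hk'pos (ih (n - 1) hlt k' hk'pos this) hsum hpair hc
  have h0' := ht_nonneg hΔ k hk
  exact key (ht P Δ k).toNat k hk (by omega)

end Groth.Agent.H3RootD
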