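import Mathlib
import Groth.Agent.Lib.helper3.RootCoeff
import Groth.Agent.Lib.helper3.RootHt

namespace Groth.Agent.H3RootD

variable {ι M N : Type*} [AddCommGroup M] [AddCommGroup N] {P : RootPairing ι ℤ M N} {Δ : Set ι}

theorem pairing_eq_sum (hΔ : RootD.IsSimpleSys P Δ) (k i : ι) :
    P.pairing k i = (coeff P Δ k).sum (fun d a => a * P.pairing d i) := by
  have := congrArg (fun x => P.toLinearMap x (P.coroot i)) (coeff_sum hΔ k)
  simp only [P.root_coroot_eq_pairing] at this
  rw [← this, Finsupp.linearCombination_apply, Finsupp.sum, map_sum, LinearMap.sum_apply]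
  simp [Finsupp.sum, P.root_coroot_eq_pairing]

theorem inSpan_neg (A : Set ι) (k : ι) (hk : P.reflectionPerm k k ∈ RootD.inSpan P A) :
    k ∈ RootD.inSpan P A := by
  change P.root _ ∈ Submodule.span ℤ (P.root '' A) at hk
  rw [neg_root] at hk
  exact (Submodule.neg_mem_iff _).mp hk

theorem simple_mem_inSpan (A : Set ι) {d : ι} (hd : d ∈ A) : d ∈ RootD.inSpan P A :=
  Submodule.subset_span ⟨d, hd, rfl⟩

theorem orth_step_false [Finite ι] (hΔ : RootD.IsSimpleSys P Δ) (A : Set ι) (hA : A ⊆ Δ)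
    (k k' l : ι) (hl : l ∈ Δ) (hlA : l ∉ A) (horth : ∀ d ∈ A, P.pairing d l = 0)
    (hk' : k' ∈ RootD.inSpan P A) (hk'pos : k' ∈ RootD.posOf P Δ)
    (hc : coeff P Δ k' = coeff P Δ k - Finsupp.single l 1) : False := by
  classical
  rw [mem_inSpan_iff hΔ hA] at hk'
  have hpair' : P.pairing k' l = 0 := by
    rw [pairing_eq_sum hΔ]
    refine Finset.sum_eq_zero (fun d hd => ?_)
    have hdA : d ∈ A := by
      by_contra h
      exact (Finsupp.mem_support_iff.mp hd) (hk' d h)
    simp [horth d hdA]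
  have hck : coeff P Δ k = coeff P Δ k' + Finsupp.single l 1 := by rw [hc]; abel
  have hpair : P.pairing k l = 2 := by
    rw [pairing_eq_sum hΔ, hck, Finsupp.sum_add_index' (by simp) (by intros; ring),
      ← pairing_eq_sum hΔ, hpair']
    simp
  have hrefl : coeff P Δ (P.reflectionPerm l k) = coeff P Δ k' - Finsupp.single l 1 := by
    rw [coeff_reflection hΔ, coeff_simple hΔ hl, hpair, hck]
    ext d
    simp only [Finsupp.coe_sub, Finsupp.coe_add, Finsupp.coe_smul, Pi.sub_apply, Pi.add_apply,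
      Pi.smul_apply, Finsupp.single_apply, smul_eq_mul]
    split_ifs <;> ring
  obtain ⟨d, hd⟩ : ∃ d, coeff P Δ k' d ≠ 0 := by
    by_contra h
    push Not at h
    exact coeff_ne_zero hΔ k' (Finsupp.ext h)
  have hdA : d ∈ A := by
    by_contra h
    exact hd (hk' d h)
  have hdl : d ≠ l := fun h => hlA (h ▸ hdA)
  have hdpos : 0 < coeff P Δ k' d := lt_of_le_of_ne ((mem_posOf_iff hΔ k').mp hk'pos d) (Ne.symm hd)
  have hl0 : coeff P Δ k' l = 0 := hk' l hlA
  rcases coeff_sign hΔ (P.reflectionPerm l k) with h | h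
  · have := h l
    rw [hrefl] at this
    simp [hl0] at this
  · have := h d
    rw [hrefl] at this
    simp [hdl.symm] at this
    omega


theorem orth_partition [Finite ι] (hΔ : RootD.IsSimpleSys P Δ) (Δ' : Set ι)
    (hsub : Δ' ⊆ Δ) (horth : ∀ i ∈ Δ', ∀ j ∈ Δ \ Δ', P.IsOrthogonal i j) (k : ι) :
    (k ∈ RootD.inSpan P Δ' ∨ k ∈ RootD.inSpan P (Δ \ Δ')) ∧
      ¬ (k ∈ RootD.inSpan P Δ' ∧ k ∈ RootD.inSpan P (Δ \ Δ')) := by
  have hsub' : Δ \ Δ' ⊆ Δ := Set.sdiff_subset
  constructor
  · have hpos : ∀ k, k ∈ RootD.posOf P Δ →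
        (k ∈ RootD.inSpan P Δ' ∨ k ∈ RootD.inSpan P (Δ \ Δ')) := by
      intro k hk
      refine pos_induction hΔ (p := fun k => k ∈ RootD.inSpan P Δ' ∨ k ∈ RootD.inSpan P (Δ \ Δ'))
        ?_ ?_ k hk
      · intro d hd
        by_cases hd' : d ∈ Δ'
        · exact Or.inl (simple_mem_inSpan _ hd')
        · exact Or.inr (simple_mem_inSpan _ ⟨hd, hd'⟩)
      · intro k k' l hk hl hk'pos hp hsum _ hc
        rcases hp with hp | hp
        · by_cases hl' : l ∈ Δ'
          · left
            change P.root k ∈ Submodule.span ℤ (P.root '' Δ')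
            rw [hsum]
            exact Submodule.add_mem _ hp (simple_mem_inSpan _ hl')
          · exfalso
            exact orth_step_false hΔ Δ' hsub k k' l hl hl'
              (fun d hd => (horth d hd l ⟨hl, hl'⟩).1) hp hk'pos hc
        · by_cases hl' : l ∈ Δ'
          · exfalso
            exact orth_step_false hΔ (Δ \ Δ') hsub' k k' l hl (fun h => h.2 hl')
              (fun d hd => (horth l hl' d hd).2) hp hk'pos hc
          · right
            change P.root k ∈ Submodule.span ℤ (P.root '' (Δ \ Δ'))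
            rw [hsum]
            exact Submodule.add_mem _ hp (simple_mem_inSpan _ ⟨hl, hl'⟩)
    rcases pos_or_neg hΔ k with h | h
    · exact hpos k h
    · rcases hpos _ h with h' | h'
      · exact Or.inl (inSpan_neg _ _ h')
      · exact Or.inr (inSpan_neg _ _ h')
  · rintro ⟨h1, h2⟩
    rw [mem_inSpan_iff hΔ hsub] at h1
    rw [mem_inSpan_iff hΔ hsub'] at h2
    apply coeff_ne_zero hΔ k
    ext d
    by_cases hd : d ∈ Δ'
    · exact h2 d (fun h => h.2 hd)
    · exact h1 d hd


end Groth.Agent.H3RootD
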