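import Mathlib
import Groth.Agent.Lib.helper3.RootOrth

namespace Groth.Agent.H3RootD

variable {ι M N : Type*} [AddCommGroup M] [AddCommGroup N] {P : RootPairing ι ℤ M N} {Δ : Set ι}

theorem neg_neg_idx (k : ι) :
    P.reflectionPerm (P.reflectionPerm k k) (P.reflectionPerm k k) = k := by
  apply P.root.injective
  rw [neg_root, neg_root, neg_neg]

/-- A closed symmetric set of roots containing `A ⊆ Δ` contains all roots in the span of `A`. -/
theorem inSpan_subset_of_closed [Finite ι] (hΔ : RootD.IsSimpleSys P Δ) (A : Set ι) (hA : A ⊆ Δ)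
    (R : Set ι) (hc : RootD.IsClosedSub P R) (hs : RootD.IsSymmSub P R) (hAR : A ⊆ R) :
    RootD.inSpan P A ⊆ R := by
  classical
  have hpos : ∀ k, k ∈ RootD.posOf P Δ → k ∈ RootD.inSpan P A → k ∈ R := by
    intro k hk
    refine pos_induction hΔ (p := fun k => k ∈ RootD.inSpan P A → k ∈ R) ?_ ?_ k hk
    · intro d hd hdA
      rw [mem_inSpan_iff hΔ hA] at hdA
      by_contra hdR
      have hdA' : d ∉ A := fun h => hdR (hAR h)
      have := hdA d hdA'
      rw [coeff_simple hΔ hd] at this
      simp at this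
    · intro k k' l hk hl hk'pos ih hsum _ hck hkA
      rw [mem_inSpan_iff hΔ hA] at hkA
      have hlA : l ∈ A := by
        by_contra hlA
        have h1 := hkA l hlA
        have h2 := (mem_posOf_iff hΔ k').mp hk'pos l
        rw [hck] at h2
        simp [h1] at h2
      have hk'A : k' ∈ RootD.inSpan P A := by
        rw [mem_inSpan_iff hΔ hA]
        intro d hd
        have hdl : l ≠ d := fun h => hd (h ▸ hlA)
        rw [hck]
        simp [hkA d hd, hdl]
      exact hc (ih hk'A) (hAR hlA) hsum
  intro k hkA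
  rcases pos_or_neg hΔ k with h | h
  · exact hpos k h hkA
  · have hnegA : P.reflectionPerm k k ∈ RootD.inSpan P A := by
      apply inSpan_neg
      rwa [neg_neg_idx]
    have := hs (hpos _ h hnegA)
    rwa [neg_neg_idx] at this

theorem simple_pairing_nonpos [Finite ι] (hΔ : RootD.IsSimpleSys P Δ) {i j : ι} (hi : i ∈ Δ)
    (hj : j ∈ Δ) (hij : i ≠ j) : P.pairing i j ≤ 0 := by
  classical
  by_contra h
  push Not at h
  obtain ⟨m, hm⟩ := P.root_sub_root_mem_of_pairingIn_pos (i := i) (j := j)
    (by rw [pairingIn_int]; exact h) hij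
  have hc : coeff P Δ m = Finsupp.single i 1 - Finsupp.single j 1 := by
    refine coeff_eq hΔ _ _ (Submodule.sub_mem _ (Finsupp.single_mem_supported ℤ 1 hi)
      (Finsupp.single_mem_supported ℤ 1 hj)) ?_
    rw [hm]; simp
  rcases coeff_sign hΔ m with h' | h'
  · have := h' j
    rw [hc] at this
    simp [hij] at this
  · have := h' i
    rw [hc] at this
    simp [hij.symm] at this

theorem simple_root_ne_neg (hΔ : RootD.IsSimpleSys P Δ) {i j : ι} (hi : i ∈ Δ)
    (hj : j ∈ Δ) : P.root i ≠ -P.root j := by
  classical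
  intro h
  have h1 : coeff P Δ i = -Finsupp.single j 1 := by
    refine coeff_eq hΔ _ _ (Submodule.neg_mem _ (Finsupp.single_mem_supported ℤ 1 hj)) ?_
    rw [h]; simp
  rw [coeff_simple hΔ hi] at h1
  have := DFunLike.congr_fun h1 i
  simp [Finsupp.single_apply] at this
  split_ifs at this
  omega


end Groth.Agent.H3RootD
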