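import Mathlib
import Groth.Agent.Lib.helper3.RootD

namespace Groth.Agent.H3RootD

variable {ι M N : Type*} [AddCommGroup M] [AddCommGroup N] (P : RootPairing ι ℤ M N)

open RootPairing

theorem eq_zero_of_mem_span_of_pairing_zero [Finite ι] (x : M)
    (hx : x ∈ Submodule.span ℤ (Set.range P.root)) (h : ∀ i, P.toLinearMap x (P.coroot i) = 0) :
    x = 0 := by
  have : Fintype ι := Fintype.ofFinite ι
  refine P.eq_zero_of_mem_rootSpan_of_rootForm_self_eq_zero hx ?_
  rw [P.rootForm_apply_apply]
  refine Finset.sum_eq_zero (fun i _ => ?_)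
  have : P.coroot' i x = 0 := h i
  rw [this, mul_zero]

theorem aut_smul_mem_span (g : P.Aut) (x : M) (hx : x ∈ Submodule.span ℤ (Set.range P.root)) :
    g • x ∈ Submodule.span ℤ (Set.range P.root) := by
  induction hx using Submodule.span_induction with
  | mem y hy =>
    obtain ⟨i, rfl⟩ := hy
    rw [aut_smul_root]
    exact Submodule.subset_span ⟨_, rfl⟩
  | zero => rw [smul_zero]; exact Submodule.zero_mem _
  | add y z _ _ hy hz => rw [smul_add]; exact Submodule.add_mem _ hy hz
  | smul a y _ hy => rw [smul_comm]; exact Submodule.smul_mem _ _ hy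

theorem aut_eq_of_index_eq [Finite ι] (u v : P.Aut) (hidx : ∀ i : ι, u • i = v • i)
    (hs : ∀ m : M, ∃ n : ℕ, 0 < n ∧ n • (u • m - v • m) ∈ Submodule.span ℤ (Set.range P.root)) :
    u = v := by
  have : IsAddTorsionFree M := tfM P
  apply Equiv.weightHom_injective P
  ext m
  change u • m = v • m
  obtain ⟨n, hn, hmem⟩ := hs m
  have hz : n • (u • m - v • m) = 0 := by
    refine eq_zero_of_mem_span_of_pairing_zero P _ hmem (fun i => ?_)
    obtain ⟨j, rfl⟩ : ∃ j, u • j = i := ⟨u⁻¹ • i, smul_inv_smul u i⟩
    rw [map_nsmul, LinearMap.smul_apply, map_sub, LinearMap.sub_apply, aut_pairing, hidx j,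
      aut_pairing, sub_self, smul_zero]
  have := (smul_eq_zero_iff_right (Nat.pos_iff_ne_zero.mp hn)).mp hz
  exact sub_eq_zero.mp this

theorem weyl_smul_sub_mem_span (w : P.Aut) (hw : w ∈ P.weylGroup) (m : M) :
    w • m - m ∈ Submodule.span ℤ (Set.range P.root) := by
  revert m
  induction hw using weylGroup.induction with
  | mem i =>
    intro m
    rw [Equiv.reflection_smul, P.reflection_apply, sub_sub_cancel_left]
    exact Submodule.neg_mem _ (Submodule.smul_mem _ _ (Submodule.subset_span ⟨i, rfl⟩))
  | one => intro m; rw [one_smul, sub_self]; exact Submodule.zero_mem _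
  | mul x y _ _ hx hy =>
    intro m
    have : (x * y) • m - m = x • (y • m - m) + (x • m - m) := by
      rw [mul_smul, smul_sub]; abel
    rw [this]
    exact Submodule.add_mem _ (aut_smul_mem_span P x _ (hy m)) (hx m)


end Groth.Agent.H3RootD
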