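import Mathlib
import Groth.Agent.Lib.helper3.RootHt
import Groth.Agent.Lib.helper3.RootAut

namespace Groth.Agent.H3RootD

variable {ι M N : Type*} [AddCommGroup M] [AddCommGroup N] {P : RootPairing ι ℤ M N} {Δ : Set ι}

open RootPairing

theorem reflection_eq_of_two_smul [Finite ι] (k k' : ι) (h : P.root k = (2 : ℤ) • P.root k') :
    Equiv.reflection P k = Equiv.reflection P k' := by
  have : IsAddTorsionFree M := tfM P
  have : IsAddTorsionFree N := tfN P
  have hco : P.coroot k' = (2 : ℤ) • P.coroot k := coroot_eq_smul_coroot_iff.mpr h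
  apply Equiv.weightHom_injective P
  ext x
  change Equiv.reflection P k • x = Equiv.reflection P k' • x
  rw [Equiv.reflection_smul, Equiv.reflection_smul, P.reflection_apply, P.reflection_apply, h]
  congr 1
  change P.toLinearMap x (P.coroot k) • _ = P.toLinearMap x (P.coroot k') • _
  rw [hco, map_smul, smul_smul, smul_eq_mul, mul_comm]

theorem indiv_reflectionPerm (l k : ι) (hk : RootD.IsIndiv P k) :
    RootD.IsIndiv P (P.reflectionPerm l k) := by
  intro j hj
  apply hk (P.reflectionPerm l j)
  have := congrArg (P.reflection l) hj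
  rw [map_smul, ← P.root_reflectionPerm, ← P.root_reflectionPerm, P.reflectionPerm_self] at this
  exact this

theorem indiv_neg (k : ι) (hk : RootD.IsIndiv P k) : RootD.IsIndiv P (P.reflectionPerm k k) := by
  intro j hj
  apply hk (P.reflectionPerm j j)
  rw [neg_root, smul_neg, hj, neg_root, neg_neg]

/-- A divisible root is twice an indivisible root. -/
theorem exists_indiv_half [Finite ι] (i : ι) (hi : ¬ RootD.IsIndiv P i) :
    ∃ j, RootD.IsIndiv P j ∧ P.root i = (2 : ℤ) • P.root j := by
  unfold RootD.IsIndiv at hi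
  push Not at hi
  obtain ⟨j, hj⟩ := hi
  refine ⟨j, ?_, hj.symm⟩
  intro j' hj'
  have h4 : P.root i = (4 : ℤ) • P.root j' := by
    rw [← hj, ← hj', smul_smul]; norm_num
  have := congrArg (fun x => P.toLinearMap x (P.coroot i)) h4
  simp only [P.root_coroot_eq_pairing, P.pairing_same, map_smul, LinearMap.smul_apply, smul_eq_mul] at this
  omega

theorem ht_reflection_simple (hΔ : RootD.IsSimpleSys P Δ) {l : ι} (hl : l ∈ Δ) (k : ι) :
    ht P Δ (P.reflectionPerm l k) = ht P Δ k - P.pairing k l := by
  unfold ht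
  rw [coeff_reflection hΔ, coeff_simple hΔ hl, Finsupp.sum_sub_index (fun _ _ _ => rfl),
    Finsupp.smul_single, Finsupp.sum_single_index rfl]
  simp

theorem simple_reflection_smul_eq (i k : ι) : Equiv.reflection P i • k = P.reflectionPerm i k := rfl

/-- Every indivisible root is conjugate to a simple root under the group generated by the simple
reflections. -/
theorem indiv_conj_simple [Finite ι] (hΔ : RootD.IsSimpleSys P Δ) (k : ι) (hk : RootD.IsIndiv P k) :
    ∃ g : P.Aut, g ∈ Subgroup.closure ((fun i : ι => Equiv.reflection P i) '' Δ) ∧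
      ∃ i ∈ Δ, g • i = k := by
  have hpos : ∀ n : ℕ, ∀ k, k ∈ RootD.posOf P Δ → RootD.IsIndiv P k → ht P Δ k = n →
      ∃ g : P.Aut, g ∈ Subgroup.closure ((fun i : ι => Equiv.reflection P i) '' Δ) ∧
        ∃ i ∈ Δ, g • i = k := by
    intro n
    induction n using Nat.strong_induction_on with
    | _ n ih =>
      intro k hkpos hkind hn
      by_cases hkΔ : k ∈ Δ
      · exact ⟨1, one_mem _, k, hkΔ, one_smul _ _⟩
      obtain ⟨l, hl, k', hpair, -, -⟩ := pos_nonsimple_decomp P Δ k hkpos hkΔ
      have hpair' : 0 < P.pairing k l := (pairing_pos_symm P l k).mp hpair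
      obtain ⟨d, hdl, hd⟩ := exists_other_coeff_pos hΔ k hkpos hkΔ hkind l hl
      have hpos' : P.reflectionPerm l k ∈ RootD.posOf P Δ := by
        refine mem_posOf_of_coeff_pos hΔ _ d ?_
        rw [coeff_reflection_simple hΔ hl k d hdl]
        exact hd
      have hht := ht_reflection_simple hΔ hl k
      have h0 := ht_nonneg hΔ _ hpos'
      obtain ⟨g, hg, i, hi, hgi⟩ := ih (ht P Δ (P.reflectionPerm l k)).toNat (by omega) _ hpos'
        (indiv_reflectionPerm l k hkind) (by omega)
      refine ⟨Equiv.reflection P l * g, mul_mem (Subgroup.subset_closure ⟨l, hl, rfl⟩) hg, i, hi, ?_⟩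
      rw [mul_smul, hgi, simple_reflection_smul_eq, P.reflectionPerm_self]
  rcases pos_or_neg hΔ k with h | h
  · exact hpos _ k h hk (Int.toNat_of_nonneg (ht_nonneg hΔ k h)).symm
  · obtain ⟨g, hg, i, hi, hgi⟩ := hpos _ _ h (indiv_neg k hk)
      (Int.toNat_of_nonneg (ht_nonneg hΔ _ h)).symm
    refine ⟨g * Equiv.reflection P i, mul_mem hg (Subgroup.subset_closure ⟨i, hi, rfl⟩), i, hi, ?_⟩
    apply P.root.injective
    rw [mul_smul, simple_reflection_smul_eq, ← aut_smul_root, neg_root, smul_neg, aut_smul_root, hgi,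
      neg_root, neg_neg]

theorem simple_reflections_closure [Finite ι] (hΔ : RootD.IsSimpleSys P Δ) :
    Subgroup.closure ((fun i : ι => Equiv.reflection P i) '' Δ) = P.weylGroup := by
  apply le_antisymm
  · exact Subgroup.closure_mono (Set.image_subset_range _ _)
  · unfold weylGroup
    rw [Subgroup.closure_le]
    rintro _ ⟨k, rfl⟩
    have hind : ∀ k, RootD.IsIndiv P k → Equiv.reflection P k ∈
        Subgroup.closure ((fun i : ι => Equiv.reflection P i) '' Δ) := by
      intro k hk
      obtain ⟨g, hg, i, hi, hgi⟩ := indiv_conj_simple hΔ k hk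
      rw [← hgi, ← aut_reflection_conj]
      exact mul_mem (mul_mem hg (Subgroup.subset_closure ⟨i, hi, rfl⟩)) (inv_mem hg)
    by_cases hk : RootD.IsIndiv P k
    · exact hind k hk
    · obtain ⟨j, hj, hkj⟩ := exists_indiv_half k hk
      change Equiv.reflection P k ∈ _
      rw [reflection_eq_of_two_smul k j hkj]
      exact hind j hj

end Groth.Agent.H3RootD
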