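import Mathlib
import Groth.Agent.Lib.helper3.RootWeyl
import Groth.Agent.Lib.helper3.RootClosed

namespace Groth.Agent.H3RootD

variable {ι M N : Type*} [AddCommGroup M] [AddCommGroup N] {P : RootPairing ι ℤ M N} {Δ : Set ι}

open RootPairing

/-- (A) the positive roots of a simple system form a positive system. -/
theorem isPosSys_posOf (hΔ : RootD.IsSimpleSys P Δ) : RootD.IsPosSys P (RootD.posOf P Δ) := by
  refine ⟨fun i hi h => not_pos_and_neg hΔ i hi h, pos_or_neg hΔ, fun k n hn hk => ?_⟩
  rcases pos_or_neg hΔ k with h | h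
  · exact h
  exfalso
  -- n • root k ∈ natSpan(posOf Δ) ⊆ natSpan Δ
  have hle : RootD.natSpan P (RootD.posOf P Δ) ≤ RootD.natSpan P Δ := by
    apply AddSubmonoid.closure_le.mpr
    rintro _ ⟨j, hj, rfl⟩
    exact hj
  obtain ⟨c, hc, hpos, hsum⟩ := natSpan_exists_finsupp P Δ _ (hle hk)
  have hneg := (mem_posOf_iff hΔ _).mp h
  rw [coeff_neg hΔ] at hneg
  have hceq : c = (n : ℤ) • coeff P Δ k := by
    refine coeff_unique P Δ hΔ.linInd _ _ hc (Submodule.smul_mem _ _ (coeff_mem hΔ k)) ?_
    rw [hsum, map_smul, coeff_sum hΔ, natCast_zsmul]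
  apply coeff_ne_zero hΔ k
  ext d
  have h1 := hpos d
  have h2 := hneg d
  rw [hceq] at h1
  simp only [Finsupp.coe_smul, Pi.smul_apply, smul_eq_mul, Finsupp.coe_neg, Pi.neg_apply,
    Finsupp.coe_zero, Pi.zero_apply] at *
  have hn' : (0 : ℤ) < n := by exact_mod_cast hn
  nlinarith

/-- (B) a linear form not vanishing on any root. -/
theorem exists_regular [Finite ι] : ∃ n : N, ∀ i, P.toLinearMap (P.root i) n ≠ 0 := by
  classical
  have : Fintype ι := Fintype.ofFinite ι
  suffices h : ∀ s : Finset ι, ∃ n : N, ∀ i ∈ s, P.toLinearMap (P.root i) n ≠ 0 by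
    obtain ⟨n, hn⟩ := h Finset.univ
    exact ⟨n, fun i => hn i (Finset.mem_univ i)⟩
  intro s
  induction s using Finset.induction_on with
  | empty => exact ⟨0, by simp⟩
  | insert j s hj ih =>
    obtain ⟨n, hn⟩ := ih
    by_cases hjn : P.toLinearMap (P.root j) n = 0
    · set B : ℤ := ∑ i ∈ s, |P.pairing i j| + 1 with hB
      have hBpos : 0 < B := by positivity
      refine ⟨B • n + P.coroot j, fun i hi => ?_⟩
      rw [map_add, map_smul, P.root_coroot_eq_pairing, smul_eq_mul]
      rcases Finset.mem_insert.mp hi with rfl | his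
      · rw [hjn, mul_zero, zero_add, P.pairing_same]; norm_num
      · have h1 : |P.pairing i j| < B := by
          have := Finset.single_le_sum (f := fun i => |P.pairing i j|) (fun i _ => abs_nonneg _) his
          omega
        have h2 : 1 ≤ |P.toLinearMap (P.root i) n| := Int.one_le_abs (hn i his)
        intro h0
        have : |B * P.toLinearMap (P.root i) n| = |P.pairing i j| := by
          rw [show B * P.toLinearMap (P.root i) n = -P.pairing i j by linarith, abs_neg]
        rw [abs_mul, abs_of_pos hBpos] at this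
        nlinarith
    · refine ⟨n, fun i hi => ?_⟩
      rcases Finset.mem_insert.mp hi with rfl | his
      · exact hjn
      · exact hn i his

theorem exists_simpleSys [Finite ι] : ∃ Δ : Set ι, RootD.IsSimpleSys P Δ := by
  obtain ⟨n, hn⟩ := exists_regular (P := P)
  let f : Module.Dual ℤ M := P.toLinearMap.flip n
  have hf : ∀ i, f (P.root i) ≠ 0 := hn
  let _i := P.indexNeg
  refine ⟨IsAddIndecomposable.baseOf P.root (f : M →+ ℤ), ?_, fun i => ?_⟩
  · exact P.linearIndepOn_root_baseOf' f hf
  · exact IsAddIndecomposable.mem_or_neg_mem_closure_baseOf P.root (f : M →+ ℤ) i (hf i) (by simp)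

end Groth.Agent.H3RootD
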