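import Mathlib
import Groth.Agent.Lib.helper3.RootPos

namespace Groth.Agent.H3RootD

variable {ι M N : Type*} [AddCommGroup M] [AddCommGroup N] {P : RootPairing ι ℤ M N} {Δ : Set ι}

open RootPairing

theorem aut_smul_mem_natSpan (g : P.Aut) (A : Set ι) (x : M) (hx : x ∈ RootD.natSpan P A) :
    g • x ∈ RootD.natSpan P ((fun i => g • i) '' A) := by
  induction hx using AddSubmonoid.closure_induction with
  | mem y hy =>
    obtain ⟨i, hi, rfl⟩ := hy
    rw [aut_smul_root]
    exact AddSubmonoid.subset_closure ⟨g • i, ⟨i, hi, rfl⟩, rfl⟩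
  | zero => rw [smul_zero]; exact zero_mem _
  | add y z _ _ hy hz => rw [smul_add]; exact add_mem hy hz

theorem image_inv_image (g : P.Aut) (A : Set ι) :
    (fun i => g⁻¹ • i) '' ((fun i => g • i) '' A) = A := by
  ext x
  constructor
  · rintro ⟨_, ⟨y, hy, rfl⟩, rfl⟩
    change g⁻¹ • (g • y) ∈ A
    rwa [inv_smul_smul]
  · intro hx
    exact ⟨g • x, ⟨x, hx, rfl⟩, inv_smul_smul g x⟩

theorem mem_natSpan_image_iff (g : P.Aut) (A : Set ι) (x : M) :
    g • x ∈ RootD.natSpan P ((fun i => g • i) '' A) ↔ x ∈ RootD.natSpan P A := by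
  constructor
  · intro h
    have := aut_smul_mem_natSpan g⁻¹ _ _ h
    rwa [inv_smul_smul, image_inv_image] at this
  · exact aut_smul_mem_natSpan g A x

theorem simpleSys_image (g : P.Aut) (hΔ : RootD.IsSimpleSys P Δ) :
    RootD.IsSimpleSys P ((fun i => g • i) '' Δ) := by
  constructor
  · apply LinearIndepOn.image_of_comp
    have : P.root ∘ (fun i => g • i) = (g.weightEquiv : M →ₗ[ℤ] M) ∘ P.root := by
      ext i
      simp only [Function.comp_apply]
      rw [← aut_smul_root]
      rfl
    rw [this]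
    exact hΔ.linInd.map_injOn _ (g.weightEquiv.injective.injOn)
  · intro i
    obtain ⟨j, rfl⟩ : ∃ j, g • j = i := ⟨g⁻¹ • i, smul_inv_smul g i⟩
    rw [← aut_smul_root, ← smul_neg, mem_natSpan_image_iff, mem_natSpan_image_iff]
    exact hΔ.mem_or_neg_mem j

theorem posOf_image (g : P.Aut) (Δ : Set ι) :
    RootD.posOf P ((fun i => g • i) '' Δ) = (fun i => g • i) '' RootD.posOf P Δ := by
  ext k
  obtain ⟨j, rfl⟩ : ∃ j, g • j = k := ⟨g⁻¹ • k, smul_inv_smul g k⟩
  constructor
  · intro h
    change P.root (g • j) ∈ RootD.natSpan P _ at h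
    rw [← aut_smul_root, mem_natSpan_image_iff] at h
    exact ⟨j, h, rfl⟩
  · rintro ⟨j', hj', hjj'⟩
    have : j' = j := by
      have := congrArg (fun i => g⁻¹ • i) hjj'
      simpa using this
    subst this
    change P.root (g • j') ∈ RootD.natSpan P _
    rw [← aut_smul_root, mem_natSpan_image_iff]
    exact hj'

/-- (C3) a simple reflection permutes the positive roots other than `l` and `2l`. -/
theorem simple_reflection_pos [Finite ι] (hΔ : RootD.IsSimpleSys P Δ) {l : ι} (hl : l ∈ Δ) (k : ι)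
    (hk : k ∈ RootD.posOf P Δ) (hkl : k ≠ l) (hk2 : P.root k ≠ (2 : ℤ) • P.root l) :
    P.reflectionPerm l k ∈ RootD.posOf P Δ := by
  classical
  have hpos := (mem_posOf_iff hΔ k).mp hk
  obtain ⟨d, hdl, hd⟩ : ∃ d, d ≠ l ∧ 0 < coeff P Δ k d := by
    by_contra hcon
    push Not at hcon
    have hz : ∀ d, d ≠ l → coeff P Δ k d = 0 := fun d hd => le_antisymm (hcon d hd) (hpos d)
    have hc : coeff P Δ k = Finsupp.single l (coeff P Δ k l) := by
      ext d
      rw [Finsupp.single_apply]
      split_ifs with hd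
      · rw [hd]
      · exact hz d (Ne.symm hd)
    have hroot : P.root k = coeff P Δ k l • P.root l := by
      rw [← coeff_sum hΔ k, hc]
      simp
    have := hpos l
    rcases coeff_eq_single_cases hΔ k l hz with h | h | h | h
    · rw [h, one_smul] at hroot
      exact hkl (P.root.injective hroot)
    · omega
    · rw [h] at hroot
      exact hk2 hroot
    · omega
  refine mem_posOf_of_coeff_pos hΔ _ d ?_
  rw [coeff_reflection_simple hΔ hl k d hdl]
  exact hd

theorem posOf_subset_of_closed [Finite ι] (Δ : Set ι) (P' : Set ι) (hcl : RootD.IsClosedSub P P')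
    (h : Δ ⊆ P') : RootD.posOf P Δ ⊆ P' := by
  intro k hk
  obtain ⟨s, hs, hsum⟩ := natSpan_exists_multiset P Δ _ hk
  exact closed_multiset_sum_mem P P' hcl _ s rfl (fun a ha => h (hs a ha)) k hsum

/-- (D) -/
theorem exists_weyl_posOf_subset [Finite ι] (P' : Set ι)
    (hP2 : ∀ i : ι, i ∈ P' ∨ P.reflectionPerm i i ∈ P') (hcl : RootD.IsClosedSub P P') :
    ∀ (n : ℕ) (Δ : Set ι), RootD.IsSimpleSys P Δ → (RootD.posOf P Δ \ P').ncard = n →
      ∃ g : P.Aut, g ∈ P.weylGroup ∧ (fun i : ι => g • i) '' RootD.posOf P Δ ⊆ P' := by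
  intro n
  induction n using Nat.strong_induction_on with
  | _ n ih =>
    intro Δ hΔ hn
    by_cases hsub : Δ ⊆ P'
    · refine ⟨1, one_mem _, ?_⟩
      rintro _ ⟨k, hk, rfl⟩
      change (1 : P.Aut) • k ∈ P'
      rw [one_smul]
      exact posOf_subset_of_closed Δ P' hcl hsub hk
    · obtain ⟨l, hl, hlP⟩ := Set.not_subset.mp hsub
      have hnegl : P.reflectionPerm l l ∈ P' := (hP2 l).resolve_left hlP
      set Δ1 : Set ι := (fun i => Equiv.reflection P l • i) '' Δ with hΔ1
      have hΔ1s : RootD.IsSimpleSys P Δ1 := simpleSys_image _ hΔ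
      have hpos1 : RootD.posOf P Δ1 = (fun i => Equiv.reflection P l • i) '' RootD.posOf P Δ :=
        posOf_image _ Δ
      have hlpos : l ∈ RootD.posOf P Δ := AddSubmonoid.subset_closure ⟨l, hl, rfl⟩
      have hsubset : RootD.posOf P Δ1 \ P' ⊆ (RootD.posOf P Δ \ P') \ {l} := by
        rintro k ⟨hk1, hkP⟩
        rw [hpos1] at hk1
        obtain ⟨k0, hk0, rfl⟩ := hk1
        change P.reflectionPerm l k0 ∉ P' at hkP
        by_cases hk0l : k0 = l
        · subst hk0l
          exact absurd hnegl hkP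
        by_cases hk02 : P.root k0 = (2 : ℤ) • P.root l
        · exfalso
          apply hkP
          refine hcl hnegl hnegl ?_
          rw [P.root_reflectionPerm, hk02, map_smul, P.reflection_apply_self, neg_root, two_smul]
        · refine ⟨⟨simple_reflection_pos hΔ hl k0 hk0 hk0l hk02, hkP⟩, ?_⟩
          intro hkl
          have hkl' : P.reflectionPerm l k0 = l := hkl
          have : k0 = P.reflectionPerm l l := by
            have := congrArg (P.reflectionPerm l) hkl'
            rwa [P.reflectionPerm_self] at this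
          rw [this] at hk0
          exact not_pos_and_neg hΔ l hlpos hk0
      have hlt : (RootD.posOf P Δ1 \ P').ncard < n := by
        rw [← hn]
        refine Set.ncard_lt_ncard (lt_of_le_of_lt hsubset ?_) (Set.toFinite _)
        exact Set.sdiff_singleton_ssubset.mpr ⟨hlpos, hlP⟩
      obtain ⟨g1, hg1, hg1sub⟩ := ih _ hlt Δ1 hΔ1s rfl
      refine ⟨g1 * Equiv.reflection P l, mul_mem hg1 (P.reflection_mem_weylGroup l), ?_⟩
      rintro _ ⟨k, hk, rfl⟩
      apply hg1sub
      rw [hpos1]
      exact ⟨Equiv.reflection P l • k, ⟨k, hk, rfl⟩, (mul_smul _ _ _).symm⟩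

end Groth.Agent.H3RootD
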