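import Mathlib
import Groth.Agent.Lib.helper3.RootChamber
import Groth.Agent.S5450

namespace Groth.Agent.H3RootD

variable {ι M N : Type*} [AddCommGroup M] [AddCommGroup N] {P : RootPairing ι ℤ M N} {Δ : Set ι}

open RootPairing

theorem simple_subset_posOf (Δ : Set ι) : Δ ⊆ RootD.posOf P Δ :=
  fun d hd => AddSubmonoid.subset_closure ⟨d, hd, rfl⟩

theorem simple_eq_of_posOf_eq [Finite ι] {Δ1 Δ2 : Set ι} (h1 : RootD.IsSimpleSys P Δ1)
    (h2 : RootD.IsSimpleSys P Δ2) (h : RootD.posOf P Δ1 = RootD.posOf P Δ2) : Δ1 = Δ2 := by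
  ext k
  constructor
  · intro hk
    have hkpos : k ∈ RootD.posOf P Δ1 := simple_subset_posOf Δ1 hk
    have := (Groth.Agent.S5450.result P Δ1 h1 k hkpos).mp hk
    rw [h] at this hkpos
    exact (Groth.Agent.S5450.result P Δ2 h2 k hkpos).mpr this
  · intro hk
    have hkpos : k ∈ RootD.posOf P Δ2 := simple_subset_posOf Δ2 hk
    have := (Groth.Agent.S5450.result P Δ2 h2 k hkpos).mp hk
    rw [← h] at this hkpos
    exact (Groth.Agent.S5450.result P Δ1 h1 k hkpos).mpr this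

theorem isClosedSub_of_isPosSys {S : Set ι} (hS : RootD.IsPosSys P S) : RootD.IsClosedSub P S := by
  intro i j k hi hj hk
  refine hS.sat 1 one_pos ?_
  rw [one_smul, hk]
  exact add_mem (AddSubmonoid.subset_closure ⟨i, hi, rfl⟩) (AddSubmonoid.subset_closure ⟨j, hj, rfl⟩)

/-- Two sets satisfying (P1), (P2), one contained in the other, are equal. -/
theorem eq_of_subset_of_P1_P2 {S T : Set ι} (hST : S ⊆ T)
    (hS2 : ∀ i : ι, i ∈ S ∨ P.reflectionPerm i i ∈ S)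
    (hT1 : ∀ ⦃i : ι⦄, i ∈ T → P.reflectionPerm i i ∉ T) : S = T := by
  apply Set.Subset.antisymm hST
  intro k hk
  rcases hS2 k with h | h
  · exact h
  · exact absurd (hST h) (hT1 hk)

theorem posOf_eq_of_subset [Finite ι] (hΔ : RootD.IsSimpleSys P Δ) {S : Set ι} (hS : RootD.IsPosSys P S)
    (h : Δ ⊆ S) : RootD.posOf P Δ = S :=
  eq_of_subset_of_P1_P2 (posOf_subset_of_closed Δ S (isClosedSub_of_isPosSys hS) h)
    (pos_or_neg hΔ) hS.disjoint

/-- (E) -/
theorem exists_simpleSys_of_isPosSys [Finite ι] {S : Set ι} (hS : RootD.IsPosSys P S) :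
    ∃ Δ : Set ι, RootD.IsSimpleSys P Δ ∧ RootD.posOf P Δ = S := by
  obtain ⟨Δ0, hΔ0⟩ := exists_simpleSys (P := P)
  obtain ⟨g, -, hg⟩ := exists_weyl_posOf_subset S hS.cover (isClosedSub_of_isPosSys hS) _ Δ0 hΔ0 rfl
  refine ⟨(fun i => g • i) '' Δ0, simpleSys_image g hΔ0, ?_⟩
  rw [posOf_image]
  refine eq_of_subset_of_P1_P2 hg ?_ hS.disjoint
  rw [← posOf_image]
  exact pos_or_neg (simpleSys_image g hΔ0)

theorem image_neg_idx (g : P.Aut) (k : ι) :
    g • P.reflectionPerm k k = P.reflectionPerm (g • k) (g • k) := by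
  apply P.root.injective
  rw [← aut_smul_root, neg_root, neg_root, smul_neg, aut_smul_root]



theorem exists_weyl_image_eq [Finite ι] (S S' : Set ι) (hS : RootD.IsPosSys P S)
    (hS' : RootD.IsPosSys P S') :
    ∃ g : P.Aut, g ∈ P.weylGroup ∧ (fun i : ι => g • i) '' S = S' := by
  obtain ⟨Δ, hΔ, hpos⟩ := exists_simpleSys_of_isPosSys hS
  obtain ⟨g, hgW, hg⟩ := exists_weyl_posOf_subset S' hS'.cover (isClosedSub_of_isPosSys hS') _ Δ hΔ rfl
  refine ⟨g, hgW, ?_⟩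
  rw [← hpos]
  refine eq_of_subset_of_P1_P2 hg ?_ hS'.disjoint
  rw [← posOf_image]
  exact pos_or_neg (simpleSys_image g hΔ)


theorem exists_weyl_image_simple_eq [Finite ι] (Δ Δ' : Set ι) (hΔ : RootD.IsSimpleSys P Δ)
    (hΔ' : RootD.IsSimpleSys P Δ') :
    ∃ g : P.Aut, g ∈ P.weylGroup ∧ (fun i : ι => g • i) '' Δ = Δ' := by
  obtain ⟨g, hgW, hg⟩ := exists_weyl_image_eq _ _ (isPosSys_posOf hΔ) (isPosSys_posOf hΔ')
  refine ⟨g, hgW, simple_eq_of_posOf_eq (simpleSys_image g hΔ) hΔ' ?_⟩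
  rw [posOf_image, hg]


end Groth.Agent.H3RootD
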