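import Mathlib
import Groth.Agent.Lib.helper3.RootTrans
import Groth.Agent.S5495

namespace Groth.Agent.H3RootD

variable {ι M N : Type*} [AddCommGroup M] [AddCommGroup N] {P : RootPairing ι ℤ M N}

open RootPairing

/-- A root which is a rational multiple `a / n` (with `a ≥ 0`, `n > 0`) of an indivisible root `d`
is a positive integer multiple of it. -/
theorem pos_int_multiple_of_indiv [Finite ι] (d i : ι) (hd : RootD.IsIndiv P d) (n : ℕ) (hn : 0 < n)
    (a : ℤ) (ha : 0 ≤ a) (h : n • P.root i = a • P.root d) :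
    ∃ t : ℤ, 0 < t ∧ P.root i = t • P.root d := by
  have : IsAddTorsionFree M := tfM P
  have hn' : (n : ℤ) ≠ 0 := by exact_mod_cast hn.ne'
  have h' : (n : ℤ) • P.root i = a • P.root d := by rw [natCast_zsmul]; exact h
  obtain ⟨t, ht⟩ := Groth.Agent.S5495.result P d i hd a n hn' h'
  have hroot : P.root i = t • P.root d := by
    rw [ht, mul_smul] at h'
    exact smul_right_injective M hn' h'
  refine ⟨t, ?_, hroot⟩
  have hnpos : (0 : ℤ) < n := by exact_mod_cast hn
  have ht0 : t ≠ 0 := by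
    rintro rfl
    rw [zero_smul] at hroot
    exact P.ne_zero i hroot
  have : 0 ≤ t := by
    by_contra hneg
    push Not at hneg
    have : (n : ℤ) * t < 0 := mul_neg_of_pos_of_neg hnpos hneg
    omega
  omega

theorem nsmul_root_ne_zero (k : ι) (n : ℕ) (hn : 0 < n) : n • P.root k ≠ 0 := by
  intro h
  have := congrArg (fun x => P.toLinearMap x (P.coroot k)) h
  simp only [map_nsmul, LinearMap.smul_apply, P.root_coroot_eq_pairing, P.pairing_same, map_zero,
    LinearMap.zero_apply, nsmul_eq_mul] at this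
  omega

theorem isSimpleSys_of_cone [Finite ι] (Δ : Set ι)
    (hind : ∀ i ∈ Δ, RootD.IsIndiv P i) (hli : LinearIndepOn ℤ P.root Δ)
    (hcone : ∀ k : ι, ∃ n : ℕ, 0 < n ∧
      (n • P.root k ∈ RootD.natSpan P Δ ∨ n • (-P.root k) ∈ RootD.natSpan P Δ)) :
    RootD.IsSimpleSys P Δ := by
  classical
  have : Module.IsReflexive ℤ M := .of_isPerfPair P.toLinearMap
  set S : Set ι := {k | ∃ n : ℕ, 0 < n ∧ n • P.root k ∈ RootD.natSpan P Δ} with hS
  -- every element of natSpan S has a positive multiple in natSpan Δ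
  have hmult : ∀ x ∈ RootD.natSpan P S, ∃ n : ℕ, 0 < n ∧ n • x ∈ RootD.natSpan P Δ := by
    intro x hx
    induction hx using AddSubmonoid.closure_induction with
    | mem y hy =>
      obtain ⟨j, hj, rfl⟩ := hy
      exact hj
    | zero => exact ⟨1, one_pos, by simp⟩
    | add y z _ _ hy hz =>
      obtain ⟨n1, hn1, h1⟩ := hy
      obtain ⟨n2, hn2, h2⟩ := hz
      refine ⟨n1 * n2, Nat.mul_pos hn1 hn2, ?_⟩
      rw [smul_add]
      refine add_mem ?_ ?_
      · rw [mul_comm, mul_smul]; exact AddSubmonoid.nsmul_mem _ h1 _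
      · rw [mul_smul]; exact AddSubmonoid.nsmul_mem _ h2 _
  -- coefficient extraction
  have hcoef : ∀ k ∈ S, ∃ (n : ℕ) (c : ι →₀ ℤ), 0 < n ∧ c ∈ Finsupp.supported ℤ ℤ Δ ∧ (∀ d, 0 ≤ c d) ∧
      Finsupp.linearCombination ℤ P.root c = n • P.root k := by
    rintro k ⟨n, hn, hk⟩
    obtain ⟨c, hc, hpos, hsum⟩ := natSpan_exists_finsupp P Δ _ hk
    exact ⟨n, c, hn, hc, hpos, hsum⟩
  have hSpos : RootD.IsPosSys P S := by
    refine ⟨?_, ?_, ?_⟩
    · intro k hk hk'
      obtain ⟨n, c1, hn, hc1, hp1, hs1⟩ := hcoef k hk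
      obtain ⟨m, c2, hm, hc2, hp2, hs2⟩ := hcoef _ hk'
      rw [neg_root] at hs2
      have hzero : (m : ℤ) • c1 + (n : ℤ) • c2 = 0 := by
        refine coeff_unique P Δ hli _ _ (Submodule.add_mem _ (Submodule.smul_mem _ _ hc1)
          (Submodule.smul_mem _ _ hc2)) (Submodule.zero_mem _) ?_
        rw [map_add, map_smul, map_smul, hs1, hs2, map_zero]
        simp only [natCast_zsmul, smul_neg]
        rw [smul_comm m n]
        abel
      have hc1z : c1 = 0 := by
        ext d
        have h := DFunLike.congr_fun hzero d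
        simp only [Finsupp.coe_add, Finsupp.coe_smul, Pi.add_apply, Pi.smul_apply, smul_eq_mul,
          Finsupp.coe_zero, Pi.zero_apply] at h ⊢
        have h1 := hp1 d
        have h2 := hp2 d
        have hm' : (0 : ℤ) < m := by exact_mod_cast hm
        have hn' : (0 : ℤ) < n := by exact_mod_cast hn
        nlinarith [mul_nonneg hm'.le h1, mul_nonneg hn'.le h2]
      rw [hc1z, map_zero] at hs1
      exact nsmul_root_ne_zero k n hn hs1.symm
    · intro k
      obtain ⟨n, hn, h | h⟩ := hcone k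
      · exact Or.inl ⟨n, hn, h⟩
      · right
        refine ⟨n, hn, ?_⟩
        rw [neg_root]; exact h
    · intro k n hn hk
      obtain ⟨m, hm, h⟩ := hmult _ hk
      refine ⟨m * n, Nat.mul_pos hm hn, ?_⟩
      rw [mul_smul]; exact h
  obtain ⟨Δ1, hΔ1, hpos1⟩ := exists_simpleSys_of_isPosSys hSpos
  have hΔS : Δ ⊆ S := fun d hd => ⟨1, one_pos, by
    rw [one_smul]; exact AddSubmonoid.subset_closure ⟨d, hd, rfl⟩⟩
  -- Δ ⊆ Δ1
  have h1 : Δ ⊆ Δ1 := by
    intro d hd
    have hdpos : d ∈ RootD.posOf P Δ1 := hpos1 ▸ hΔS hd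
    rw [Groth.Agent.S5450.result P Δ1 hΔ1 d hdpos]
    rintro ⟨i, j, hi, hj, hij⟩
    rw [hpos1] at hi hj
    obtain ⟨ni, ci, hni, hci, hpi, hsi⟩ := hcoef i hi
    obtain ⟨nj, cj, hnj, hcj, hpj, hsj⟩ := hcoef j hj
    have heq : (nj : ℤ) • ci + (ni : ℤ) • cj = Finsupp.single d ((ni : ℤ) * nj) := by
      refine coeff_unique P Δ hli _ _ (Submodule.add_mem _ (Submodule.smul_mem _ _ hci)
        (Submodule.smul_mem _ _ hcj)) (Finsupp.single_mem_supported ℤ _ hd) ?_
      rw [map_add, map_smul, map_smul, hsi, hsj, Finsupp.linearCombination_single, hij]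
      simp only [natCast_zsmul, smul_add, mul_smul]
      rw [smul_comm nj ni (P.root i)]
    have hni' : (0 : ℤ) < ni := by exact_mod_cast hni
    have hnj' : (0 : ℤ) < nj := by exact_mod_cast hnj
    have hsupp : ∀ e, e ≠ d → ci e = 0 ∧ cj e = 0 := by
      intro e he
      have h := DFunLike.congr_fun heq e
      simp only [Finsupp.coe_add, Finsupp.coe_smul, Pi.add_apply, Pi.smul_apply, smul_eq_mul,
        Finsupp.single_apply, if_neg he.symm] at h
      have h1 := hpi e
      have h2 := hpj e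
      constructor <;> nlinarith [mul_nonneg hnj'.le h1, mul_nonneg hni'.le h2]
    have hci' : ci = Finsupp.single d (ci d) := by
      ext e
      rw [Finsupp.single_apply]
      split_ifs with h
      · rw [h]
      · exact (hsupp e (Ne.symm h)).1
    have hcj' : cj = Finsupp.single d (cj d) := by
      ext e
      rw [Finsupp.single_apply]
      split_ifs with h
      · rw [h]
      · exact (hsupp e (Ne.symm h)).2
    rw [hci', Finsupp.linearCombination_single] at hsi
    rw [hcj', Finsupp.linearCombination_single] at hsj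
    obtain ⟨ti, hti, hri⟩ := pos_int_multiple_of_indiv d i (hind d hd) ni hni (ci d) (hpi d) hsi.symm
    obtain ⟨tj, htj, hrj⟩ := pos_int_multiple_of_indiv d j (hind d hd) nj hnj (cj d) (hpj d) hsj.symm
    rw [hri, hrj, ← add_smul] at hij
    have : (1 : ℤ) • P.root d = (ti + tj) • P.root d := by rw [one_smul]; exact hij
    have := smul_left_injective ℤ (P.ne_zero d) this
    omega
  -- Δ1 ⊆ Δ
  have h2 : Δ1 ⊆ Δ := by
    intro e he
    have heS : e ∈ S := hpos1 ▸ simple_subset_posOf Δ1 he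
    obtain ⟨n, c, hn, hc, hp, hs⟩ := hcoef e heS
    have hc1 : c ∈ Finsupp.supported ℤ ℤ Δ1 := Finsupp.supported_mono h1 hc
    have heq : c = Finsupp.single e (n : ℤ) := by
      refine coeff_unique P Δ1 hΔ1.linInd _ _ hc1 (Finsupp.single_mem_supported ℤ _ he) ?_
      rw [hs, Finsupp.linearCombination_single, natCast_zsmul]
    have : c e ≠ 0 := by
      rw [heq, Finsupp.single_eq_same]
      exact_mod_cast hn.ne'
    exact hc (Finsupp.mem_support_iff.mpr this)
  rw [Set.Subset.antisymm h1 h2]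
  exact hΔ1

end Groth.Agent.H3RootD
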