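import Mathlib
import Groth.Agent.Lib.helper3.RootCoeff

namespace Groth.Agent.H3RootD

variable {ι M N : Type*} [AddCommGroup M] [AddCommGroup N] {P : RootPairing ι ℤ M N}

open RootPairing

theorem not_orth_neg (i : ι) : ¬ P.IsOrthogonal i (P.reflectionPerm i i) := by
  intro h
  have := h.2
  rw [P.pairing_reflectionPerm_self_left, P.pairing_same] at this
  omega

theorem orth_of_closedSymm [Finite ι] (R' : Set ι) (hc : RootD.IsClosedSub P R')
    (hs : RootD.IsSymmSub P R') (hc' : RootD.IsClosedSub P R'ᶜ) (hs' : RootD.IsSymmSub P R'ᶜ) :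
    ∀ i ∈ R', ∀ j ∉ R', P.IsOrthogonal i j := by
  intro i hi j hj
  have hj' : j ∈ R'ᶜ := hj
  by_contra hno
  have hne : P.pairing i j ≠ 0 := by
    intro h0
    exact hno ⟨h0, (pairing_zero_symm P i j).mp h0⟩
  rcases lt_or_gt_of_ne hne with hlt | hgt
  · have hneg : P.root i ≠ -P.root j := by
      intro h
      have hij : i = P.reflectionPerm j j := P.root.injective (by rw [neg_root, h])
      have := hs' hj'
      rw [← hij] at this
      exact this hi
    obtain ⟨k, hk⟩ := P.root_add_root_mem_of_pairingIn_neg (i := i) (j := j)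
      (by rw [pairingIn_int]; exact hlt) hneg
    by_cases hkR : k ∈ R'
    · exact hj (hc hkR (hs hi) (k := j) (by rw [neg_root, hk]; abel))
    · exact hc' (show k ∈ R'ᶜ from hkR) (hs' hj') (k := i) (by rw [neg_root, hk]; abel) hi
  · have hij : i ≠ j := fun h => hj (h ▸ hi)
    obtain ⟨k, hk⟩ := P.root_sub_root_mem_of_pairingIn_pos (i := i) (j := j)
      (by rw [pairingIn_int]; exact hgt) hij
    by_cases hkR : k ∈ R'
    · have := hc hkR (hs hi) (k := P.reflectionPerm j j) (by rw [neg_root, neg_root, hk]; abel)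
      exact hs' hj' this
    · exact hc' (show k ∈ R'ᶜ from hkR) hj' (k := i) (by rw [hk]; abel) hi

theorem closedSymm_of_orth (R' : Set ι) (h : ∀ i ∈ R', ∀ j ∉ R', P.IsOrthogonal i j) :
    RootD.IsClosedSub P R' ∧ RootD.IsSymmSub P R' := by
  constructor
  · intro i j k hi hj hk
    by_contra hkR
    have h1 := (h i hi k hkR).1
    have h2 := (h j hj k hkR).1
    have := congrArg (fun x => P.toLinearMap x (P.coroot k)) hk
    simp only [map_add, LinearMap.add_apply, P.root_coroot_eq_pairing, P.pairing_same, h1, h2] at this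
    omega
  · intro i hi
    by_contra hn
    exact not_orth_neg i (h i hi _ hn)

theorem closedSymm_iff_orth [Finite ι] (R' : Set ι) :
    (RootD.IsClosedSub P R' ∧ RootD.IsSymmSub P R' ∧ RootD.IsClosedSub P R'ᶜ ∧
      RootD.IsSymmSub P R'ᶜ) ↔ ∀ i ∈ R', ∀ j ∉ R', P.IsOrthogonal i j := by
  constructor
  · rintro ⟨h1, h2, h3, h4⟩
    exact orth_of_closedSymm R' h1 h2 h3 h4
  · intro h
    obtain ⟨h1, h2⟩ := closedSymm_of_orth R' h
    obtain ⟨h3, h4⟩ := closedSymm_of_orth (P := P) R'ᶜ (fun i hi j hj => by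
      have hj' : j ∈ R' := not_not.mp hj
      exact (h j hj' i hi).symm)
    exact ⟨h1, h2, h3, h4⟩


end Groth.Agent.H3RootD
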