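import Mathlib
import Groth.Agent.Lib.helper3.RootIrr
import Groth.Agent.Lib.helper3.RootAut
import Groth.Agent.Lib.helper3.RootWeyl

namespace Groth.Agent.H3RootD

variable {ι M N : Type*} [AddCommGroup M] [AddCommGroup N] {P : RootPairing ι ℤ M N}

open RootPairing

theorem rootForm_pos [Fintype ι] (i : ι) : 0 < P.RootForm (P.root i) (P.root i) :=
  P.rootForm_pos_of_ne_zero (x := P.root i) (Submodule.subset_span ⟨_, rfl⟩) (P.ne_zero _)

theorem conj_of_length_eq [Finite ι] [Fintype ι] (i j : ι) (hno : ¬ P.IsOrthogonal i j)
    (hl : P.RootForm (P.root i) (P.root i) = P.RootForm (P.root j) (P.root j)) :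
    ∃ g : P.Aut, g ∈ P.weylGroup ∧ g • i = j := by
  have : IsAddTorsionFree M := tfM P
  have h1 := P.toInvariantForm.pairing_mul_eq_pairing_mul_swap i j
  simp only [RootPairing.toInvariantForm_form] at h1
  rw [hl] at h1
  have hpq : P.pairing j i = P.pairing i j := mul_right_cancel₀ (rootForm_pos j).ne' h1
  have hne : P.pairing i j ≠ 0 := fun h0 => hno ⟨h0, (pairing_zero_symm P i j).mp h0⟩
  have hset := P.pairingIn_pairingIn_mem_set_of_isCrystallographic i j
  rw [pairingIn_int, pairingIn_int, hpq] at hset
  have hroot : ∀ (g : P.Aut) (k : ι), P.root (g • k) = g • P.root k := fun g k => (aut_smul_root P g k).symm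
  have hcases : P.pairing i j = 1 ∨ P.pairing i j = -1 ∨ P.pairing i j = 2 ∨ P.pairing i j = -2 := by
    simp only [Set.mem_insert_iff, Set.mem_singleton_iff, Prod.mk.injEq] at hset
    omega
  rcases hcases with h | h | h | h
  · refine ⟨Equiv.reflection P j * Equiv.reflection P i * Equiv.reflection P j,
      mul_mem (mul_mem (P.reflection_mem_weylGroup j) (P.reflection_mem_weylGroup i))
        (P.reflection_mem_weylGroup j), P.root.injective ?_⟩
    simp only [hroot, mul_smul, Equiv.reflection_smul, P.reflection_apply_root, map_sub, map_smul,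
      P.pairing_same, hpq, h]
    module
  · refine ⟨Equiv.reflection P i * Equiv.reflection P j,
      mul_mem (P.reflection_mem_weylGroup i) (P.reflection_mem_weylGroup j), P.root.injective ?_⟩
    simp only [hroot, mul_smul, Equiv.reflection_smul, P.reflection_apply_root, map_sub, map_smul,
      P.pairing_same, hpq, h]
    module
  · refine ⟨1, one_mem _, P.root.injective ?_⟩
    have hcw : P.coxeterWeight i j = 4 := by rw [coxeterWeight, hpq, h]; norm_num
    have := P.pairing_smul_root_eq_of_not_linearIndependent
      (P.coxeterWeight_eq_four_iff_not_linearIndependent.mp hcw)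
    rw [hpq, h] at this
    rw [one_smul]
    exact smul_right_injective M (two_ne_zero (α := ℤ)) this
  · refine ⟨Equiv.reflection P i, P.reflection_mem_weylGroup i, P.root.injective ?_⟩
    have hcw : P.coxeterWeight i j = 4 := by rw [coxeterWeight, hpq, h]; norm_num
    have := P.pairing_smul_root_eq_of_not_linearIndependent
      (P.coxeterWeight_eq_four_iff_not_linearIndependent.mp hcw)
    rw [hpq, h] at this
    rw [hroot, Equiv.reflection_smul, P.reflection_apply_self]
    have h2 : (2 : ℤ) • (-P.root i) = (2 : ℤ) • P.root j := by rw [← this]; simp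
    exact smul_right_injective M (two_ne_zero (α := ℤ)) h2

theorem rootForm_weyl_smul [Fintype ι] (g : P.Aut) (hg : g ∈ P.weylGroup) (i : ι) :
    P.RootForm (P.root (g • i)) (P.root (g • i)) = P.RootForm (P.root i) (P.root i) := by
  have := InvariantForm.apply_weylGroup_smul P (B := P.toInvariantForm) (⟨g, hg⟩ : P.weylGroup)
    (P.root i) (P.root i)
  simp only [RootPairing.toInvariantForm_form] at this
  rw [← aut_smul_root]
  exact this

theorem pairing_reflectionPerm_left (a o b : ι) :
    P.pairing (P.reflectionPerm a o) b = P.pairing o b - P.pairing o a * P.pairing a b := by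
  rw [← P.root_coroot_eq_pairing, P.root_reflectionPerm, P.reflection_apply_root, map_sub, map_smul,
    LinearMap.sub_apply, LinearMap.smul_apply, P.root_coroot_eq_pairing, P.root_coroot_eq_pairing,
    smul_eq_mul]



end Groth.Agent.H3RootD
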