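import Mathlib
import Groth.Agent.Lib.helper3.RootCone
import Groth.Agent.Lib.helper3.RootAut

namespace Groth.Agent.H3RootD

open RootPairing

section general
variable {ι M N : Type*} [AddCommGroup M] [AddCommGroup N] {P : RootPairing ι ℤ M N}

theorem natSpan_le_span (A : Set ι) (x : M) (hx : x ∈ RootD.natSpan P A) :
    x ∈ Submodule.span ℤ (Set.range P.root) := by
  induction hx using AddSubmonoid.closure_induction with
  | mem y hy =>
    obtain ⟨i, -, rfl⟩ := hy
    exact Submodule.subset_span ⟨i, rfl⟩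
  | zero => exact Submodule.zero_mem _
  | add y z _ _ hy hz => exact Submodule.add_mem _ hy hz

/-- In a reduced pairing, proportional roots with positive ratio coincide. -/
theorem eq_of_nsmul_eq_nsmul [Finite ι] [P.IsReduced] (a b : ι) (m n : ℕ) (hm : 0 < m) (hn : 0 < n)
    (h : m • P.root a = n • P.root b) : a = b := by
  have hdep : ¬ LinearIndependent ℤ ![P.root a, P.root b] := by
    rw [LinearIndependent.pair_iff]
    push Not
    refine ⟨m, -n, ?_, fun h0 => by omega⟩
    rw [neg_smul, natCast_zsmul, natCast_zsmul, h, add_neg_cancel]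
  rcases IsReduced.eq_or_eq_neg (P := P) a b hdep with h1 | h1
  · exact P.root.injective h1
  · exfalso
    rw [h1, smul_neg] at h
    have : (m + n) • P.root b = 0 := by rw [add_smul, ← h]; simp
    exact nsmul_root_ne_zero b (m + n) (by omega) this

theorem indiv_of_reduced [Finite ι] [P.IsReduced] (i : ι) : RootD.IsIndiv P i := by
  intro j hj
  have h : (2 : ℕ) • P.root j = (1 : ℕ) • P.root i := by
    rw [one_smul, ← hj, ofNat_zsmul]
  have := eq_of_nsmul_eq_nsmul j i 2 1 (by norm_num) one_pos h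
  subst this
  rw [one_smul, two_smul] at h
  exact P.ne_zero j (by simpa using h)

theorem linearIndepOn_smul {κ R V : Type*} [CommRing R] [IsDomain R] [AddCommGroup V] [Module R V]
    (v : κ → V) (s : Set κ) (a : κ → R) (ha : ∀ i, a i ≠ 0) (h : LinearIndepOn R v s) :
    LinearIndepOn R (fun i => a i • v i) s := by
  unfold LinearIndepOn at h ⊢
  rw [linearIndependent_iff'] at h ⊢
  intro t g hg i hi
  have := h t (fun i => g i * a i) (by simpa [mul_smul] using hg) i hi
  exact (mul_eq_zero.mp this).resolve_right (ha i)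

end general

section pmorph

variable {ι M N ι' M' N' : Type*} [AddCommGroup M] [AddCommGroup N] [AddCommGroup M'] [AddCommGroup N']
    {P : RootPairing ι ℤ M N} {P' : RootPairing ι' ℤ M' N'}
    {f : M' →ₗ[ℤ] M} {g : N →ₗ[ℤ] N'} {u : ι ≃ ι'} {q : ι → ℕ}

theorem pm_inj [Finite ι']
    (hfg : ∀ (m' : M') (n : N), P.toLinearMap (f m') n = P'.toLinearMap m' (g n))
    (hq : ∀ i, 0 < q i)
    (hcoroot : ∀ i : ι, g (P.coroot i) = (q i : ℤ) • P'.coroot (u i))
    (x y : M') (hx : x ∈ Submodule.span ℤ (Set.range P'.root))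
    (hy : y ∈ Submodule.span ℤ (Set.range P'.root)) (h : f x = f y) : x = y := by
  rw [← sub_eq_zero]
  refine eq_zero_of_mem_span_of_pairing_zero P' _ (Submodule.sub_mem _ hx hy) (fun i' => ?_)
  obtain ⟨i, rfl⟩ := u.surjective i'
  have h1 := hfg (x - y) (P.coroot i)
  rw [map_sub, h, sub_self, map_zero, LinearMap.zero_apply, hcoroot, map_smul, smul_eq_mul] at h1
  have hq' : (q i : ℤ) ≠ 0 := by exact_mod_cast (hq i).ne'
  exact (mul_eq_zero.mp h1.symm).resolve_left hq'

/-- `f` maps `natSpan' (u '' A)` into `natSpan A`. -/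
theorem pm_map_natSpan (hroot : ∀ i : ι, f (P'.root (u i)) = (q i : ℤ) • P.root i)
    (A : Set ι) (y : M') (hy : y ∈ RootD.natSpan P' (u '' A)) : f y ∈ RootD.natSpan P A := by
  induction hy using AddSubmonoid.closure_induction with
  | mem z hz =>
    obtain ⟨_, ⟨i, hi, rfl⟩, rfl⟩ := hz
    rw [hroot, natCast_zsmul]
    have hmem : P.root i ∈ RootD.natSpan P A := AddSubmonoid.subset_closure ⟨i, hi, rfl⟩
    exact AddSubmonoid.nsmul_mem _ hmem _
  | zero => rw [map_zero]; exact zero_mem _
  | add y z _ _ hy hz => rw [map_add]; exact add_mem hy hz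

/-- every element of `natSpan A`, multiplied by `Q`, lifts to `natSpan' (u '' A)`. -/
theorem pm_lift_natSpan (hroot : ∀ i : ι, f (P'.root (u i)) = (q i : ℤ) • P.root i)
    (Q : ℕ) (r : ι → ℕ) (hr : ∀ i, r i * q i = Q)
    (A : Set ι) (x : M) (hx : x ∈ RootD.natSpan P A) :
    ∃ y ∈ RootD.natSpan P' (u '' A), f y = Q • x := by
  induction hx using AddSubmonoid.closure_induction with
  | mem z hz =>
    obtain ⟨i, hi, rfl⟩ := hz
    have hmem : P'.root (u i) ∈ RootD.natSpan P' (u '' A) :=
      AddSubmonoid.subset_closure ⟨u i, ⟨i, hi, rfl⟩, rfl⟩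
    refine ⟨r i • P'.root (u i), AddSubmonoid.nsmul_mem _ hmem _, ?_⟩
    rw [map_nsmul, hroot, natCast_zsmul, smul_smul, hr]
  | zero => exact ⟨0, zero_mem _, by simp⟩
  | add y z _ _ hy hz =>
    obtain ⟨y', hy', hy''⟩ := hy
    obtain ⟨z', hz', hz''⟩ := hz
    exact ⟨y' + z', add_mem hy' hz', by rw [map_add, hy'', hz'', smul_add]⟩

end pmorph

end Groth.Agent.H3RootD
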