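import Mathlib
import Groth.Agent.Lib.helper3.RootCone
import Groth.Agent.Lib.helper3.RootConj
import Groth.Agent.Lib.helper3.RootPM

set_option autoImplicit false
open RootPairing

namespace Groth.Agent.H3RootD

section general

theorem linearIndepOn_of_smul {κ R V : Type*} [CommRing R] [IsDomain R] [AddCommGroup V] [Module R V]
    (v : κ → V) (s : Set κ) (a : κ → R) (ha : ∀ i, a i ≠ 0)
    (h : LinearIndepOn R (fun i => a i • v i) s) : LinearIndepOn R v s := by
  classical
  unfold LinearIndepOn at h ⊢
  rw [linearIndependent_iff'] at h ⊢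
  intro t g hg i hi
  have hsum : ∑ i ∈ t, (g i * ∏ j ∈ t.erase i, a j) • (a i • v i) = 0 := by
    have : ∀ i ∈ t, (g i * ∏ j ∈ t.erase i, a j) • (a i • v i) = (∏ j ∈ t, a j) • (g i • v i) := by
      intro i hi
      rw [← Finset.mul_prod_erase t (fun j => a j) hi, smul_smul, smul_smul]
      congr 1; ring
    rw [Finset.sum_congr rfl this, ← Finset.smul_sum, hg, smul_zero]
  have key := h t (fun i => g i * ∏ j ∈ t.erase i, a j) hsum i hi
  exact (mul_eq_zero.mp key).resolve_right (Finset.prod_ne_zero_iff.mpr fun j _ => ha j)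

end general

variable {ι M N : Type*} [AddCommGroup M] [AddCommGroup N] (P : RootPairing ι ℤ M N)

theorem polarization_eq_zero [Fintype ι] (x : M) (hx : x ∈ Submodule.span ℤ (Set.range P.root))
    (h : P.Polarization x = 0) : x = 0 := by
  by_contra hne
  have := P.rootForm_pos_of_ne_zero hx hne
  rw [← P.toLinearMap_apply_apply_Polarization, h, map_zero] at this
  exact lt_irrefl _ this

theorem linearIndepOn_coroot [Finite ι] (Δ : Set ι) (hli : LinearIndepOn ℤ P.root Δ) :
    LinearIndepOn ℤ P.coroot Δ := by
  have : Fintype ι := Fintype.ofFinite ι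
  have : IsAddTorsionFree N := tfN P
  have h1 : LinearIndepOn ℤ (((2 : ℤ) • P.Polarization) ∘ P.root) Δ := by
    apply hli.map_injOn
    intro x hx y hy hxy
    have hx' : x ∈ Submodule.span ℤ (Set.range P.root) :=
      Submodule.span_mono (Set.image_subset_range _ _) hx
    have hy' : y ∈ Submodule.span ℤ (Set.range P.root) :=
      Submodule.span_mono (Set.image_subset_range _ _) hy
    rw [← sub_eq_zero]
    apply polarization_eq_zero P _ (Submodule.sub_mem _ hx' hy')
    simp only [LinearMap.smul_apply] at hxy
    have : (2 : ℤ) • P.Polarization (x - y) = 0 := by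
      rw [map_sub, smul_sub, hxy, sub_self]
    exact (smul_eq_zero_iff_right (by norm_num)).mp this
  have h2 : (((2 : ℤ) • P.Polarization) ∘ P.root) =
      fun d => (P.RootForm (P.root d) (P.root d)) • P.coroot d := by
    funext d
    rw [Function.comp_apply, LinearMap.smul_apply, P.rootForm_self_smul_coroot, ofNat_zsmul]
  rw [h2] at h1
  exact linearIndepOn_of_smul _ _ _ (fun d => (rootForm_pos (P := P) d).ne') h1

end Groth.Agent.H3RootD
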