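import Mathlib
import Groth.Agent.Lib.helper3.RootDual
set_option autoImplicit false
open RootPairing Set Function Submodule Module

namespace Groth.Agent.H3RootD

section rank
variable {ι M N : Type*} [AddCommGroup M] [AddCommGroup N] (P : RootPairing ι ℤ M N)

theorem ker_polarization_eq_iInf [Fintype ι] :
    LinearMap.ker P.Polarization = ⨅ i : ι, LinearMap.ker (P.coroot' i) := by
  ext x
  simp only [LinearMap.mem_ker, Submodule.mem_iInf]
  constructor
  · intro h i
    have h0 : P.RootForm x x = 0 := by
      rw [← P.toLinearMap_apply_apply_Polarization, h, map_zero]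
    rw [P.rootForm_apply_apply] at h0
    have := (Finset.sum_eq_zero_iff_of_nonneg (fun i _ => mul_self_nonneg _)).mp h0 i
      (Finset.mem_univ _)
    exact mul_self_eq_zero.mp this
  · intro h
    rw [P.Polarization_apply]
    exact Finset.sum_eq_zero fun i _ => by rw [h i, zero_smul]

theorem range_polarization_le [Fintype ι] :
    LinearMap.range P.Polarization ≤ span ℤ (range P.coroot) := by
  rintro _ ⟨x, rfl⟩
  rw [P.Polarization_apply]
  exact Submodule.sum_mem _ fun i _ => Submodule.smul_mem _ _ (Submodule.subset_span ⟨i, rfl⟩)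

theorem finrank_rootSpan_le_range [Fintype ι] [Module.Finite ℤ N] :
    finrank ℤ (span ℤ (range P.root)) ≤ finrank ℤ (LinearMap.range P.Polarization) := by
  let g : span ℤ (range P.root) →ₗ[ℤ] LinearMap.range P.Polarization :=
    (P.Polarization.domRestrict _).codRestrict _ (fun x => ⟨x, rfl⟩)
  have hg : Function.Injective g := by
    rw [← LinearMap.ker_eq_bot, LinearMap.ker_eq_bot']
    intro x hx
    have h0 : P.Polarization (x : M) = 0 := by
      have := congrArg Subtype.val hx
      simpa [g] using this
    exact Subtype.ext (polarization_eq_zero P _ x.2 h0)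
  exact LinearMap.finrank_le_finrank_of_injective hg

theorem finrank_rootSpan_le [Finite ι] [Module.Finite ℤ N] :
    finrank ℤ (span ℤ (range P.root)) ≤ finrank ℤ (span ℤ (range P.coroot)) := by
  have : Fintype ι := Fintype.ofFinite ι
  exact (finrank_rootSpan_le_range P).trans (Submodule.finrank_mono (range_polarization_le P))

theorem finrank_rootSpan_eq [Finite ι] [Module.Finite ℤ M] [Module.Finite ℤ N] :
    finrank ℤ (span ℤ (range P.root)) = finrank ℤ (span ℤ (range P.coroot)) :=
  le_antisymm (finrank_rootSpan_le P) (finrank_rootSpan_le P.flip)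

theorem finrank_range_polarization [Fintype ι] [Module.Finite ℤ M] [Module.Finite ℤ N] :
    finrank ℤ (LinearMap.range P.Polarization) = finrank ℤ (span ℤ (range P.root)) := by
  apply le_antisymm
  · rw [finrank_rootSpan_eq P]
    exact Submodule.finrank_mono (range_polarization_le P)
  · exact finrank_rootSpan_le_range P

theorem finrank_corad_add [Finite ι] [Module.Finite ℤ M] [Module.Finite ℤ N] :
    finrank ℤ (⨅ i : ι, LinearMap.ker (P.coroot' i) : Submodule ℤ M) +
      finrank ℤ (span ℤ (range P.root)) = finrank ℤ M := by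
  have : Fintype ι := Fintype.ofFinite ι
  rw [← ker_polarization_eq_iInf, ← finrank_range_polarization P,
    ← (LinearMap.quotKerEquivRange P.Polarization).finrank_eq, add_comm]
  exact Submodule.finrank_quotient_add_finrank _

include P in
theorem finrank_coweight_eq [Module.Finite ℤ M] [Module.Finite ℤ N] :
    finrank ℤ N = finrank ℤ M := by
  have : Module.IsReflexive ℤ M := .of_isPerfPair P.toLinearMap
  have e1 : N ≃ₗ[ℤ] Dual ℤ M := P.flip.toPerfPair
  have e2 : M ≃ₗ[ℤ] Dual ℤ M := (Module.Free.chooseBasis ℤ M).toDualEquiv
  rw [e1.finrank_eq, ← e2.finrank_eq]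

theorem finrank_rad_add [Finite ι] [Module.Finite ℤ M] [Module.Finite ℤ N] :
    finrank ℤ (⨅ i : ι, LinearMap.ker (P.root' i) : Submodule ℤ N) +
      finrank ℤ (span ℤ (range P.root)) = finrank ℤ M := by
  rw [finrank_rootSpan_eq P, ← finrank_coweight_eq P]
  exact finrank_corad_add P.flip

end rank

end Groth.Agent.H3RootD
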