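import Mathlib
import Groth.Agent.Lib.helper3.RootRank
set_option autoImplicit false
open RootPairing Set Function Submodule Module

namespace Groth.Agent.H3RootD

section rank
variable {ι M N : Type*} [AddCommGroup M] [AddCommGroup N] (P : RootPairing ι ℤ M N)

theorem semisimple_iff_corad [Finite ι] [Module.Finite ℤ M] [Module.Finite ℤ N] :
    finrank ℤ (span ℤ (range P.root)) = finrank ℤ M ↔
      (⨅ i : ι, LinearMap.ker (P.coroot' i) : Submodule ℤ M) = ⊥ := by
  have : Module.IsReflexive ℤ M := .of_isPerfPair P.toLinearMap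
  have h := finrank_corad_add P
  rw [← Submodule.finrank_eq_zero (R := ℤ)]
  omega

theorem semisimple_iff_rad [Finite ι] [Module.Finite ℤ M] [Module.Finite ℤ N] :
    finrank ℤ (span ℤ (range P.root)) = finrank ℤ M ↔
      (⨅ i : ι, LinearMap.ker (P.root' i) : Submodule ℤ N) = ⊥ := by
  have : Module.IsReflexive ℤ N := .of_isPerfPair P.flip.toLinearMap
  have h := finrank_rad_add P
  rw [← Submodule.finrank_eq_zero (R := ℤ)]
  omega

end rank

end Groth.Agent.H3RootD

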