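import Mathlib
import Groth.Agent.Lib.helper3.RootRank2
set_option autoImplicit false
open RootPairing Set Function Submodule Module

namespace Groth.Agent.H3RootD

section isog
variable {ι M N ι' M' N' : Type*} [AddCommGroup M] [AddCommGroup N] [AddCommGroup M'] [AddCommGroup N']
  {P : RootPairing ι ℤ M N} {P' : RootPairing ι' ℤ M' N'}

theorem hom_pairing (f : RootPairing.Hom P' P) (m : M') (x : N) :
    P'.toLinearMap m (f.coweightMap x) = P.toLinearMap (f.weightMap m) x := by
  have := Hom.weight_coweight_transpose_apply P' P x f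
  have h2 := congrArg (fun φ => φ m) this
  simpa using h2.symm

theorem hom_injective [Finite ι'] [Module.Finite ℤ M'] [Module.Finite ℤ N']
    (hss' : finrank ℤ (span ℤ (range P'.root)) = finrank ℤ M')
    (f : RootPairing.Hom P' P) : Function.Injective f.weightMap := by
  rw [← LinearMap.ker_eq_bot, LinearMap.ker_eq_bot']
  intro x hx
  have hbot := (semisimple_iff_corad P').mp hss'
  have hmem : x ∈ (⨅ i : ι', LinearMap.ker (P'.coroot' i) : Submodule ℤ M') := by
    rw [Submodule.mem_iInf]
    intro i'
    rw [LinearMap.mem_ker]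
    have h1 := Hom.coroot_coweightMap_apply P' P (f.indexEquiv i') f
    rw [Equiv.symm_apply_apply] at h1
    change P'.toLinearMap x (P'.coroot i') = 0
    rw [← h1, hom_pairing, hx, map_zero, LinearMap.zero_apply]
  rw [hbot] at hmem
  exact (Submodule.mem_bot ℤ).mp hmem

theorem hom_finite_coker [Finite ι] [Module.Finite ℤ M] [Module.Finite ℤ N]
    (hss : finrank ℤ (span ℤ (range P.root)) = finrank ℤ M)
    (f : RootPairing.Hom P' P) : Finite (M ⧸ LinearMap.range f.weightMap) := by
  have : Module.IsReflexive ℤ M := .of_isPerfPair P.toLinearMap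
  have hle : span ℤ (range P.root) ≤ LinearMap.range f.weightMap := by
    rw [Submodule.span_le]
    rintro _ ⟨i, rfl⟩
    refine ⟨P'.root (f.indexEquiv.symm i), ?_⟩
    rw [Hom.root_weightMap_apply, Equiv.apply_symm_apply]
  apply Submodule.finiteQuotientOfFreeOfRankEq
  apply le_antisymm (Submodule.finrank_le _)
  rw [← hss]
  exact Submodule.finrank_mono hle

end isog

end Groth.Agent.H3RootD

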