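import Mathlib
import Groth.Agent.Lib.helper3.RootIsog
set_option autoImplicit false
open RootPairing Set Function Submodule Module

namespace Groth.Agent.H3RootD

section adj
variable {ι M N : Type*} [AddCommGroup M] [AddCommGroup N] (P : RootPairing ι ℤ M N)

noncomputable def adjDatum [Finite ι] [Module.Finite ℤ M] :
    RootPairing ι ℤ (span ℤ (range P.root)) (Dual ℤ (span ℤ (range P.root))) :=
  have : Module.IsReflexive ℤ M := .of_isPerfPair P.toLinearMap
  have : IsAddTorsionFree M := tfM P
  { toLinearMap := Dual.eval ℤ _
    isPerfPair_toLinearMap := inferInstance
    root := ⟨fun i => ⟨P.root i, subset_span ⟨i, rfl⟩⟩, fun i j h => P.root.injective (by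
      simpa using congrArg Subtype.val h)⟩
    coroot := ⟨fun i => (P.coroot' i).domRestrict _, fun i j h => by
      have := P.injOn_dualMap_subtype_span_root_coroot (mem_range_self i) (mem_range_self j)
        (by
          ext x
          have := congrArg (fun φ => φ x) h
          simpa using this)
      exact P.coroot.injective this⟩
    root_coroot_two := fun i => by simp
    reflectionPerm := P.reflectionPerm
    reflectionPerm_root := fun i j => Subtype.ext (by
      simpa using P.reflectionPerm_root i j)
    reflectionPerm_coroot := fun i j => by
      ext x
      have := congrArg (fun n => P.toLinearMap (x : M) n) (P.reflectionPerm_coroot i j)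
      simpa using this }

end adj

end Groth.Agent.H3RootD
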