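import Mathlib
import Groth.Agent.Lib.helper3.RootAdj
set_option autoImplicit false
open RootPairing Set Function Submodule Module

namespace Groth.Agent.H3RootD

section adj
variable {ι M N : Type*} [AddCommGroup M] [AddCommGroup N] (P : RootPairing ι ℤ M N)

noncomputable def adjHom [Finite ι] [Module.Finite ℤ M] : RootPairing.Hom (adjDatum P) P where
  weightMap := (span ℤ (range P.root)).subtype
  coweightMap := (span ℤ (range P.root)).subtype.dualMap ∘ₗ P.toLinearMap.flip
  indexEquiv := Equiv.refl ι
  weight_coweight_transpose := by
    ext n x
    simp [adjDatum]
  root_weightMap := by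
    ext i
    simp [adjDatum]
  coroot_coweightMap := by
    ext i x
    simp [adjDatum]

theorem adjHom_weightMap [Finite ι] [Module.Finite ℤ M] :
    (adjHom P).weightMap = (span ℤ (range P.root)).subtype := rfl

end adj

end Groth.Agent.H3RootD

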