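import Mathlib
set_option autoImplicit false
open RootPairing

namespace Groth.Agent.H3RootD

theorem base_sum_pos_pairing_simple {ι M N : Type*} [AddCommGroup M] [AddCommGroup N]
    (P : RootPairing ι ℤ M N) [Finite ι] [Fintype ι] [DecidableEq ι] [P.IsReduced] (b : P.Base)
    [DecidablePred b.IsPos]
    (d : ι) (hd : d ∈ b.support) :
    (∑ j, if b.IsPos j then P.pairing d j else 0) = 2 := by
  rw [← Finset.sum_filter]
  have hdpos : b.IsPos d := b.isPos_of_mem_support hd
  have hdm : d ∈ Finset.univ.filter (fun j => b.IsPos j) := by simp [hdpos]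
  rw [← Finset.add_sum_erase _ _ hdm, P.pairing_same]
  suffices h : ∑ x ∈ (Finset.univ.filter (fun j => b.IsPos j)).erase d, P.pairing d x = 0 by
    rw [h]; ring
  have key : ∀ j, P.pairing d (P.reflectionPerm d j) = - P.pairing d j := by
    intro j
    rw [P.pairing_reflectionPerm, P.pairing_reflectionPerm_self_left]
  refine Finset.sum_involution (fun j _ => P.reflectionPerm d j) ?_ ?_ ?_ ?_
  · intro j _
    rw [key]; ring
  · intro j _ hne heq
    have := key j
    rw [heq] at this
    apply hne; omega
  · intro j hj
    rw [Finset.mem_erase, Finset.mem_filter] at hj ⊢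
    refine ⟨?_, Finset.mem_univ _, hj.2.2.reflectionPerm hd hj.1⟩
    intro h
    have : P.reflectionPerm d (P.reflectionPerm d j) = P.reflectionPerm d d := by rw [h]
    rw [P.reflectionPerm_self] at this
    have h2 := b.height_reflectionPerm_self d
    simp only [RootPairing.indexNeg_neg] at h2
    have h3 : b.IsPos j := hj.2.2
    rw [this, Base.isPos_iff, h2] at h3
    have := hdpos
    rw [Base.isPos_iff] at this
    omega
  · intro j _
    exact P.reflectionPerm_self d j

theorem base_two_mul_height {ι M N : Type*} [AddCommGroup M] [AddCommGroup N]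
    (P : RootPairing ι ℤ M N) [Finite ι] [Fintype ι] [DecidableEq ι] [P.IsReduced] (b : P.Base)
    [DecidablePred b.IsPos] (i : ι) :
    2 * b.height i = ∑ j, if b.IsPos j then P.pairing i j else 0 := by
  obtain ⟨f, hf₀, hf₁, hf₂⟩ := b.exists_root_eq_sum_int i
  rw [Base.height_eq_sum hf₂]
  have hp : ∀ j, P.pairing i j = ∑ d ∈ b.support, f d * P.pairing d j := by
    intro j
    have : P.pairing i j = P.toLinearMap (P.root i) (P.coroot j) := rfl
    rw [this, hf₂]
    simp only [map_sum, LinearMap.map_smul, LinearMap.sum_apply, LinearMap.smul_apply, smul_eq_mul]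
    rfl
  have : ∀ j, (if b.IsPos j then P.pairing i j else 0) =
      ∑ d ∈ b.support, f d * (if b.IsPos j then P.pairing d j else 0) := by
    intro j
    split_ifs
    · exact hp j
    · simp
  simp_rw [this]
  rw [Finset.sum_comm, Finset.mul_sum]
  refine Finset.sum_congr rfl fun d hd => ?_
  rw [← Finset.mul_sum, base_sum_pos_pairing_simple P b d hd]
  ring

end Groth.Agent.H3RootD

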