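import Mathlib
import Groth.Agent.Lib.helper3.RootTrans

namespace Groth.Agent.H3RootD

variable {ι M N : Type*} [AddCommGroup M] [AddCommGroup N] {P : RootPairing ι ℤ M N} {Δ : Set ι}

open RootPairing

/-- Product of the reflections of a word. -/
noncomputable def wd (P : RootPairing ι ℤ M N) (l : List ι) : P.Aut :=
  (l.map fun a => Equiv.reflection P a).prod

theorem wd_nil : wd P [] = 1 := rfl

theorem wd_cons (a : ι) (l : List ι) : wd P (a :: l) = Equiv.reflection P a * wd P l := by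
  simp [wd]

theorem wd_append (l1 l2 : List ι) : wd P (l1 ++ l2) = wd P l1 * wd P l2 := by
  simp [wd]

theorem simple_indiv (hΔ : RootD.IsSimpleSys P Δ) {d : ι} (hd : d ∈ Δ) : RootD.IsIndiv P d := by
  classical
  intro j hj
  have h1 : coeff P Δ d = (2 : ℤ) • coeff P Δ j := by
    refine coeff_eq hΔ _ _ (Submodule.smul_mem _ _ (coeff_mem hΔ j)) ?_
    rw [map_smul, coeff_sum hΔ, hj]
  rw [coeff_simple hΔ hd] at h1
  have := DFunLike.congr_fun h1 d
  simp at this
  omega

theorem indiv_smul (g : P.Aut) (k : ι) (hk : RootD.IsIndiv P k) : RootD.IsIndiv P (g • k) := by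
  intro j hj
  apply hk (g⁻¹ • j)
  have := congrArg (fun x => g⁻¹ • x) hj
  simp only [smul_comm g⁻¹, aut_smul_root, inv_smul_smul] at this
  exact this

theorem exists_deletion [Finite ι] (hΔ : RootD.IsSimpleSys P Δ) :
    ∀ (l0 : List ι), (∀ x ∈ l0, x ∈ Δ) → ∀ a ∈ Δ, wd P l0 • a ∉ RootD.posOf P Δ →
      ∃ (l1 : List ι) (b : ι) (l2 : List ι), l0 = l1 ++ b :: l2 ∧ wd P l2 • a = b := by
  intro l0
  induction l0 with
  | nil =>
    intro _ a ha h
    exfalso
    rw [wd_nil, one_smul] at h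
    exact h (simple_subset_posOf Δ ha)
  | cons c l0' ih =>
    intro hl a ha h
    have hc : c ∈ Δ := hl c (List.mem_cons_self)
    have hl' : ∀ x ∈ l0', x ∈ Δ := fun x hx => hl x (List.mem_cons_of_mem _ hx)
    by_cases hβ : wd P l0' • a ∈ RootD.posOf P Δ
    · refine ⟨[], c, l0', rfl, ?_⟩
      by_contra hne
      have hind : RootD.IsIndiv P (wd P l0' • a) := indiv_smul _ a (simple_indiv hΔ ha)
      apply h
      rw [wd_cons, mul_smul]
      exact simple_reflection_pos hΔ hc _ hβ hne (fun h2 => hind c h2.symm)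
    · obtain ⟨l1, b, l2, hl0, hb⟩ := ih hl' a ha hβ
      exact ⟨c :: l1, b, l2, by rw [hl0]; rfl, hb⟩

theorem wd_deletion (l1 l2 : List ι) (a b : ι) (hb : wd P l2 • a = b) :
    wd P (l1 ++ b :: l2 ++ [a]) = wd P (l1 ++ l2) := by
  rw [List.append_assoc, wd_append, wd_append, wd_cons, wd_append, wd_cons, wd_nil,
    mul_one, ← hb, ← aut_reflection_conj]
  have : Equiv.reflection P a * Equiv.reflection P a = 1 := by
    rw [mul_eq_one_iff_inv_eq, Equiv.reflection_inv]
  calc wd P l1 * (wd P l2 * Equiv.reflection P a * (wd P l2)⁻¹ * (wd P l2 * Equiv.reflection P a))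
      = wd P l1 * (wd P l2 * (Equiv.reflection P a * Equiv.reflection P a)) := by group
    _ = wd P l1 * wd P l2 := by rw [this, mul_one]

theorem reduced_last_neg [Finite ι] (hΔ : RootD.IsSimpleSys P Δ)
    (l : List ι) (hl : ∀ a ∈ l, a ∈ Δ) (hne : l ≠ [])
    (hmin : ∀ l' : List ι, (∀ a ∈ l', a ∈ Δ) → wd P l' = wd P l → l.length ≤ l'.length) :
    -P.root (wd P l • l.getLast hne) ∈ RootD.natSpan P Δ := by
  obtain ⟨l0, a, rfl⟩ : ∃ l0 a, l = l0 ++ [a] := ⟨l.dropLast, l.getLast hne, (List.dropLast_append_getLast hne).symm⟩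
  rw [List.getLast_append_singleton]
  have ha : a ∈ Δ := hl a (by simp)
  have hl0 : ∀ x ∈ l0, x ∈ Δ := fun x hx => hl x (by simp [hx])
  have hw : wd P (l0 ++ [a]) • a = P.reflectionPerm (wd P l0 • a) (wd P l0 • a) := by
    rw [wd_append, wd_cons, wd_nil, mul_one, mul_smul, simple_reflection_smul_eq, image_neg_idx]
  rw [hw, neg_root, neg_neg]
  by_contra hcon
  obtain ⟨l1, b, l2, hl0eq, hb⟩ := exists_deletion hΔ l0 hl0 a ha hcon
  have hlen := hmin (l1 ++ l2) (fun x hx => hl0 x (by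
      rw [hl0eq]
      rcases List.mem_append.mp hx with h | h
      · exact List.mem_append_left _ h
      · exact List.mem_append_right _ (List.mem_cons_of_mem _ h)))
    (by rw [hl0eq, wd_deletion l1 l2 a b hb])
  rw [hl0eq] at hlen
  simp at hlen

end Groth.Agent.H3RootD
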