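import Mathlib
import Groth.Agent.Lib.helper3.RootWord

namespace Groth.Agent.H3RootD

variable {ι M N : Type*} [AddCommGroup M] [AddCommGroup N] {P : RootPairing ι ℤ M N} {Δ : Set ι}

open RootPairing


theorem exists_word [Finite ι] (hΔ : RootD.IsSimpleSys P Δ) (w : P.Aut) (hw : w ∈ P.weylGroup) :
    ∃ l : List ι, (∀ a ∈ l, a ∈ Δ) ∧ wd P l = w := by
  rw [← simple_reflections_closure hΔ] at hw
  induction hw using Subgroup.closure_induction'' with
  | mem x hx =>
    obtain ⟨i, hi, rfl⟩ := hx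
    exact ⟨[i], by simpa using hi, by simp [wd]⟩
  | inv_mem x hx =>
    obtain ⟨i, hi, rfl⟩ := hx
    exact ⟨[i], by simpa using hi, by simp [wd]⟩
  | one => exact ⟨[], by simp, rfl⟩
  | mul x y _ _ hx hy =>
    obtain ⟨l1, h1, rfl⟩ := hx
    obtain ⟨l2, h2, rfl⟩ := hy
    refine ⟨l1 ++ l2, fun a ha => ?_, wd_append l1 l2⟩
    rcases List.mem_append.mp ha with h | h
    · exact h1 a h
    · exact h2 a h

/-- Simple transitivity: a Weyl group element stabilising a simple system is trivial. -/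
theorem weyl_eq_one_of_image_eq [Finite ι] (hΔ : RootD.IsSimpleSys P Δ) (w : P.Aut)
    (hw : w ∈ P.weylGroup) (hwΔ : (fun i : ι => w • i) '' Δ = Δ) : w = 1 := by
  classical
  have hex : ∃ n : ℕ, ∃ l : List ι, (∀ a ∈ l, a ∈ Δ) ∧ wd P l = w ∧ l.length = n := by
    obtain ⟨l, hl, hlw⟩ := exists_word hΔ w hw
    exact ⟨l.length, l, hl, hlw, rfl⟩
  obtain ⟨l, hl, hlw, hlen⟩ := Nat.find_spec hex
  by_cases hnil : l = []
  · rw [← hlw, hnil, wd_nil]
  exfalso
  have hmin : ∀ l' : List ι, (∀ a ∈ l', a ∈ Δ) → wd P l' = wd P l → l.length ≤ l'.length := by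
    intro l' hl' hl'w
    rw [hlen]
    exact Nat.find_min' hex ⟨l', hl', hl'w.trans hlw, rfl⟩
  have hneg := reduced_last_neg hΔ l hl hnil hmin
  rw [hlw] at hneg
  have hlast : l.getLast hnil ∈ Δ := hl _ (List.getLast_mem hnil)
  have hmem : w • l.getLast hnil ∈ Δ := by
    rw [← hwΔ]
    exact ⟨_, hlast, rfl⟩
  have hpos : w • l.getLast hnil ∈ RootD.posOf P Δ := simple_subset_posOf Δ hmem
  refine not_pos_and_neg hΔ _ hpos ?_
  change P.root _ ∈ RootD.natSpan P Δ
  rw [neg_root]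
  exact hneg


end Groth.Agent.H3RootD
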