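import Mathlib
import Groth.Agent.Lib.helper3.RootSimpTrans
set_option autoImplicit false
open RootPairing

namespace Groth.Agent.H3RootD

variable {ι M N : Type*} [AddCommGroup M] [AddCommGroup N] {P : RootPairing ι ℤ M N} {Δ : Set ι}

theorem exists_word_sub (Δ' : Set ι) (w : P.Aut)
    (hw : w ∈ Subgroup.closure ((fun i : ι => Equiv.reflection P i) '' Δ')) :
    ∃ l : List ι, (∀ a ∈ l, a ∈ Δ') ∧ wd P l = w := by
  induction hw using Subgroup.closure_induction'' with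
  | mem x hx =>
    obtain ⟨i, hi, rfl⟩ := hx
    exact ⟨[i], by simpa using hi, by simp [wd]⟩
  | inv_mem x hx =>
    obtain ⟨i, hi, rfl⟩ := hx
    exact ⟨[i], by simpa using hi, by simp [wd]⟩
  | one => exact ⟨[], by simp, rfl⟩
  | mul x y _ _ hx hy =>
    obtain ⟨l1, h1, rfl⟩ := hx
    obtain ⟨l2, h2, rfl⟩ := hy
    refine ⟨l1 ++ l2, fun a ha => ?_, wd_append l1 l2⟩
    rcases List.mem_append.mp ha with h | h
    · exact h1 a h
    · exact h2 a h

theorem reduced_prefix_pos [Finite ι] (hΔ : RootD.IsSimpleSys P Δ) (Δ' : Set ι) (hsub : Δ' ⊆ Δ)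
    (l0 : List ι) (a : ι) (hl0 : ∀ x ∈ l0, x ∈ Δ') (ha : a ∈ Δ')
    (hmin : ∀ l' : List ι, (∀ x ∈ l', x ∈ Δ') → wd P l' = wd P (l0 ++ [a]) →
      (l0 ++ [a]).length ≤ l'.length) :
    wd P l0 • a ∈ RootD.posOf P Δ := by
  by_contra hcon
  obtain ⟨l1, b, l2, hl0eq, hb⟩ :=
    exists_deletion hΔ l0 (fun x hx => hsub (hl0 x hx)) a (hsub ha) hcon
  have hlen := hmin (l1 ++ l2) (fun x hx => hl0 x (by
      rw [hl0eq]
      rcases List.mem_append.mp hx with h | h
      · exact List.mem_append_left _ h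
      · exact List.mem_append_right _ (List.mem_cons_of_mem _ h)))
    (by rw [hl0eq, wd_deletion l1 l2 a b hb])
  rw [hl0eq] at hlen
  simp at hlen

theorem ht_of_root_eq (hΔ : RootD.IsSimpleSys P Δ) (x y z : ι) (p : ℤ)
    (h : P.root x = P.root y - p • P.root z) : ht P Δ x = ht P Δ y - p * ht P Δ z := by
  have hc : coeff P Δ x = coeff P Δ y - p • coeff P Δ z := by
    refine coeff_eq hΔ _ _ (Submodule.sub_mem _ (coeff_mem hΔ y)
      (Submodule.smul_mem _ _ (coeff_mem hΔ z))) ?_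
    rw [map_sub, map_smul, coeff_sum hΔ, coeff_sum hΔ, h]
  unfold ht
  rw [hc, Finsupp.sum_sub_index (fun _ _ _ => rfl), Finsupp.sum_smul_index' (fun _ => rfl)]
  congr 1
  rw [Finsupp.sum, Finsupp.sum, Finset.mul_sum]
  rfl

theorem ht_pos (hΔ : RootD.IsSimpleSys P Δ) (k : ι) (hk : k ∈ RootD.posOf P Δ) :
    0 < ht P Δ k := by
  have h0 := ht_nonneg hΔ k hk
  rcases h0.lt_or_eq with h | h
  · exact h
  exfalso
  have hnn := (mem_posOf_iff hΔ k).mp hk
  have hz : ∀ d ∈ (coeff P Δ k).support, (fun _ a => a) d (coeff P Δ k d) = (0 : ℤ) :=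
    (Finset.sum_eq_zero_iff_of_nonneg (fun d _ => hnn d)).mp h.symm
  have : coeff P Δ k = 0 := by
    ext d
    by_cases hd : d ∈ (coeff P Δ k).support
    · exact hz d hd
    · simpa using hd
  have hr := coeff_sum hΔ k
  rw [this, map_zero] at hr
  exact P.ne_zero k hr.symm

end Groth.Agent.H3RootD
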