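import Mathlib
import Groth.Agent.Lib.helper3.RootDih
set_option autoImplicit false
open RootPairing

namespace Groth.Agent.H3RootD

variable {ι M N : Type*} [AddCommGroup M] [AddCommGroup N] {P : RootPairing ι ℤ M N} {Δ : Set ι}

theorem dominant_ht [Finite ι] (hΔ : RootD.IsSimpleSys P Δ) (Δ' : Set ι) (hsub : Δ' ⊆ Δ) (k : ι)
    (hdom : ∀ a ∈ Δ', 0 ≤ P.pairing k a) :
    ∀ l : List ι, (∀ x ∈ l, x ∈ Δ') →
      (∀ l' : List ι, (∀ x ∈ l', x ∈ Δ') → wd P l' = wd P l → l.length ≤ l'.length) →
      ht P Δ (wd P l • k) ≤ ht P Δ k ∧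
        (∀ a ∈ l, 0 < P.pairing k a → ht P Δ (wd P l • k) < ht P Δ k) := by
  intro l
  induction l using List.reverseRecOn with
  | nil =>
    intro _ _
    rw [wd_nil, one_smul]
    exact ⟨le_refl _, fun a ha => by simp at ha⟩
  | append_singleton l0 a ih =>
    intro hl hmin
    have ha : a ∈ Δ' := hl a (by simp)
    have hl0 : ∀ x ∈ l0, x ∈ Δ' := fun x hx => hl x (by simp [hx])
    have hmin0 : ∀ l' : List ι, (∀ x ∈ l', x ∈ Δ') → wd P l' = wd P l0 →
        l0.length ≤ l'.length := by
      intro l' hl' hw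
      have := hmin (l' ++ [a]) (fun x hx => by
        rcases List.mem_append.mp hx with h | h
        · exact hl' x h
        · rw [List.mem_singleton] at h; rw [h]; exact ha)
        (by rw [wd_append, wd_append, hw])
      simpa using this
    obtain ⟨ih1, ih2⟩ := ih hl0 hmin0
    have hpos := reduced_prefix_pos hΔ Δ' hsub l0 a hl0 ha hmin
    have hhtpos := ht_pos hΔ _ hpos
    have hroot : P.root (wd P (l0 ++ [a]) • k) =
        P.root (wd P l0 • k) - P.pairing k a • P.root (wd P l0 • a) := by
      rw [wd_append, wd_cons, wd_nil, mul_one, mul_smul, simple_reflection_smul_eq,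
        ← aut_smul_root, ← aut_smul_root, ← aut_smul_root, P.root_reflectionPerm,
        P.reflection_apply_root, smul_sub, smul_comm]
    have hht := ht_of_root_eq hΔ _ _ _ _ hroot
    have hpa := hdom a ha
    have hprod : 0 ≤ P.pairing k a * ht P Δ (wd P l0 • a) := mul_nonneg hpa hhtpos.le
    refine ⟨by rw [hht]; linarith, fun b hb hpb => ?_⟩
    rw [hht]
    rcases List.mem_append.mp hb with h | h
    · have := ih2 b h hpb
      linarith
    · rw [List.mem_singleton] at h
      rw [h] at hpb
      have : 0 < P.pairing k a * ht P Δ (wd P l0 • a) := mul_pos hpb hhtpos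
      linarith

end Groth.Agent.H3RootD
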