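import Mathlib
import Groth.Agent.Lib.helper3.RootDih2
set_option autoImplicit false
open RootPairing

namespace Groth.Agent.H3RootD

variable {ι M N : Type*} [AddCommGroup M] [AddCommGroup N] {P : RootPairing ι ℤ M N} {Δ : Set ι}

theorem dihedral_ht [Finite ι] (hΔ : RootD.IsSimpleSys P Δ)
    (k i j : ι) (hi : i ∈ Δ) (hj : j ∈ Δ)
    (hα : 0 < P.pairing k i) (hβ : 0 ≤ P.pairing k j)
    (g : P.Aut) (hg : g ∈ Subgroup.closure {Equiv.reflection P i, Equiv.reflection P j}) :
    ht P Δ (g • k) ≤ ht P Δ k ∧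
      (g ≠ 1 → g ≠ Equiv.reflection P j → ht P Δ (g • k) < ht P Δ k) := by
  classical
  set Δ' : Set ι := {i, j} with hΔ'
  have hsub : Δ' ⊆ Δ := by
    intro x hx
    rcases hx with rfl | rfl
    · exact hi
    · exact hj
  have hdom : ∀ a ∈ Δ', 0 ≤ P.pairing k a := by
    intro a ha
    rcases ha with rfl | rfl
    · exact hα.le
    · exact hβ
  have hg' : g ∈ Subgroup.closure ((fun a : ι => Equiv.reflection P a) '' Δ') := by
    rw [hΔ', Set.image_pair]; exact hg
  have hex : ∃ n : ℕ, ∃ l : List ι, (∀ a ∈ l, a ∈ Δ') ∧ wd P l = g ∧ l.length = n := by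
    obtain ⟨l, hl, hlw⟩ := exists_word_sub Δ' g hg'
    exact ⟨l.length, l, hl, hlw, rfl⟩
  obtain ⟨l, hl, hlw, hlen⟩ := Nat.find_spec hex
  have hmin : ∀ l' : List ι, (∀ a ∈ l', a ∈ Δ') → wd P l' = wd P l → l.length ≤ l'.length := by
    intro l' hl' hw
    rw [hlen]
    exact Nat.find_min' hex ⟨l', hl', hw.trans hlw, rfl⟩
  obtain ⟨h1, h2⟩ := dominant_ht hΔ Δ' hsub k hdom l hl hmin
  rw [hlw] at h1 h2
  refine ⟨h1, fun hg1 hgj => ?_⟩
  apply h2 i _ hα
  by_contra hil
  have hall : ∀ a ∈ l, a = j := by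
    intro a ha
    rcases hl a ha with rfl | h
    · exact absurd ha hil
    · exact h
  rcases l with _ | ⟨a, _ | ⟨b, rest⟩⟩
  · exact hg1 (by rw [← hlw, wd_nil])
  · apply hgj
    rw [← hlw, wd_cons, wd_nil, mul_one, hall a (by simp)]
  · have ha := hall a (by simp)
    have hb := hall b (by simp)
    have hsq : Equiv.reflection P j * Equiv.reflection P j = 1 := by
      rw [mul_eq_one_iff_inv_eq, Equiv.reflection_inv]
    have := hmin rest (fun x hx => hl x (by simp [hx])) (by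
      rw [wd_cons, wd_cons, ha, hb, ← mul_assoc, hsq, one_mul])
    simp at this

end Groth.Agent.H3RootD

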