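import Mathlib
import Groth.Agent.Lib.helper3.RootDih3
set_option autoImplicit false
open RootPairing

namespace Groth.Agent.H3RootD

variable {ι M N : Type*} [AddCommGroup M] [AddCommGroup N] {P : RootPairing ι ℤ M N} {Δ : Set ι}

theorem dom_exists [Finite ι] {S : Set ι} (hS : RootD.IsPosSys P S)
    {Γ : Type*} [AddCommGroup Γ] [LinearOrder Γ] [IsOrderedAddMonoid Γ] (f : M →+ Γ) :
    ∃ g : P.Aut, g ∈ P.weylGroup ∧ ∀ i ∈ S, 0 ≤ f (Equiv.weightHom P g (P.root i)) := by
  obtain ⟨Δ, hΔ, rfl⟩ := exists_simpleSys_of_isPosSys hS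
  have hcov : ∀ i : ι, i ∈ {i | 0 ≤ f (P.root i)} ∨ P.reflectionPerm i i ∈ {i | 0 ≤ f (P.root i)} := by
    intro i
    change 0 ≤ f (P.root i) ∨ 0 ≤ f (P.root (P.reflectionPerm i i))
    rw [neg_root, map_neg]
    rcases le_total 0 (f (P.root i)) with h | h
    · exact Or.inl h
    · exact Or.inr (neg_nonneg.mpr h)
  have hcl : RootD.IsClosedSub P {i | 0 ≤ f (P.root i)} := by
    intro i j k hi hj hk
    change 0 ≤ f (P.root k)
    rw [hk, map_add]
    exact add_nonneg hi hj
  obtain ⟨g, hg, hsub⟩ := exists_weyl_posOf_subset _ hcov hcl _ Δ hΔ rfl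
  refine ⟨g, hg, fun i hi => ?_⟩
  have : g • i ∈ {i | 0 ≤ f (P.root i)} := hsub ⟨i, hi, rfl⟩
  change 0 ≤ f (P.root (g • i)) at this
  rw [← aut_smul_root] at this
  exact this

/-- `f` nonneg on `posOf Δ` and `f ∘ wd l` nonneg on `posOf Δ` imply `f ∘ wd l = f`. -/
theorem dom_unique [Finite ι] (hΔ : RootD.IsSimpleSys P Δ)
    {Γ : Type*} [AddCommGroup Γ] [LinearOrder Γ] [IsOrderedAddMonoid Γ] (f : M →+ Γ)
    (hf : ∀ i ∈ RootD.posOf P Δ, 0 ≤ f (P.root i)) :
    ∀ (n : ℕ) (l : List ι), l.length = n → (∀ a ∈ l, a ∈ Δ) →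
      (∀ i ∈ RootD.posOf P Δ, 0 ≤ f (wd P l • P.root i)) →
      ∀ m : M, f (wd P l • m) = f m := by
  intro n
  induction n using Nat.strong_induction_on with
  | _ n ih =>
    intro l hlen hl hdom m
    by_cases hmin : ∀ l' : List ι, (∀ a ∈ l', a ∈ Δ) → wd P l' = wd P l → l.length ≤ l'.length
    · rcases List.eq_nil_or_concat l with rfl | ⟨l0, a, rfl⟩
      · rw [wd_nil, one_smul]
      · rw [List.concat_eq_append] at *
        have hne : l0 ++ [a] ≠ [] := by simp
        have hneg := reduced_last_neg hΔ (l0 ++ [a]) hl hne hmin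
        rw [List.getLast_append_singleton] at hneg
        have ha : a ∈ Δ := hl a (by simp)
        have hl0 : ∀ x ∈ l0, x ∈ Δ := fun x hx => hl x (by simp [hx])
        have h1 : 0 ≤ f (wd P (l0 ++ [a]) • P.root a) := hdom a (simple_subset_posOf Δ ha)
        have h2 : 0 ≤ f (-(wd P (l0 ++ [a]) • P.root a)) := by
          rw [aut_smul_root, ← neg_root]
          apply hf
          change P.root _ ∈ RootD.natSpan P Δ
          rw [neg_root]
          exact hneg
        rw [map_neg, neg_nonneg] at h2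
        have h0 : f (wd P (l0 ++ [a]) • P.root a) = 0 := le_antisymm h2 h1
        have hstep : ∀ x : M, f (wd P (l0 ++ [a]) • x) = f (wd P l0 • x) := by
          intro x
          have e1 : wd P l0 • x = wd P (l0 ++ [a]) • (Equiv.reflection P a • x) := by
            rw [wd_append, wd_cons, wd_nil, mul_one, mul_smul, ← mul_smul (Equiv.reflection P a)]
            have : Equiv.reflection P a * Equiv.reflection P a = 1 := by
              rw [mul_eq_one_iff_inv_eq, Equiv.reflection_inv]
            rw [this, one_smul]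
          rw [e1, Equiv.reflection_smul, P.reflection_apply]
          have e2 : wd P (l0 ++ [a]) • (x - (P.coroot' a x) • P.root a)
              = wd P (l0 ++ [a]) • x - (P.coroot' a x) • (wd P (l0 ++ [a]) • P.root a) := by
            rw [smul_sub, smul_comm]
          rw [e2, map_sub, map_zsmul, h0, smul_zero, sub_zero]
        rw [hstep]
        refine ih l0.length (by rw [← hlen]; simp) l0 rfl hl0 (fun i hi => ?_) m
        rw [← hstep]
        exact hdom i hi
    · push Not at hmin
      obtain ⟨l', hl', hw, hlt⟩ := hmin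
      rw [← hw]
      refine ih l'.length (by omega) l' rfl hl' (fun i hi => ?_) m
      rw [hw]
      exact hdom i hi

end Groth.Agent.H3RootD

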