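import Mathlib
import Groth.Agent.Lib.helper3.RootDom
import Groth.Agent.Lib.helper3.RootConj
set_option autoImplicit false
open RootPairing

namespace Groth.Agent.H3RootD

variable {ι M N : Type*} [AddCommGroup M] [AddCommGroup N] {P : RootPairing ι ℤ M N} {Δ : Set ι}

theorem exists_min_word [Finite ι] (hΔ : RootD.IsSimpleSys P Δ) (g : P.Aut) (hg : g ∈ P.weylGroup) :
    ∃ l : List ι, (∀ a ∈ l, a ∈ Δ) ∧ wd P l = g ∧
      ∀ l' : List ι, (∀ a ∈ l', a ∈ Δ) → wd P l' = wd P l → l.length ≤ l'.length := by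
  classical
  have hex : ∃ n : ℕ, ∃ l : List ι, (∀ a ∈ l, a ∈ Δ) ∧ wd P l = g ∧ l.length = n := by
    obtain ⟨l, hl, hlw⟩ := exists_word hΔ g hg
    exact ⟨l.length, l, hl, hlw, rfl⟩
  obtain ⟨l, hl, hlw, hlen⟩ := Nat.find_spec hex
  refine ⟨l, hl, hlw, fun l' hl' hw => ?_⟩
  rw [hlen]
  exact Nat.find_min' hex ⟨l', hl', hw.trans hlw, rfl⟩

theorem dom_cone [Finite ι] [Fintype ι] (hΔ : RootD.IsSimpleSys P Δ)
    {Γ : Type*} [AddCommGroup Γ] [LinearOrder Γ] [IsOrderedAddMonoid Γ] (f : M →+ Γ)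
    (hf : ∀ i ∈ RootD.posOf P Δ, 0 ≤ f (P.root i)) :
    ∀ l : List ι, (∀ x ∈ l, x ∈ Δ) →
      (∀ l' : List ι, (∀ x ∈ l', x ∈ Δ) → wd P l' = wd P l → l.length ≤ l'.length) →
      ∃ c : ι → Γ, (∀ i, 0 ≤ c i) ∧ (∀ i, i ∉ Δ → c i = 0) ∧
        ∀ m : M, f m - f (wd P l • m) = ∑ i, (P.coroot' i m) • c i := by
  classical
  intro l
  induction l using List.reverseRecOn with
  | nil =>
    intro _ _
    refine ⟨fun _ => 0, fun _ => le_refl _, fun _ _ => rfl, fun m => ?_⟩
    simp [wd_nil]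
  | append_singleton l0 a ih =>
    intro hl hmin
    have ha : a ∈ Δ := hl a (by simp)
    have hl0 : ∀ x ∈ l0, x ∈ Δ := fun x hx => hl x (by simp [hx])
    have hmin0 : ∀ l' : List ι, (∀ x ∈ l', x ∈ Δ) → wd P l' = wd P l0 →
        l0.length ≤ l'.length := by
      intro l' hl' hw
      have := hmin (l' ++ [a]) (fun x hx => by
        rcases List.mem_append.mp hx with h | h
        · exact hl' x h
        · rw [List.mem_singleton] at h; rw [h]; exact ha) (by rw [wd_append, wd_append, hw])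
      simpa using this
    obtain ⟨c, hc0, hcΔ, hc⟩ := ih hl0 hmin0
    have hpos : wd P l0 • a ∈ RootD.posOf P Δ :=
      reduced_prefix_pos hΔ Δ subset_rfl l0 a hl0 ha hmin
    have hfa : 0 ≤ f (P.root (wd P l0 • a)) := hf _ hpos
    refine ⟨fun i => c i + if i = a then f (P.root (wd P l0 • a)) else 0, fun i => ?_, fun i hi => ?_,
      fun m => ?_⟩
    · by_cases h : i = a
      · simp only [h, if_true]; exact add_nonneg (hc0 a) hfa
      · simp only [h, if_false, add_zero]; exact hc0 i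
    · have : i ≠ a := fun h => hi (h ▸ ha)
      simp only [this, if_false, add_zero]; exact hcΔ i hi
    · have e1 : wd P (l0 ++ [a]) • m = wd P l0 • m - (P.coroot' a m) • P.root (wd P l0 • a) := by
        rw [wd_append, wd_cons, wd_nil, mul_one, mul_smul, Equiv.reflection_smul, P.reflection_apply,
          smul_sub, smul_comm, aut_smul_root]
      rw [e1, map_sub, map_zsmul]
      simp only [smul_add, Finset.sum_add_distrib, smul_ite, smul_zero, Finset.sum_ite_eq',
        Finset.mem_univ, if_true]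
      rw [← hc m]
      abel

theorem exists_dom_regular [Finite ι] [Fintype ι] (hΔ : RootD.IsSimpleSys P Δ) :
    ∃ m : M, ∀ i ∈ RootD.posOf P Δ, 0 < P.coroot' i m := by
  obtain ⟨m0, hm0⟩ := exists_regular (P := P.flip)
  have hm0' : ∀ i, P.coroot' i m0 ≠ 0 := hm0
  have hcov : ∀ i : ι, i ∈ {i | 0 ≤ P.coroot' i m0} ∨ P.reflectionPerm i i ∈ {i | 0 ≤ P.coroot' i m0} := by
    intro i
    change 0 ≤ P.coroot' i m0 ∨ 0 ≤ P.coroot' (P.reflectionPerm i i) m0
    have : P.coroot' (P.reflectionPerm i i) m0 = - P.coroot' i m0 := by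
      change P.toLinearMap m0 (P.coroot (P.reflectionPerm i i)) = - P.toLinearMap m0 (P.coroot i)
      rw [P.coroot_reflectionPerm, P.coreflection_apply_self, map_neg]
    rw [this]
    rcases le_total 0 (P.coroot' i m0) with h | h
    · exact Or.inl h
    · exact Or.inr (neg_nonneg.mpr h)
  have hcl : RootD.IsClosedSub P {i | 0 ≤ P.coroot' i m0} := by
    intro i j k hi hj hk
    change 0 ≤ P.coroot' k m0
    change 0 ≤ P.coroot' i m0 at hi
    change 0 ≤ P.coroot' j m0 at hj
    have key : ∀ x : ι, P.RootForm (P.root x) (P.root x) * P.coroot' x m0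
        = 2 * P.toLinearMap m0 (P.Polarization (P.root x)) := by
      intro x
      have := congrArg (P.toLinearMap m0) (P.rootForm_self_smul_coroot x)
      rw [map_zsmul, map_nsmul] at this
      simpa using this
    have hk' : P.RootForm (P.root k) (P.root k) * P.coroot' k m0
        = P.RootForm (P.root i) (P.root i) * P.coroot' i m0
          + P.RootForm (P.root j) (P.root j) * P.coroot' j m0 := by
      rw [key k, key i, key j, hk, map_add, map_add, mul_add]
    have h3 : 0 ≤ P.RootForm (P.root k) (P.root k) * P.coroot' k m0 := by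
      rw [hk']
      exact add_nonneg (mul_nonneg (rootForm_pos i).le hi) (mul_nonneg (rootForm_pos j).le hj)
    exact nonneg_of_mul_nonneg_right h3 (rootForm_pos k)
  obtain ⟨g, -, hsub⟩ := exists_weyl_posOf_subset _ hcov hcl _ Δ hΔ rfl
  refine ⟨g⁻¹ • m0, fun i hi => ?_⟩
  have h1 : g • i ∈ {i | 0 ≤ P.coroot' i m0} := hsub ⟨i, hi, rfl⟩
  change 0 ≤ P.coroot' (g • i) m0 at h1
  have h2 : P.coroot' (g • i) m0 = P.coroot' i (g⁻¹ • m0) := by
    change P.toLinearMap m0 (P.coroot (g • i)) = P.toLinearMap (g⁻¹ • m0) (P.coroot i)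
    conv_lhs => rw [← smul_inv_smul g m0]
    rw [aut_pairing', aut_coweight_coroot]
  rw [← h2]
  exact lt_of_le_of_ne h1 (hm0' _).symm

end Groth.Agent.H3RootD

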