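import Mathlib
import Groth.Agent.Lib.helper3.RootDom2
set_option autoImplicit false
open RootPairing

namespace Groth.Agent.H3RootD

variable {ι M N : Type*} [AddCommGroup M] [AddCommGroup N] {P : RootPairing ι ℤ M N} {Δ : Set ι}

theorem weylGroupToPerm_injective [Finite ι] : Function.Injective P.weylGroupToPerm := by
  rintro ⟨u, hu⟩ ⟨v, hv⟩ h
  apply Subtype.ext
  change u = v
  apply aut_eq_of_index_eq P u v
  · intro i
    exact DFunLike.congr_fun h i
  · intro m
    refine ⟨1, one_pos, ?_⟩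
    rw [one_smul]
    have : u • m - v • m = (u • m - m) - (v • m - m) := by abel
    rw [this]
    exact Submodule.sub_mem _ (weyl_smul_sub_mem_span P u hu m) (weyl_smul_sub_mem_span P v hv m)

theorem finite_weylGroup [Finite ι] : Finite P.weylGroup :=
  Finite.of_injective _ (weylGroupToPerm_injective (P := P))

theorem dom_le [Finite ι] (hΔ : RootD.IsSimpleSys P Δ)
    {Γ : Type*} [AddCommGroup Γ] [LinearOrder Γ] [IsOrderedAddMonoid Γ] (f : M →+ Γ)
    (hf : ∀ i ∈ RootD.posOf P Δ, 0 ≤ f (P.root i)) (g : P.Aut) (hg : g ∈ P.weylGroup) (m : M)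
    (hm : ∀ i ∈ RootD.posOf P Δ, 0 ≤ P.coroot' i m) : f (g • m) ≤ f m := by
  have := Fintype.ofFinite ι
  obtain ⟨l, hl, rfl, hmin⟩ := exists_min_word hΔ g hg
  obtain ⟨c, hc0, hcΔ, hc⟩ := dom_cone hΔ f hf l hl hmin
  rw [← sub_nonneg, hc m]
  refine Finset.sum_nonneg fun i _ => ?_
  by_cases hi : i ∈ Δ
  · exact zsmul_nonneg (hc0 i) (hm i (simple_subset_posOf Δ hi))
  · rw [hcΔ i hi, smul_zero]

theorem coroot_cover (m0 : M) (i : ι) :
    i ∈ {i | 0 ≤ P.coroot' i m0} ∨ P.reflectionPerm i i ∈ {i | 0 ≤ P.coroot' i m0} := by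
  change 0 ≤ P.coroot' i m0 ∨ 0 ≤ P.coroot' (P.reflectionPerm i i) m0
  have : P.coroot' (P.reflectionPerm i i) m0 = - P.coroot' i m0 := by
    change P.toLinearMap m0 (P.coroot (P.reflectionPerm i i)) = - P.toLinearMap m0 (P.coroot i)
    rw [P.coroot_reflectionPerm, P.coreflection_apply_self, map_neg]
  rw [this]
  rcases le_total 0 (P.coroot' i m0) with h | h
  · exact Or.inl h
  · exact Or.inr (neg_nonneg.mpr h)

theorem coroot_closed [Fintype ι] (m0 : M) : RootD.IsClosedSub P {i | 0 ≤ P.coroot' i m0} := by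
  intro i j k hi hj hk
  change 0 ≤ P.coroot' k m0
  change 0 ≤ P.coroot' i m0 at hi
  change 0 ≤ P.coroot' j m0 at hj
  have key : ∀ x : ι, P.RootForm (P.root x) (P.root x) * P.coroot' x m0
      = 2 * P.toLinearMap m0 (P.Polarization (P.root x)) := by
    intro x
    have := congrArg (P.toLinearMap m0) (P.rootForm_self_smul_coroot x)
    rw [map_zsmul, map_nsmul] at this
    simpa using this
  have hk' : P.RootForm (P.root k) (P.root k) * P.coroot' k m0
      = P.RootForm (P.root i) (P.root i) * P.coroot' i m0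
        + P.RootForm (P.root j) (P.root j) * P.coroot' j m0 := by
    rw [key k, key i, key j, hk, map_add, map_add, mul_add]
  have h3 : 0 ≤ P.RootForm (P.root k) (P.root k) * P.coroot' k m0 := by
    rw [hk']
    exact add_nonneg (mul_nonneg (rootForm_pos i).le hi) (mul_nonneg (rootForm_pos j).le hj)
  exact nonneg_of_mul_nonneg_right h3 (rootForm_pos k)

theorem exists_weyl_dominant [Finite ι] (hΔ : RootD.IsSimpleSys P Δ) (m0 : M) :
    ∃ g : P.Aut, g ∈ P.weylGroup ∧ ∀ i ∈ RootD.posOf P Δ, 0 ≤ P.coroot' i (g • m0) := by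
  have := Fintype.ofFinite ι
  obtain ⟨g, hg, hsub⟩ := exists_weyl_posOf_subset _ (coroot_cover m0) (coroot_closed m0) _ Δ hΔ rfl
  refine ⟨g⁻¹, inv_mem hg, fun i hi => ?_⟩
  have h1 : g • i ∈ {i | 0 ≤ P.coroot' i m0} := hsub ⟨i, hi, rfl⟩
  change 0 ≤ P.coroot' (g • i) m0 at h1
  have h2 : P.coroot' (g • i) m0 = P.coroot' i (g⁻¹ • m0) := by
    change P.toLinearMap m0 (P.coroot (g • i)) = P.toLinearMap (g⁻¹ • m0) (P.coroot i)
    conv_lhs => rw [← smul_inv_smul g m0]
    rw [aut_pairing', aut_coweight_coroot]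
  rw [← h2]
  exact h1

end Groth.Agent.H3RootD

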