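import Mathlib
import Groth.Agent.Lib.helper3.RootDom3
set_option autoImplicit false
open RootPairing Set Function Submodule Module

namespace Groth.Agent.H3RootD

section intForm
variable {ι R M N : Type*} [CommRing R] [CharZero R] [IsDomain R] [AddCommGroup M] [Module R M]
  [AddCommGroup N] [Module R N] (P : RootPairing ι R M N)

include P in
theorem tf_of_domain : IsAddTorsionFree M := by
  refine ⟨fun n hn a b hab => ?_⟩
  apply P.toPerfPair.injective
  ext y
  have h1 : P.toLinearMap (n • a) y = P.toLinearMap (n • b) y := by
    have : n • a = n • b := hab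
    rw [this]
  simp only [map_nsmul, LinearMap.smul_apply, nsmul_eq_mul] at h1
  have hn' : (n : R) ≠ 0 := by exact_mod_cast hn
  exact mul_left_cancel₀ hn' h1

omit [IsDomain R] in
theorem coroot'In_apply_cast [P.IsCrystallographic] (i : ι) (x : P.rootSpan ℤ) :
    ((P.coroot'In ℤ i x : ℤ) : R) = P.toLinearMap (x : M) (P.coroot i) := by
  have := P.algebraMap_coroot'In_apply ℤ i x
  simpa using this

noncomputable def intForm [Finite ι] [P.IsCrystallographic] :
    RootPairing ι ℤ (P.rootSpan ℤ) (Dual ℤ (P.rootSpan ℤ)) :=
  have : IsAddTorsionFree M := tf_of_domain P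
  { toLinearMap := Dual.eval ℤ _
    isPerfPair_toLinearMap := inferInstance
    root := ⟨fun i => P.rootSpanMem ℤ i, fun i j h => P.root.injective (by
      simpa using congrArg Subtype.val h)⟩
    coroot := ⟨fun i => P.coroot'In ℤ i, fun i j h => by
      have hk : ∀ k, P.toLinearMap (P.root k) (P.coroot i) = P.toLinearMap (P.root k) (P.coroot j) := by
        intro k
        have h1 := coroot'In_apply_cast P i (P.rootSpanMem ℤ k)
        have h2 := coroot'In_apply_cast P j (P.rootSpanMem ℤ k)
        have h3 : P.coroot'In ℤ i = P.coroot'In ℤ j := h
        rw [h3] at h1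
        exact h1.symm.trans h2
      have := P.injOn_dualMap_subtype_span_root_coroot (mem_range_self i) (mem_range_self j)
        (by
          ext x
          have he : Set.EqOn (P.coroot' i) (P.coroot' j) (range P.root) := by
            rintro _ ⟨k, rfl⟩
            exact hk k
          exact LinearMap.eqOn_span he x.2)
      exact P.coroot.injective this⟩
    root_coroot_two := fun i => by
      change P.pairingIn ℤ i i = 2
      exact P.pairingIn_same ℤ i
    reflectionPerm := P.reflectionPerm
    reflectionPerm_root := fun i j => Subtype.ext (by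
      have h := P.reflectionPerm_root i j
      have h1 := coroot'In_apply_cast P i (P.rootSpanMem ℤ j)
      change P.root j - (P.coroot'In ℤ i (P.rootSpanMem ℤ j)) • P.root i = P.root (P.reflectionPerm i j)
      rw [← h, ← Int.cast_smul_eq_zsmul R, h1])
    reflectionPerm_coroot := fun i j => by
      ext x
      have h := congrArg (fun n => P.toLinearMap (x : M) n) (P.reflectionPerm_coroot i j)
      simp only [map_sub, map_smul, smul_eq_mul] at h
      have : ((P.coroot'In ℤ j x - (P.coroot'In ℤ j (P.rootSpanMem ℤ i)) * P.coroot'In ℤ i x : ℤ) : R)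
          = ((P.coroot'In ℤ (P.reflectionPerm i j) x : ℤ) : R) := by
        push_cast
        rw [coroot'In_apply_cast, coroot'In_apply_cast, coroot'In_apply_cast, coroot'In_apply_cast]
        exact h
      exact_mod_cast this }

end intForm

end Groth.Agent.H3RootD
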