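import Mathlib
import Groth.Agent.Lib.helper3.RootInt
set_option autoImplicit false
open RootPairing Set Function Submodule Module

namespace Groth.Agent.H3RootD

section intForm2
variable {ι R M N : Type*} [CommRing R] [CharZero R] [IsDomain R] [AddCommGroup M] [Module R M]
  [AddCommGroup N] [Module R N] {P : RootPairing ι R M N} [Finite ι] [P.IsCrystallographic]

theorem intForm_root_coe (i : ι) : (((intForm P).root i : P.rootSpan ℤ) : M) = P.root i := rfl

theorem intForm_reflectionPerm (i j : ι) : (intForm P).reflectionPerm i j = P.reflectionPerm i j := rfl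

theorem intForm_pairing (i j : ι) : (intForm P).pairing i j = P.pairingIn ℤ i j := rfl

theorem mem_natSpan_intForm_iff (s : Set ι) (x : P.rootSpan ℤ) :
    x ∈ RootD.natSpan (intForm P) s ↔ (x : M) ∈ AddSubmonoid.closure (P.root '' s) := by
  have h1 : P.root '' s = (P.rootSpan ℤ).subtype.toAddMonoidHom '' ((intForm P).root '' s) := by
    rw [Set.image_image]
    rfl
  rw [h1, ← AddMonoidHom.map_mclosure]
  exact (AddSubmonoid.mem_map_iff_mem (f := (P.rootSpan ℤ).subtype.toAddMonoidHom)
    (Subtype.val_injective)).symm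

theorem isSimpleSys_of_base (b : P.Base) : RootD.IsSimpleSys (intForm P) (b.support : Set ι) := by
  refine ⟨?_, fun i => ?_⟩
  · have := b.linearIndependentInt
    exact this
  · rw [mem_natSpan_intForm_iff, mem_natSpan_intForm_iff]
    exact b.root_mem_or_neg_mem i

omit [IsDomain R] [Finite ι] [P.IsCrystallographic] in
theorem isPos_of_mem_closure (b : P.Base) (i : ι)
    (h : P.root i ∈ AddSubmonoid.closure (P.root '' (b.support : Set ι))) : b.IsPos i := by
  classical
  have key : ∀ m ∈ AddSubmonoid.closure (P.root '' (b.support : Set ι)),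
      ∃ f : ι → ℕ, m = ∑ j ∈ b.support, f j • P.root j := by
    intro m hm
    refine AddSubmonoid.closure_induction ?_ ⟨0, by simp⟩ ?_ hm
    · rintro - ⟨j, hj, rfl⟩
      refine ⟨Pi.single j 1, ?_⟩
      rw [Finset.sum_eq_single_of_mem j hj (by intro k _ hk; simp [hk])]
      simp
    · intro _ _ _ _ ⟨f, hf'⟩ ⟨g, hg'⟩
      exact ⟨f + g, by simp [hf', hg', add_smul, Finset.sum_add_distrib]⟩
  obtain ⟨f, hf⟩ := key _ h
  have hf' : P.root i = ∑ j ∈ b.support, ((fun j => (f j : ℤ)) j) • P.root j := by
    rw [hf]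
    simp
  rw [Base.isPos_iff', Base.height_eq_sum hf']
  exact Finset.sum_nonneg fun j _ => Int.natCast_nonneg _

theorem mem_posOf_iff_isPos (b : P.Base) (i : ι) :
    i ∈ RootD.posOf (intForm P) (b.support : Set ι) ↔ b.IsPos i := by
  change (intForm P).root i ∈ RootD.natSpan (intForm P) _ ↔ _
  rw [mem_natSpan_intForm_iff]
  change P.root i ∈ _ ↔ _
  constructor
  · exact isPos_of_mem_closure b i
  · intro h
    rcases b.root_mem_or_neg_mem i with h1 | h1
    · exact h1
    · exfalso
      have h2 : P.root (P.reflectionPerm i i) ∈ AddSubmonoid.closure (P.root '' (b.support : Set ι)) := by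
        rw [P.root_reflectionPerm, P.reflection_apply_self]
        exact h1
      have h3 := isPos_of_mem_closure b _ h2
      exact (Base.IsPos.neg_iff_not b i).mp h3 h

noncomputable def wdR (P : RootPairing ι R M N) (l : List ι) : P.Aut :=
  (l.map fun a => Equiv.reflection P a).prod

omit [CharZero R] [IsDomain R] [Finite ι] [P.IsCrystallographic] in
theorem wdR_nil : wdR P [] = 1 := rfl

omit [CharZero R] [IsDomain R] [Finite ι] [P.IsCrystallographic] in
theorem wdR_cons (a : ι) (l : List ι) : wdR P (a :: l) = Equiv.reflection P a * wdR P l := by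
  simp [wdR]

omit [CharZero R] [IsDomain R] [Finite ι] [P.IsCrystallographic] in
theorem wdR_append (l1 l2 : List ι) : wdR P (l1 ++ l2) = wdR P l1 * wdR P l2 := by
  simp [wdR]

omit [CharZero R] [IsDomain R] [Finite ι] [P.IsCrystallographic] in
theorem wdR_mem (l : List ι) : wdR P l ∈ P.weylGroup := by
  induction l with
  | nil => exact one_mem _
  | cons a l ih => rw [wdR_cons]; exact mul_mem (P.reflection_mem_weylGroup a) ih

theorem wdR_smul_idx (l : List ι) (i : ι) : wdR P l • i = wd (intForm P) l • i := by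
  induction l with
  | nil => rw [wdR_nil, wd_nil, one_smul, one_smul]
  | cons a l ih =>
    rw [wdR_cons, wd_cons, mul_smul, mul_smul, ih]
    rfl

omit [CharZero R] [IsDomain R] [Finite ι] [P.IsCrystallographic] in
theorem exists_wdR (g : P.Aut) (hg : g ∈ P.weylGroup) : ∃ l : List ι, wdR P l = g := by
  induction hg using Subgroup.closure_induction'' with
  | mem x hx =>
    obtain ⟨i, rfl⟩ := hx
    exact ⟨[i], by simp [wdR]⟩
  | inv_mem x hx =>
    obtain ⟨i, rfl⟩ := hx
    exact ⟨[i], by simp [wdR]⟩
  | one => exact ⟨[], rfl⟩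
  | mul x y _ _ hx hy =>
    obtain ⟨l1, rfl⟩ := hx
    obtain ⟨l2, rfl⟩ := hy
    exact ⟨l1 ++ l2, wdR_append l1 l2⟩

theorem exists_wd_int (g : (intForm P).Aut) (hg : g ∈ (intForm P).weylGroup) :
    ∃ l : List ι, wd (intForm P) l = g := by
  induction hg using Subgroup.closure_induction'' with
  | mem x hx =>
    obtain ⟨i, rfl⟩ := hx
    exact ⟨[i], by simp [wd]⟩
  | inv_mem x hx =>
    obtain ⟨i, rfl⟩ := hx
    exact ⟨[i], by simp [wd]⟩
  | one => exact ⟨[], rfl⟩
  | mul x y _ _ hx hy =>
    obtain ⟨l1, rfl⟩ := hx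
    obtain ⟨l2, rfl⟩ := hy
    exact ⟨l1 ++ l2, wd_append l1 l2⟩

theorem wd_int_mem (l : List ι) : wd (intForm P) l ∈ (intForm P).weylGroup := by
  induction l with
  | nil => exact one_mem _
  | cons a l ih => rw [wd_cons]; exact mul_mem ((intForm P).reflection_mem_weylGroup a) ih

end intForm2

end Groth.Agent.H3RootD
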