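import Mathlib
import Groth.Agent.Lib.helper3.RootInt2
set_option autoImplicit false
open RootPairing Set Function Submodule Module

namespace Groth.Agent.H3RootD

section autR
variable {ι R M N : Type*} [CommRing R] [AddCommGroup M] [Module R M]
  [AddCommGroup N] [Module R N] (P : RootPairing ι R M N)

theorem autR_smul_root (g : P.Aut) (i : ι) : g • P.root i = P.root (g • i) :=
  (Equiv.root_indexEquiv_eq_smul (P := P) i g).symm

theorem autR_smul_def (g : P.Aut) (m : M) : g • m = g.weightMap m := rfl

theorem autR_pairing' (g : P.Aut) (m : M) (n : N) :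
    P.toLinearMap (g • m) n = P.toLinearMap m (g.coweightMap n) := by
  have := Hom.weight_coweight_transpose_apply P P n g.toHom
  have h2 := congrArg (fun φ => φ m) this
  rw [autR_smul_def]
  simpa using h2

theorem autR_coweight_coroot (g : P.Aut) (i : ι) : g.coweightMap (P.coroot (g • i)) = P.coroot i := by
  have := Hom.coroot_coweightMap_apply P P (g • i) g.toHom
  rw [this]
  congr 1
  exact g.indexEquiv.symm_apply_apply i

theorem autR_pairing (g : P.Aut) (m : M) (i : ι) :
    P.toLinearMap (g • m) (P.coroot (g • i)) = P.toLinearMap m (P.coroot i) := by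
  rw [autR_pairing', autR_coweight_coroot]

theorem autR_smul_mem_span (g : P.Aut) (x : M) (hx : x ∈ Submodule.span R (Set.range P.root)) :
    g • x ∈ Submodule.span R (Set.range P.root) := by
  induction hx using Submodule.span_induction with
  | mem y hy =>
    obtain ⟨i, rfl⟩ := hy
    rw [autR_smul_root]
    exact Submodule.subset_span ⟨_, rfl⟩
  | zero => rw [smul_zero]; exact Submodule.zero_mem _
  | add y z _ _ hy hz => rw [smul_add]; exact Submodule.add_mem _ hy hz
  | smul a y _ hy =>
    have : g • (a • y) = a • (g • y) := by
      rw [autR_smul_def, autR_smul_def, LinearMap.map_smul]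
    rw [this]; exact Submodule.smul_mem _ _ hy

theorem weylR_smul_sub_mem_span (w : P.Aut) (hw : w ∈ P.weylGroup) (m : M) :
    w • m - m ∈ Submodule.span R (Set.range P.root) := by
  revert m
  induction hw using weylGroup.induction with
  | mem i =>
    intro m
    rw [Equiv.reflection_smul, P.reflection_apply, sub_sub_cancel_left]
    exact Submodule.neg_mem _ (Submodule.smul_mem _ _ (Submodule.subset_span ⟨i, rfl⟩))
  | one => intro m; rw [one_smul, sub_self]; exact Submodule.zero_mem _
  | mul x y _ _ hx hy =>
    intro m
    have : (x * y) • m - m = x • (y • m - m) + (x • m - m) := by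
      rw [mul_smul, smul_sub]; abel
    rw [this]
    exact Submodule.add_mem _ (autR_smul_mem_span P x _ (hy m)) (hx m)

theorem weylR_faithful [CharZero R] [IsDomain R] [Finite ι] [P.IsCrystallographic]
    (g : P.Aut) (hg : g ∈ P.weylGroup) (hidx : ∀ i : ι, g • i = i) : g = 1 := by
  have : Fintype ι := Fintype.ofFinite ι
  apply Equiv.weightHom_injective P
  ext m
  change g • m = m
  have hx := weylR_smul_sub_mem_span P g hg m
  have hker : g • m - m ∈ LinearMap.ker P.RootForm := by
    rw [LinearMap.mem_ker]
    ext y
    rw [P.rootForm_apply_apply]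
    refine Finset.sum_eq_zero (fun i _ => ?_)
    have : P.coroot' i (g • m - m) = 0 := by
      change P.toLinearMap (g • m - m) (P.coroot i) = 0
      rw [map_sub, LinearMap.sub_apply]
      conv_lhs => rw [← hidx i]
      rw [autR_pairing, hidx, sub_self]
    rw [this, zero_mul]
  have := (Submodule.disjoint_def.mp P.disjoint_rootSpan_ker_rootForm) _ hx hker
  exact sub_eq_zero.mp this

end autR

end Groth.Agent.H3RootD
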