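import Mathlib
import Groth.Agent.Lib.helper3.RootInt3
set_option autoImplicit false
open RootPairing Set Function Submodule Module

namespace Groth.Agent.H3RootD

section zlemmas
variable {ι M N : Type*} [AddCommGroup M] [AddCommGroup N] {P : RootPairing ι ℤ M N} {Δ : Set ι}

theorem weyl_eq_one_of_pos [Finite ι] (hΔ : RootD.IsSimpleSys P Δ) (w : P.Aut)
    (hw : w ∈ P.weylGroup) (hpos : ∀ i ∈ RootD.posOf P Δ, w • i ∈ RootD.posOf P Δ) : w = 1 := by
  apply weyl_eq_one_of_image_eq hΔ w hw
  apply simple_eq_of_posOf_eq (simpleSys_image w hΔ) hΔ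
  rw [posOf_image]
  refine eq_of_subset_of_P1_P2 ?_ ?_ (isPosSys_posOf hΔ).disjoint
  · rintro _ ⟨i, hi, rfl⟩
    exact hpos i hi
  · rw [← posOf_image]
    exact pos_or_neg (simpleSys_image w hΔ)

end zlemmas

section transfer
variable {ι R M N : Type*} [CommRing R] [CharZero R] [IsDomain R] [AddCommGroup M] [Module R M]
  [AddCommGroup N] [Module R N] {P : RootPairing ι R M N} [Finite ι] [P.IsCrystallographic]

theorem weylR_eq_of_idx (g h : P.Aut) (hg : g ∈ P.weylGroup) (hh : h ∈ P.weylGroup)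
    (hidx : ∀ i : ι, g • i = h • i) : g = h := by
  have := weylR_faithful P (h⁻¹ * g) (mul_mem (inv_mem hh) hg)
    (fun i => by rw [mul_smul, hidx, inv_smul_smul])
  rw [inv_mul_eq_one] at this
  exact this.symm

omit [CharZero R] [IsDomain R] [Finite ι] [P.IsCrystallographic] in
theorem wdR_mem_closure (s : Set ι) (l : List ι) (hl : ∀ a ∈ l, a ∈ s) :
    wdR P l ∈ Subgroup.closure ((fun i : ι => Equiv.reflection P i) '' s) := by
  induction l with
  | nil => exact one_mem _
  | cons a l ih =>
    rw [wdR_cons]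
    exact mul_mem (Subgroup.subset_closure ⟨a, hl a (by simp), rfl⟩)
      (ih fun x hx => hl x (by simp [hx]))

theorem intForm_indiv [P.IsReduced] (k : ι) : RootD.IsIndiv (intForm P) k := by
  intro j hj
  have hj' : (2 : ℤ) • P.root j = P.root k := congrArg Subtype.val hj
  have hdep : ¬ LinearIndependent R ![P.root j, P.root k] := by
    rw [LinearIndependent.pair_iff]
    intro h
    have := h 2 (-1) (by rw [← hj']; simp [two_smul])
    simp at this
  have : IsAddTorsionFree M := tf_of_domain P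
  rcases IsReduced.eq_or_eq_neg j k hdep with h | h
  · have h0 : P.root j = 0 := by
      rw [← h, two_smul] at hj'
      simpa using hj'
    exact P.ne_zero j h0
  · have h3 : (3 : ℕ) • P.root j = 0 := by
      have hk : P.root k = - P.root j := by rw [h, neg_neg]
      rw [hk, two_smul] at hj'
      have : P.root j + P.root j + P.root j = 0 := by rw [hj', neg_add_cancel]
      rw [← this]; abel
    exact P.ne_zero j ((smul_eq_zero_iff_right (by norm_num)).mp h3)

theorem base_reflection_eq_wdR (b : P.Base) (k : ι) :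
    ∃ l : List ι, (∀ a ∈ l, a ∈ (b.support : Set ι)) ∧ Equiv.reflection P k = wdR P l := by
  obtain ⟨l, hl, hlw⟩ := exists_word (isSimpleSys_of_base b) (Equiv.reflection (intForm P) k)
    ((intForm P).reflection_mem_weylGroup k)
  refine ⟨l, hl, weylR_eq_of_idx _ _ (P.reflection_mem_weylGroup k) (wdR_mem l) (fun i => ?_)⟩
  rw [wdR_smul_idx, hlw]
  rfl

theorem base_reflections_closure (b : P.Base) :
    Subgroup.closure ((fun i : ι => Equiv.reflection P i) '' (b.support : Set ι)) = P.weylGroup := by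
  apply le_antisymm
  · exact Subgroup.closure_mono (Set.image_subset_range _ _)
  · unfold weylGroup
    rw [Subgroup.closure_le]
    rintro _ ⟨k, rfl⟩
    obtain ⟨l, hl, hk⟩ := base_reflection_eq_wdR b k
    rw [hk]
    exact wdR_mem_closure _ l hl

theorem base_conj_simple [P.IsReduced] (b : P.Base) (i : ι) :
    ∃ g : P.Aut, g ∈ P.weylGroup ∧ ∃ j ∈ b.support, g • j = i := by
  obtain ⟨g₀, hg₀, j, hj, hji⟩ := indiv_conj_simple (isSimpleSys_of_base b) i (intForm_indiv i)
  have hg₀' : g₀ ∈ (intForm P).weylGroup :=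
    Subgroup.closure_mono (Set.image_subset_range _ _) hg₀
  obtain ⟨l, rfl⟩ := exists_wd_int g₀ hg₀'
  exact ⟨wdR P l, wdR_mem l, j, hj, by rw [wdR_smul_idx, hji]⟩

theorem base_weyl_eq_one_of_pos (b : P.Base) (g : P.Aut) (hg : g ∈ P.weylGroup)
    (hpos : ∀ i, b.IsPos i → b.IsPos (g • i)) : g = 1 := by
  obtain ⟨l, rfl⟩ := exists_wdR g hg
  have h1 : wd (intForm P) l = 1 := by
    apply weyl_eq_one_of_pos (isSimpleSys_of_base b) _ (wd_int_mem l)
    intro i hi
    rw [mem_posOf_iff_isPos] at hi ⊢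
    rw [← wdR_smul_idx]
    exact hpos i hi
  apply weylR_eq_of_idx _ _ (wdR_mem l) (one_mem _)
  intro i
  rw [wdR_smul_idx, h1]
  simp

theorem base_weyl_eq_one_of_image (b : P.Base) (g : P.Aut) (hg : g ∈ P.weylGroup)
    (him : (fun i : ι => g • i) '' (b.support : Set ι) = (b.support : Set ι)) : g = 1 := by
  obtain ⟨l, rfl⟩ := exists_wdR g hg
  have h1 : wd (intForm P) l = 1 := by
    apply weyl_eq_one_of_image_eq (isSimpleSys_of_base b) _ (wd_int_mem l)
    have : (fun i : ι => wd (intForm P) l • i) = (fun i : ι => wdR P l • i) :=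
      funext fun i => (wdR_smul_idx l i).symm
    rw [this]
    exact him
  apply weylR_eq_of_idx _ _ (wdR_mem l) (one_mem _)
  intro i
  rw [wdR_smul_idx, h1]
  simp

theorem base_exists_weyl (b b' : P.Base) :
    ∃ g : P.Aut, g ∈ P.weylGroup ∧
      (fun i : ι => g • i) '' (b.support : Set ι) = (b'.support : Set ι) := by
  obtain ⟨g₀, hg₀, him⟩ := exists_weyl_image_simple_eq _ _ (isSimpleSys_of_base b)
    (isSimpleSys_of_base b')
  obtain ⟨l, rfl⟩ := exists_wd_int g₀ hg₀
  refine ⟨wdR P l, wdR_mem l, ?_⟩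
  rw [← him]
  ext x
  simp only [Set.mem_image, wdR_smul_idx]

end transfer

end Groth.Agent.H3RootD

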