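import Mathlib
import Groth.Agent.Lib.helper3.RootInt4
import Groth.Agent.Lib.helper3.RootBase
set_option autoImplicit false
open RootPairing Set Function Submodule Module

namespace Groth.Agent.H3RootD

section basepos
variable {ι R M N : Type*} [CommRing R] [CharZero R] [AddCommGroup M] [Module R M]
  [AddCommGroup N] [Module R N] {P : RootPairing ι R M N}

theorem mem_closure_of_isPos (b : P.Base) (i : ι) (h : b.IsPos i) :
    P.root i ∈ AddSubmonoid.closure (P.root '' (b.support : Set ι)) := by
  rcases b.root_mem_or_neg_mem i with h1 | h1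
  · exact h1
  · exfalso
    have h2 : P.root (P.reflectionPerm i i) ∈ AddSubmonoid.closure (P.root '' (b.support : Set ι)) := by
      rw [P.root_reflectionPerm, P.reflection_apply_self]
      exact h1
    have h3 := isPos_of_mem_closure b _ h2
    exact (Base.IsPos.neg_iff_not b i).mp h3 h

end basepos

theorem base_coroot_nonneg {ι M N : Type*} [AddCommGroup M] [AddCommGroup N]
    (P : RootPairing ι ℤ M N) [Fintype ι] (b : P.Base) (ω : M)
    (hω : ∀ j ∈ b.support, 0 ≤ P.toLinearMap ω (P.coroot j)) (j : ι) (hj : b.IsPos j) :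
    0 ≤ P.toLinearMap ω (P.coroot j) := by
  have hcl := mem_closure_of_isPos b j hj
  have key : ∀ x ∈ AddSubmonoid.closure (P.root '' (b.support : Set ι)),
      0 ≤ P.toLinearMap ω ((2 : ℕ) • P.Polarization x) := by
    intro x hx
    refine AddSubmonoid.closure_induction ?_ ?_ ?_ hx
    · rintro _ ⟨k, hk, rfl⟩
      rw [← P.rootForm_self_smul_coroot k, map_zsmul]
      exact smul_nonneg (rootForm_pos k).le (hω k hk)
    · simp
    · intro x y _ _ hx hy
      rw [map_add, smul_add, map_add]
      exact add_nonneg hx hy
  have h1 := key _ hcl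
  rw [← P.rootForm_self_smul_coroot j, map_zsmul, smul_eq_mul] at h1
  exact nonneg_of_mul_nonneg_right h1 (rootForm_pos j)

end Groth.Agent.H3RootD

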