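import Mathlib
import Groth.Agent.Lib.helper3.RootInt5
import Groth.Prelude.Def_RootCh2
set_option autoImplicit false
open RootPairing Set Function Submodule Module

namespace Groth.Agent.H3RootD

section chA
variable {ι : Type*} {R : Type*} {M : Type*} {N : Type*}
  [Field R] [LinearOrder R] [IsStrictOrderedRing R]
  [AddCommGroup M] [Module R M] [AddCommGroup N] [Module R N]
  {P : RootPairing ι R M N} [P.IsRootSystem]

omit [LinearOrder R] [IsStrictOrderedRing R] in
theorem ext_of_coroot (b : P.Base) (x y : M)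
    (h : ∀ i ∈ b.support, P.coroot' i x = P.coroot' i y) : x = y := by
  apply P.toPerfPair.injective
  apply b.toCoweightBasis.ext
  intro i
  rw [Base.toCoweightBasis_apply]
  exact h i i.2

omit [LinearOrder R] [IsStrictOrderedRing R] in
theorem coroot'_sum_fundWeight (b : P.Base) (c : b.support → R) (j : b.support) :
    P.coroot' j (∑ i, c i • RootCh.fundWeight b i) = c j := by
  classical
  rw [map_sum]
  simp only [map_smul, smul_eq_mul]
  rw [Finset.sum_eq_single j]
  · rw [RootCh.coroot'_fundWeight_self, mul_one]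
  · intro i _ hij
    rw [RootCh.coroot'_fundWeight_of_ne b i j (Ne.symm hij), mul_zero]
  · intro h; exact absurd (Finset.mem_univ j) h

omit [LinearOrder R] [IsStrictOrderedRing R] in
theorem expand_fundWeight (b : P.Base) (ξ : M) :
    ξ = ∑ i : b.support, (P.coroot' i ξ) • RootCh.fundWeight b i := by
  apply ext_of_coroot b
  intro i hi
  have := coroot'_sum_fundWeight b (fun i : b.support => P.coroot' i ξ) ⟨i, hi⟩
  exact this.symm

omit [LinearOrder R] [IsStrictOrderedRing R] in
theorem fundWeight_unique (b : P.Base) (i : b.support) (η : M)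
    (h1 : P.coroot' i η = 1) (h0 : ∀ j : b.support, j ≠ i → P.coroot' j η = 0) :
    η = RootCh.fundWeight b i := by
  apply ext_of_coroot b
  intro j hj
  by_cases hji : (⟨j, hj⟩ : b.support) = i
  · subst hji
    exact h1.trans (RootCh.coroot'_fundWeight_self b ⟨j, hj⟩).symm
  · exact (h0 ⟨j, hj⟩ hji).trans (RootCh.coroot'_fundWeight_of_ne b i ⟨j, hj⟩ hji).symm

omit [LinearOrder R] [IsStrictOrderedRing R] in
theorem linearIndependent_fundWeight (b : P.Base) : LinearIndependent R (RootCh.fundWeight b) := by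
  rw [Fintype.linearIndependent_iff]
  intro c hc j
  have := coroot'_sum_fundWeight b c j
  rw [hc, map_zero] at this
  exact this.symm

omit [LinearOrder R] [IsStrictOrderedRing R] in
theorem fundWeight_injective (b : P.Base) : Function.Injective (RootCh.fundWeight b) :=
  (linearIndependent_fundWeight b).injective

omit [P.IsRootSystem] in
theorem exists_form [Finite ι] :
    ∃ (ℓ : ι → R) (B : M →ₗ[R] M →ₗ[R] R), (∀ i, 0 < ℓ i) ∧
      ∀ (j : ι) (ξ : M), ℓ j * P.coroot' j ξ = B (P.root j) ξ := by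
  have : Fintype ι := Fintype.ofFinite ι
  refine ⟨fun i => P.RootForm (P.root i) (P.root i), (2 : R) • P.RootForm, fun i => ?_, fun j ξ => ?_⟩
  · exact P.rootForm_pos_of_ne_zero (x := P.root i) (Submodule.subset_span ⟨_, rfl⟩) (P.ne_zero _)
  · have h := congrArg (P.toLinearMap ξ) (P.rootForm_self_smul_coroot j)
    rw [map_smul, map_nsmul, P.toLinearMap_apply_apply_Polarization] at h
    simp only [LinearMap.smul_apply, smul_eq_mul, nsmul_eq_mul, Nat.cast_ofNat] at h ⊢
    exact h

omit [P.IsRootSystem] in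
theorem closedChamber_pos [Finite ι] (b : P.Base) (ξ : M) (hξ : ξ ∈ RootCh.closedChamber b)
    (j : ι) (hj : b.IsPos j) : 0 ≤ P.coroot' j ξ := by
  obtain ⟨ℓ, B, hℓ, hB⟩ := exists_form (P := P)
  have key : ∀ x ∈ AddSubmonoid.closure (P.root '' (b.support : Set ι)), 0 ≤ B x ξ := by
    intro x hx
    refine AddSubmonoid.closure_induction ?_ ?_ ?_ hx
    · rintro _ ⟨k, hk, rfl⟩
      rw [← hB]
      exact mul_nonneg (hℓ k).le (hξ k hk)
    · simp
    · intro x y _ _ hx hy
      rw [map_add, LinearMap.add_apply]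
      exact add_nonneg hx hy
  have h1 := key _ (mem_closure_of_isPos b j hj)
  rw [← hB] at h1
  exact nonneg_of_mul_nonneg_right h1 (hℓ j)

omit [P.IsRootSystem] in
theorem pos_of_pos [Finite ι] (b : P.Base) (ξ η : M) (hξ : ξ ∈ RootCh.closedChamber b)
    (hη : η ∈ RootCh.closedChamber b)
    (h : ∀ k ∈ b.support, 0 < P.coroot' k η → 0 < P.coroot' k ξ)
    (j : ι) (hj : b.IsPos j) (hjη : 0 < P.coroot' j η) : 0 < P.coroot' j ξ := by
  obtain ⟨ℓ, B, hℓ, hB⟩ := exists_form (P := P)
  have key : ∀ x ∈ AddSubmonoid.closure (P.root '' (b.support : Set ι)),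
      0 ≤ B x ξ ∧ 0 ≤ B x η ∧ (0 < B x η → 0 < B x ξ) := by
    intro x hx
    refine AddSubmonoid.closure_induction ?_ ?_ ?_ hx
    · rintro _ ⟨k, hk, rfl⟩
      rw [← hB, ← hB]
      refine ⟨mul_nonneg (hℓ k).le (hξ k hk), mul_nonneg (hℓ k).le (hη k hk), fun h1 => ?_⟩
      exact mul_pos (hℓ k) (h k hk (pos_of_mul_pos_right h1 (hℓ k).le))
    · simp
    · intro x y _ _ hx hy
      simp only [map_add, LinearMap.add_apply]
      refine ⟨add_nonneg hx.1 hy.1, add_nonneg hx.2.1 hy.2.1, fun h1 => ?_⟩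
      by_cases hxη : 0 < B x η
      · exact add_pos_of_pos_of_nonneg (hx.2.2 hxη) hy.1
      · have hx0 : B x η = 0 := le_antisymm (not_lt.mp hxη) hx.2.1
        rw [hx0, zero_add] at h1
        exact add_pos_of_nonneg_of_pos hx.1 (hy.2.2 h1)
  have h1 := (key _ (mem_closure_of_isPos b j hj)).2.2
  rw [← hB, ← hB] at h1
  exact pos_of_mul_pos_right (h1 (mul_pos (hℓ j) hjη)) (hℓ j).le

omit [P.IsRootSystem] [LinearOrder R] [IsStrictOrderedRing R] in
theorem coroot'_neg_idx (ξ : M) (j : ι) :
    P.coroot' (P.reflectionPerm j j) ξ = - P.coroot' j ξ := by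
  change P.toLinearMap ξ (P.coroot (P.reflectionPerm j j)) = - P.toLinearMap ξ (P.coroot j)
  rw [P.coroot_reflectionPerm, P.coreflection_apply_self, map_neg]

omit [P.IsRootSystem] in
theorem sgnVec_neg_idx (ξ : M) (j : ι) :
    RootCh.sgnVec P ξ (P.reflectionPerm j j) = - RootCh.sgnVec P ξ j := by
  unfold RootCh.sgnVec
  rw [coroot'_neg_idx, Left.sign_neg]

omit [P.IsRootSystem] in
theorem isPos_or_neg (b : P.Base) (j : ι) : b.IsPos j ∨ b.IsPos (P.reflectionPerm j j) := by
  have := Base.IsPos.or_neg b j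
  simpa only [RootPairing.indexNeg_neg] using this

omit [P.IsRootSystem] [IsStrictOrderedRing R] in
theorem sign_eq_of_pos_iff {x y : R} (hx : 0 ≤ x) (hy : 0 ≤ y) (h : 0 < x ↔ 0 < y) :
    SignType.sign x = SignType.sign y := by
  rcases hx.lt_or_eq with hx' | hx'
  · rw [sign_pos hx', sign_pos (h.mp hx')]
  · have hy0 : y = 0 := le_antisymm (not_lt.mp (fun hy' => by
      have := h.mpr hy'; rw [← hx'] at this; exact lt_irrefl _ this)) hy
    rw [← hx', hy0]

omit [P.IsRootSystem] in
theorem sgnVec_eq_of_pattern [Finite ι] (b : P.Base) (ξ η : M) (hξ : ξ ∈ RootCh.closedChamber b)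
    (hη : η ∈ RootCh.closedChamber b)
    (h : ∀ k ∈ b.support, 0 < P.coroot' k η ↔ 0 < P.coroot' k ξ) :
    RootCh.sgnVec P η = RootCh.sgnVec P ξ := by
  have hpos : ∀ j, b.IsPos j → RootCh.sgnVec P η j = RootCh.sgnVec P ξ j := by
    intro j hj
    refine sign_eq_of_pos_iff (closedChamber_pos b η hη j hj) (closedChamber_pos b ξ hξ j hj) ⟨?_, ?_⟩
    · exact pos_of_pos b ξ η hξ hη (fun k hk => (h k hk).mp) j hj
    · exact pos_of_pos b η ξ hη hξ (fun k hk => (h k hk).mpr) j hj
  funext j
  rcases isPos_or_neg b j with hj | hj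
  · exact hpos j hj
  · have := hpos _ hj
    rw [sgnVec_neg_idx, sgnVec_neg_idx] at this
    exact neg_injective this

omit [P.IsRootSystem] in
theorem mem_closure_of_pattern [Finite ι] (b : P.Base) (ξ η : M) (hξ : ξ ∈ RootCh.closedChamber b)
    (hη : η ∈ RootCh.closedChamber b)
    (h : ∀ k ∈ b.support, 0 < P.coroot' k η → 0 < P.coroot' k ξ) :
    η ∈ (RootCh.Facet.ofVec P ξ).closure := by
  have hpos : ∀ j, b.IsPos j → RootCh.sgnVec P η j = 0 ∨ RootCh.sgnVec P η j = RootCh.sgnVec P ξ j := by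
    intro j hj
    rcases (closedChamber_pos b η hη j hj).lt_or_eq with h1 | h1
    · right
      have h2 := pos_of_pos b ξ η hξ hη h j hj h1
      unfold RootCh.sgnVec
      rw [sign_pos h1, sign_pos h2]
    · left
      unfold RootCh.sgnVec
      rw [← h1, sign_zero]
  intro j
  change RootCh.sgnVec P η j = 0 ∨ RootCh.sgnVec P η j = RootCh.sgnVec P ξ j
  rcases isPos_or_neg b j with hj | hj
  · exact hpos j hj
  · have := hpos _ hj
    rw [sgnVec_neg_idx, sgnVec_neg_idx] at this
    rcases this with h1 | h1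
    · left
      have h2 := congrArg Neg.neg h1
      rw [neg_neg] at h2
      rw [h2]; rfl
    · right; exact neg_injective h1

end chA

end Groth.Agent.H3RootD
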