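import Mathlib
import Groth.Agent.Lib.helper3.RootChA
set_option autoImplicit false
open RootPairing Set Function Submodule Module

namespace Groth.Agent.H3RootD

section chB0
variable {ι R M N : Type*} [CommRing R] [AddCommGroup M] [Module R M]
  [AddCommGroup N] [Module R N] {P : RootPairing ι R M N}

theorem linearIndepOn_root_smul (g : P.Aut) (s : Set ι) (h : LinearIndepOn R P.root s) :
    LinearIndepOn R P.root ((fun i => g • i) '' s) := by
  apply LinearIndepOn.image_of_comp
  have h1 : (P.root ∘ fun i => g • i) = (fun m => g.weightMap m) ∘ P.root := by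
    funext i
    simp only [Function.comp_apply]
    rw [← autR_smul_root]
    rfl
  rw [h1]
  have hinj : LinearMap.ker g.weightMap = ⊥ :=
    LinearMap.ker_eq_bot.mpr (RootPairing.Equiv.bijective_weightMap g).injective
  exact LinearIndependent.map' h g.weightMap hinj

theorem exists_wdR_sub (s : Set ι) (w : P.Aut)
    (hw : w ∈ Subgroup.closure ((fun i : ι => Equiv.reflection P i) '' s)) :
    ∃ l : List ι, (∀ a ∈ l, a ∈ s) ∧ wdR P l = w := by
  induction hw using Subgroup.closure_induction'' with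
  | mem x hx =>
    obtain ⟨i, hi, rfl⟩ := hx
    exact ⟨[i], by simpa using hi, by simp [wdR]⟩
  | inv_mem x hx =>
    obtain ⟨i, hi, rfl⟩ := hx
    exact ⟨[i], by simpa using hi, by simp [wdR]⟩
  | one => exact ⟨[], by simp, rfl⟩
  | mul x y _ _ hx hy =>
    obtain ⟨l1, h1, rfl⟩ := hx
    obtain ⟨l2, h2, rfl⟩ := hy
    refine ⟨l1 ++ l2, fun a ha => ?_, wdR_append l1 l2⟩
    rcases List.mem_append.mp ha with h | h
    · exact h1 a h
    · exact h2 a h

theorem wdR_flip_smul_idx (l : List ι) (i : ι) : wdR P.flip l • i = wdR P l • i := by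
  induction l with
  | nil => rw [wdR_nil, wdR_nil, one_smul, one_smul]
  | cons a l ih =>
    rw [wdR_cons, wdR_cons, mul_smul, mul_smul, ih]
    rfl

end chB0

section chB
variable {ι : Type*} {R : Type*} {M : Type*} {N : Type*}
  [Field R] [LinearOrder R] [IsStrictOrderedRing R]
  [AddCommGroup M] [Module R M] [AddCommGroup N] [Module R N] [Finite ι]
  {P : RootPairing ι R M N} [P.IsRootSystem] [P.IsCrystallographic] [P.IsReduced]

omit [P.IsRootSystem] [P.IsReduced] in
theorem coroot_closedSub (ξ : M) : RootD.IsClosedSub (intForm P) {i | 0 ≤ P.coroot' i ξ} := by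
  intro i j k hi hj hk
  change 0 ≤ P.coroot' k ξ
  change 0 ≤ P.coroot' i ξ at hi
  change 0 ≤ P.coroot' j ξ at hj
  have hk' : P.root k = P.root i + P.root j := congrArg Subtype.val hk
  obtain ⟨ℓ, B, hℓ, hB⟩ := exists_form (P := P)
  have h1 : ℓ k * P.coroot' k ξ = ℓ i * P.coroot' i ξ + ℓ j * P.coroot' j ξ := by
    rw [hB, hB, hB, hk', map_add, LinearMap.add_apply]
  have h3 : 0 ≤ ℓ k * P.coroot' k ξ := by
    rw [h1]
    exact add_nonneg (mul_nonneg (hℓ i).le hi) (mul_nonneg (hℓ j).le hj)
  exact nonneg_of_mul_nonneg_right h3 (hℓ k)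

omit [P.IsRootSystem] [P.IsReduced] [P.IsCrystallographic] [Finite ι] in
theorem coroot_coverSub (ξ : M) (i : ι) :
    i ∈ {i | 0 ≤ P.coroot' i ξ} ∨ P.reflectionPerm i i ∈ {i | 0 ≤ P.coroot' i ξ} := by
  change 0 ≤ P.coroot' i ξ ∨ 0 ≤ P.coroot' (P.reflectionPerm i i) ξ
  rw [coroot'_neg_idx]
  rcases le_total 0 (P.coroot' i ξ) with h | h
  · exact Or.inl h
  · exact Or.inr (neg_nonneg.mpr h)

/-- Every closed covering set of roots contains the positive roots of some base. -/
theorem exists_base_pos_subset (Q : Set ι) (hcov : ∀ i, i ∈ Q ∨ P.reflectionPerm i i ∈ Q)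
    (hcl : RootD.IsClosedSub (intForm P) Q) :
    ∃ b : P.Base, ∀ i, b.IsPos i → i ∈ Q := by
  obtain ⟨b0⟩ := P.nonempty_base
  obtain ⟨g₀, hg₀, hsub⟩ := exists_weyl_posOf_subset Q hcov hcl _ (b0.support : Set ι)
    (isSimpleSys_of_base b0) rfl
  obtain ⟨l, rfl⟩ := exists_wd_int g₀ hg₀
  have hΔ := simpleSys_image (wd (intForm P) l) (isSimpleSys_of_base b0)
  have himg : (fun i : ι => wd (intForm P) l • i) '' (b0.support : Set ι)
      = (fun i : ι => wdR P l • i) '' (b0.support : Set ι) := by
    ext x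
    simp only [Set.mem_image, wdR_smul_idx]
  have hli : LinearIndepOn R P.root ((fun i : ι => wd (intForm P) l • i) '' (b0.support : Set ι)) := by
    rw [himg]
    exact linearIndepOn_root_smul _ _ b0.linearIndepOn_root
  have hsp : ∀ i, P.root i ∈ AddSubmonoid.closure
        (P.root '' ((fun i : ι => wd (intForm P) l • i) '' (b0.support : Set ι))) ∨
      -P.root i ∈ AddSubmonoid.closure
        (P.root '' ((fun i : ι => wd (intForm P) l • i) '' (b0.support : Set ι))) := by
    intro i
    have := hΔ.mem_or_neg_mem i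
    rw [mem_natSpan_intForm_iff, mem_natSpan_intForm_iff] at this
    exact this
  refine ⟨Base.mk' P _ hli hsp, fun i hi => ?_⟩
  have h1 : i ∈ RootD.posOf (intForm P) ((Base.mk' P _ hli hsp).support : Set ι) :=
    (mem_posOf_iff_isPos _ i).mpr hi
  have h2 : ((Base.mk' P _ hli hsp).support : Set ι)
      = (fun i : ι => wd (intForm P) l • i) '' (b0.support : Set ι) := by
    simp [Base.mk']
  rw [h2, posOf_image] at h1
  exact hsub h1

theorem exists_base_closedChamber (ξ : M) : ∃ b : P.Base, ξ ∈ RootCh.closedChamber b := by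
  obtain ⟨b, hb⟩ := exists_base_pos_subset {i | 0 ≤ P.coroot' i ξ} (coroot_coverSub ξ)
    (coroot_closedSub ξ)
  exact ⟨b, fun i hi => hb i (Base.isPos_of_mem_support hi)⟩

omit [P.IsRootSystem] [P.IsReduced] [P.IsCrystallographic] [Finite ι] in
theorem mem_closedChamber_flipPos (b : P.Base) (ξ : M) (hξ : ξ ∈ RootCh.closedChamber b)
    (j : ι) (hj : b.flip.IsPos j) : 0 ≤ P.coroot' j ξ := by
  have hcl := mem_closure_of_isPos b.flip j hj
  have key : ∀ y ∈ AddSubmonoid.closure (P.flip.root '' (b.flip.support : Set ι)),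
      0 ≤ P.toLinearMap ξ y := by
    intro y hy
    refine AddSubmonoid.closure_induction ?_ ?_ ?_ hy
    · rintro _ ⟨k, hk, rfl⟩
      exact hξ k hk
    · simp
    · intro x y _ _ hx hy
      rw [map_add]
      exact add_nonneg hx hy
  exact key _ hcl

omit [P.IsReduced] in
theorem closedChamber_fd (b : P.Base) (ξ : M) (hξ : ξ ∈ RootCh.closedChamber b) (g : P.Aut)
    (hg : g ∈ P.weylGroup) (hgξ : g • ξ ∈ RootCh.closedChamber b) : g • ξ = ξ := by
  have hginv : g⁻¹ ∈ Subgroup.closure ((fun i : ι => Equiv.reflection P i) '' (b.support : Set ι)) := by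
    rw [base_reflections_closure b]
    exact inv_mem hg
  obtain ⟨l, hl, hlg⟩ := exists_wdR_sub _ _ hginv
  have hΔ := isSimpleSys_of_base b.flip
  let f : P.flip.rootSpan ℤ →+ R :=
    (P.toLinearMap ξ).toAddMonoidHom.comp (P.flip.rootSpan ℤ).subtype.toAddMonoidHom
  have hfroot : ∀ i, f ((intForm P.flip).root i) = P.coroot' i ξ := fun i => rfl
  have hf : ∀ i ∈ RootD.posOf (intForm P.flip) (b.flip.support : Set ι),
      0 ≤ f ((intForm P.flip).root i) := by
    intro i hi
    rw [hfroot]
    exact mem_closedChamber_flipPos b ξ hξ i ((mem_posOf_iff_isPos _ i).mp hi)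
  have hidx : ∀ i : ι, wd (intForm P.flip) l • i = g⁻¹ • i := by
    intro i
    rw [← wdR_smul_idx, wdR_flip_smul_idx, hlg]
  have hpair : ∀ i : ι, P.coroot' (g⁻¹ • i) ξ = P.coroot' i (g • ξ) := by
    intro i
    have := autR_pairing P g ξ (g⁻¹ • i)
    rw [smul_inv_smul] at this
    exact this.symm
  have hdom : ∀ i ∈ RootD.posOf (intForm P.flip) (b.flip.support : Set ι),
      0 ≤ f (wd (intForm P.flip) l • (intForm P.flip).root i) := by
    intro i hi
    rw [aut_smul_root, hfroot, hidx, hpair]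
    exact mem_closedChamber_flipPos b _ hgξ i ((mem_posOf_iff_isPos _ i).mp hi)
  have hl' : ∀ a ∈ l, a ∈ (b.flip.support : Set ι) := hl
  have hres := dom_unique hΔ f hf l.length l rfl hl' hdom
  apply ext_of_coroot b
  intro i _
  have := hres ((intForm P.flip).root i)
  rw [aut_smul_root, hfroot, hfroot, hidx, hpair] at this
  exact this

end chB

end Groth.Agent.H3RootD
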