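import Mathlib
import Groth.Agent.Lib.helper3.RootChB
set_option autoImplicit false
open RootPairing Set Function Submodule Module

namespace Groth.Agent.H3RootD

section chC
variable {ι : Type*} {R : Type*} {M : Type*} {N : Type*}
  [Field R] [LinearOrder R] [IsStrictOrderedRing R]
  [AddCommGroup M] [Module R M] [AddCommGroup N] [Module R N] [Finite ι]
  {P : RootPairing ι R M N} [P.IsRootSystem] [P.IsCrystallographic] [P.IsReduced]

omit [Finite ι] [P.IsCrystallographic] [P.IsReduced] in
theorem fundWeight_mem_closedChamber (b : P.Base) (i : b.support) :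
    RootCh.fundWeight b i ∈ RootCh.closedChamber b := by
  intro k hk
  by_cases hki : (⟨k, hk⟩ : b.support) = i
  · subst hki
    have := RootCh.coroot'_fundWeight_self b ⟨k, hk⟩
    rw [this]; exact zero_le_one
  · have := RootCh.coroot'_fundWeight_of_ne b i ⟨k, hk⟩ hki
    rw [this]

omit [LinearOrder R] [IsStrictOrderedRing R] [Finite ι] [P.IsCrystallographic] [P.IsReduced] in
theorem smul_fundWeight (b b' : P.Base) (g : P.Aut)
    (him : (fun i : ι => g • i) '' (b'.support : Set ι) = (b.support : Set ι)) (i' : b'.support) :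
    ∃ i : b.support, g • RootCh.fundWeight b' i' = RootCh.fundWeight b i := by
  have hmem : g • (i' : ι) ∈ b.support := by
    have : g • (i' : ι) ∈ (b.support : Set ι) := by rw [← him]; exact ⟨i', i'.2, rfl⟩
    exact this
  refine ⟨⟨g • (i' : ι), hmem⟩, fundWeight_unique b _ _ ?_ ?_⟩
  · change P.toLinearMap (g • RootCh.fundWeight b' i') (P.coroot (g • (i' : ι))) = 1
    rw [autR_pairing]
    exact RootCh.coroot'_fundWeight_self b' i'
  · intro j hj
    have hj' : (j : ι) ∈ (b.support : Set ι) := j.2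
    rw [← him] at hj'
    obtain ⟨k, hk, hkj⟩ := hj'
    change P.toLinearMap (g • RootCh.fundWeight b' i') (P.coroot (j : ι)) = 0
    rw [← hkj, autR_pairing]
    refine RootCh.coroot'_fundWeight_of_ne b' i' ⟨k, hk⟩ ?_
    intro h
    apply hj
    apply Subtype.ext
    have h' : k = (i' : ι) := congrArg Subtype.val h
    change (j : ι) = g • (i' : ι)
    rw [← hkj, h']

omit [P.IsReduced] in
theorem baseCorners_eq (b : P.Base) : RootCh.baseCorners b = Set.range (RootCh.fundWeight b) := by
  apply Set.Subset.antisymm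
  · rintro w ⟨⟨b', i', rfl⟩, hw⟩
    obtain ⟨g, hg, him⟩ := base_exists_weyl b' b
    obtain ⟨i, hi⟩ := smul_fundWeight b b' g him i'
    have hfd := closedChamber_fd b _ hw g hg (by rw [hi]; exact fundWeight_mem_closedChamber b i)
    exact ⟨i, by rw [← hi, hfd]⟩
  · rintro _ ⟨i, rfl⟩
    exact ⟨⟨b, i, rfl⟩, fundWeight_mem_closedChamber b i⟩

omit [Finite ι] [P.IsRootSystem] [P.IsCrystallographic] [P.IsReduced] [IsStrictOrderedRing R] in
theorem nonneg_of_sign_eq {x y : R} (h : SignType.sign x = SignType.sign y) (hy : 0 ≤ y) : 0 ≤ x := by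
  by_contra hx
  push Not at hx
  rw [sign_neg hx] at h
  rcases hy.lt_or_eq with hy' | hy'
  · rw [sign_pos hy'] at h; exact absurd h (by decide)
  · rw [← hy', sign_zero] at h; exact absurd h (by decide)

omit [Finite ι] [P.IsRootSystem] [P.IsCrystallographic] [P.IsReduced] [IsStrictOrderedRing R] in
theorem pos_iff_of_sign_eq {x y : R} (h : SignType.sign x = SignType.sign y) : 0 < x ↔ 0 < y := by
  rw [← sign_eq_one_iff, ← sign_eq_one_iff, h]

theorem facet_exists_cham (F : RootCh.Facet P) : ∃ b : P.Base, b ∈ F.cham := by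
  obtain ⟨ξ, hξ⟩ := F.exists_sgnVec_eq
  obtain ⟨b, hb⟩ := exists_base_closedChamber (P := P) ξ
  refine ⟨b, fun η hη k hk => ?_⟩
  have h1 : RootCh.sgnVec P η = RootCh.sgnVec P ξ := hη.trans hξ.symm
  exact nonneg_of_sign_eq (congrFun h1 k) (hb k hk)

omit [P.IsRootSystem] [P.IsCrystallographic] [P.IsReduced] in
theorem mem_carrier_iff (F : RootCh.Facet P) (b : P.Base) (hb : b ∈ F.cham) (ξ : M)
    (hξ : ξ ∈ F.carrier) (η : M) :
    η ∈ F.carrier ↔ η ∈ RootCh.closedChamber b ∧
      ∀ k ∈ b.support, (0 < P.coroot' k η ↔ 0 < P.coroot' k ξ) := by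
  constructor
  · intro hη
    refine ⟨hb hη, fun k _ => ?_⟩
    have h1 : RootCh.sgnVec P η = RootCh.sgnVec P ξ := hη.trans hξ.symm
    exact pos_iff_of_sign_eq (congrFun h1 k)
  · rintro ⟨hη, h⟩
    exact (sgnVec_eq_of_pattern b ξ η (hb hξ) hη h).trans hξ

omit [P.IsRootSystem] [P.IsCrystallographic] [P.IsReduced] [Finite ι] [IsStrictOrderedRing R] in
theorem closure_subset_closedChamber (F : RootCh.Facet P) (b : P.Base) (hb : b ∈ F.cham) :
    F.closure ⊆ RootCh.closedChamber b := by
  obtain ⟨ξ, hξ⟩ := F.exists_sgnVec_eq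
  intro η hη k hk
  rcases hη k with h | h
  · have : SignType.sign (P.coroot' k η) = 0 := h
    rw [sign_eq_zero_iff] at this
    rw [this]
  · have h2 : SignType.sign (P.coroot' k η) = SignType.sign (P.coroot' k ξ) := by
      have h3 : F.sgn k = RootCh.sgnVec P ξ k := by rw [hξ]
      exact h.trans h3
    exact nonneg_of_sign_eq h2 (hb hξ k hk)

omit [P.IsRootSystem] [P.IsCrystallographic] [P.IsReduced] in
theorem mem_closure_iff (F : RootCh.Facet P) (b : P.Base) (hb : b ∈ F.cham) (ξ : M)
    (hξ : ξ ∈ F.carrier) (η : M) (hη : η ∈ RootCh.closedChamber b) :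
    η ∈ F.closure ↔ ∀ k ∈ b.support, 0 < P.coroot' k η → 0 < P.coroot' k ξ := by
  constructor
  · intro h k _ hk
    rcases h k with h1 | h1
    · have : SignType.sign (P.coroot' k η) = 0 := h1
      rw [sign_pos hk] at this
      exact absurd this (by decide)
    · have h2 : SignType.sign (P.coroot' k η) = SignType.sign (P.coroot' k ξ) := by
        have h3 : F.sgn k = RootCh.sgnVec P ξ k := by rw [hξ]
        exact h1.trans h3
      exact (pos_iff_of_sign_eq h2).mp hk
  · intro h
    have := mem_closure_of_pattern b ξ η (hb hξ) hη h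
    intro j
    have h3 : F.sgn j = RootCh.sgnVec P ξ j := by rw [hξ]
    rw [h3]
    exact this j

omit [P.IsReduced] in
theorem corners_eq (F : RootCh.Facet P) (b : P.Base) (hb : b ∈ F.cham) (ξ : M)
    (hξ : ξ ∈ F.carrier) :
    F.corners = {w | ∃ i : b.support, 0 < P.coroot' i ξ ∧ RootCh.fundWeight b i = w} := by
  apply Set.Subset.antisymm
  · rintro w ⟨hw1, hw2⟩
    have hwc := closure_subset_closedChamber F b hb hw2
    have : w ∈ RootCh.baseCorners b := ⟨hw1, hwc⟩
    rw [baseCorners_eq] at this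
    obtain ⟨i, rfl⟩ := this
    refine ⟨i, ?_, rfl⟩
    refine (mem_closure_iff F b hb ξ hξ _ hwc).mp hw2 i i.2 ?_
    rw [RootCh.coroot'_fundWeight_self]
    exact zero_lt_one
  · rintro _ ⟨i, hi, rfl⟩
    refine ⟨⟨b, i, rfl⟩, ?_⟩
    refine (mem_closure_iff F b hb ξ hξ _ (fundWeight_mem_closedChamber b i)).mpr ?_
    intro k hk hpos
    by_cases hki : (⟨k, hk⟩ : b.support) = i
    · rw [← hki] at hi; exact hi
    · have := RootCh.coroot'_fundWeight_of_ne b i ⟨k, hk⟩ hki
      rw [this] at hpos
      exact absurd hpos (lt_irrefl _)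

theorem corners_linInd (F : RootCh.Facet P) : LinearIndepOn R (fun m : M => m) F.corners := by
  obtain ⟨b, hb⟩ := facet_exists_cham F
  obtain ⟨ξ, hξ⟩ := F.exists_sgnVec_eq
  have hsub : F.corners ⊆ Set.range (RootCh.fundWeight b) := by
    rw [corners_eq F b hb ξ hξ]
    rintro _ ⟨i, _, rfl⟩
    exact ⟨i, rfl⟩
  exact ((linearIndependent_fundWeight b).linearIndepOn_id).mono hsub

theorem span_carrier_eq (F : RootCh.Facet P) :
    Submodule.span R F.carrier = Submodule.span R F.corners := by
  obtain ⟨b, hb⟩ := facet_exists_cham F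
  obtain ⟨ξ, hξ⟩ := F.exists_sgnVec_eq
  have hξ' : ξ ∈ F.carrier := hξ
  apply le_antisymm
  · rw [Submodule.span_le]
    intro η hη
    rw [expand_fundWeight b η]
    refine Submodule.sum_mem _ fun i _ => ?_
    have hpat := ((mem_carrier_iff F b hb ξ hξ' η).mp hη)
    by_cases hi : 0 < P.coroot' i η
    · refine Submodule.smul_mem _ _ (Submodule.subset_span ?_)
      rw [corners_eq F b hb ξ hξ']
      exact ⟨i, (hpat.2 i i.2).mp hi, rfl⟩
    · have : P.coroot' i η = 0 := le_antisymm (not_lt.mp hi) (hpat.1 i i.2)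
      rw [this, zero_smul]
      exact Submodule.zero_mem _
  · rw [Submodule.span_le, corners_eq F b hb ξ hξ']
    rintro _ ⟨i, hi, rfl⟩
    have h1 : ξ + RootCh.fundWeight b i ∈ F.carrier := by
      rw [mem_carrier_iff F b hb ξ hξ']
      refine ⟨fun k hk => ?_, fun k hk => ?_⟩
      · rw [map_add]
        exact add_nonneg (hb hξ' k hk) (fundWeight_mem_closedChamber b i k hk)
      · rw [map_add]
        by_cases hki : (⟨k, hk⟩ : b.support) = i
        · have h2 : P.coroot' k (RootCh.fundWeight b i) = 1 := by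
            rw [← hki]; exact RootCh.coroot'_fundWeight_self b ⟨k, hk⟩
          have h3 : 0 < P.coroot' k ξ := by rw [← hki] at hi; exact hi
          rw [h2]
          exact ⟨fun _ => h3, fun _ => by positivity⟩
        · have := RootCh.coroot'_fundWeight_of_ne b i ⟨k, hk⟩ hki
          rw [this, add_zero]
    have : RootCh.fundWeight b i = (ξ + RootCh.fundWeight b i) - ξ := by abel
    rw [this]
    exact Submodule.sub_mem _ (Submodule.subset_span h1) (Submodule.subset_span hξ')

end chC

end Groth.Agent.H3RootD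

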