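import Mathlib
import Groth.Agent.Lib.helper3.RootChC
set_option autoImplicit false
open RootPairing Set Function Submodule Module

namespace Groth.Agent.H3RootD

section chD
variable {ι : Type*} {R : Type*} {M : Type*} {N : Type*}
  [Field R] [LinearOrder R] [IsStrictOrderedRing R]
  [AddCommGroup M] [Module R M] [AddCommGroup N] [Module R N] [Finite ι]
  {P : RootPairing ι R M N} [P.IsRootSystem] [P.IsCrystallographic] [P.IsReduced]

omit [P.IsReduced] in
theorem coroot'_finsupp_sum (F : RootCh.Facet P) (b : P.Base) (hb : b ∈ F.cham) (ξ : M)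
    (hξ : ξ ∈ F.carrier) (c : M →₀ R) (hc : (c.support : Set M) ⊆ F.corners) (k : b.support) :
    P.coroot' k (c.sum fun m r => r • m) = c (RootCh.fundWeight b k) := by
  classical
  rw [Finsupp.sum, map_sum]
  have hterm : ∀ m ∈ c.support, P.coroot' k (c m • m)
      = if m = RootCh.fundWeight b k then c m else 0 := by
    intro m hm
    have hm' : m ∈ F.corners := hc hm
    rw [corners_eq F b hb ξ hξ] at hm'
    obtain ⟨i, _, rfl⟩ := hm'
    rw [map_smul, smul_eq_mul]
    by_cases hik : i = k
    · subst hik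
      rw [RootCh.coroot'_fundWeight_self, mul_one, if_pos rfl]
    · rw [RootCh.coroot'_fundWeight_of_ne b i k (Ne.symm hik), mul_zero, if_neg]
      intro h
      exact hik (fundWeight_injective b h)
  rw [Finset.sum_congr rfl hterm, Finset.sum_ite_eq']
  split_ifs with h
  · rfl
  · rw [Finsupp.mem_support_iff, not_not] at h
    exact h.symm

theorem carrier_eq_posCombo (F : RootCh.Facet P) :
    F.carrier = {ξ : M | ∃ c : M →₀ R, (c.support : Set M) ⊆ F.corners ∧
      (∀ m ∈ F.corners, 0 < c m) ∧ c.sum (fun m r => r • m) = ξ} := by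
  classical
  obtain ⟨b, hb⟩ := facet_exists_cham F
  obtain ⟨ξ, hξ⟩ := F.exists_sgnVec_eq
  have hξ' : ξ ∈ F.carrier := hξ
  apply Set.Subset.antisymm
  · intro η hη
    have hpat := ((mem_carrier_iff F b hb ξ hξ' η).mp hη)
    let cI : b.support →₀ R := Finsupp.equivFunOnFinite.symm (fun i => P.coroot' i η)
    refine ⟨Finsupp.mapDomain (RootCh.fundWeight b) cI, ?_, ?_, ?_⟩
    · intro m hm
      have := Finsupp.mapDomain_support hm
      rw [Finset.mem_image] at this
      obtain ⟨i, hi, rfl⟩ := this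
      rw [Finsupp.mem_support_iff] at hi
      have hi' : P.coroot' i η ≠ 0 := hi
      have hpos : 0 < P.coroot' i η := lt_of_le_of_ne (hpat.1 i i.2) hi'.symm
      rw [corners_eq F b hb ξ hξ']
      exact ⟨i, (hpat.2 i i.2).mp hpos, rfl⟩
    · intro m hm
      rw [corners_eq F b hb ξ hξ'] at hm
      obtain ⟨i, hi, rfl⟩ := hm
      rw [Finsupp.mapDomain_apply (fundWeight_injective b)]
      exact (hpat.2 i i.2).mpr hi
    · rw [Finsupp.sum_mapDomain_index (by simp) (by intro m r1 r2; rw [add_smul])]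
      rw [Finsupp.sum_fintype _ _ (by simp)]
      exact (expand_fundWeight b η).symm
  · rintro η ⟨c, hc, hpos, rfl⟩
    rw [mem_carrier_iff F b hb ξ hξ']
    have hval := coroot'_finsupp_sum F b hb ξ hξ' c hc
    refine ⟨fun k hk => ?_, fun k hk => ?_⟩
    · rw [hval ⟨k, hk⟩]
      by_cases hmem : RootCh.fundWeight b ⟨k, hk⟩ ∈ c.support
      · exact (hpos _ (hc hmem)).le
      · rw [Finsupp.mem_support_iff, not_not] at hmem
        rw [hmem]
    · rw [hval ⟨k, hk⟩]
      constructor
      · intro h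
        have hmem : RootCh.fundWeight b ⟨k, hk⟩ ∈ c.support := by
          rw [Finsupp.mem_support_iff]; exact h.ne'
        have := hc hmem
        rw [corners_eq F b hb ξ hξ'] at this
        obtain ⟨i, hi, hik⟩ := this
        have := fundWeight_injective b hik
        subst this
        exact hi
      · intro h
        apply hpos
        rw [corners_eq F b hb ξ hξ']
        exact ⟨⟨k, hk⟩, h, rfl⟩

omit [Finite ι] [P.IsRootSystem] [P.IsCrystallographic] [P.IsReduced] [IsStrictOrderedRing R] in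
theorem cham_ofVec (b : P.Base) (ζ : M) (hζ : ζ ∈ RootCh.closedChamber b) :
    b ∈ (RootCh.Facet.ofVec P ζ).cham := by
  intro η hη k hk
  have h1 : RootCh.sgnVec P η = RootCh.sgnVec P ζ := hη
  exact nonneg_of_sign_eq (congrFun h1 k) (hζ k hk)

omit [P.IsReduced] in
theorem exists_facet_insert (F : RootCh.Facet P) (m : M) (hm : m ∈ F.corners') :
    ∃ G : RootCh.Facet P, G.corners = insert m F.corners := by
  obtain ⟨ξ, hξ⟩ := F.exists_sgnVec_eq
  have hξ' : ξ ∈ F.carrier := hξ
  simp only [RootCh.Facet.corners', Set.mem_iUnion] at hm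
  obtain ⟨b, hb, hmb⟩ := hm
  rw [baseCorners_eq] at hmb
  obtain ⟨i, rfl⟩ := hmb
  have hζ : ξ + RootCh.fundWeight b i ∈ RootCh.closedChamber b := by
    intro k hk
    rw [map_add]
    exact add_nonneg (hb hξ' k hk) (fundWeight_mem_closedChamber b i k hk)
  refine ⟨RootCh.Facet.ofVec P (ξ + RootCh.fundWeight b i), ?_⟩
  rw [corners_eq _ b (cham_ofVec b _ hζ) (ξ + RootCh.fundWeight b i) rfl, corners_eq F b hb ξ hξ']
  ext w
  simp only [Set.mem_ofPred_eq, Set.mem_insert_iff]
  constructor
  · rintro ⟨k, hk, rfl⟩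
    by_cases hki : k = i
    · left; rw [hki]
    · right
      refine ⟨k, ?_, rfl⟩
      rw [map_add, RootCh.coroot'_fundWeight_of_ne b i k hki, add_zero] at hk
      exact hk
  · rintro (rfl | ⟨k, hk, rfl⟩)
    · refine ⟨i, ?_, rfl⟩
      rw [map_add, RootCh.coroot'_fundWeight_self]
      have := hb hξ' i i.2
      positivity
    · refine ⟨k, ?_, rfl⟩
      rw [map_add]
      have := fundWeight_mem_closedChamber b i k k.2
      exact add_pos_of_pos_of_nonneg hk this

theorem exists_facet_diff (F : RootCh.Facet P) (m : M) (hm : m ∈ F.corners) :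
    ∃ G : RootCh.Facet P, G.corners = F.corners \ {m} := by
  classical
  obtain ⟨ξ, hξ⟩ := F.exists_sgnVec_eq
  have hξ' : ξ ∈ F.carrier := hξ
  obtain ⟨b, hb⟩ := facet_exists_cham F
  rw [corners_eq F b hb ξ hξ'] at hm
  obtain ⟨i, hi, rfl⟩ := hm
  have hval : ∀ k : b.support, P.coroot' k (ξ - P.coroot' i ξ • RootCh.fundWeight b i)
      = if k = i then 0 else P.coroot' k ξ := by
    intro k
    rw [map_sub, map_smul, smul_eq_mul]
    split_ifs with hki
    · rw [hki, RootCh.coroot'_fundWeight_self, mul_one, sub_self]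
    · rw [RootCh.coroot'_fundWeight_of_ne b i k hki, mul_zero, sub_zero]
  have hζ : ξ - P.coroot' i ξ • RootCh.fundWeight b i ∈ RootCh.closedChamber b := by
    intro k hk
    have := hval ⟨k, hk⟩
    change 0 ≤ P.coroot' (⟨k, hk⟩ : b.support) _
    rw [this]
    split_ifs
    · exact le_refl _
    · exact hb hξ' k hk
  refine ⟨RootCh.Facet.ofVec P (ξ - P.coroot' i ξ • RootCh.fundWeight b i), ?_⟩
  rw [corners_eq _ b (cham_ofVec b _ hζ) _ rfl, corners_eq F b hb ξ hξ']
  ext w
  simp only [Set.mem_ofPred_eq, Set.mem_sdiff, Set.mem_singleton_iff]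
  constructor
  · rintro ⟨k, hk, rfl⟩
    rw [hval k] at hk
    split_ifs at hk with hki
    · exact absurd hk (lt_irrefl _)
    · exact ⟨⟨k, hk, rfl⟩, fun h => hki (fundWeight_injective b h)⟩
  · rintro ⟨⟨k, hk, rfl⟩, hne⟩
    refine ⟨k, ?_, rfl⟩
    rw [hval k, if_neg (fun h => hne (by rw [h]))]
    exact hk

end chD

end Groth.Agent.H3RootD

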