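import Mathlib
import Groth.Agent.Lib.helper3.RootChD
set_option autoImplicit false
open RootPairing Set Function Submodule Module

namespace Groth.Agent.H3RootD

section chE
variable {ι : Type*} {R : Type*} {M : Type*} {N : Type*}
  [Field R] [LinearOrder R] [IsStrictOrderedRing R]
  [AddCommGroup M] [Module R M] [AddCommGroup N] [Module R N] [Finite ι]
  {P : RootPairing ι R M N} [P.IsRootSystem] [P.IsCrystallographic] [P.IsReduced]

omit [LinearOrder R] [IsStrictOrderedRing R] [Finite ι] [P.IsCrystallographic] [P.IsReduced] in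
theorem pair_fundCoweight_self (b : P.Base) (k : b.support) :
    P.toLinearMap (P.root k) (RootCh.fundCoweight b k) = 1 := RootCh.root'_fundCoweight_self b k

omit [LinearOrder R] [IsStrictOrderedRing R] [Finite ι] [P.IsCrystallographic] [P.IsReduced] in
theorem pair_fundCoweight_ne (b : P.Base) (k j : b.support) (h : j ≠ k) :
    P.toLinearMap (P.root j) (RootCh.fundCoweight b k) = 0 := RootCh.root'_fundCoweight_of_ne b k j h

omit [LinearOrder R] [IsStrictOrderedRing R] [Finite ι] [P.IsCrystallographic] [P.IsReduced] in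
/-- The pairing of a root with a fundamental coweight is an integer. -/
theorem root_fundCoweight_int [CharZero R] (b : P.Base) (k : b.support) (i : ι) :
    ∃ n : ℤ, P.toLinearMap (P.root i) (RootCh.fundCoweight b k) = (n : R) := by
  classical
  obtain ⟨f, -, -, hf⟩ := b.exists_root_eq_sum_int i
  refine ⟨f k, ?_⟩
  rw [hf, map_sum, LinearMap.sum_apply]
  rw [Finset.sum_eq_single_of_mem (k : ι) k.2]
  · rw [map_zsmul, LinearMap.smul_apply, pair_fundCoweight_self]; simp
  · intro j hj hjk
    rw [map_zsmul, LinearMap.smul_apply]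
    have := pair_fundCoweight_ne b k ⟨j, hj⟩ (fun h => hjk (congrArg Subtype.val h))
    rw [this]; simp

omit [P.IsCrystallographic] [P.IsReduced] in
theorem fundCoweight_eq_of_fundWeight_eq (b b' : P.Base) (k : b.support) (i' : b'.support)
    (h : RootCh.fundWeight b' i' = RootCh.fundWeight b k) :
    RootCh.fundCoweight b' i' = RootCh.fundCoweight b k := by
  obtain ⟨ℓ, B, hℓ, hB⟩ := exists_form (P := P)
  have hA : ∀ x : M, B x (RootCh.fundWeight b k)
      = ℓ k * P.toLinearMap x (RootCh.fundCoweight b k) := by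
    intro x
    have : B.flip (RootCh.fundWeight b k)
        = ℓ k • (P.toLinearMap.flip (RootCh.fundCoweight b k)) := by
      apply b.toWeightBasis.ext
      intro j
      rw [Base.toWeightBasis_apply]
      simp only [LinearMap.flip_apply, LinearMap.smul_apply, smul_eq_mul]
      rw [← hB]
      by_cases hjk : j = k
      · subst hjk
        rw [RootCh.coroot'_fundWeight_self, pair_fundCoweight_self]
      · rw [RootCh.coroot'_fundWeight_of_ne b k j hjk, pair_fundCoweight_ne b k j hjk, mul_zero, mul_zero]
    have := congrArg (fun φ => φ x) this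
    simpa using this
  have hA' : ∀ x : M, B x (RootCh.fundWeight b k)
      = ℓ i' * P.toLinearMap x (RootCh.fundCoweight b' i') := by
    intro x
    rw [← h]
    have : B.flip (RootCh.fundWeight b' i')
        = ℓ i' • (P.toLinearMap.flip (RootCh.fundCoweight b' i')) := by
      apply b'.toWeightBasis.ext
      intro j
      rw [Base.toWeightBasis_apply]
      simp only [LinearMap.flip_apply, LinearMap.smul_apply, smul_eq_mul]
      rw [← hB]
      by_cases hjk : j = i'
      · subst hjk
        rw [RootCh.coroot'_fundWeight_self, pair_fundCoweight_self]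
      · rw [RootCh.coroot'_fundWeight_of_ne b' i' j hjk, pair_fundCoweight_ne b' i' j hjk, mul_zero,
          mul_zero]
    have := congrArg (fun φ => φ x) this
    simpa using this
  obtain ⟨n, hn⟩ := root_fundCoweight_int b' i' (k : ι)
  obtain ⟨n', hn'⟩ := root_fundCoweight_int b k (i' : ι)
  have e1 : ℓ k = ℓ i' * n := by
    have := (hA (P.root k)).symm.trans (hA' (P.root k))
    rw [pair_fundCoweight_self, mul_one, hn] at this
    exact this
  have e2 : ℓ k * n' = ℓ i' := by
    have := (hA (P.root i')).symm.trans (hA' (P.root i'))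
    rw [pair_fundCoweight_self, mul_one, hn'] at this
    exact this
  have hnn : (n : R) * n' = 1 := by
    have : ℓ k * ((n : R) * n') = ℓ k * 1 := by
      rw [mul_one]
      calc ℓ k * ((n : R) * n') = (ℓ k * n') * n := by ring
        _ = ℓ i' * n := by rw [e2]
        _ = ℓ k := e1.symm
    exact mul_left_cancel₀ (hℓ k).ne' this
  have hnn' : n * n' = 1 := by exact_mod_cast hnn
  have hnpos : 0 < n := by
    have : (0 : R) < n := by
      have h1 : 0 < ℓ i' * (n : R) := by rw [← e1]; exact hℓ k
      exact pos_of_mul_pos_right h1 (hℓ i').le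
    exact_mod_cast this
  have hn1 : n = 1 := by
    rcases Int.eq_one_or_neg_one_of_mul_eq_one hnn' with h1 | h1
    · exact h1
    · omega
  have hℓeq : ℓ k = ℓ i' := by rw [e1, hn1]; simp
  apply ext_of_coroot (P := P.flip) b.flip
  intro j _
  change P.toLinearMap (P.root j) (RootCh.fundCoweight b' i')
    = P.toLinearMap (P.root j) (RootCh.fundCoweight b k)
  have := (hA (P.root j)).symm.trans (hA' (P.root j))
  rw [hℓeq] at this
  exact (mul_left_cancel₀ (hℓ i').ne' this).symm

theorem corr_unique (b : P.Base) (k : b.support) (y : N)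
    (h : RootCh.Corr P (RootCh.fundWeight b k) y) : y = RootCh.fundCoweight b k := by
  obtain ⟨b', i', hm, rfl⟩ := h
  exact fundCoweight_eq_of_fundWeight_eq b b' k i' hm

omit [P.IsCrystallographic] [P.IsReduced] in
theorem pair_fundCoweight_zero_of_orth (b : P.Base) (ξ : M) (hξ : ξ ∈ RootCh.closedChamber b)
    (k : b.support) (hk : 0 < P.coroot' k ξ) (p : ι) (hp : b.IsPos p) (hpξ : P.coroot' p ξ = 0) :
    P.toLinearMap (P.root p) (RootCh.fundCoweight b k) = 0 := by
  obtain ⟨ℓ, B, hℓ, hB⟩ := exists_form (P := P)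
  have key : ∀ x ∈ AddSubmonoid.closure (P.root '' (b.support : Set ι)),
      0 ≤ B x ξ ∧ 0 ≤ P.toLinearMap x (RootCh.fundCoweight b k) ∧
        (B x ξ = 0 → P.toLinearMap x (RootCh.fundCoweight b k) = 0) := by
    intro x hx
    refine AddSubmonoid.closure_induction ?_ ?_ ?_ hx
    · rintro _ ⟨j, hj, rfl⟩
      rw [← hB]
      refine ⟨mul_nonneg (hℓ j).le (hξ j hj), ?_, ?_⟩
      · by_cases hjk : (⟨j, hj⟩ : b.support) = k
        · rw [← hjk]
          have := pair_fundCoweight_self b ⟨j, hj⟩
          rw [this]; exact zero_le_one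
        · have := pair_fundCoweight_ne b k ⟨j, hj⟩ hjk
          rw [this]
      · intro h0
        have hj0 : P.coroot' j ξ = 0 := by
          rcases mul_eq_zero.mp h0 with h | h
          · exact absurd h (hℓ j).ne'
          · exact h
        have hjk : (⟨j, hj⟩ : b.support) ≠ k := by
          intro h
          rw [← h] at hk
          change 0 < P.coroot' j ξ at hk
          rw [hj0] at hk
          exact lt_irrefl _ hk
        exact pair_fundCoweight_ne b k ⟨j, hj⟩ hjk
    · simp
    · intro x y _ _ hx hy
      simp only [map_add, LinearMap.add_apply]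
      refine ⟨add_nonneg hx.1 hy.1, add_nonneg hx.2.1 hy.2.1, fun h0 => ?_⟩
      have hx0 : B x ξ = 0 := by linarith [hx.1, hy.1]
      have hy0 : B y ξ = 0 := by linarith [hx.1, hy.1]
      rw [hx.2.2 hx0, hy.2.2 hy0, add_zero]
  have h1 := (key _ (mem_closure_of_isPos b p hp)).2.2
  apply h1
  rw [← hB, hpξ, mul_zero]

theorem corners_eq_vert (F : RootCh.Facet P) :
    F.corners = {m : M | m ∈ RootCh.fundWeights P ∧
      ∀ y : N, RootCh.Corr P m y → ∀ i ∈ F.parab, 0 ≤ P.root' i y} := by
  obtain ⟨b, hb⟩ := facet_exists_cham F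
  obtain ⟨ξ, hξ⟩ := F.exists_sgnVec_eq
  have hξ' : ξ ∈ F.carrier := hξ
  have hξc : ξ ∈ RootCh.closedChamber b := hb hξ'
  have hparab : ∀ i, i ∈ F.parab ↔ 0 ≤ P.coroot' i ξ := by
    intro i
    change F.sgn i ≠ -1 ↔ _
    rw [← hξ]
    change SignType.sign (P.coroot' i ξ) ≠ -1 ↔ _
    rw [Ne, sign_eq_neg_one_iff, not_lt]
  apply Set.Subset.antisymm
  · intro m hm
    have hm2 := hm
    rw [corners_eq F b hb ξ hξ'] at hm2
    obtain ⟨k, hk, rfl⟩ := hm2
    refine ⟨hm.1, fun y hy i hi => ?_⟩
    rw [corr_unique b k y hy]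
    rw [hparab] at hi
    rcases isPos_or_neg b i with hpos | hneg
    · exact mem_closedChamber_flipPos (P := P.flip) b.flip _
        (fundWeight_mem_closedChamber (P := P.flip) b.flip k) i hpos
    · have h1 := closedChamber_pos b ξ hξc _ hneg
      rw [coroot'_neg_idx] at h1
      have h0 : P.coroot' i ξ = 0 := le_antisymm (neg_nonneg.mp h1) hi
      have h2 : P.coroot' (P.reflectionPerm i i) ξ = 0 := by rw [coroot'_neg_idx, h0, neg_zero]
      have h3 := pair_fundCoweight_zero_of_orth b ξ hξc k hk _ hneg h2
      rw [P.root_reflectionPerm, P.reflection_apply_self, map_neg, LinearMap.neg_apply,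
        neg_eq_zero] at h3
      change 0 ≤ P.toLinearMap (P.root i) _
      rw [h3]
  · rintro m ⟨⟨b', i', rfl⟩, hm⟩
    have hy' := hm (RootCh.fundCoweight b' i') ⟨b', i', rfl, rfl⟩
    have hcl : RootCh.fundCoweight b' i' ∈ RootCh.closedChamber (P := P.flip) b.flip := by
      intro j hj
      exact hy' j ((hparab j).mpr (hξc j hj))
    have hbc : RootCh.fundCoweight b' i' ∈ RootCh.baseCorners (P := P.flip) b.flip :=
      ⟨⟨b'.flip, i', rfl⟩, hcl⟩
    rw [baseCorners_eq (P := P.flip) b.flip] at hbc
    obtain ⟨k, hk⟩ := hbc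
    have hmk : RootCh.fundWeight b' i' = RootCh.fundWeight b k :=
      fundCoweight_eq_of_fundWeight_eq (P := P.flip) b.flip b'.flip k i' hk.symm
    rw [hmk, corners_eq F b hb ξ hξ']
    refine ⟨k, ?_, rfl⟩
    by_contra hnot
    have h0 : P.coroot' k ξ = 0 := le_antisymm (not_lt.mp hnot) (hξc k k.2)
    have hmem : P.reflectionPerm k k ∈ F.parab := by
      rw [hparab, coroot'_neg_idx, h0, neg_zero]
    have := hy' _ hmem
    change 0 ≤ P.toLinearMap (P.root (P.reflectionPerm k k)) _ at this
    have hk' : RootCh.fundCoweight b' i' = RootCh.fundCoweight b k := hk.symm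
    rw [P.root_reflectionPerm, P.reflection_apply_self, map_neg, LinearMap.neg_apply, hk',
      pair_fundCoweight_self] at this
    linarith

end chE

end Groth.Agent.H3RootD

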