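import Mathlib
import Groth.Agent.Lib.helper3.RootChE
set_option autoImplicit false
open RootPairing Set Function Submodule Module

namespace Groth.Agent.H3RootD

section chF
variable {ι : Type*} {R : Type*} {M : Type*} {N : Type*}
  [Field R] [LinearOrder R] [IsStrictOrderedRing R]
  [AddCommGroup M] [Module R M] [AddCommGroup N] [Module R N] [Finite ι]
  {P : RootPairing ι R M N} [P.IsRootSystem] [P.IsCrystallographic] [P.IsReduced]

omit [P.IsRootSystem] [P.IsCrystallographic] [P.IsReduced] in
theorem cosgnVec_eq_of_pattern (b : P.Base) (ξ : M) (hξ : ξ ∈ RootCh.closedChamber b) (x : N)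
    (hx : x ∈ RootCh.closedChamber (P := P.flip) b.flip)
    (h : ∀ k ∈ b.support, 0 < P.root' k x ↔ 0 < P.coroot' k ξ) :
    RootCh.cosgnVec P x = RootCh.sgnVec P ξ := by
  obtain ⟨ℓ, B, hℓ, hB⟩ := exists_form (P := P)
  have key : ∀ z ∈ AddSubmonoid.closure (P.root '' (b.support : Set ι)),
      0 ≤ P.toLinearMap z x ∧ 0 ≤ B z ξ ∧ (0 < P.toLinearMap z x ↔ 0 < B z ξ) := by
    intro z hz
    refine AddSubmonoid.closure_induction ?_ ?_ ?_ hz
    · rintro _ ⟨k, hk, rfl⟩
      rw [← hB]
      refine ⟨hx k hk, mul_nonneg (hℓ k).le (hξ k hk), ?_⟩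
      rw [mul_pos_iff_of_pos_left (hℓ k)]
      exact h k hk
    · simp
    · intro z w _ _ hz hw
      simp only [map_add, LinearMap.add_apply]
      refine ⟨add_nonneg hz.1 hw.1, add_nonneg hz.2.1 hw.2.1, ?_⟩
      constructor
      · intro h1
        by_cases hz0 : 0 < P.toLinearMap z x
        · exact add_pos_of_pos_of_nonneg (hz.2.2.mp hz0) hw.2.1
        · have : P.toLinearMap z x = 0 := le_antisymm (not_lt.mp hz0) hz.1
          rw [this, zero_add] at h1
          exact add_pos_of_nonneg_of_pos hz.2.1 (hw.2.2.mp h1)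
      · intro h1
        by_cases hz0 : 0 < B z ξ
        · exact add_pos_of_pos_of_nonneg (hz.2.2.mpr hz0) hw.1
        · have : B z ξ = 0 := le_antisymm (not_lt.mp hz0) hz.2.1
          rw [this, zero_add] at h1
          exact add_pos_of_nonneg_of_pos hz.1 (hw.2.2.mpr h1)
  have hpos : ∀ j, b.IsPos j → RootCh.cosgnVec P x j = RootCh.sgnVec P ξ j := by
    intro j hj
    obtain ⟨h1, h2, h3⟩ := key _ (mem_closure_of_isPos b j hj)
    rw [← hB] at h2 h3
    rw [mul_pos_iff_of_pos_left (hℓ j)] at h3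
    exact sign_eq_of_pos_iff h1 (nonneg_of_mul_nonneg_right h2 (hℓ j)) h3
  have hneg : ∀ j, RootCh.cosgnVec P x (P.reflectionPerm j j) = - RootCh.cosgnVec P x j := by
    intro j
    unfold RootCh.cosgnVec
    change SignType.sign (P.toLinearMap (P.root (P.reflectionPerm j j)) x)
      = - SignType.sign (P.toLinearMap (P.root j) x)
    rw [P.root_reflectionPerm, P.reflection_apply_self, map_neg, LinearMap.neg_apply, Left.sign_neg]
  funext j
  rcases isPos_or_neg b j with hj | hj
  · exact hpos j hj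
  · have := hpos _ hj
    rw [sgnVec_neg_idx, hneg] at this
    exact neg_injective this

/-- The point of the dual facet attached to a chamber `b` adjacent to `F`. -/
noncomputable def dualPoint (b : P.Base) (ξ : M) : N := by
  classical
  exact ∑ k : b.support, (if 0 < P.coroot' k ξ then (1 : R) else 0) • RootCh.fundCoweight b k

omit [LinearOrder R] [IsStrictOrderedRing R] [Finite ι] [P.IsCrystallographic] [P.IsReduced] in
theorem root'_dualPoint [LinearOrder R] (b : P.Base) (ξ : M) (k : b.support) :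
    P.root' k (dualPoint b ξ) = by
      classical
      exact if 0 < P.coroot' k ξ then (1 : R) else 0 := by
  classical
  unfold dualPoint
  exact coroot'_sum_fundWeight (P := P.flip) b.flip _ k

omit [P.IsCrystallographic] [P.IsReduced] in
theorem cosgnVec_dualPoint (F : RootCh.Facet P) (b : P.Base) (hb : b ∈ F.cham) (ξ : M)
    (hξ : ξ ∈ F.carrier) : RootCh.cosgnVec P (dualPoint b ξ) = F.sgn := by
  classical
  have hξ2 : RootCh.sgnVec P ξ = F.sgn := hξ
  rw [← hξ2]
  apply cosgnVec_eq_of_pattern b ξ (hb hξ)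
  · intro k hk
    change 0 ≤ P.root' k (dualPoint b ξ)
    have := root'_dualPoint b ξ ⟨k, hk⟩
    rw [this]
    split_ifs
    · exact zero_le_one
    · exact le_refl _
  · intro k hk
    have := root'_dualPoint b ξ ⟨k, hk⟩
    rw [this]
    split_ifs with h
    · exact ⟨fun _ => h, fun _ => zero_lt_one⟩
    · exact ⟨fun h' => absurd h' (lt_irrefl _), fun h' => absurd h' h⟩

theorem dualCorners_eq (F : RootCh.Facet P) :
    F.dualCorners = {y : N | ∃ m ∈ F.corners, RootCh.Corr P m y} := by
  classical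
  obtain ⟨b, hb⟩ := facet_exists_cham F
  obtain ⟨ξ, hξ⟩ := F.exists_sgnVec_eq
  have hξ' : ξ ∈ F.carrier := hξ
  have hcos := cosgnVec_dualPoint F b hb ξ hξ'
  let F' : RootCh.Facet P.flip := ⟨F.sgn, dualPoint b ξ, hcos⟩
  have hx₀ : dualPoint b ξ ∈ F'.carrier := hcos
  have hcl : dualPoint b ξ ∈ RootCh.closedChamber (P := P.flip) b.flip := by
    intro k hk
    change 0 ≤ P.root' k (dualPoint b ξ)
    have := root'_dualPoint b ξ ⟨k, hk⟩
    rw [this]
    split_ifs
    · exact zero_le_one
    · exact le_refl _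
  have hb' : b.flip ∈ F'.cham := by
    intro η hη k hk
    have h1 : RootCh.sgnVec P.flip η = RootCh.sgnVec P.flip (dualPoint b ξ) := hη.trans hcos.symm
    exact nonneg_of_sign_eq (congrFun h1 k) (hcl k hk)
  have hdual : F.dualCorners = F'.corners := rfl
  rw [hdual, corners_eq (P := P.flip) F' b.flip hb' (dualPoint b ξ) hx₀, corners_eq F b hb ξ hξ']
  ext y
  simp only [Set.mem_ofPred_eq]
  constructor
  · rintro ⟨k, hk, rfl⟩
    refine ⟨RootCh.fundWeight b k, ⟨k, ?_, rfl⟩, ⟨b, k, rfl, rfl⟩⟩
    change 0 < P.root' k (dualPoint b ξ) at hk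
    rw [root'_dualPoint b ξ k] at hk
    split_ifs at hk with h
    · exact h
    · exact absurd hk (lt_irrefl _)
  · rintro ⟨_, ⟨k, hk, rfl⟩, hcorr⟩
    refine ⟨k, ?_, (corr_unique b k y hcorr).symm⟩
    change 0 < P.root' k (dualPoint b ξ)
    rw [root'_dualPoint b ξ k, if_pos hk]
    exact zero_lt_one

end chF

end Groth.Agent.H3RootD

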