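import Mathlib
import Groth.Agent.Lib.helper3.RootTrans

namespace Groth.Agent.H3RootD

variable {ι M N : Type*} [AddCommGroup M] [AddCommGroup N] {P : RootPairing ι ℤ M N} {Δ : Set ι}

open RootPairing

theorem closed_decomp [Finite ι] (hΔ : RootD.IsSimpleSys P Δ) (P' : Set ι)
    (hcl : RootD.IsClosedSub P P') (hSP : RootD.posOf P Δ ⊆ P') :
    P' = RootD.posOf P Δ ∪
      {k : ι | -P.root k ∈ RootD.natSpan P {i : ι | i ∈ Δ ∧ P.reflectionPerm i i ∈ P'}} := by
  set Δ'' : Set ι := {i : ι | i ∈ Δ ∧ P.reflectionPerm i i ∈ P'} with hΔ''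
  apply Set.Subset.antisymm
  · intro k hk
    by_cases hkS : k ∈ RootD.posOf P Δ
    · exact Or.inl hkS
    right
    have hneg : P.reflectionPerm k k ∈ RootD.posOf P Δ := (pos_or_neg hΔ k).resolve_left hkS
    have key : ∀ j, j ∈ RootD.posOf P Δ → P.reflectionPerm j j ∈ P' →
        P.root j ∈ RootD.natSpan P Δ'' := by
      intro j hj
      refine pos_induction hΔ (p := fun j => P.reflectionPerm j j ∈ P' →
        P.root j ∈ RootD.natSpan P Δ'') ?_ ?_ j hj
      · intro d hd hdP
        exact AddSubmonoid.subset_closure ⟨d, ⟨hd, hdP⟩, rfl⟩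
      · intro j j' l hj hl hj' ih hsum _ _ hjP
        have hlS : l ∈ P' := hSP (simple_subset_posOf Δ hl)
        have hj'P : P.reflectionPerm j' j' ∈ P' := by
          refine hcl hjP hlS ?_
          rw [neg_root, neg_root, hsum]; abel
        have hlP : P.reflectionPerm l l ∈ P' := by
          refine hcl hjP (hSP hj') ?_
          rw [neg_root, neg_root, hsum]; abel
        rw [hsum]
        exact add_mem (ih hj'P) (AddSubmonoid.subset_closure ⟨l, ⟨hl, hlP⟩, rfl⟩)
    have := key _ hneg (by rw [neg_neg_idx]; exact hk)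
    rw [neg_root] at this
    exact this
  · rintro k (hk | hk)
    · exact hSP hk
    · change -P.root k ∈ RootD.natSpan P Δ'' at hk
      obtain ⟨s, hs, hsum⟩ := natSpan_exists_multiset P Δ'' _ hk
      refine closed_multiset_sum_mem P P' hcl _ (s.map (fun i => P.reflectionPerm i i)) rfl ?_ k ?_
      · intro a ha
        obtain ⟨b, hb, rfl⟩ := Multiset.mem_map.mp ha
        exact (hs b hb).2
      · rw [Multiset.map_map]
        have : (P.root ∘ fun i => P.reflectionPerm i i) = fun i => -P.root i := by
          ext i; simp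
        rw [this, Multiset.sum_map_neg, hsum, neg_neg]



end Groth.Agent.H3RootD
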