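import Mathlib
import Groth.Agent.Lib.helper3.RootChF
import Groth.Agent.Lib.helper3.RootParab
set_option autoImplicit false
open RootPairing Set Function Submodule Module

namespace Groth.Agent.H3RootD

section chG
variable {ι : Type*} {R : Type*} {M : Type*} {N : Type*}
  [Field R] [LinearOrder R] [IsStrictOrderedRing R]
  [AddCommGroup M] [Module R M] [AddCommGroup N] [Module R N] [Finite ι]
  {P : RootPairing ι R M N} [P.IsRootSystem] [P.IsCrystallographic] [P.IsReduced]

omit [Finite ι] [P.IsRootSystem] [P.IsCrystallographic] [P.IsReduced] [IsStrictOrderedRing R] in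
theorem mem_parab_iff (F : RootCh.Facet P) (ξ : M) (hξ : ξ ∈ F.carrier) (i : ι) :
    i ∈ F.parab ↔ 0 ≤ P.coroot' i ξ := by
  have hξ2 : RootCh.sgnVec P ξ = F.sgn := hξ
  change F.sgn i ≠ -1 ↔ _
  rw [← hξ2]
  change SignType.sign (P.coroot' i ξ) ≠ -1 ↔ _
  rw [Ne, sign_eq_neg_one_iff, not_lt]

omit [P.IsRootSystem] [P.IsCrystallographic] [P.IsReduced] in
theorem parab_isParabolic (F : RootCh.Facet P) : RootCh.IsParabolicSubset P F.parab := by
  obtain ⟨ξ, hξ⟩ := F.exists_sgnVec_eq
  have hξ' : ξ ∈ F.carrier := hξ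
  refine ⟨fun i j k hi hj hk => ?_, fun i => ?_⟩
  · rw [mem_parab_iff F ξ hξ'] at hi hj ⊢
    obtain ⟨ℓ, B, hℓ, hB⟩ := exists_form (P := P)
    have h1 : ℓ k * P.coroot' k ξ = ℓ i * P.coroot' i ξ + ℓ j * P.coroot' j ξ := by
      rw [hB, hB, hB, hk, map_add, LinearMap.add_apply]
    have h3 : 0 ≤ ℓ k * P.coroot' k ξ := by
      rw [h1]
      exact add_nonneg (mul_nonneg (hℓ i).le hi) (mul_nonneg (hℓ j).le hj)
    exact nonneg_of_mul_nonneg_right h3 (hℓ k)
  · rw [mem_parab_iff F ξ hξ', mem_parab_iff F ξ hξ']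
    exact coroot_coverSub ξ i

theorem exists_vec_of_parabolic (S : Set ι) (hS : RootCh.IsParabolicSubset P S) :
    ∃ ξ : M, ∀ j, 0 ≤ P.coroot' j ξ ↔ j ∈ S := by
  classical
  have hcl' : RootD.IsClosedSub (intForm P) S :=
    fun i j k hi hj hk => hS.1 i j k hi hj (congrArg Subtype.val hk)
  obtain ⟨b, hb⟩ := exists_base_pos_subset S hS.2 hcl'
  have hΔ := isSimpleSys_of_base b
  have hpos_sub : RootD.posOf (intForm P) (b.support : Set ι) ⊆ S :=
    fun i hi => hb i ((mem_posOf_iff_isPos b i).mp hi)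
  have hdec := closed_decomp hΔ S hcl' hpos_sub
  set J : Set ι := {i : ι | i ∈ (b.support : Set ι) ∧ (intForm P).reflectionPerm i i ∈ S} with hJ
  let c : b.support → R := fun k => if (k : ι) ∈ J then 0 else 1
  let ξ : M := ∑ k : b.support, c k • RootCh.fundWeight b k
  have hξk : ∀ k : b.support, P.coroot' k ξ = c k := fun k => coroot'_sum_fundWeight b c k
  have hξc : ξ ∈ RootCh.closedChamber b := by
    intro k hk
    have := hξk ⟨k, hk⟩
    change 0 ≤ P.coroot' (⟨k, hk⟩ : b.support) ξ
    rw [this]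
    change 0 ≤ (if k ∈ J then (0 : R) else 1)
    split_ifs
    · exact le_refl _
    · exact zero_le_one
  obtain ⟨ℓ, B, hℓ, hB⟩ := exists_form (P := P)
  have h1 : ∀ x ∈ AddSubmonoid.closure (P.root '' J), B x ξ = 0 := by
    intro x hx
    refine AddSubmonoid.closure_induction ?_ ?_ ?_ hx
    · rintro _ ⟨k, hk, rfl⟩
      rw [← hB]
      have := hξk ⟨k, hk.1⟩
      change P.coroot' k ξ = if k ∈ J then (0 : R) else 1 at this
      rw [this, if_pos hk, mul_zero]
    · simp
    · intro x y _ _ hx hy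
      rw [map_add, LinearMap.add_apply, hx, hy, add_zero]
  have h2 : ∀ x ∈ AddSubmonoid.closure (P.root '' (b.support : Set ι)),
      0 ≤ B x ξ ∧ (B x ξ = 0 → x ∈ AddSubmonoid.closure (P.root '' J)) := by
    intro x hx
    refine AddSubmonoid.closure_induction ?_ ?_ ?_ hx
    · rintro _ ⟨k, hk, rfl⟩
      rw [← hB]
      refine ⟨mul_nonneg (hℓ k).le (hξc k hk), fun h0 => ?_⟩
      have hk0 : P.coroot' k ξ = 0 := by
        rcases mul_eq_zero.mp h0 with h | h
        · exact absurd h (hℓ k).ne'
        · exact h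
      have := hξk ⟨k, hk⟩
      change P.coroot' k ξ = if k ∈ J then (0 : R) else 1 at this
      rw [hk0] at this
      have hkJ : k ∈ J := by
        by_contra hn
        rw [if_neg hn] at this
        exact zero_ne_one this
      exact AddSubmonoid.subset_closure ⟨k, hkJ, rfl⟩
    · exact ⟨by simp, fun _ => zero_mem _⟩
    · intro x y _ _ hx hy
      simp only [map_add, LinearMap.add_apply]
      refine ⟨add_nonneg hx.1 hy.1, fun h0 => ?_⟩
      have hx0 : B x ξ = 0 := by linarith [hx.1, hy.1]
      have hy0 : B y ξ = 0 := by linarith [hx.1, hy.1]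
      exact add_mem (hx.2 hx0) (hy.2 hy0)
  refine ⟨ξ, fun j => ?_⟩
  rcases isPos_or_neg b j with hj | hj
  · exact ⟨fun _ => hb j hj, fun _ => closedChamber_pos b ξ hξc j hj⟩
  · have hjn : ¬ b.IsPos j := by
      intro h
      have := (Base.IsPos.neg_iff_not b j).mp
      simp only [RootPairing.indexNeg_neg] at this
      exact this hj h
    have hp0 := closedChamber_pos b ξ hξc _ hj
    rw [coroot'_neg_idx] at hp0
    have hmem : j ∈ S ↔ -P.root j ∈ AddSubmonoid.closure (P.root '' J) := by
      have hmem0 : j ∈ S ↔ j ∈ RootD.posOf (intForm P) (b.support : Set ι) ∪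
          {k : ι | -(intForm P).root k ∈ RootD.natSpan (intForm P) J} := by
        constructor
        · intro h; rw [← hdec]; exact h
        · intro h; rw [hdec]; exact h
      rw [hmem0]
      constructor
      · rintro (h | h)
        · exact absurd ((mem_posOf_iff_isPos b j).mp h) hjn
        · exact (mem_natSpan_intForm_iff J _).mp h
      · intro h
        right
        exact (mem_natSpan_intForm_iff J (-(intForm P).root j)).mpr h
    rw [hmem]
    have hrootneg : P.root (P.reflectionPerm j j) = - P.root j := by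
      rw [P.root_reflectionPerm, P.reflection_apply_self]
    constructor
    · intro h
      have h0 : P.coroot' j ξ = 0 := le_antisymm (neg_nonneg.mp hp0) h
      have h3 := (h2 _ (mem_closure_of_isPos b _ hj)).2
      rw [← hB, coroot'_neg_idx, h0, neg_zero, mul_zero, hrootneg] at h3
      exact h3 rfl
    · intro h
      have h3 := h1 _ h
      rw [← hrootneg, ← hB, coroot'_neg_idx] at h3
      rcases mul_eq_zero.mp h3 with h4 | h4
      · exact absurd h4 (hℓ _).ne'
      · rw [neg_eq_zero] at h4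
        rw [h4]

omit [Finite ι] [P.IsRootSystem] [P.IsCrystallographic] [P.IsReduced] in
theorem facet_sgn_neg (F : RootCh.Facet P) (i : ι) :
    F.sgn (P.reflectionPerm i i) = - F.sgn i := by
  obtain ⟨ξ, hξ⟩ := F.exists_sgnVec_eq
  rw [← hξ]
  exact sgnVec_neg_idx ξ i

theorem signType_aux1 : ∀ a b : SignType, (a ≠ -1 ↔ b ≠ -1) → (-a ≠ -1 ↔ -b ≠ -1) → a = b := by
  decide

theorem signType_aux2 : ∀ a b : SignType, (a ≠ -1 → b ≠ -1) → (-a ≠ -1 → -b ≠ -1) →
    (b = 0 ∨ b = a) := by
  decide

omit [Finite ι] [P.IsRootSystem] [P.IsCrystallographic] [P.IsReduced] in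
theorem facet_eq_of_parab_eq (F G : RootCh.Facet P) (h : F.parab = G.parab) : F = G := by
  apply RootCh.Facet.ext
  funext i
  apply signType_aux1
  · have : i ∈ F.parab ↔ i ∈ G.parab := by rw [h]
    exact this
  · have : P.reflectionPerm i i ∈ F.parab ↔ P.reflectionPerm i i ∈ G.parab := by rw [h]
    change F.sgn _ ≠ -1 ↔ G.sgn _ ≠ -1 at this
    rw [facet_sgn_neg, facet_sgn_neg] at this
    exact this

omit [Finite ι] [P.IsRootSystem] [P.IsCrystallographic] [P.IsReduced] in
theorem facet_le_iff_parab (F G : RootCh.Facet P) : F ≤ G ↔ F.parab ⊆ G.parab := by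
  rw [RootCh.Facet.le_def]
  constructor
  · intro h i hi
    change F.sgn i ≠ -1 at hi
    change G.sgn i ≠ -1
    rcases h i with h0 | h0
    · rw [h0]; decide
    · rw [h0]; exact hi
  · intro h i
    apply signType_aux2
    · exact fun hi => h hi
    · intro hi
      have h1 : P.reflectionPerm i i ∈ F.parab := by
        change F.sgn _ ≠ -1
        rw [facet_sgn_neg]; exact hi
      have h2 := h h1
      change G.sgn _ ≠ -1 at h2
      rw [facet_sgn_neg] at h2
      exact h2

theorem facet_eq_of_corners_eq (F G : RootCh.Facet P) (h : G.corners = F.corners) : G = F := by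
  have hcar : G.carrier = F.carrier := by
    rw [carrier_eq_posCombo G, carrier_eq_posCombo F, h]
  obtain ⟨η, hη⟩ := G.exists_sgnVec_eq
  have hη' : η ∈ G.carrier := hη
  rw [hcar] at hη'
  apply RootCh.Facet.ext
  exact hη.symm.trans hη'

theorem exists_facet_of_parabolic (S : Set ι) (hS : RootCh.IsParabolicSubset P S) :
    ∃ F : RootCh.Facet P, F.parab = S := by
  obtain ⟨ξ, hξ⟩ := exists_vec_of_parabolic S hS
  refine ⟨RootCh.Facet.ofVec P ξ, ?_⟩
  ext j
  have hmem : ξ ∈ (RootCh.Facet.ofVec P ξ).carrier := rfl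
  rw [mem_parab_iff (RootCh.Facet.ofVec P ξ) ξ hmem j]
  exact hξ j

end chG

end Groth.Agent.H3RootD

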