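import Mathlib
import Groth.Agent.Lib.helper3.RootChG
set_option autoImplicit false
open RootPairing Set Function Submodule Module

namespace Groth.Agent.H3RootD

section chH
variable {ι : Type*} {R : Type*} {M : Type*} {N : Type*}
  [Field R] [LinearOrder R] [IsStrictOrderedRing R]
  [AddCommGroup M] [Module R M] [AddCommGroup N] [Module R N] [Finite ι]
  {P : RootPairing ι R M N} [P.IsRootSystem] [P.IsCrystallographic] [P.IsReduced]

omit [P.IsRootSystem] [P.IsReduced] in
theorem pairing_le_zero_of_ne (b : P.Base) {i j : ι} (hij : i ≠ j) (hi : i ∈ b.support)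
    (hj : j ∈ b.support) : P.pairing i j ≤ 0 := by
  have h := b.pairingIn_le_zero_of_ne hij hi hj
  rw [← P.algebraMap_pairingIn ℤ i j]
  simpa using h

omit [Finite ι] [P.IsRootSystem] [P.IsCrystallographic] [P.IsReduced] in
theorem pairingR_reflectionPerm_left (k i : ι) :
    P.pairing (P.reflectionPerm k i) k = - P.pairing i k := by
  rw [← P.pairing_reflectionPerm, P.pairing_reflectionPerm_self_right]

omit [Finite ι] [P.IsRootSystem] [P.IsCrystallographic] [P.IsReduced] in
theorem sum_pairing_eq_zero_of_stable (T : Finset ι) (k : ι)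
    (hT : ∀ i ∈ T, P.reflectionPerm k i ∈ T) : ∑ i ∈ T, P.pairing i k = 0 := by
  refine Finset.sum_involution (fun i _ => P.reflectionPerm k i) ?_ ?_ ?_ ?_
  · intro i _
    rw [pairingR_reflectionPerm_left]; ring
  · intro i _ hne heq
    have := pairingR_reflectionPerm_left (P := P) k i
    rw [heq] at this
    apply hne
    linarith
  · intro i hi
    exact hT i hi
  · intro i _
    exact P.reflectionPerm_self k i

omit [P.IsRootSystem] [P.IsCrystallographic] [P.IsReduced] [Finite ι] in
theorem coroot'_reflectionPerm (ξ : M) (k i : ι) :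
    P.coroot' (P.reflectionPerm k i) ξ = P.coroot' i ξ - P.pairing k i * P.coroot' k ξ := by
  change P.toLinearMap ξ (P.coroot (P.reflectionPerm k i)) = _
  rw [P.coroot_reflectionPerm, P.coreflection_apply_coroot, map_sub, map_smul, smul_eq_mul]
  rfl

omit [P.IsRootSystem] [P.IsReduced] in
theorem pairing_nonpos_of_orth (b : P.Base) (ξ : M) (hξ : ξ ∈ RootCh.closedChamber b)
    (k : ι) (hks : k ∈ b.support) (hk : 0 < P.coroot' k ξ) (p : ι) (hp : b.IsPos p)
    (hpξ : P.coroot' p ξ = 0) : P.pairing p k ≤ 0 := by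
  obtain ⟨ℓ, B, hℓ, hB⟩ := exists_form (P := P)
  have key : ∀ x ∈ AddSubmonoid.closure (P.root '' (b.support : Set ι)),
      0 ≤ B x ξ ∧ (B x ξ = 0 → P.toLinearMap x (P.coroot k) ≤ 0) := by
    intro x hx
    refine AddSubmonoid.closure_induction ?_ ?_ ?_ hx
    · rintro _ ⟨j, hj, rfl⟩
      rw [← hB]
      refine ⟨mul_nonneg (hℓ j).le (hξ j hj), fun h0 => ?_⟩
      have hj0 : P.coroot' j ξ = 0 := by
        rcases mul_eq_zero.mp h0 with h | h
        · exact absurd h (hℓ j).ne'
        · exact h
      have hjk : j ≠ k := by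
        intro h
        rw [h] at hj0
        rw [hj0] at hk
        exact lt_irrefl _ hk
      exact pairing_le_zero_of_ne b hjk hj hks
    · exact ⟨by simp, fun _ => by simp⟩
    · intro x y _ _ hx hy
      simp only [map_add, LinearMap.add_apply]
      refine ⟨add_nonneg hx.1 hy.1, fun h0 => ?_⟩
      have hx0 : B x ξ = 0 := by linarith [hx.1, hy.1]
      have hy0 : B y ξ = 0 := by linarith [hx.1, hy.1]
      exact add_nonpos (hx.2 hx0) (hy.2 hy0)
  have h1 := (key _ (mem_closure_of_isPos b p hp)).2
  apply h1
  rw [← hB, hpξ, mul_zero]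

theorem sum_parab_mem_carrier (F : RootCh.Facet P) :
    (∑ i ∈ (Set.toFinite F.parab).toFinset, P.root i) ∈ F.carrier := by
  classical
  obtain ⟨b, hb⟩ := facet_exists_cham F
  obtain ⟨ξ, hξ⟩ := F.exists_sgnVec_eq
  have hξ' : ξ ∈ F.carrier := hξ
  have hξc := hb hξ'
  set T := (Set.toFinite F.parab).toFinset with hT
  have hTmem : ∀ i, i ∈ T ↔ 0 ≤ P.coroot' i ξ := fun i => by
    rw [hT, Set.Finite.mem_toFinset, mem_parab_iff F ξ hξ']
  have hval : ∀ k, P.coroot' k (∑ i ∈ T, P.root i) = ∑ i ∈ T, P.pairing i k := by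
    intro k; rw [map_sum]; rfl
  have h0 : ∀ k ∈ b.support, P.coroot' k ξ = 0 → ∑ i ∈ T, P.pairing i k = 0 := by
    intro k hk hk0
    apply sum_pairing_eq_zero_of_stable
    intro i hi
    rw [hTmem] at hi ⊢
    rw [coroot'_reflectionPerm, hk0, mul_zero, sub_zero]; exact hi
  have h1 : ∀ k ∈ b.support, 0 < P.coroot' k ξ → 0 < ∑ i ∈ T, P.pairing i k := by
    intro k hk hkpos
    rw [← Finset.sum_filter_add_sum_filter_not T (fun i => b.IsPos i)]
    have hA : ∑ i ∈ T.filter (fun i => b.IsPos i), P.pairing i k = 2 := by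
      have hkT : k ∈ T.filter (fun i => b.IsPos i) := by
        rw [Finset.mem_filter, hTmem]
        exact ⟨hkpos.le, Base.isPos_of_mem_support hk⟩
      rw [← Finset.add_sum_erase _ _ hkT, P.pairing_same]
      have : ∑ i ∈ (T.filter (fun i => b.IsPos i)).erase k, P.pairing i k = 0 := by
        apply sum_pairing_eq_zero_of_stable
        intro i hi
        rw [Finset.mem_erase, Finset.mem_filter] at hi ⊢
        have hpos : b.IsPos (P.reflectionPerm k i) := hi.2.2.reflectionPerm hk hi.1
        refine ⟨?_, ?_, hpos⟩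
        · intro h
          have h1 : P.reflectionPerm k (P.reflectionPerm k i) = P.reflectionPerm k k := by rw [h]
          rw [P.reflectionPerm_self] at h1
          have h2 := b.height_reflectionPerm_self k
          simp only [RootPairing.indexNeg_neg] at h2
          have h3 : b.IsPos i := hi.2.2
          rw [h1, Base.isPos_iff, h2] at h3
          have h4 := Base.isPos_of_mem_support hk
          rw [Base.isPos_iff] at h4
          omega
        · rw [hTmem]
          exact closedChamber_pos b ξ hξc _ hpos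
      rw [this, add_zero]
    have hB : 0 ≤ ∑ i ∈ T.filter (fun i => ¬ b.IsPos i), P.pairing i k := by
      apply Finset.sum_nonneg
      intro i hi
      rw [Finset.mem_filter, hTmem] at hi
      have hneg : b.IsPos (P.reflectionPerm i i) := (isPos_or_neg b i).resolve_left hi.2
      have hle := closedChamber_pos b ξ hξc _ hneg
      rw [coroot'_neg_idx] at hle
      have hi0 : P.coroot' (P.reflectionPerm i i) ξ = 0 := by
        rw [coroot'_neg_idx]
        linarith [hi.1]
      have := pairing_nonpos_of_orth b ξ hξc k hk hkpos _ hneg hi0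
      rw [P.pairing_reflectionPerm_self_left] at this
      linarith
    linarith
  rw [mem_carrier_iff F b hb ξ hξ']
  refine ⟨fun k hk => ?_, fun k hk => ?_⟩
  · rw [hval]
    rcases (hξc k hk).lt_or_eq with h | h
    · exact (h1 k hk h).le
    · rw [h0 k hk h.symm]
  · rw [hval]
    constructor
    · intro h
      by_contra hn
      have hk0 : P.coroot' k ξ = 0 := le_antisymm (not_lt.mp hn) (hξc k hk)
      rw [h0 k hk hk0] at h
      exact lt_irrefl _ h
    · exact h1 k hk

end chH

end Groth.Agent.H3RootD

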