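import Mathlib
import Groth.Agent.Lib.helper3.RootChH
set_option autoImplicit false
open RootPairing Set Function Submodule Module

namespace Groth.Agent.H3RootD

section chI
variable {ι : Type*} {R : Type*} {M : Type*} {N : Type*}
  [Field R] [LinearOrder R] [IsStrictOrderedRing R]
  [AddCommGroup M] [Module R M] [AddCommGroup N] [Module R N] [Finite ι]
  {P : RootPairing ι R M N} [P.IsRootSystem] [P.IsCrystallographic] [P.IsReduced]

omit [P.IsRootSystem] [P.IsCrystallographic] [P.IsReduced] [Finite ι] [IsStrictOrderedRing R] in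
theorem corners_subset_baseCorners (F : RootCh.Facet P) [P.IsRootSystem] (b : P.Base) (hb : b ∈ F.cham) :
    F.corners ⊆ RootCh.baseCorners b :=
  fun _ hm => ⟨hm.1, closure_subset_closedChamber F b hb hm.2⟩

omit [P.IsCrystallographic] [P.IsReduced] [Finite ι] in
theorem pair_eq_of_mem_span_corners (d : P.Base → N) (hd : RootCh.IsCCS d) (F : RootCh.Facet P)
    (b b' : P.Base) (hb : b ∈ F.cham) (hb' : b' ∈ F.cham) (x : M)
    (hx : x ∈ Submodule.span R F.corners) :
    P.toLinearMap x (d b) = P.toLinearMap x (d b') := by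
  induction hx using Submodule.span_induction with
  | mem m hm =>
    exact hd.corner_eq b b' m (corners_subset_baseCorners F b hb hm)
      (corners_subset_baseCorners F b' hb' hm)
  | zero => simp
  | add x y _ _ hx hy => rw [map_add, LinearMap.add_apply, LinearMap.add_apply, hx, hy]
  | smul a x _ hx => rw [map_smul, LinearMap.smul_apply, LinearMap.smul_apply, hx]

theorem deg_indep (d : P.Base → N) (hd : RootCh.IsCCS d) (F : RootCh.Facet P)
    (b b' : P.Base) (hb : b ∈ F.cham) (hb' : b' ∈ F.cham) :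
    F.deg d b = F.deg d b' := by
  have hmem : (∑ i ∈ (Set.toFinite F.parab).toFinset, P.root i) ∈ Submodule.span R F.corners := by
    rw [← span_carrier_eq]
    exact Submodule.subset_span (sum_parab_mem_carrier F)
  have := pair_eq_of_mem_span_corners d hd F b b' hb hb' _ hmem
  rw [map_sum, LinearMap.sum_apply, LinearMap.sum_apply] at this
  exact this

theorem mem_psi_iff (F : RootCh.Facet P) (b : P.Base) (hb : b ∈ F.cham) (ξ : M)
    (hξ : ξ ∈ F.carrier) (k : b.support) (i : ι) :
    i ∈ F.Psi (RootCh.fundWeight b k) ↔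
      P.toLinearMap (P.root i) (RootCh.fundCoweight b k) = 1 ∧
        ∀ k' : b.support, 0 < P.coroot' k' ξ → k' ≠ k →
          P.toLinearMap (P.root i) (RootCh.fundCoweight b k') = 0 := by
  constructor
  · rintro ⟨h1, h2⟩
    refine ⟨h1 _ ⟨b, k, rfl, rfl⟩, fun k' hk' hne => ?_⟩
    refine h2 (RootCh.fundWeight b k') ?_ (fun h => hne (fundWeight_injective b h)) _ ⟨b, k', rfl, rfl⟩
    rw [corners_eq F b hb ξ hξ]
    exact ⟨k', hk', rfl⟩
  · rintro ⟨h1, h2⟩
    refine ⟨fun x hx => ?_, fun w' hw' hne x hx => ?_⟩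
    · rw [corr_unique b k x hx]; exact h1
    · rw [corners_eq F b hb ξ hξ] at hw'
      obtain ⟨k', hk', rfl⟩ := hw'
      rw [corr_unique b k' x hx]
      exact h2 k' hk' (fun h => hne (by rw [h]))

theorem sum_psi_mem_span (F : RootCh.Facet P) (m : M) (hm : m ∈ F.corners) :
    (∑ i ∈ (Set.toFinite (F.Psi m)).toFinset, P.root i) ∈ Submodule.span R F.corners := by
  classical
  obtain ⟨b, hb⟩ := facet_exists_cham F
  obtain ⟨ξ, hξ⟩ := F.exists_sgnVec_eq
  have hξ' : ξ ∈ F.carrier := hξ
  have hξc := hb hξ'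
  have hm2 := hm
  rw [corners_eq F b hb ξ hξ'] at hm2
  obtain ⟨k, hk, rfl⟩ := hm2
  set T := (Set.toFinite (F.Psi (RootCh.fundWeight b k))).toFinset with hT
  have hTmem : ∀ i, i ∈ T ↔ i ∈ F.Psi (RootCh.fundWeight b k) := fun i => by
    rw [hT, Set.Finite.mem_toFinset]
  have hstable : ∀ j : b.support, P.coroot' j ξ = 0 → ∀ i ∈ T, P.reflectionPerm j i ∈ T := by
    intro j hj0 i hi
    rw [hTmem, mem_psi_iff F b hb ξ hξ'] at hi ⊢
    have hjk : ∀ k' : b.support, 0 < P.coroot' k' ξ →
        P.toLinearMap (P.root j) (RootCh.fundCoweight b k') = 0 := by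
      intro k' hk'
      apply pair_fundCoweight_ne
      intro h
      rw [h] at hj0
      rw [hj0] at hk'
      exact lt_irrefl _ hk'
    have hroot : ∀ y : N, P.toLinearMap (P.root (P.reflectionPerm j i)) y
        = P.toLinearMap (P.root i) y - P.pairing i j * P.toLinearMap (P.root j) y := by
      intro y
      rw [P.root_reflectionPerm, P.reflection_apply_root, map_sub, map_smul, LinearMap.sub_apply,
        LinearMap.smul_apply, smul_eq_mul]
    refine ⟨?_, fun k' hk' hne => ?_⟩
    · rw [hroot, hjk k hk, mul_zero, sub_zero]; exact hi.1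
    · rw [hroot, hjk k' hk', mul_zero, sub_zero]; exact hi.2 k' hk' hne
  have hzero : ∀ j : b.support, P.coroot' j ξ = 0 → P.coroot' j (∑ i ∈ T, P.root i) = 0 := by
    intro j hj0
    rw [map_sum]
    exact sum_pairing_eq_zero_of_stable T j (hstable j hj0)
  rw [expand_fundWeight b (∑ i ∈ T, P.root i)]
  refine Submodule.sum_mem _ fun j _ => ?_
  by_cases hj : 0 < P.coroot' j ξ
  · refine Submodule.smul_mem _ _ (Submodule.subset_span ?_)
    rw [corners_eq F b hb ξ hξ']
    exact ⟨j, hj, rfl⟩
  · have hj0 : P.coroot' j ξ = 0 := le_antisymm (not_lt.mp hj) (hξc j j.2)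
    rw [hzero j hj0, zero_smul]
    exact Submodule.zero_mem _

theorem numInv_indep (d : P.Base → N) (hd : RootCh.IsCCS d) (F : RootCh.Facet P) (m : M)
    (hm : m ∈ F.corners) (b b' : P.Base) (hb : b ∈ F.cham) (hb' : b' ∈ F.cham) :
    F.numInv d m b = F.numInv d m b' := by
  have := pair_eq_of_mem_span_corners d hd F b b' hb hb' _ (sum_psi_mem_span F m hm)
  rw [map_sum, LinearMap.sum_apply, LinearMap.sum_apply] at this
  exact this

end chI

end Groth.Agent.H3RootD

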