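import Mathlib
import Groth.Agent.Lib.helper3.RootChI
import Groth.Agent.Lib.helper3.Farkas
set_option autoImplicit false
open RootPairing Set Function Submodule Module

namespace Groth.Agent.H3RootD

section chJ
variable {ι : Type*} {R : Type*} {M : Type*} {N : Type*}
  [Field R] [LinearOrder R] [IsStrictOrderedRing R]
  [AddCommGroup M] [Module R M] [AddCommGroup N] [Module R N] [Finite ι]
  {P : RootPairing ι R M N} [P.IsRootSystem] [P.IsCrystallographic] [P.IsReduced]

theorem lex_cham (F : RootCh.Facet P) (ξ : M) :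
    ∃ b : P.Base, b ∈ F.cham ∧ ∀ j ∈ b.support, F.sgn j = 0 → 0 ≤ P.coroot' j ξ := by
  obtain ⟨ζ, hζ⟩ := F.exists_sgnVec_eq
  obtain ⟨ℓ, B, hℓ, hB⟩ := exists_form (P := P)
  let Q : Set ι := {i | 0 < P.coroot' i ζ ∨ (P.coroot' i ζ = 0 ∧ 0 ≤ P.coroot' i ξ)}
  have hcov : ∀ i, i ∈ Q ∨ P.reflectionPerm i i ∈ Q := by
    intro i
    change (0 < P.coroot' i ζ ∨ (P.coroot' i ζ = 0 ∧ 0 ≤ P.coroot' i ξ)) ∨
      (0 < P.coroot' (P.reflectionPerm i i) ζ ∨
        (P.coroot' (P.reflectionPerm i i) ζ = 0 ∧ 0 ≤ P.coroot' (P.reflectionPerm i i) ξ))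
    rw [coroot'_neg_idx, coroot'_neg_idx]
    rcases lt_trichotomy (P.coroot' i ζ) 0 with h | h | h
    · right; left; linarith
    · rcases le_total 0 (P.coroot' i ξ) with h' | h'
      · left; right; exact ⟨h, h'⟩
      · right; right; exact ⟨by rw [h, neg_zero], by linarith⟩
    · left; left; exact h
  have hcl : RootD.IsClosedSub (intForm P) Q := by
    intro i j k hi hj hk
    have hk' : P.root k = P.root i + P.root j := congrArg Subtype.val hk
    have e : ∀ x : M, ℓ k * P.coroot' k x = ℓ i * P.coroot' i x + ℓ j * P.coroot' j x := by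
      intro x
      rw [hB, hB, hB, hk', map_add, LinearMap.add_apply]
    have hi0 : 0 ≤ P.coroot' i ζ := by rcases hi with h | h; exact h.le; exact h.1.ge
    have hj0 : 0 ≤ P.coroot' j ζ := by rcases hj with h | h; exact h.le; exact h.1.ge
    by_cases hpos : 0 < P.coroot' i ζ ∨ 0 < P.coroot' j ζ
    · left
      have : 0 < ℓ k * P.coroot' k ζ := by
        rw [e]
        rcases hpos with h | h
        · exact add_pos_of_pos_of_nonneg (mul_pos (hℓ i) h) (mul_nonneg (hℓ j).le hj0)
        · exact add_pos_of_nonneg_of_pos (mul_nonneg (hℓ i).le hi0) (mul_pos (hℓ j) h)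
      exact pos_of_mul_pos_right this (hℓ k).le
    · push Not at hpos
      have hi1 : P.coroot' i ζ = 0 := le_antisymm hpos.1 hi0
      have hj1 : P.coroot' j ζ = 0 := le_antisymm hpos.2 hj0
      have hi2 : 0 ≤ P.coroot' i ξ := by
        rcases hi with h | h
        · rw [hi1] at h; exact absurd h (lt_irrefl _)
        · exact h.2
      have hj2 : 0 ≤ P.coroot' j ξ := by
        rcases hj with h | h
        · rw [hj1] at h; exact absurd h (lt_irrefl _)
        · exact h.2
      right
      constructor
      · have := e ζ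
        rw [hi1, hj1, mul_zero, mul_zero, add_zero] at this
        rcases mul_eq_zero.mp this with h | h
        · exact absurd h (hℓ k).ne'
        · exact h
      · have : 0 ≤ ℓ k * P.coroot' k ξ := by
          rw [e]
          exact add_nonneg (mul_nonneg (hℓ i).le hi2) (mul_nonneg (hℓ j).le hj2)
        exact nonneg_of_mul_nonneg_right this (hℓ k)
  obtain ⟨b, hb⟩ := exists_base_pos_subset Q hcov hcl
  have hQ : ∀ i ∈ b.support, i ∈ Q := fun i hi => hb i (Base.isPos_of_mem_support hi)
  have hζc : ζ ∈ RootCh.closedChamber b := by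
    intro i hi
    rcases hQ i hi with h | h
    · exact h.le
    · exact h.1.ge
  refine ⟨b, ?_, fun j hj hj0 => ?_⟩
  · intro η hη k hk
    have h1 : RootCh.sgnVec P η = RootCh.sgnVec P ζ := hη.trans hζ.symm
    exact nonneg_of_sign_eq (congrFun h1 k) (hζc k hk)
  · have hz : P.coroot' j ζ = 0 := by
      have : RootCh.sgnVec P ζ j = 0 := by rw [hζ]; exact hj0
      exact sign_eq_zero_iff.mp this
    rcases hQ j hj with h | h
    · rw [hz] at h; exact absurd h (lt_irrefl _)
    · exact h.2

omit [Finite ι] [P.IsCrystallographic] [P.IsReduced] [IsStrictOrderedRing R] in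
theorem fundWeight_mem_baseCorners (b : P.Base) (k : b.support) [IsStrictOrderedRing R] :
    RootCh.fundWeight b k ∈ RootCh.baseCorners b :=
  ⟨⟨b, k, rfl⟩, fundWeight_mem_closedChamber b k⟩

theorem dualSolid_supset (d : P.Base → N) (F : RootCh.Facet P) (y : N)
    (hy1 : y ∈ ⋂ m ∈ F.corners, RootCh.hyper d m)
    (hy2 : y ∈ ⋂ m ∈ F.corners', RootCh.halfClosed d m) :
    y ∈ RootCh.dualSolid d F := by
  have := finite_base P
  apply mem_convexHull_of_forall_exists P F.cham d y
  intro ξ
  obtain ⟨b, hb, hdom⟩ := lex_cham F ξ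
  obtain ⟨ζ, hζ⟩ := F.exists_sgnVec_eq
  have hζ' : ζ ∈ F.carrier := hζ
  refine ⟨b, hb, ?_⟩
  rw [expand_fundWeight b ξ, map_sum, LinearMap.sum_apply, LinearMap.sum_apply]
  refine Finset.sum_le_sum fun k _ => ?_
  rw [map_smul, LinearMap.smul_apply, LinearMap.smul_apply, smul_eq_mul, smul_eq_mul]
  by_cases hk : 0 < P.coroot' k ζ
  · have hcor : RootCh.fundWeight b k ∈ F.corners := by
      rw [corners_eq F b hb ζ hζ']
      exact ⟨k, hk, rfl⟩
    simp only [Set.mem_iInter] at hy1
    have := hy1 _ hcor b (fundWeight_mem_baseCorners b k)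
    rw [this]
  · have hk0 : F.sgn k = 0 := by
      rw [← hζ]
      change SignType.sign (P.coroot' k ζ) = 0
      rw [sign_eq_zero_iff]
      exact le_antisymm (not_lt.mp hk) (hb hζ' k k.2)
    have hnn := hdom k k.2 hk0
    have hcor' : RootCh.fundWeight b k ∈ F.corners' := by
      simp only [RootCh.Facet.corners', Set.mem_iUnion]
      exact ⟨b, hb, fundWeight_mem_baseCorners b k⟩
    simp only [Set.mem_iInter] at hy2
    have := hy2 _ hcor' b (fundWeight_mem_baseCorners b k)
    exact mul_le_mul_of_nonneg_left this hnn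

theorem exists_reflBase (b : P.Base) (k : ι) :
    ∃ b' : P.Base, (b'.support : Set ι) = (fun i => P.reflectionPerm k i) '' (b.support : Set ι) ∧
      ∀ i, b'.IsPos i ↔ b.IsPos (P.reflectionPerm k i) := by
  have hΔ := simpleSys_image (Equiv.reflection (intForm P) k) (isSimpleSys_of_base b)
  have himg : (fun i : ι => Equiv.reflection (intForm P) k • i) '' (b.support : Set ι)
      = (fun i : ι => Equiv.reflection P k • i) '' (b.support : Set ι) := rfl
  have hli : LinearIndepOn R P.root
      ((fun i : ι => Equiv.reflection (intForm P) k • i) '' (b.support : Set ι)) := by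
    rw [himg]
    exact linearIndepOn_root_smul _ _ b.linearIndepOn_root
  have hsp : ∀ i, P.root i ∈ AddSubmonoid.closure
        (P.root '' ((fun i : ι => Equiv.reflection (intForm P) k • i) '' (b.support : Set ι))) ∨
      -P.root i ∈ AddSubmonoid.closure
        (P.root '' ((fun i : ι => Equiv.reflection (intForm P) k • i) '' (b.support : Set ι))) := by
    intro i
    have := hΔ.mem_or_neg_mem i
    rw [mem_natSpan_intForm_iff, mem_natSpan_intForm_iff] at this
    exact this
  have h2 : ((Base.mk' P _ hli hsp).support : Set ι)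
      = (fun i : ι => Equiv.reflection (intForm P) k • i) '' (b.support : Set ι) := by
    simp [Base.mk']
  refine ⟨Base.mk' P _ hli hsp, h2, fun i => ?_⟩
  rw [← mem_posOf_iff_isPos, ← mem_posOf_iff_isPos, h2, posOf_image]
  constructor
  · rintro ⟨j, hj, rfl⟩
    have : P.reflectionPerm k (Equiv.reflection (intForm P) k • j) = j :=
      P.reflectionPerm_self k j
    rw [this]; exact hj
  · intro h
    exact ⟨P.reflectionPerm k i, h, P.reflectionPerm_self k i⟩

end chJ

end Groth.Agent.H3RootD
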