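import Mathlib
import Groth.Agent.Lib.helper3.RootChJ
set_option autoImplicit false
open RootPairing Set Function Submodule Module

namespace Groth.Agent.H3RootD

section chK
variable {ι : Type*} {R : Type*} {M : Type*} {N : Type*}
  [Field R] [LinearOrder R] [IsStrictOrderedRing R]
  [AddCommGroup M] [Module R M] [AddCommGroup N] [Module R N] [Finite ι]
  {P : RootPairing ι R M N} [P.IsRootSystem] [P.IsCrystallographic] [P.IsReduced]

omit [LinearOrder R] [IsStrictOrderedRing R] [Finite ι] [P.IsCrystallographic] [P.IsReduced] in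
theorem expand_coroot (b : P.Base) (y : N) :
    y = ∑ j : b.support, (P.toLinearMap (RootCh.fundWeight b j) y) • P.coroot j := by
  apply P.flip.toPerfPair.injective
  ext ξ
  change P.toLinearMap ξ y = P.toLinearMap ξ (∑ j : b.support, _ • P.coroot j)
  rw [map_sum]
  conv_lhs => rw [expand_fundWeight b ξ]
  rw [map_sum, LinearMap.sum_apply]
  refine Finset.sum_congr rfl fun j _ => ?_
  rw [map_smul, LinearMap.smul_apply, map_smul, smul_eq_mul, smul_eq_mul, mul_comm]
  rfl

omit [P.IsRootSystem] [P.IsReduced] [P.IsCrystallographic] [Finite ι] [LinearOrder R]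
  [IsStrictOrderedRing R] in
theorem isPos_neg_iff_not (b : P.Base) [CharZero R] (j : ι) :
    b.IsPos (P.reflectionPerm j j) ↔ ¬ b.IsPos j := by
  have := Base.IsPos.neg_iff_not b j
  simpa only [RootPairing.indexNeg_neg] using this

/-- Data of the chamber adjacent to `b` across the wall of the simple root `k`. -/
theorem exists_adjacent (b : P.Base) (k : ι) (hk : k ∈ b.support) :
    ∃ b₁ : P.Base,
      (∀ i, b.IsPos i → i ≠ k → b₁.IsPos i) ∧ b₁.IsPos (P.reflectionPerm k k) ∧
      (∀ i, b₁.IsPos i → i = P.reflectionPerm k k ∨ (b.IsPos i ∧ i ≠ k)) ∧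
      (∀ j : b.support, (j : ι) ≠ k → RootCh.fundWeight b j ∈ RootCh.baseCorners b₁) ∧
      RootCh.fundWeight b ⟨k, hk⟩ ∉ RootCh.baseCorners b₁ := by
  obtain ⟨b₁, hsupp, hpos⟩ := exists_reflBase b k
  have hkpos : b.IsPos k := Base.isPos_of_mem_support hk
  have hmem : ∀ j ∈ b.support, P.reflectionPerm k j ∈ b₁.support := by
    intro j hj
    have : P.reflectionPerm k j ∈ (b₁.support : Set ι) := by rw [hsupp]; exact ⟨j, hj, rfl⟩
    exact this
  refine ⟨b₁, ?_, ?_, ?_, ?_, ?_⟩
  · intro i hi hik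
    rw [hpos]
    exact hi.reflectionPerm hk hik
  · rw [hpos, P.reflectionPerm_self]
    exact hkpos
  · intro i hi
    rw [hpos] at hi
    by_cases hik : P.reflectionPerm k i = k
    · left
      have := congrArg (P.reflectionPerm k) hik
      rw [P.reflectionPerm_self] at this
      exact this
    · right
      have := hi.reflectionPerm hk hik
      rw [P.reflectionPerm_self] at this
      refine ⟨this, fun h => ?_⟩
      rw [h] at hi
      exact (isPos_neg_iff_not b k).mp hi hkpos
  · intro j hjk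
    have hj₁ := hmem j j.2
    have : RootCh.fundWeight b j = RootCh.fundWeight b₁ ⟨P.reflectionPerm k j, hj₁⟩ := by
      apply fundWeight_unique
      · change P.coroot' (P.reflectionPerm k j) (RootCh.fundWeight b j) = 1
        rw [coroot'_reflectionPerm, RootCh.coroot'_fundWeight_self,
          RootCh.coroot'_fundWeight_of_ne b j ⟨k, hk⟩ (fun h => hjk (by rw [← h])), mul_zero, sub_zero]
      · intro j' hj'
        have hj'mem : (j' : ι) ∈ (b₁.support : Set ι) := j'.2
        rw [hsupp] at hj'mem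
        obtain ⟨j'', hj'', hjj⟩ := hj'mem
        change P.coroot' (j' : ι) (RootCh.fundWeight b j) = 0
        rw [← hjj]
        change P.coroot' (P.reflectionPerm k j'') (RootCh.fundWeight b j) = 0
        rw [coroot'_reflectionPerm,
          RootCh.coroot'_fundWeight_of_ne b j ⟨k, hk⟩ (fun h => hjk (by rw [← h])), mul_zero, sub_zero]
        apply RootCh.coroot'_fundWeight_of_ne b j ⟨j'', hj''⟩
        intro h
        apply hj'
        apply Subtype.ext
        change (j' : ι) = P.reflectionPerm k j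
        rw [← hjj, ← h]
    rw [this]
    exact fundWeight_mem_baseCorners b₁ _
  · intro hcon
    have h1 := hcon.2 _ (hmem k hk)
    rw [coroot'_neg_idx] at h1
    have h2 := RootCh.coroot'_fundWeight_self b ⟨k, hk⟩
    change P.coroot' k (RootCh.fundWeight b ⟨k, hk⟩) = 1 at h2
    rw [h2] at h1
    linarith

theorem wall_step (d : P.Base → N) (hd : RootCh.IsCCS d) (b : P.Base) (k : ι) (hk : k ∈ b.support)
    (b₁ : P.Base)
    (h1 : ∀ i, b.IsPos i → i ≠ k → b₁.IsPos i) (h2 : b₁.IsPos (P.reflectionPerm k k))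
    (h4 : ∀ j : b.support, (j : ι) ≠ k → RootCh.fundWeight b j ∈ RootCh.baseCorners b₁)
    (h5 : RootCh.fundWeight b ⟨k, hk⟩ ∉ RootCh.baseCorners b₁) :
    ∃ t : R, 0 ≤ t ∧ ∀ m : M, P.toLinearMap m (d b₁) = P.toLinearMap m (d b) + t * P.coroot' k m := by
  classical
  have hkpos : b.IsPos k := Base.isPos_of_mem_support hk
  have hset : RootCh.baseCorners b ∩ RootCh.baseCorners b₁
      = RootCh.fundWeight b '' {j : b.support | j ≠ ⟨k, hk⟩} := by
    ext w
    constructor
    · rintro ⟨hw1, hw2⟩
      rw [baseCorners_eq] at hw1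
      obtain ⟨j, rfl⟩ := hw1
      refine ⟨j, ?_, rfl⟩
      intro hj
      rw [hj] at hw2
      exact h5 hw2
    · rintro ⟨j, hj, rfl⟩
      refine ⟨fundWeight_mem_baseCorners b j, h4 j ?_⟩
      intro h
      exact hj (Subtype.ext h)
  have hcard : (RootCh.baseCorners b ∩ RootCh.baseCorners b₁).ncard + 1 = b.support.card := by
    rw [hset, Set.ncard_image_of_injective _ (fundWeight_injective b)]
    have : {j : b.support | j ≠ ⟨k, hk⟩} = Set.univ \ {⟨k, hk⟩} := by
      ext j; simp
    rw [this, Set.ncard_sdiff_singleton_of_mem (Set.mem_univ _), Set.ncard_univ,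
      Nat.card_eq_fintype_card, Fintype.card_coe]
    have : 0 < b.support.card := Finset.card_pos.mpr ⟨k, hk⟩
    omega
  have hiff : ∀ j : ι, (b.IsPos j ∧ ¬ b₁.IsPos j) ↔ j = k := by
    intro j
    constructor
    · rintro ⟨hj1, hj2⟩
      by_contra hne
      exact hj2 (h1 j hj1 hne)
    · rintro rfl
      exact ⟨hkpos, fun h => (isPos_neg_iff_not b₁ j).mp h2 h⟩
  have hwall := hd.wall_le b b₁ k hcard hiff
  have hexp := expand_coroot b (d b₁ - d b)
  have hzero : ∀ j : b.support, j ≠ ⟨k, hk⟩ →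
      P.toLinearMap (RootCh.fundWeight b j) (d b₁ - d b) = 0 := by
    intro j hj
    rw [map_sub, sub_eq_zero]
    exact hd.corner_eq b₁ b _ (h4 j (fun h => hj (Subtype.ext h))) (fundWeight_mem_baseCorners b j)
  rw [Finset.sum_eq_single (⟨k, hk⟩ : b.support)
    (fun j _ hj => by rw [hzero j hj, zero_smul]) (fun h => absurd (Finset.mem_univ _) h)] at hexp
  set t := P.toLinearMap (RootCh.fundWeight b ⟨k, hk⟩) (d b₁ - d b) with ht
  have ht0 : 0 ≤ t := by
    have h2t : P.toLinearMap (P.root k) (d b₁ - d b) = 2 * t := by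
      rw [hexp, map_smul, smul_eq_mul]
      change t * P.toLinearMap (P.root k) (P.coroot k) = 2 * t
      rw [P.root_coroot_two]; ring
    have : 0 ≤ P.toLinearMap (P.root k) (d b₁ - d b) := by
      rw [map_sub, sub_nonneg]
      exact hwall
    linarith
  refine ⟨t, ht0, fun m => ?_⟩
  have : d b₁ = d b + t • P.coroot k := by
    rw [← hexp]; abel
  rw [this, map_add, map_smul, smul_eq_mul]
  rfl

omit [P.IsReduced] [P.IsRootSystem] in
theorem base_eq_of_pos_subset (b b' : P.Base) (h : ∀ i, b.IsPos i → b'.IsPos i) : b = b' := by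
  apply base_ext
  have hΔ := isSimpleSys_of_base b
  have hΔ' := isSimpleSys_of_base b'
  have hsub : RootD.posOf (intForm P) (b.support : Set ι) ⊆ RootD.posOf (intForm P) (b'.support : Set ι) := by
    intro i hi
    rw [mem_posOf_iff_isPos] at hi ⊢
    exact h i hi
  have heq := eq_of_subset_of_P1_P2 hsub (isPosSys_posOf hΔ).cover (isPosSys_posOf hΔ').disjoint
  have := simple_eq_of_posOf_eq hΔ hΔ' heq
  exact Finset.coe_injective this

theorem key_ineq (d : P.Base → N) (hd : RootCh.IsCCS d) :
    ∀ (n : ℕ) (b b' : P.Base), {i | b.IsPos i ∧ ¬ b'.IsPos i}.ncard = n →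
      ∀ m ∈ RootCh.baseCorners b', P.toLinearMap m (d b') ≤ P.toLinearMap m (d b) := by
  intro n
  induction n with
  | zero =>
    intro b b' hn m _
    have hempty : {i | b.IsPos i ∧ ¬ b'.IsPos i} = ∅ := (Set.ncard_eq_zero (Set.toFinite _)).mp hn
    have : b = b' := by
      apply base_eq_of_pos_subset
      intro i hi
      by_contra hni
      have : i ∈ {i | b.IsPos i ∧ ¬ b'.IsPos i} := ⟨hi, hni⟩
      rw [hempty] at this
      exact this
    rw [this]
  | succ n ih =>
    intro b b' hn m hm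
    have hne : {i | b.IsPos i ∧ ¬ b'.IsPos i}.Nonempty := by
      rw [← Set.ncard_pos (Set.toFinite _), hn]; omega
    obtain ⟨i₀, hi₀, hi₀'⟩ := hne
    obtain ⟨k, hk, hkneg⟩ : ∃ k ∈ b.support, ¬ b'.IsPos k := by
      by_contra hcon
      push Not at hcon
      apply hi₀'
      apply isPos_of_mem_closure
      have hle : AddSubmonoid.closure (P.root '' (b.support : Set ι))
          ≤ AddSubmonoid.closure (P.root '' (b'.support : Set ι)) := by
        rw [AddSubmonoid.closure_le]
        rintro _ ⟨k, hk, rfl⟩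
        exact mem_closure_of_isPos b' k (hcon k hk)
      exact hle (mem_closure_of_isPos b i₀ hi₀)
    obtain ⟨b₁, h1, h2, h3, h4, h5⟩ := exists_adjacent b k hk
    have hkpos : b.IsPos k := Base.isPos_of_mem_support hk
    have hnegk : b'.IsPos (P.reflectionPerm k k) := (isPos_neg_iff_not b' k).mpr hkneg
    have hset : {i | b₁.IsPos i ∧ ¬ b'.IsPos i} = {i | b.IsPos i ∧ ¬ b'.IsPos i} \ {k} := by
      ext i
      simp only [Set.mem_ofPred_eq, Set.mem_sdiff, Set.mem_singleton_iff]
      constructor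
      · rintro ⟨hi1, hi2⟩
        rcases h3 i hi1 with h | ⟨h, h'⟩
        · rw [h] at hi2; exact absurd hnegk hi2
        · exact ⟨⟨h, hi2⟩, h'⟩
      · rintro ⟨⟨hi1, hi2⟩, hik⟩
        exact ⟨h1 i hi1 hik, hi2⟩
    have hn₁ : {i | b₁.IsPos i ∧ ¬ b'.IsPos i}.ncard = n := by
      rw [hset, Set.ncard_sdiff_singleton_of_mem (show k ∈ {i | b.IsPos i ∧ ¬ b'.IsPos i} from ⟨hkpos, hkneg⟩),
        hn]
      rfl
    have hih := ih b₁ b' hn₁ m hm
    obtain ⟨t, ht, hstep⟩ := wall_step d hd b k hk b₁ h1 h2 h4 h5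
    have hmk : P.coroot' k m ≤ 0 := by
      have := closedChamber_pos b' m hm.2 _ hnegk
      rw [coroot'_neg_idx] at this
      linarith
    have := hstep m
    have h6 : t * P.coroot' k m ≤ 0 := mul_nonpos_of_nonneg_of_nonpos ht hmk
    linarith

theorem key_ineq' (d : P.Base → N) (hd : RootCh.IsCCS d) (b b' : P.Base) (m : M)
    (hm : m ∈ RootCh.baseCorners b') : P.toLinearMap m (d b') ≤ P.toLinearMap m (d b) :=
  key_ineq d hd _ b b' rfl m hm

end chK

end Groth.Agent.H3RootD
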