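import Mathlib
import Groth.Agent.Lib.helper3.RootChK
set_option autoImplicit false
open RootPairing Set Function Submodule Module

namespace Groth.Agent.H3RootD

section chL
variable {ι : Type*} {R : Type*} {M : Type*} {N : Type*}
  [Field R] [LinearOrder R] [IsStrictOrderedRing R]
  [AddCommGroup M] [Module R M] [AddCommGroup N] [Module R N] [Finite ι]
  {P : RootPairing ι R M N} [P.IsRootSystem] [P.IsCrystallographic] [P.IsReduced]

omit [Finite ι] [P.IsCrystallographic] [P.IsReduced] in
theorem convex_hyper (d : P.Base → N) (m : M) : Convex R (RootCh.hyper d m) := by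
  intro x hx y hy a c ha hc hac b hb
  rw [map_add, map_smul, map_smul, hx b hb, hy b hb, smul_eq_mul, smul_eq_mul, ← add_mul, hac, one_mul]

omit [Finite ι] [P.IsCrystallographic] [P.IsReduced] in
theorem convex_halfClosed (d : P.Base → N) (m : M) : Convex R (RootCh.halfClosed d m) := by
  intro x hx y hy a c ha hc hac b hb
  rw [map_add, map_smul, map_smul, smul_eq_mul, smul_eq_mul]
  have h1 := hx b hb
  have h2 := hy b hb
  calc P.toLinearMap m (d b) = a * P.toLinearMap m (d b) + c * P.toLinearMap m (d b) := by
        rw [← add_mul, hac, one_mul]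
    _ ≤ a * P.toLinearMap m x + c * P.toLinearMap m y :=
        add_le_add (mul_le_mul_of_nonneg_left h1 ha) (mul_le_mul_of_nonneg_left h2 hc)

theorem dualSolid_eq (d : P.Base → N) (hd : RootCh.IsCCS d) (F : RootCh.Facet P) :
    RootCh.dualSolid d F = (⋂ m ∈ F.corners, RootCh.hyper d m) ∩ ⋂ m ∈ F.corners', RootCh.halfClosed d m := by
  apply Set.Subset.antisymm
  · apply convexHull_min
    · rintro _ ⟨b, hb, rfl⟩
      constructor
      · simp only [Set.mem_iInter]
        intro m hm b' hb'
        exact hd.corner_eq b b' m (corners_subset_baseCorners F b hb hm) hb'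
      · simp only [Set.mem_iInter]
        intro m _ b' hb'
        exact key_ineq' d hd b b' m hb'
    · apply Convex.inter
      · exact convex_iInter₂ fun m _ => convex_hyper d m
      · exact convex_iInter₂ fun m _ => convex_halfClosed d m
  · rintro y ⟨hy1, hy2⟩
    exact dualSolid_supset d F y hy1 hy2

end chL

end Groth.Agent.H3RootD

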