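import Mathlib
import Groth.Agent.Lib.helper3.RootChL
set_option autoImplicit false
open RootPairing Set Function Submodule Module

namespace Groth.Agent.H3RootD

section chM
variable {ι : Type*} {R : Type*} {M : Type*} {N : Type*}
  [Field R] [LinearOrder R] [IsStrictOrderedRing R]
  [AddCommGroup M] [Module R M] [AddCommGroup N] [Module R N] [Finite ι]
  {P : RootPairing ι R M N} [P.IsRootSystem] [P.IsCrystallographic] [P.IsReduced]

omit [Finite ι] [P.IsCrystallographic] [P.IsReduced] in
theorem pair_nonpos_of_closedChamber (d : P.Base → N)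
    (h3 : ∀ (b : P.Base), ∀ m ∈ RootCh.baseCorners b, P.toLinearMap m (d b) ≤ 0)
    (b : P.Base) (ξ : M) (hξ : ξ ∈ RootCh.closedChamber b) : P.toLinearMap ξ (d b) ≤ 0 := by
  rw [expand_fundWeight b ξ, map_sum, LinearMap.sum_apply]
  refine Finset.sum_nonpos fun k _ => ?_
  rw [map_smul, LinearMap.smul_apply, smul_eq_mul]
  exact mul_nonpos_of_nonneg_of_nonpos (hξ k k.2) (h3 b _ (fundWeight_mem_baseCorners b k))

theorem semistable_of_corner (d : P.Base → N)
    (h3 : ∀ (b : P.Base), ∀ m ∈ RootCh.baseCorners b, P.toLinearMap m (d b) ≤ 0) :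
    RootCh.IsSemistable d := by
  have := finite_base P
  have h := mem_convexHull_of_forall_exists P (Set.univ : Set P.Base) d 0 (by
    intro ξ
    obtain ⟨b, hb⟩ := exists_base_closedChamber (P := P) ξ
    refine ⟨b, Set.mem_univ _, ?_⟩
    rw [map_zero]
    exact pair_nonpos_of_closedChamber d h3 b ξ hb)
  rw [Set.image_univ] at h
  exact h

theorem corner_of_semistable (d : P.Base → N) (hd : RootCh.IsCCS d) (hs : RootCh.IsSemistable d)
    (b : P.Base) (m : M) (hm : m ∈ RootCh.baseCorners b) : P.toLinearMap m (d b) ≤ 0 := by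
  have hconv : Convex R {y : N | P.toLinearMap m (d b) ≤ P.toLinearMap m y} :=
    convex_halfSpace_ge (P.toLinearMap m).isLinear _
  have hsub : Set.range d ⊆ {y : N | P.toLinearMap m (d b) ≤ P.toLinearMap m y} := by
    rintro _ ⟨b', rfl⟩
    exact key_ineq' d hd b' b m hm
  have := convexHull_min hsub hconv hs
  change P.toLinearMap m (d b) ≤ P.toLinearMap m 0 at this
  rw [map_zero] at this
  exact this

omit [P.IsReduced] in
theorem deg_eq_pair (d : P.Base → N) (F : RootCh.Facet P) (b : P.Base) :
    F.deg d b = P.toLinearMap (∑ i ∈ (Set.toFinite F.parab).toFinset, P.root i) (d b) := by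
  rw [map_sum, LinearMap.sum_apply]
  rfl

/-- The facet of a fundamental weight: its degree is a positive multiple of the pairing. -/
theorem deg_fundWeight_facet (d : P.Base → N) (b : P.Base) (k : b.support) :
    ∃ c : R, 0 < c ∧ (RootCh.Facet.ofVec P (RootCh.fundWeight b k)).deg d b
      = c * P.toLinearMap (RootCh.fundWeight b k) (d b) := by
  set F := RootCh.Facet.ofVec P (RootCh.fundWeight b k) with hF
  have hb : b ∈ F.cham := cham_ofVec b _ (fundWeight_mem_closedChamber b k)
  have hξ : RootCh.fundWeight b k ∈ F.carrier := rfl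
  have hρ := sum_parab_mem_carrier F
  rw [mem_carrier_iff F b hb _ hξ] at hρ
  set ρ := ∑ i ∈ (Set.toFinite F.parab).toFinset, P.root i with hρdef
  have hk : 0 < P.coroot' k ρ := by
    rw [hρ.2 k k.2, RootCh.coroot'_fundWeight_self]
    exact zero_lt_one
  have hother : ∀ j : b.support, j ≠ k → P.coroot' j ρ = 0 := by
    intro j hj
    by_contra hne
    have hpos : 0 < P.coroot' j ρ := lt_of_le_of_ne (hρ.1 j j.2) (Ne.symm hne)
    rw [hρ.2 j j.2, RootCh.coroot'_fundWeight_of_ne b k j hj] at hpos
    exact lt_irrefl _ hpos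
  have hρeq : ρ = P.coroot' k ρ • RootCh.fundWeight b k := by
    conv_lhs => rw [expand_fundWeight b ρ]
    rw [Finset.sum_eq_single k (fun j _ hj => by rw [hother j hj, zero_smul])
      (fun h => absurd (Finset.mem_univ _) h)]
  refine ⟨P.coroot' k ρ, hk, ?_⟩
  rw [deg_eq_pair]
  change P.toLinearMap ρ (d b) = _
  conv_lhs => rw [hρeq]
  rw [map_smul, LinearMap.smul_apply, smul_eq_mul]

theorem dim_fundWeight_facet (b : P.Base) (k : b.support) :
    (RootCh.Facet.ofVec P (RootCh.fundWeight b k)).dim = 1 := by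
  set F := RootCh.Facet.ofVec P (RootCh.fundWeight b k) with hF
  have hb : b ∈ F.cham := cham_ofVec b _ (fundWeight_mem_closedChamber b k)
  have hξ : RootCh.fundWeight b k ∈ F.carrier := rfl
  have hcor : F.corners = {RootCh.fundWeight b k} := by
    rw [corners_eq F b hb _ hξ]
    ext w
    simp only [Set.mem_ofPred_eq, Set.mem_singleton_iff]
    constructor
    · rintro ⟨j, hj, rfl⟩
      by_cases hjk : j = k
      · rw [hjk]
      · rw [RootCh.coroot'_fundWeight_of_ne b k j hjk] at hj
        exact absurd hj (lt_irrefl _)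
    · rintro rfl
      exact ⟨k, by rw [RootCh.coroot'_fundWeight_self]; exact zero_lt_one, rfl⟩
  unfold RootCh.Facet.dim
  rw [span_carrier_eq, hcor]
  apply finrank_span_singleton
  intro h0
  have := RootCh.coroot'_fundWeight_self b k
  rw [h0, map_zero] at this
  exact zero_ne_one this

theorem deg_nonpos_of_semistable (d : P.Base → N) (hd : RootCh.IsCCS d) (hs : RootCh.IsSemistable d)
    (F : RootCh.Facet P) (b : P.Base) (hb : b ∈ F.cham) : F.deg d b ≤ 0 := by
  rw [deg_eq_pair]
  exact pair_nonpos_of_closedChamber d (fun b m hm => corner_of_semistable d hd hs b m hm) b _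
    (hb (sum_parab_mem_carrier F))

theorem semistable_of_deg_dim_one (d : P.Base → N)
    (h : ∀ (F : RootCh.Facet P) (b : P.Base), F.dim = 1 → b ∈ F.cham → F.deg d b ≤ 0) :
    RootCh.IsSemistable d := by
  apply semistable_of_corner
  intro b m hm
  rw [baseCorners_eq] at hm
  obtain ⟨k, rfl⟩ := hm
  obtain ⟨c, hc, hdeg⟩ := deg_fundWeight_facet d b k
  have := h _ b (dim_fundWeight_facet b k) (cham_ofVec b _ (fundWeight_mem_closedChamber b k))
  rw [hdeg] at this
  by_contra hpos
  push Not at hpos
  have := mul_pos hc hpos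
  linarith

end chM

end Groth.Agent.H3RootD

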