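import Mathlib
import Groth.Agent.Lib.helper3.RootChM
set_option autoImplicit false
open RootPairing Set Function Submodule Module

namespace Groth.Agent.H3RootD

section chN
variable {ι : Type*} {R : Type*} {M : Type*} {N : Type*}
  [Field R] [LinearOrder R] [IsStrictOrderedRing R]
  [AddCommGroup M] [Module R M] [AddCommGroup N] [Module R N] [Finite ι]
  {P : RootPairing ι R M N} [P.IsRootSystem] [P.IsCrystallographic] [P.IsReduced]

/-- The vector of `M` representing the functional `B y`. -/
noncomputable def formVec (P : RootPairing ι R M N) [P.IsRootSystem]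
    (B : LinearMap.BilinForm R N) : N →ₗ[R] M :=
  (P.toPerfPair.symm : Dual R N →ₗ[R] M) ∘ₗ B

omit [LinearOrder R] [IsStrictOrderedRing R] [Finite ι] [P.IsCrystallographic] [P.IsReduced] in
theorem pair_formVec (B : LinearMap.BilinForm R N) (y z : N) :
    P.toLinearMap (formVec P B y) z = B y z := by
  have := P.toLinearMap.apply_symm_toPerfPair_self (B y)
  exact LinearMap.congr_fun this z

omit [LinearOrder R] [IsStrictOrderedRing R] [Finite ι] [P.IsCrystallographic] [P.IsReduced]
  [P.IsRootSystem] in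
theorem two_mul_form_coroot (B : LinearMap.BilinForm R N)
    (hBi : ∀ (i : ι) (y z : N), B (P.coreflection i y) (P.coreflection i z) = B y z)
    (i : ι) (y : N) :
    2 * B y (P.coroot i) = P.root' i y * B (P.coroot i) (P.coroot i) := by
  have h := hBi i y (P.coroot i)
  rw [P.coreflection_apply_self, P.coreflection_apply] at h
  simp only [map_sub, map_smul, map_neg, LinearMap.sub_apply, LinearMap.smul_apply,
    smul_eq_mul] at h
  linear_combination (-1 : R) * h

omit [Finite ι] [P.IsCrystallographic] [P.IsReduced] in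
theorem sgnVec_formVec (B : LinearMap.BilinForm R N)
    (hBp : ∀ y : N, y ≠ 0 → 0 < B y y)
    (hBi : ∀ (i : ι) (y z : N), B (P.coreflection i y) (P.coreflection i z) = B y z) (y : N) :
    RootCh.sgnVec P (formVec P B y) = RootCh.cosgnVec P y := by
  funext i
  have h1 : P.coroot' i (formVec P B y) = B y (P.coroot i) := pair_formVec B y (P.coroot i)
  have h2 := two_mul_form_coroot B hBi i y
  have hc : 0 < B (P.coroot i) (P.coroot i) := hBp _ (P.flip.ne_zero i)
  have h3 : B y (P.coroot i) = P.root' i y * (B (P.coroot i) (P.coroot i) / 2) := by linarith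
  unfold RootCh.sgnVec RootCh.cosgnVec
  rw [h1, h3, sign_mul, sign_pos (half_pos hc), mul_one]

theorem pair_ge_of_mem_solid (d : P.Base → N) (hd : RootCh.IsCCS d) (b : P.Base) (ξ : M)
    (hξ : ξ ∈ RootCh.closedChamber b) (y : N) (hy : y ∈ RootCh.solid d) :
    P.toLinearMap ξ (d b) ≤ P.toLinearMap ξ y := by
  have hconv : Convex R {y : N | P.toLinearMap ξ (d b) ≤ P.toLinearMap ξ y} :=
    convex_halfSpace_ge (P.toLinearMap ξ).isLinear _
  have hsub : Set.range d ⊆ {y : N | P.toLinearMap ξ (d b) ≤ P.toLinearMap ξ y} := by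
    rintro _ ⟨b', rfl⟩
    change P.toLinearMap ξ (d b) ≤ P.toLinearMap ξ (d b')
    rw [expand_fundWeight b ξ]
    simp only [map_sum, LinearMap.sum_apply, map_smul, LinearMap.smul_apply, smul_eq_mul]
    refine Finset.sum_le_sum fun k _ => ?_
    exact mul_le_mul_of_nonneg_left
      (key_ineq' d hd b' b _ (fundWeight_mem_baseCorners b k)) (hξ k k.2)
  exact convexHull_min hsub hconv hy

omit [Finite ι] [P.IsCrystallographic] [P.IsReduced] in
theorem dualSolid_subset_solid (d : P.Base → N) (F : RootCh.Facet P) :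
    RootCh.dualSolid d F ⊆ RootCh.solid d :=
  convexHull_mono (Set.image_subset_range _ _)

theorem mem_hyper_of_mem_dualSolid (d : P.Base → N) (hd : RootCh.IsCCS d) (F : RootCh.Facet P)
    (y : N) (hy : y ∈ RootCh.dualSolid d F) (m : M) (hm : m ∈ F.corners) :
    y ∈ RootCh.hyper d m := by
  rw [dualSolid_eq d hd F] at hy
  exact Set.mem_iInter₂.1 hy.1 m hm

theorem pair_eq_of_mem_hyper (d : P.Base → N) (F : RootCh.Facet P) (b : P.Base) (hb : b ∈ F.cham)
    (y : N) (hy : ∀ m ∈ F.corners, y ∈ RootCh.hyper d m) (x : M)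
    (hx : x ∈ Submodule.span R F.corners) :
    P.toLinearMap x y = P.toLinearMap x (d b) := by
  refine Submodule.span_induction ?_ ?_ ?_ ?_ hx
  · intro m hm
    exact hy m hm b (corners_subset_baseCorners F b hb hm)
  · simp
  · intro u v _ _ hu hv
    simp only [map_add, LinearMap.add_apply, hu, hv]
  · intro a u _ hu
    simp only [map_smul, LinearMap.smul_apply, hu]

theorem formVec_mem_carrier (B : LinearMap.BilinForm R N)
    (hBp : ∀ y : N, y ≠ 0 → 0 < B y y)
    (hBi : ∀ (i : ι) (y z : N), B (P.coreflection i y) (P.coreflection i z) = B y z)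
    (F : RootCh.Facet P) (y : N) (hy : y ∈ F.dualCarrier) : formVec P B y ∈ F.carrier := by
  change RootCh.sgnVec P (formVec P B y) = F.sgn
  rw [sgnVec_formVec B hBp hBi y]
  exact hy

theorem formVec_mem_span (B : LinearMap.BilinForm R N)
    (hBp : ∀ y : N, y ≠ 0 → 0 < B y y)
    (hBi : ∀ (i : ι) (y z : N), B (P.coreflection i y) (P.coreflection i z) = B y z)
    (F : RootCh.Facet P) (y : N) (hy : y ∈ Submodule.span R F.dualCarrier) :
    formVec P B y ∈ Submodule.span R F.corners := by
  rw [← span_carrier_eq F]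
  have : Submodule.span R F.dualCarrier ≤ (Submodule.span R F.carrier).comap (formVec P B) := by
    rw [Submodule.span_le]
    intro z hz
    exact Submodule.subset_span (formVec_mem_carrier B hBp hBi F z hz)
  exact this hy

theorem yLocus_subsingleton (B : LinearMap.BilinForm R N)
    (hBp : ∀ y : N, y ≠ 0 → 0 < B y y)
    (hBi : ∀ (i : ι) (y z : N), B (P.coreflection i y) (P.coreflection i z) = B y z)
    (d : P.Base → N) (F : RootCh.Facet P) (y y' : N) (hy : y ∈ RootCh.yLocus d F)
    (hy' : y' ∈ RootCh.yLocus d F) : y = y' := by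
  obtain ⟨b, hb⟩ := facet_exists_cham F
  have h1 : formVec P B (y - y') ∈ Submodule.span R F.corners :=
    formVec_mem_span B hBp hBi F _ (Submodule.sub_mem _ hy.2 hy'.2)
  have e1 := pair_eq_of_mem_hyper d F b hb y (fun m hm => Set.mem_iInter₂.1 hy.1 m hm) _ h1
  have e2 := pair_eq_of_mem_hyper d F b hb y' (fun m hm => Set.mem_iInter₂.1 hy'.1 m hm) _ h1
  have h2 : B (y - y') (y - y') = 0 := by
    rw [← pair_formVec (P := P) B, map_sub, e1, e2, sub_self]
  by_contra hne
  exact (hBp _ (sub_ne_zero.2 hne)).ne' h2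

theorem mem_yLocus_of_special (d : P.Base → N) (hd : RootCh.IsCCS d) (F : RootCh.Facet P) (y : N)
    (hy : y ∈ F.dualCarrier ∩ RootCh.dualSolid d F) : y ∈ RootCh.yLocus d F :=
  ⟨Set.mem_iInter₂.2 fun m hm => mem_hyper_of_mem_dualSolid d hd F y hy.2 m hm,
    Submodule.subset_span hy.1⟩

theorem exists_coform : ∃ B : LinearMap.BilinForm R N, (∀ y z : N, B y z = B z y) ∧
    (∀ y : N, y ≠ 0 → 0 < B y y) ∧
    (∀ (i : ι) (y z : N), B (P.coreflection i y) (P.coreflection i z) = B y z) := by
  have : Fintype ι := Fintype.ofFinite ι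
  refine ⟨P.flip.RootForm, fun y z => ?_, fun y hy => ?_, fun i y z => ?_⟩
  · exact (P.flip.rootForm_symmetric).eq y z
  · refine P.flip.rootForm_pos_of_ne_zero ?_ hy
    have : P.flip.rootSpan R = ⊤ := IsRootSystem.span_root_eq_top (P := P.flip)
    rw [this]
    trivial
  · exact P.flip.rootForm_reflection_reflection_apply i y z

/-- If `y₁` is a point of the dual facet lying in the dual solid, `B y₁` is minimal at `y₁`
on the solid. -/
theorem form_ge_of_special (B : LinearMap.BilinForm R N)
    (hBp : ∀ y : N, y ≠ 0 → 0 < B y y)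
    (hBi : ∀ (i : ι) (y z : N), B (P.coreflection i y) (P.coreflection i z) = B y z)
    (d : P.Base → N) (hd : RootCh.IsCCS d) (F : RootCh.Facet P) (y₁ : N)
    (hy₁ : y₁ ∈ F.dualCarrier ∩ RootCh.dualSolid d F) (y : N) (hy : y ∈ RootCh.solid d) :
    B y₁ y₁ ≤ B y₁ y := by
  obtain ⟨b, hb⟩ := facet_exists_cham F
  have hc : formVec P B y₁ ∈ F.carrier := formVec_mem_carrier B hBp hBi F y₁ hy₁.1
  have h1 := pair_ge_of_mem_solid d hd b _ (hb hc) y hy
  have h2 := pair_eq_of_mem_hyper d F b hb y₁
    (fun m hm => mem_hyper_of_mem_dualSolid d hd F y₁ hy₁.2 m hm) _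
    (span_carrier_eq F ▸ Submodule.subset_span hc)
  rw [← pair_formVec (P := P) B y₁ y₁, ← pair_formVec (P := P) B y₁ y, h2]
  exact h1

omit [Finite ι] [AddCommGroup M] [Module R M] in
/-- strict minimality from the variational inequality -/
theorem form_lt_of_var (B : LinearMap.BilinForm R N) (hBs : ∀ y z : N, B y z = B z y)
    (hBp : ∀ y : N, y ≠ 0 → 0 < B y y) (y₁ y : N) (h : B y₁ y₁ ≤ B y₁ y) (hne : y ≠ y₁) :
    B y₁ y₁ < B y y := by
  have h1 : 0 < B (y - y₁) (y - y₁) := hBp _ (sub_ne_zero.2 hne)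
  simp only [map_sub, LinearMap.sub_apply] at h1
  have := hBs y y₁
  linarith

omit [Finite ι] [AddCommGroup M] [Module R M] in
/-- the variational inequality at a minimiser over a convex set -/
theorem var_of_min (B : LinearMap.BilinForm R N) (hBs : ∀ y z : N, B y z = B z y)
    (hBp : ∀ y : N, y ≠ 0 → 0 < B y y) (C : Set N) (hC : Convex R C) (y₀ : N) (hy₀ : y₀ ∈ C)
    (hmin : ∀ y ∈ C, B y₀ y₀ ≤ B y y) (y : N) (hy : y ∈ C) : B y₀ y₀ ≤ B y₀ y := by
  by_contra hlt
  rw [not_le] at hlt
  have hne : y - y₀ ≠ 0 := by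
    intro h0
    rw [sub_eq_zero] at h0
    rw [h0] at hlt
    exact lt_irrefl _ hlt
  set v := y - y₀ with hv
  have hq : 0 < B v v := hBp v hne
  have hbv : B y₀ v < 0 := by
    rw [hv, map_sub]
    linarith
  set t : R := min 1 (-(B y₀ v) / B v v) with ht
  have ht0 : 0 < t := lt_min one_pos (div_pos (neg_pos.2 hbv) hq)
  have ht1 : t ≤ 1 := min_le_left _ _
  have ht2 : t * B v v ≤ -(B y₀ v) := by
    have : t ≤ -(B y₀ v) / B v v := min_le_right _ _
    calc t * B v v ≤ (-(B y₀ v) / B v v) * B v v := mul_le_mul_of_nonneg_right this hq.le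
      _ = -(B y₀ v) := div_mul_cancel₀ _ hq.ne'
  have hmem : y₀ + t • v ∈ C := by
    have := hC hy₀ hy (sub_nonneg.2 ht1) ht0.le (by ring)
    convert this using 1
    rw [hv]
    module
  have h2 := hmin _ hmem
  simp only [map_add, map_smul, LinearMap.add_apply, LinearMap.smul_apply, smul_eq_mul] at h2
  have h3 := hBs v y₀
  have : t * (2 * B y₀ v + t * B v v) < 0 := by
    apply mul_neg_of_pos_of_neg ht0
    linarith
  nlinarith

/-- A point of the solid of minimal norm lies in the dual solid of the facet whose dual facet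
contains it. -/
theorem mem_dualSolid_of_min (B : LinearMap.BilinForm R N) (hBs : ∀ y z : N, B y z = B z y)
    (hBp : ∀ y : N, y ≠ 0 → 0 < B y y)
    (hBi : ∀ (i : ι) (y z : N), B (P.coreflection i y) (P.coreflection i z) = B y z)
    (d : P.Base → N) (hd : RootCh.IsCCS d) (y₀ : N) (hy₀ : y₀ ∈ RootCh.solid d)
    (hmin : ∀ y ∈ RootCh.solid d, B y₀ y₀ ≤ B y y) (F : RootCh.Facet P)
    (hF : y₀ ∈ F.dualCarrier) : y₀ ∈ RootCh.dualSolid d F := by
  classical
  have hvar := var_of_min B hBs hBp (RootCh.solid d) (convex_convexHull R _) y₀ hy₀ hmin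
  obtain ⟨b, hb⟩ := facet_exists_cham F
  have hc : formVec P B y₀ ∈ F.carrier := formVec_mem_carrier B hBp hBi F y₀ hF
  have hc' := hc
  rw [carrier_eq_posCombo F] at hc'
  obtain ⟨c, hcs, hcpos, hcsum⟩ := hc'
  have hdb : d b ∈ RootCh.solid d := subset_convexHull R _ (Set.mem_range_self b)
  have hge : ∀ m ∈ F.corners, P.toLinearMap m (d b) ≤ P.toLinearMap m y₀ := fun m hm =>
    pair_ge_of_mem_solid d hd b m (corners_subset_baseCorners F b hb hm).2 y₀ hy₀
  have hexp : ∀ y : N, P.toLinearMap (formVec P B y₀) y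
      = ∑ m ∈ c.support, c m * P.toLinearMap m y := by
    intro y
    rw [← hcsum, Finsupp.sum, map_sum, LinearMap.sum_apply]
    refine Finset.sum_congr rfl fun m _ => ?_
    rw [map_smul, LinearMap.smul_apply, smul_eq_mul]
  have h1 : P.toLinearMap (formVec P B y₀) y₀ ≤ P.toLinearMap (formVec P B y₀) (d b) := by
    rw [pair_formVec, pair_formVec]
    exact hvar _ hdb
  rw [hexp, hexp] at h1
  have h2 : ∑ m ∈ c.support, c m * (P.toLinearMap m y₀ - P.toLinearMap m (d b)) = 0 := by
    apply le_antisymm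
    · simp only [mul_sub, Finset.sum_sub_distrib]
      linarith
    · refine Finset.sum_nonneg fun m hm => ?_
      have hmc : m ∈ F.corners := hcs hm
      exact mul_nonneg (hcpos m hmc).le (sub_nonneg.2 (hge m hmc))
  have h3 := (Finset.sum_eq_zero_iff_of_nonneg (fun m hm => by
      have hmc : m ∈ F.corners := hcs hm
      exact mul_nonneg (hcpos m hmc).le (sub_nonneg.2 (hge m hmc)))).1 h2
  have heq : ∀ m ∈ F.corners, P.toLinearMap m y₀ = P.toLinearMap m (d b) := by
    intro m hm
    have hpos := hcpos m hm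
    have hms : m ∈ c.support := Finsupp.mem_support_iff.2 hpos.ne'
    have := h3 m hms
    rcases mul_eq_zero.1 this with h | h
    · exact absurd h hpos.ne'
    · exact sub_eq_zero.1 h
  refine dualSolid_supset d F y₀ ?_ ?_
  · refine Set.mem_iInter₂.2 fun m hm b' hb' => ?_
    rw [heq m hm]
    exact hd.corner_eq b b' m (corners_subset_baseCorners F b hb hm) hb'
  · refine Set.mem_iInter₂.2 fun m _ b' hb' => ?_
    exact pair_ge_of_mem_solid d hd b' m hb'.2 y₀ hy₀

end chN

end Groth.Agent.H3RootD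

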