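import Mathlib
import Groth.Agent.Lib.helper3.RootChN
set_option autoImplicit false
open RootPairing Set Function Submodule Module

namespace Groth.Agent.H3RootD

section chO
variable {ι : Type*} {R : Type*} {M : Type*} {N : Type*}
  [Field R] [LinearOrder R] [IsStrictOrderedRing R]
  [AddCommGroup M] [Module R M] [AddCommGroup N] [Module R N] [Finite ι]
  {P : RootPairing ι R M N} [P.IsRootSystem] [P.IsCrystallographic] [P.IsReduced]

omit [Finite ι] [AddCommGroup M] [Module R M] [AddCommGroup N] [Module R N] [Field R] in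
theorem sum_le_sum_of_sign {R : Type*} [CommRing R] [LinearOrder R] [IsStrictOrderedRing R]
    [DecidableEq ι] (S T : Finset ι) (r : ι → R)
    (hT : ∀ i, i ∈ T ↔ 0 ≤ r i) :
    ∑ i ∈ S, r i ≤ ∑ i ∈ T, r i ∧ (∑ i ∈ S, r i = ∑ i ∈ T, r i → S ⊆ T) := by
  have h1 := Finset.sum_inter_add_sum_sdiff S T r
  have h2 := Finset.sum_inter_add_sum_sdiff T S r
  rw [Finset.inter_comm] at h2
  have h3 : ∑ i ∈ S \ T, r i ≤ 0 := Finset.sum_nonpos fun i hi => by
    have : i ∉ T := (Finset.mem_sdiff.1 hi).2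
    rw [hT] at this
    exact (not_le.1 this).le
  have h4 : 0 ≤ ∑ i ∈ T \ S, r i := Finset.sum_nonneg fun i hi =>
    (hT i).1 (Finset.mem_sdiff.1 hi).1
  refine ⟨by linarith, fun heq => ?_⟩
  have h5 : ∑ i ∈ S \ T, r i = 0 := by linarith
  intro i hi
  by_contra hiT
  have hneg : ∑ i ∈ S \ T, r i < 0 := by
    refine Finset.sum_neg' (fun j hj => ?_) ⟨i, Finset.mem_sdiff.2 ⟨hi, hiT⟩, ?_⟩
    · have : j ∉ T := (Finset.mem_sdiff.1 hj).2
      rw [hT] at this
      exact (not_le.1 this).le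
    · rw [hT] at hiT
      exact not_le.1 hiT
  exact hneg.ne h5

theorem deg_le_pair (d : P.Base → N) (hd : RootCh.IsCCS d) (G : RootCh.Facet P) (c : P.Base)
    (hc : c ∈ G.cham) (y : N) (hy : y ∈ RootCh.solid d) :
    G.deg d c ≤ ∑ i ∈ (Set.toFinite G.parab).toFinset, P.root' i y := by
  have h := pair_ge_of_mem_solid d hd c _ (hc (sum_parab_mem_carrier G)) y hy
  rw [← deg_eq_pair, map_sum, LinearMap.sum_apply] at h
  exact h

theorem deg_eq_of_special (d : P.Base → N) (hd : RootCh.IsCCS d) (F : RootCh.Facet P) (b : P.Base)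
    (hb : b ∈ F.cham) (y : N) (hy : y ∈ RootCh.dualSolid d F) :
    F.deg d b = ∑ i ∈ (Set.toFinite F.parab).toFinset, P.root' i y := by
  have h := pair_eq_of_mem_hyper d F b hb y
    (fun m hm => mem_hyper_of_mem_dualSolid d hd F y hy m hm) _
    (span_carrier_eq F ▸ Submodule.subset_span (sum_parab_mem_carrier F))
  rw [← deg_eq_pair, map_sum, LinearMap.sum_apply] at h
  exact h.symm

theorem deg_max_of_special (d : P.Base → N) (hd : RootCh.IsCCS d) (F : RootCh.Facet P) (b : P.Base)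
    (hb : b ∈ F.cham) (y : N) (hy : y ∈ F.dualCarrier ∩ RootCh.dualSolid d F)
    (G : RootCh.Facet P) (c : P.Base) (hc : c ∈ G.cham) :
    G.deg d c ≤ F.deg d b ∧ (G.deg d c = F.deg d b → G ≤ F) := by
  classical
  have h1 := deg_le_pair d hd G c hc y (dualSolid_subset_solid d F hy.2)
  have h2 := deg_eq_of_special d hd F b hb y hy.2
  have hT : ∀ i, i ∈ (Set.toFinite F.parab).toFinset ↔ 0 ≤ P.root' i y := by
    intro i
    rw [Set.Finite.mem_toFinset]
    have : RootCh.cosgnVec P y i = F.sgn i := congrFun hy.1 i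
    change F.sgn i ≠ -1 ↔ _
    rw [← this]
    unfold RootCh.cosgnVec
    rw [Ne, sign_eq_neg_one_iff, not_lt]
  obtain ⟨h3, h4⟩ := sum_le_sum_of_sign (Set.toFinite G.parab).toFinset
    (Set.toFinite F.parab).toFinset (fun i => P.root' i y) hT
  refine ⟨by rw [h2]; exact h1.trans h3, fun heq => ?_⟩
  rw [facet_le_iff_parab]
  have h5 : ∑ i ∈ (Set.toFinite G.parab).toFinset, P.root' i y
      = ∑ i ∈ (Set.toFinite F.parab).toFinset, P.root' i y := by
    apply le_antisymm h3
    rw [← h2, ← heq]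
    exact h1
  have := h4 h5
  intro i hi
  have := this ((Set.Finite.mem_toFinset _).2 hi)
  exact (Set.Finite.mem_toFinset _).1 this

omit [P.IsCrystallographic] [P.IsReduced] [Finite ι] [LinearOrder R] [IsStrictOrderedRing R] in
theorem expand_root (b : P.Base) (x : M) (y : N) :
    P.toLinearMap x y = ∑ j : b.support,
      P.toLinearMap x (RootCh.fundCoweight b j) * P.toLinearMap (P.root j) y := by
  have hexp := expand_coroot (P := P.flip) b.flip x
  conv_lhs => rw [hexp]
  rw [map_sum, LinearMap.sum_apply]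
  refine Finset.sum_congr rfl fun j _ => ?_
  rw [map_smul, LinearMap.smul_apply, smul_eq_mul]
  rfl

theorem root'_eq_of_mem_psi (F : RootCh.Facet P) (b : P.Base) (hb : b ∈ F.cham) (ξ : M)
    (hξ : ξ ∈ F.carrier) (k : b.support) (i : ι) (hi : i ∈ F.Psi (RootCh.fundWeight b k)) (y : N)
    (hy0 : ∀ j ∈ b.support, P.coroot' j ξ = 0 → P.root' j y = 0) :
    P.root' i y = P.root' k y := by
  rw [mem_psi_iff F b hb ξ hξ] at hi
  change P.toLinearMap (P.root i) y = _
  rw [expand_root b (P.root i) y, Finset.sum_eq_single k]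
  · rw [hi.1, one_mul]
  · intro l _ hl
    by_cases hl0 : 0 < P.coroot' l ξ
    · rw [hi.2 l hl0 hl, zero_mul]
    · have : P.coroot' l ξ = 0 := le_antisymm (not_lt.1 hl0) (hb hξ l l.2)
      have := hy0 l l.2 this
      change P.toLinearMap (P.root l) y = 0 at this
      rw [this, mul_zero]
  · intro h; exact absurd (Finset.mem_univ k) h

theorem numInv_eq (d : P.Base → N) (F : RootCh.Facet P) (b : P.Base) (hb : b ∈ F.cham) (ξ : M)
    (hξ : ξ ∈ F.carrier) (k : b.support) (hk : 0 < P.coroot' k ξ) (y : N)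
    (hy : ∀ m ∈ F.corners, y ∈ RootCh.hyper d m)
    (hy0 : ∀ j ∈ b.support, P.coroot' j ξ = 0 → P.root' j y = 0) :
    ∃ n : ℕ, 0 < n ∧ F.numInv d (RootCh.fundWeight b k) b = (n : R) * P.root' k y := by
  have hm : RootCh.fundWeight b k ∈ F.corners := by
    rw [corners_eq F b hb ξ hξ]; exact ⟨k, hk, rfl⟩
  set T := (Set.toFinite (F.Psi (RootCh.fundWeight b k))).toFinset with hT
  have hTmem : ∀ i, i ∈ T ↔ i ∈ F.Psi (RootCh.fundWeight b k) := fun i => by
    rw [hT, Set.Finite.mem_toFinset]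
  refine ⟨T.card, ?_, ?_⟩
  · apply Finset.card_pos.2
    refine ⟨k, (hTmem k).2 ?_⟩
    rw [mem_psi_iff F b hb ξ hξ]
    exact ⟨pair_fundCoweight_self b k, fun k' _ hne => pair_fundCoweight_ne b k' k hne.symm⟩
  · have h1 := pair_eq_of_mem_hyper d F b hb y hy _ (sum_psi_mem_span F _ hm)
    simp only [map_sum, LinearMap.sum_apply] at h1
    change _ = F.numInv d (RootCh.fundWeight b k) b at h1
    rw [← h1, ← nsmul_eq_mul, ← Finset.sum_const]
    refine Finset.sum_congr rfl fun i hi => ?_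
    exact root'_eq_of_mem_psi F b hb ξ hξ k i ((hTmem i).1 hi) y hy0

omit [Finite ι] [P.IsCrystallographic] [P.IsReduced] [P.IsRootSystem] [IsStrictOrderedRing R] in
theorem root'_eq_zero_of_mem_span (F : RootCh.Facet P) (y : N)
    (hy : y ∈ Submodule.span R F.dualCarrier) (j : ι) (hj : F.sgn j = 0) : P.root' j y = 0 := by
  refine Submodule.span_induction ?_ ?_ ?_ ?_ hy
  · intro z hz
    have : RootCh.cosgnVec P z j = F.sgn j := congrFun hz j
    rw [hj] at this
    exact sign_eq_zero_iff.1 this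
  · simp
  · intro u v _ _ hu hv
    rw [map_add, hu, hv, add_zero]
  · intro a u _ hu
    rw [map_smul, hu, smul_zero]

theorem special_iff (d : P.Base → N) (hd : RootCh.IsCCS d) (F : RootCh.Facet P) :
    ((∀ m ∈ F.corners, ∀ b ∈ F.cham, 0 < F.numInv d m b) ∧
        (RootCh.dualSolid d F ∩ (Submodule.span R F.dualCarrier : Set N)).Nonempty) ↔
      RootCh.IsSpecial d F := by
  obtain ⟨ξ, hξ0⟩ := F.exists_sgnVec_eq
  have hξ : ξ ∈ F.carrier := hξ0
  constructor
  · rintro ⟨h1, y, hy1, hy2⟩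
    refine ⟨y, ?_, hy1⟩
    obtain ⟨b, hb⟩ := facet_exists_cham F
    have hyh : ∀ m ∈ F.corners, y ∈ RootCh.hyper d m := fun m hm =>
      mem_hyper_of_mem_dualSolid d hd F y hy1 m hm
    have hy0 : ∀ j ∈ b.support, P.coroot' j ξ = 0 → P.root' j y = 0 := by
      intro j _ hj
      refine root'_eq_zero_of_mem_span F y hy2 j ?_
      rw [← hξ0]
      exact sign_eq_zero_iff.2 hj
    change RootCh.cosgnVec P y = F.sgn
    rw [← hξ0]
    have hpat : ∀ k ∈ b.support, 0 < P.root' k y ↔ 0 < P.coroot' k ξ := by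
      intro k hk
      constructor
      · intro hpos
        by_contra hn
        have : P.coroot' k ξ = 0 := le_antisymm (not_lt.1 hn) (hb hξ k hk)
        rw [hy0 k hk this] at hpos
        exact lt_irrefl _ hpos
      · intro hpos
        obtain ⟨n, hn, hnum⟩ := numInv_eq d F b hb ξ hξ ⟨k, hk⟩ hpos y hyh hy0
        have hm : RootCh.fundWeight b ⟨k, hk⟩ ∈ F.corners := by
          rw [corners_eq F b hb ξ hξ]; exact ⟨⟨k, hk⟩, hpos, rfl⟩
        have := h1 _ hm b hb
        rw [hnum] at this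
        exact (mul_pos_iff_of_pos_left (Nat.cast_pos.2 hn)).1 this
    refine cosgnVec_eq_of_pattern b ξ (hb hξ) y ?_ hpat
    intro k hk
    by_cases hpos : 0 < P.coroot' k ξ
    · exact ((hpat k hk).2 hpos).le
    · have : P.coroot' k ξ = 0 := le_antisymm (not_lt.1 hpos) (hb hξ k hk)
      exact (hy0 k hk this).ge
  · rintro ⟨y, hy1, hy2⟩
    refine ⟨fun m hm b hb => ?_, y, hy2, Submodule.subset_span hy1⟩
    have hyh : ∀ m ∈ F.corners, y ∈ RootCh.hyper d m := fun m hm =>
      mem_hyper_of_mem_dualSolid d hd F y hy2 m hm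
    have hsg : ∀ j, SignType.sign (P.root' j y) = SignType.sign (P.coroot' j ξ) := by
      intro j
      have h1 : RootCh.cosgnVec P y j = F.sgn j := congrFun hy1 j
      have h2 : RootCh.sgnVec P ξ j = F.sgn j := congrFun hξ0 j
      exact h1.trans h2.symm
    have hy0 : ∀ j ∈ b.support, P.coroot' j ξ = 0 → P.root' j y = 0 := by
      intro j _ hj
      have := hsg j
      rw [hj, sign_zero] at this
      exact sign_eq_zero_iff.1 this
    have hm2 := hm
    rw [corners_eq F b hb ξ hξ] at hm2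
    obtain ⟨k, hk, rfl⟩ := hm2
    obtain ⟨n, hn, hnum⟩ := numInv_eq d F b hb ξ hξ k hk y hyh hy0
    rw [hnum]
    refine mul_pos (Nat.cast_pos.2 hn) ?_
    exact (pos_iff_of_sign_eq (hsg k)).2 hk

end chO

end Groth.Agent.H3RootD

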