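import Mathlib
import Groth.Agent.Lib.helper3.RootChO
import Groth.Agent.Lib.helper3.ClosestPt
set_option autoImplicit false
open RootPairing Set Function Submodule Module

namespace Groth.Agent.H3RootD

section chP
variable {ι : Type*} {R : Type*} {M : Type*} {N : Type*}
  [Field R] [LinearOrder R] [IsStrictOrderedRing R]
  [AddCommGroup M] [Module R M] [AddCommGroup N] [Module R N] [Finite ι]
  {P : RootPairing ι R M N} [P.IsRootSystem] [P.IsCrystallographic] [P.IsReduced]

theorem exists_special (d : P.Base → N) (hd : RootCh.IsCCS d) :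
    ∃ F : RootCh.Facet P, RootCh.IsSpecial d F := by
  obtain ⟨B, hBs, hBp, hBi⟩ := exists_coform (P := P)
  have := finite_base P
  have : Nonempty P.Base := by
    obtain ⟨b, -⟩ := exists_base_closedChamber (P := P) 0
    exact ⟨b⟩
  obtain ⟨y₀, hy₀, hmin⟩ := exists_min_convexHull B hBs hBp d
  refine ⟨RootCh.Facet.ofVec P (formVec P B y₀), y₀, ?_, ?_⟩
  · exact (sgnVec_formVec B hBp hBi y₀).symm
  · exact mem_dualSolid_of_min B hBs hBp hBi d hd y₀ hy₀ hmin _ (sgnVec_formVec B hBp hBi y₀).symm

theorem special_unique (d : P.Base → N) (hd : RootCh.IsCCS d) (F F' : RootCh.Facet P)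
    (hF : RootCh.IsSpecial d F) (hF' : RootCh.IsSpecial d F') : F = F' := by
  obtain ⟨B, hBs, hBp, hBi⟩ := exists_coform (P := P)
  obtain ⟨y, hy⟩ := hF
  obtain ⟨y', hy'⟩ := hF'
  have h1 := form_ge_of_special B hBp hBi d hd F y hy y' (dualSolid_subset_solid d F' hy'.2)
  have h2 := form_ge_of_special B hBp hBi d hd F' y' hy' y (dualSolid_subset_solid d F hy.2)
  have heq : y = y' := by
    by_contra hne
    have h3 := form_lt_of_var B hBs hBp y y' h1 (fun h => hne h.symm)
    have h4 := form_lt_of_var B hBs hBp y' y h2 hne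
    exact lt_asymm h3 h4
  subst heq
  ext i
  have e1 : RootCh.cosgnVec P y = F.sgn := hy.1
  have e2 : RootCh.cosgnVec P y = F'.sgn := hy'.1
  rw [← e1, ← e2]

end chP

end Groth.Agent.H3RootD

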