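import Mathlib
import Groth.Agent.Lib.helper3.RootD

namespace Groth.Agent.H3RootD

variable {ι M N : Type*} [AddCommGroup M] [AddCommGroup N] {P : RootPairing ι ℤ M N}

open RootPairing

theorem chain_exists [Finite ι] {n : ℕ} (a : Fin n → ι) :
    ∀ (S : ℕ) (m : Fin n → ℕ) (k : ι), ∑ i, m i = S → P.root k = ∑ i, m i • P.root (a i) →
      ∃ (l : ℕ) (b : Fin l → Fin n), 0 < l ∧
        (∀ p : Fin l, ∃ j : ι, P.root j =
          ∑ q ∈ Finset.univ.filter (fun q : Fin l => q.val ≤ p.val), P.root (a (b q))) ∧
        P.root k = ∑ q, P.root (a (b q)) := by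
  classical
  intro S
  induction S with
  | zero =>
    intro m k hm hk
    exfalso
    have hz : ∀ i, m i = 0 := by
      intro i
      have := (Finset.sum_eq_zero_iff_of_nonneg (fun i _ => Nat.zero_le (m i))).mp hm i (Finset.mem_univ i)
      exact this
    rw [Finset.sum_eq_zero (fun i _ => by rw [hz i, zero_smul])] at hk
    exact P.ne_zero k hk
  | succ S ih =>
    intro m k hm hk
    by_cases hex : ∃ i, a i = k
    · obtain ⟨i, hi⟩ := hex
      refine ⟨1, fun _ => i, one_pos, fun p => ⟨k, ?_⟩, ?_⟩
      · have : Finset.univ.filter (fun q : Fin 1 => q.val ≤ p.val) = Finset.univ := by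
          ext q; simp
        rw [this]; simp [hi]
      · simp [hi]
    · push Not at hex
      have hk1 : (1 : ℕ) • P.root k = ∑ l ∈ Finset.univ, m l • P.root (a l) := by
        rw [one_smul]; exact hk
      obtain ⟨l0, -, hml0, -, ⟨k', hk'⟩⟩ := exists_pairing_pos_sub_mem P Finset.univ a m k
        (fun l _ => hex l) 1 one_pos hk1
      set m' : Fin n → ℕ := fun i => if i = l0 then m l0 - 1 else m i with hm'
      have hmm' : ∀ i, m i = m' i + (if i = l0 then 1 else 0) := by
        intro i
        simp only [hm']
        split_ifs with h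
        · subst h; omega
        · rfl
      have hsum' : ∑ i, m' i = S := by
        have : ∑ i, m i = ∑ i, m' i + 1 := by
          rw [Finset.sum_congr rfl (fun i _ => hmm' i), Finset.sum_add_distrib]
          simp
        omega
      have hroot' : P.root k' = ∑ i, m' i • P.root (a i) := by
        have : ∑ i, m i • P.root (a i) = ∑ i, m' i • P.root (a i) + P.root (a l0) := by
          rw [Finset.sum_congr rfl (fun i _ => by rw [hmm' i, add_smul]), Finset.sum_add_distrib]
          simp
        rw [hk', hk, this]; abel
      obtain ⟨l', b', hl', hpart, htot⟩ := ih m' k' hsum' hroot'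
      have htotal : P.root k = ∑ q : Fin (l' + 1), P.root (a ((Fin.snoc b' l0 : Fin (l' + 1) → Fin n) q)) := by
        rw [Fin.sum_univ_castSucc]
        simp only [Fin.snoc_castSucc, Fin.snoc_last]
        rw [← htot, hk']; abel
      refine ⟨l' + 1, Fin.snoc b' l0, Nat.succ_pos _, fun p => ?_, htotal⟩
      rcases Fin.eq_castSucc_or_eq_last p with ⟨p', rfl⟩ | rfl
      · obtain ⟨j, hj⟩ := hpart p'
        refine ⟨j, ?_⟩
        rw [hj, Finset.sum_filter, Finset.sum_filter, Fin.sum_univ_castSucc]
        simp only [Fin.snoc_castSucc, Fin.snoc_last, Fin.val_castSucc, Fin.val_last]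
        rw [if_neg (by have := p'.isLt; omega), add_zero]
      · refine ⟨k, ?_⟩
        have : Finset.univ.filter (fun q : Fin (l' + 1) => q.val ≤ (Fin.last l').val) = Finset.univ := by
          ext q; simp; have := q.isLt; omega
        rw [this]
        exact htotal


end Groth.Agent.H3RootD
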