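import Mathlib
import Groth.Agent.Lib.helper3.RootConj

namespace Groth.Agent.H3RootD

variable {ι M N : Type*} [AddCommGroup M] [AddCommGroup N] {P : RootPairing ι ℤ M N}

open RootPairing

theorem two_mul_rootForm [Fintype ι] (i j : ι) :
    2 * P.RootForm (P.root i) (P.root j) = P.pairing i j * P.RootForm (P.root j) (P.root j) := by
  have := P.toInvariantForm.two_mul_apply_root_root i j
  simpa only [RootPairing.toInvariantForm_form] using this


end Groth.Agent.H3RootD
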