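import Mathlib
import Groth.Agent.Lib.helper3.RootGram

namespace Groth.Agent.H3RootD

variable {ι M N : Type*} [AddCommGroup M] [AddCommGroup N] {P : RootPairing ι ℤ M N}

open RootPairing

/-- A positive definite integer matrix which becomes positive semidefinite over `ℝ` has positive
determinant. -/
theorem int_det_pos_of_posDef {n : Type*} [Fintype n] [DecidableEq n] (A : Matrix n n ℤ)
    (hA : A.PosDef) (hR : (A.map (Int.cast : ℤ → ℝ)).PosSemidef) : 0 < A.det := by
  have hne : A.det ≠ 0 := by
    intro h0
    obtain ⟨v, hv, hmul⟩ := Matrix.exists_mulVec_eq_zero_iff.mpr h0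
    have := hA.dotProduct_mulVec_pos hv
    rw [hmul] at this
    simp at this
  have hnn : 0 ≤ (A.map (Int.cast : ℤ → ℝ)).det := hR.det_nonneg
  have hcast : (A.map (Int.cast : ℤ → ℝ)).det = ((A.det : ℤ) : ℝ) := by
    have := RingHom.map_det (Int.castRingHom ℝ) A
    simpa [RingHom.mapMatrix_apply] using this.symm
  rw [hcast] at hnn
  have : (0 : ℤ) ≤ A.det := by exact_mod_cast hnn
  omega


end Groth.Agent.H3RootD
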