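import Mathlib
import Groth.Agent.Lib.helper3.RootAut
set_option autoImplicit false
open RootPairing

namespace Groth.Agent.H3RootD

variable {ι M N : Type*} [AddCommGroup M] [AddCommGroup N] {P : RootPairing ι ℤ M N}

theorem refl_smul_eq_of_pairing_zero (i : ι) (y : M) (h : P.toLinearMap y (P.coroot i) = 0) :
    Equiv.reflection P i • y = y := by
  rw [Equiv.reflection_smul, P.reflection_apply]
  have : P.coroot' i y = 0 := h
  rw [this, zero_smul, sub_zero]

theorem closure_pair_fix (i j : ι) (y : M) (hi : P.toLinearMap y (P.coroot i) = 0)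
    (hj : P.toLinearMap y (P.coroot j) = 0) (g : P.Aut)
    (hg : g ∈ Subgroup.closure ({Equiv.reflection P i, Equiv.reflection P j} : Set P.Aut)) :
    g • y = y := by
  induction hg using Subgroup.closure_induction with
  | mem x hx =>
    rcases hx with rfl | rfl
    · exact refl_smul_eq_of_pairing_zero i y hi
    · exact refl_smul_eq_of_pairing_zero j y hj
  | one => exact one_smul _ _
  | mul x z _ _ hx hz => rw [mul_smul, hz, hx]
  | inv x _ hx =>
    calc x⁻¹ • y = x⁻¹ • (x • y) := by rw [hx]
      _ = y := inv_smul_smul x y

theorem closure_pair_faithful [Finite ι] (i j : ι)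
    (hli : LinearIndependent ℤ ![P.root i, P.root j]) (g : P.Aut)
    (hg : g ∈ Subgroup.closure ({Equiv.reflection P i, Equiv.reflection P j} : Set P.Aut))
    (hgi : g • i = i) (hgj : g • j = j) : g = 1 := by
  have : IsAddTorsionFree M := tfM P
  have hD : P.pairing i j * P.pairing j i ≠ 4 := P.coxeterWeight_ne_four_of_linearIndependent hli
  have hD' : (4 - P.pairing i j * P.pairing j i : ℤ) ≠ 0 := fun h => hD (by omega)
  have hri : g • P.root i = P.root i := by rw [aut_smul_root, hgi]
  have hrj : g • P.root j = P.root j := by rw [aut_smul_root, hgj]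
  apply Equiv.weightHom_injective P
  ext x
  change g • x = x
  set ci := P.toLinearMap x (P.coroot i) with hci
  set cj := P.toLinearMap x (P.coroot j) with hcj
  set α : ℤ := 2 * ci - P.pairing j i * cj with hα
  set β : ℤ := 2 * cj - P.pairing i j * ci with hβ
  set y : M := (4 - P.pairing i j * P.pairing j i) • x - α • P.root i - β • P.root j with hy
  have hyi : P.toLinearMap y (P.coroot i) = 0 := by
    simp only [hy, map_sub, map_smul, LinearMap.sub_apply, LinearMap.smul_apply,
      P.root_coroot_eq_pairing, P.pairing_same, smul_eq_mul, ← hci]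
    ring
  have hyj : P.toLinearMap y (P.coroot j) = 0 := by
    simp only [hy, map_sub, map_smul, LinearMap.sub_apply, LinearMap.smul_apply,
      P.root_coroot_eq_pairing, P.pairing_same, smul_eq_mul, ← hcj]
    ring
  have hgy := closure_pair_fix i j y hyi hyj g hg
  have hx : (4 - P.pairing i j * P.pairing j i) • x = y + α • P.root i + β • P.root j := by
    rw [hy]; abel
  have h1 : g • ((4 - P.pairing i j * P.pairing j i) • x) =
      (4 - P.pairing i j * P.pairing j i) • x := by
    rw [hx, smul_add, smul_add, hgy, smul_comm g α, smul_comm g β, hri, hrj]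
  rw [smul_comm] at h1
  exact (smul_right_injective M hD') h1

end Groth.Agent.H3RootD
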