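import Mathlib
import Groth.Agent.Lib.helper3.RootDihFaith
import Groth.Agent.Lib.helper3.GrpDih
set_option autoImplicit false
open RootPairing

namespace Groth.Agent.H3RootD

variable {ι M N : Type*} [AddCommGroup M] [AddCommGroup N] {P : RootPairing ι ℤ M N}

theorem refl_mul_self (i : ι) : Equiv.reflection P i * Equiv.reflection P i = 1 := by
  rw [mul_eq_one_iff_inv_eq, Equiv.reflection_inv]

theorem refl_ne_one (i : ι) : Equiv.reflection P i ≠ 1 := by
  have : IsAddTorsionFree M := tfM P
  intro h
  have h1 : Equiv.reflection P i • P.root i = P.root i := by rw [h, one_smul]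
  rw [Equiv.reflection_smul, P.reflection_apply_self] at h1
  have h2 : (2 : ℤ) • P.root i = 0 := by
    rw [two_smul]
    nth_rewrite 1 [← h1]
    exact neg_add_cancel _
  exact P.ne_zero i ((smul_right_injective M (by norm_num : (2 : ℤ) ≠ 0)) (by simp only [h2, smul_zero]))

theorem card_dihedral [Finite ι] (i j : ι) (hli : LinearIndependent ℤ ![P.root i, P.root j])
    (n : ℕ) (hn : IsLeast {m : ℕ | 0 < m ∧ ((Equiv.reflection P i * Equiv.reflection P j) ^ m) • i = i ∧
      ((Equiv.reflection P i * Equiv.reflection P j) ^ m) • j = j} n) :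
    Nat.card (Subgroup.closure ({Equiv.reflection P i, Equiv.reflection P j} : Set P.Aut)) = 2 * n := by
  obtain ⟨⟨hn0, hni, hnj⟩, hmin⟩ := hn
  have hρ : Equiv.reflection P i * Equiv.reflection P j ∈
      Subgroup.closure ({Equiv.reflection P i, Equiv.reflection P j} : Set P.Aut) :=
    mul_mem (Subgroup.subset_closure (by simp)) (Subgroup.subset_closure (by simp))
  apply card_closure_pair _ _ (refl_mul_self i) (refl_mul_self j) (refl_ne_one i) (refl_ne_one j)
    n hn0
  rw [orderOf_eq_iff hn0]
  refine ⟨closure_pair_faithful i j hli _ (pow_mem hρ n) hni hnj, fun m hm hm0 h1 => ?_⟩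
  have : m ∈ {m : ℕ | 0 < m ∧ ((Equiv.reflection P i * Equiv.reflection P j) ^ m) • i = i ∧
      ((Equiv.reflection P i * Equiv.reflection P j) ^ m) • j = j} := by
    refine ⟨hm0, ?_, ?_⟩ <;> rw [h1, one_smul]
  have := hmin this
  omega

end Groth.Agent.H3RootD

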