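import Mathlib
import Groth.Agent.Lib.helper3.RootCone
import Groth.Agent.Lib.helper3.RootConj
import Groth.Agent.Lib.helper3.RootPM
import Groth.Agent.Lib.helper3.RootDual

set_option autoImplicit false
open RootPairing

namespace Groth.Agent.H3RootD

variable {ι M N : Type*} [AddCommGroup M] [AddCommGroup N] (P : RootPairing ι ℤ M N)

theorem exists_half_data : ∃ (φ : ι → ι) (ε : ι → ℤ),
    (∀ i, ε i = 1 ∨ ε i = 2) ∧ (∀ i, ε i • P.coroot (φ i) = P.coroot i) ∧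
    (∀ i, RootD.IsIndiv P.flip i → ε i = 1 ∧ φ i = i) ∧
    (∀ i, ¬ RootD.IsIndiv P.flip i → ε i = 2) := by
  have h : ∀ i, ∃ j, ∃ e : ℤ, (e = 1 ∨ e = 2) ∧ e • P.coroot j = P.coroot i ∧
      (RootD.IsIndiv P.flip i → e = 1 ∧ j = i) ∧ (¬ RootD.IsIndiv P.flip i → e = 2) := by
    intro i
    by_cases hi : RootD.IsIndiv P.flip i
    · exact ⟨i, 1, Or.inl rfl, one_smul _ _, fun _ => ⟨rfl, rfl⟩, fun h => absurd hi h⟩
    · have h := hi
      unfold RootD.IsIndiv at h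
      push Not at h
      obtain ⟨j, hj⟩ := h
      exact ⟨j, 2, Or.inr rfl, hj, fun h => absurd h hi, fun _ => rfl⟩
  choose φ ε h1 h2 h3 h4 using h
  exact ⟨φ, ε, h1, h2, h3, h4⟩

theorem indSet_eq_image (Δ : Set ι) (φ : ι → ι) (ε : ι → ℤ)
    (h2 : ∀ i, ε i • P.coroot (φ i) = P.coroot i)
    (h3 : ∀ i, RootD.IsIndiv P.flip i → ε i = 1 ∧ φ i = i)
    (h4 : ∀ i, ¬ RootD.IsIndiv P.flip i → ε i = 2) :
    {j : ι | ∃ i ∈ Δ, (j = i ∧ RootD.IsIndiv P.flip i) ∨ (2 : ℤ) • P.coroot j = P.coroot i}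
      = φ '' Δ := by
  have : IsAddTorsionFree N := tfN P
  ext j
  constructor
  · rintro ⟨i, hi, (⟨rfl, hind⟩ | hj)⟩
    · exact ⟨j, hi, (h3 j hind).2⟩
    · have hnot : ¬ RootD.IsIndiv P.flip i := fun h => h j hj
      have h := h2 i
      rw [h4 i hnot, ← hj] at h
      have : P.coroot (φ i) = P.coroot j := (smul_right_injective N (by norm_num : (2 : ℤ) ≠ 0)) h
      exact ⟨i, hi, P.coroot.injective this⟩
  · rintro ⟨i, hi, rfl⟩
    refine ⟨i, hi, ?_⟩
    by_cases hind : RootD.IsIndiv P.flip i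
    · exact Or.inl ⟨(h3 i hind).2, hind⟩
    · right
      have h := h2 i
      rw [h4 i hind] at h
      exact h

theorem image_indiv (Δ : Set ι) (φ : ι → ι) (ε : ι → ℤ)
    (h2 : ∀ i, ε i • P.coroot (φ i) = P.coroot i)
    (h3 : ∀ i, RootD.IsIndiv P.flip i → ε i = 1 ∧ φ i = i)
    (h4 : ∀ i, ¬ RootD.IsIndiv P.flip i → ε i = 2) :
    ∀ j ∈ φ '' Δ, RootD.IsIndiv P.flip j := by
  rintro _ ⟨i, hi, rfl⟩
  by_cases hind : RootD.IsIndiv P.flip i
  · rw [(h3 i hind).2]; exact hind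
  · intro j' hj'
    have h := h2 i
    rw [h4 i hind] at h
    change (2 : ℤ) • P.coroot j' = P.coroot (φ i) at hj'
    rw [← hj', smul_smul] at h
    have := congrArg (fun x => P.toLinearMap (P.root i) x) h
    simp only [map_smul, P.root_coroot_eq_pairing, P.pairing_same, smul_eq_mul] at this
    omega

theorem image_linInd [Finite ι] (Δ : Set ι) (hli : LinearIndepOn ℤ P.root Δ) (φ : ι → ι) (ε : ι → ℤ)
    (h1 : ∀ i, ε i = 1 ∨ ε i = 2)
    (h2 : ∀ i, ε i • P.coroot (φ i) = P.coroot i) :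
    LinearIndepOn ℤ (P.coroot ∘ φ) Δ := by
  have hc := linearIndepOn_coroot P Δ hli
  have : (fun i => ε i • (P.coroot ∘ φ) i) = P.coroot := by
    funext i; exact h2 i
  have hc' : LinearIndepOn ℤ (fun i => ε i • (P.coroot ∘ φ) i) Δ := by rw [this]; exact hc
  refine linearIndepOn_of_smul _ _ ε (fun i => ?_) hc'
  rcases h1 i with h | h <;> rw [h] <;> norm_num

theorem two_pol_mem_natSpan [Fintype ι] (Δ : Set ι) (φ : ι → ι) (ε : ι → ℤ)
    (h1 : ∀ i, ε i = 1 ∨ ε i = 2)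
    (h2 : ∀ i, ε i • P.coroot (φ i) = P.coroot i) (x : M) (hx : x ∈ RootD.natSpan P Δ) :
    (2 : ℤ) • P.Polarization x ∈ RootD.natSpan P.flip (φ '' Δ) := by
  refine AddSubmonoid.closure_induction (motive := fun y _ =>
    (2 : ℤ) • P.Polarization y ∈ RootD.natSpan P.flip (φ '' Δ)) ?_ ?_ ?_ hx
  · rintro _ ⟨d, hd, rfl⟩
    have hmem : P.coroot (φ d) ∈ RootD.natSpan P.flip (φ '' Δ) :=
      AddSubmonoid.subset_closure ⟨φ d, ⟨d, hd, rfl⟩, rfl⟩
    have e1 : (2 : ℤ) • P.Polarization (P.root d) =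
        (P.RootForm (P.root d) (P.root d) * ε d) • P.coroot (φ d) := by
      rw [mul_smul, h2 d, P.rootForm_self_smul_coroot, ofNat_zsmul]
    have hpos : 0 ≤ P.RootForm (P.root d) (P.root d) * ε d := by
      have := (rootForm_pos (P := P) d).le
      rcases h1 d with h | h <;> rw [h] <;> linarith
    obtain ⟨n, hn⟩ := Int.eq_ofNat_of_zero_le hpos
    rw [e1, hn, natCast_zsmul]
    exact AddSubmonoid.nsmul_mem _ hmem n
  · simp
  · intro a b _ _ ha hb
    rw [map_add, smul_add]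
    exact AddSubmonoid.add_mem _ ha hb

theorem isSimpleSys_flip_image [Finite ι] (Δ : Set ι) (hΔ : RootD.IsSimpleSys P Δ)
    (φ : ι → ι) (ε : ι → ℤ)
    (h1 : ∀ i, ε i = 1 ∨ ε i = 2)
    (h2 : ∀ i, ε i • P.coroot (φ i) = P.coroot i)
    (h3 : ∀ i, RootD.IsIndiv P.flip i → ε i = 1 ∧ φ i = i)
    (h4 : ∀ i, ¬ RootD.IsIndiv P.flip i → ε i = 2) :
    RootD.IsSimpleSys P.flip (φ '' Δ) := by
  have : Fintype ι := Fintype.ofFinite ι
  refine isSimpleSys_of_cone (P := P.flip) (φ '' Δ) (image_indiv P Δ φ ε h2 h3 h4) ?_ ?_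
  · exact LinearIndepOn.image_of_comp φ P.coroot (image_linInd P Δ hΔ.linInd φ ε h1 h2)
  · intro k
    have hl := rootForm_pos (P := P) k
    obtain ⟨n, hn⟩ := Int.eq_ofNat_of_zero_le hl.le
    have hn0 : 0 < n := by
      rcases Nat.eq_zero_or_pos n with h | h
      · rw [h] at hn; simp at hn; omega
      · exact h
    refine ⟨n, hn0, ?_⟩
    have e1 : (2 : ℤ) • P.Polarization (P.root k) = n • P.coroot k := by
      rw [← natCast_zsmul, ← hn, P.rootForm_self_smul_coroot, ofNat_zsmul]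
    rcases hΔ.mem_or_neg_mem k with h | h
    · left
      have := two_pol_mem_natSpan P Δ φ ε h1 h2 _ h
      rw [e1] at this
      exact this
    · right
      have := two_pol_mem_natSpan P Δ φ ε h1 h2 _ h
      rw [map_neg, smul_neg, e1, ← smul_neg] at this
      exact this

end Groth.Agent.H3RootD

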