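import Mathlib
import Groth.Agent.Lib.helper3.RootDual2

set_option autoImplicit false
open RootPairing

namespace Groth.Agent.H3RootD

variable {ι M N : Type*} [AddCommGroup M] [AddCommGroup N] (P : RootPairing ι ℤ M N)

theorem dvd_coeff_aux [Finite ι] [Fintype ι] (Δ : Set ι) (hΔ : RootD.IsSimpleSys P Δ)
    (φ : ι → ι) (ε : ι → ℤ)
    (h1 : ∀ i, ε i = 1 ∨ ε i = 2)
    (h2 : ∀ i, ε i • P.coroot (φ i) = P.coroot i)
    (h3 : ∀ i, RootD.IsIndiv P.flip i → ε i = 1 ∧ φ i = i)
    (h4 : ∀ i, ¬ RootD.IsIndiv P.flip i → ε i = 2)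
    (k : ι) (c : ι →₀ ℤ) (hc : ↑c.support ⊆ Δ)
    (hck : Finsupp.linearCombination ℤ P.root c = P.root k) (i : ι) (hi : i ∈ Δ) :
    P.RootForm (P.root k) (P.root k) ∣ c i * P.RootForm (P.root i) (P.root i) * ε i := by
  classical
  have hS := isSimpleSys_flip_image P Δ hΔ φ ε h1 h2 h3 h4
  obtain ⟨m, hm, -, hmk⟩ := exists_coeff P.flip (φ '' Δ) hS k
  set c' : ι →₀ ℤ := Finsupp.equivFunOnFinite.symm
    (fun d => c d * P.RootForm (P.root d) (P.root d) * ε d) with hc'
  have hc'app : ∀ d, c' d = c d * P.RootForm (P.root d) (P.root d) * ε d := fun d => rfl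
  have hc'supp : (c'.support : Set ι) ⊆ Δ := by
    intro d hd
    apply hc
    rw [Finset.mem_coe, Finsupp.mem_support_iff] at hd ⊢
    intro h0
    apply hd
    rw [hc'app, h0]; ring
  have hinj : Set.InjOn φ Δ := by
    have := (image_linInd P Δ hΔ.linInd φ ε h1 h2).injOn
    intro a ha b hb hab
    exact this ha hb (by simp [hab])
  have hsupp2 : Finsupp.mapDomain φ c' ∈ Finsupp.supported ℤ ℤ (φ '' Δ) := by
    rw [Finsupp.mem_supported]
    intro j hj
    have := Finsupp.mapDomain_support hj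
    rw [Finset.mem_image] at this
    obtain ⟨d, hd, rfl⟩ := this
    exact ⟨d, hc'supp hd, rfl⟩
  have hlc2 : Finsupp.linearCombination ℤ P.flip.root (Finsupp.mapDomain φ c') =
      P.RootForm (P.root k) (P.root k) • P.coroot k := by
    rw [Finsupp.linearCombination_mapDomain, Finsupp.linearCombination_apply,
      Finsupp.sum_fintype _ _ (fun i => zero_smul ℤ ((P.flip.root ∘ φ) i))]
    have : ∀ d, c' d • (P.flip.root ∘ φ) d = c d • ((2 : ℤ) • P.Polarization (P.root d)) := by
      intro d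
      change c' d • P.coroot (φ d) = _
      rw [hc'app, mul_smul, mul_smul, h2 d, P.rootForm_self_smul_coroot, ofNat_zsmul]
    rw [Finset.sum_congr rfl (fun d _ => this d), P.rootForm_self_smul_coroot, ← hck,
      Finsupp.linearCombination_apply, Finsupp.sum_fintype _ _ (fun i => zero_smul ℤ (P.root i)),
      map_sum, Finset.smul_sum]
    refine Finset.sum_congr rfl (fun d _ => ?_)
    rw [map_smul, smul_comm, ofNat_zsmul]
  have hlc1 : Finsupp.linearCombination ℤ P.flip.root (P.RootForm (P.root k) (P.root k) • m) =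
      P.RootForm (P.root k) (P.root k) • P.coroot k := by
    rw [map_smul, hmk]; rfl
  have heq := coeff_unique P.flip (φ '' Δ) hS.linInd _ _
    (Submodule.smul_mem _ _ hm) hsupp2 (hlc1.trans hlc2.symm)
  have hval := congrArg (fun f => f (φ i)) heq
  simp only [Finsupp.smul_apply, smul_eq_mul] at hval
  rw [Finsupp.mapDomain_apply' Δ c' hc'supp hinj hi, hc'app] at hval
  exact ⟨m (φ i), hval.symm⟩

end Groth.Agent.H3RootD

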