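import Mathlib
import Groth.Agent.Lib.helper3.RootPos

namespace Groth.Agent.H3RootD

variable {ι M N : Type*} [AddCommGroup M] [AddCommGroup N] {P : RootPairing ι ℤ M N} {Δ : Set ι}

open RootPairing

theorem span_simple_eq (hΔ : RootD.IsSimpleSys P Δ) :
    Submodule.span ℤ (P.root '' Δ) = Submodule.span ℤ (Set.range P.root) := by
  apply le_antisymm (Submodule.span_mono (Set.image_subset_range _ _))
  rw [Submodule.span_le]
  rintro _ ⟨k, rfl⟩
  rw [← coeff_sum hΔ k]
  exact (Finsupp.mem_span_image_iff_linearCombination ℤ).mpr ⟨_, coeff_mem hΔ k, rfl⟩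


end Groth.Agent.H3RootD
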