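import Mathlib
import Groth.Agent.Lib.helper3.RootMisc

namespace Groth.Agent.H3RootD

variable {ι M N : Type*} [AddCommGroup M] [AddCommGroup N] {P : RootPairing ι ℤ M N}

open RootPairing

theorem addHom_ext_span {G : Type*} [AddCommGroup G]
    (φ ψ : Submodule.span ℤ (Set.range P.root) →+ G)
    (h : ∀ i : ι, φ ⟨P.root i, Submodule.subset_span (Set.mem_range_self i)⟩ =
      ψ ⟨P.root i, Submodule.subset_span (Set.mem_range_self i)⟩) : φ = ψ := by
  ext ⟨x, hx⟩
  induction hx using Submodule.span_induction with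
  | mem y hy =>
    obtain ⟨i, rfl⟩ := hy
    exact h i
  | zero =>
    have : (⟨0, Submodule.zero_mem _⟩ : Submodule.span ℤ (Set.range P.root)) = 0 := rfl
    rw [this, map_zero, map_zero]
  | add y z hy hz ihy ihz =>
    have : (⟨y + z, Submodule.add_mem _ hy hz⟩ : Submodule.span ℤ (Set.range P.root)) =
      ⟨y, hy⟩ + ⟨z, hz⟩ := rfl
    rw [this, map_add, map_add, ihy, ihz]
  | smul a y hy ihy =>
    have : (⟨a • y, Submodule.smul_mem _ a hy⟩ : Submodule.span ℤ (Set.range P.root)) =
      a • ⟨y, hy⟩ := rfl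
    rw [this, map_zsmul, map_zsmul, ihy]

theorem exists_addHom_of_additive [Finite ι] {G : Type*} [AddCommGroup G] (f : ι → G)
    (hneg : ∀ i : ι, f (P.reflectionPerm i i) = -f i)
    (hadd : ∀ i j k : ι, P.root k = P.root i + P.root j → f k = f i + f j) :
    ∃ φ : Submodule.span ℤ (Set.range P.root) →+ G,
      ∀ i : ι, φ ⟨P.root i, Submodule.subset_span (Set.mem_range_self i)⟩ = f i := by
  obtain ⟨Δ, hΔ⟩ := exists_simpleSys (P := P)
  let v : Δ → M := fun d => P.root d
  have hli : LinearIndependent ℤ v := hΔ.linInd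
  let b := Module.Basis.span hli
  have hspan : Submodule.span ℤ (Set.range P.root) = Submodule.span ℤ (Set.range v) := by
    rw [← span_simple_eq hΔ]
    congr 1
    ext x
    simp [v]
  let e : Submodule.span ℤ (Set.range P.root) ≃ₗ[ℤ] Submodule.span ℤ (Set.range v) :=
    LinearEquiv.ofEq _ _ hspan
  let φ : Submodule.span ℤ (Set.range P.root) →+ G :=
    ((b.constr ℤ (fun d : Δ => f d)).comp e.toLinearMap).toAddMonoidHom
  have hφΔ : ∀ d (hd : d ∈ Δ), φ ⟨P.root d, Submodule.subset_span (Set.mem_range_self d)⟩ = f d := by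
    intro d hd
    have : e ⟨P.root d, Submodule.subset_span (Set.mem_range_self d)⟩ = b ⟨d, hd⟩ := by
      apply Subtype.ext
      rw [Module.Basis.span_apply]
      rfl
    change (b.constr ℤ (fun d : Δ => f d)) (e _) = f d
    rw [this, Module.Basis.constr_basis]
  have hpos : ∀ k, k ∈ RootD.posOf P Δ →
      φ ⟨P.root k, Submodule.subset_span (Set.mem_range_self k)⟩ = f k := by
    intro k hk
    refine pos_induction hΔ (p := fun k =>
      φ ⟨P.root k, Submodule.subset_span (Set.mem_range_self k)⟩ = f k) hφΔ ?_ k hk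
    intro k k' l _ hl _ ih hsum _ _
    have : (⟨P.root k, Submodule.subset_span (Set.mem_range_self k)⟩ :
        Submodule.span ℤ (Set.range P.root)) =
        ⟨P.root k', Submodule.subset_span (Set.mem_range_self k')⟩ +
        ⟨P.root l, Submodule.subset_span (Set.mem_range_self l)⟩ := Subtype.ext hsum
    rw [this, map_add, ih, hφΔ l hl, ← hadd k' l k hsum]
  refine ⟨φ, fun k => ?_⟩
  rcases pos_or_neg hΔ k with h | h
  · exact hpos k h
  · have h1 := hpos _ h
    have : (⟨P.root k, Submodule.subset_span (Set.mem_range_self k)⟩ :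
        Submodule.span ℤ (Set.range P.root)) =
        -⟨P.root (P.reflectionPerm k k), Submodule.subset_span (Set.mem_range_self _)⟩ :=
      Subtype.ext (by simp)
    rw [this, map_neg, h1, hneg, neg_neg]


end Groth.Agent.H3RootD
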