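import Mathlib
set_option autoImplicit false
open RootPairing Set Function Submodule

namespace Groth.Agent.H3RootD

section iso
variable {ι M N ι' M' N' : Type*} [AddCommGroup M] [AddCommGroup N] [AddCommGroup M'] [AddCommGroup N']
  {P : RootPairing ι ℤ M N} {P' : RootPairing ι' ℤ M' N'}

noncomputable def adjBasis (b : P.Base) (had : span ℤ (range P.root) = ⊤) :
    Module.Basis b.support ℤ M :=
  Module.Basis.mk b.linearIndepOn_root <| by
    change ⊤ ≤ span ℤ (range <| P.root ∘ ((↑) : b.support → ι))
    simp [range_comp, had]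

@[simp] theorem adjBasis_apply (b : P.Base) (had : span ℤ (range P.root) = ⊤) (i : b.support) :
    adjBasis b had i = P.root i := by
  simp [adjBasis]

theorem adj_apply_mem_range_root [Finite ι] [P.IsReduced] (b : P.Base)
    (had : span ℤ (range P.root) = ⊤) (b' : P'.Base) (u : b.support ≃ b'.support)
    (f : M ≃ₗ[ℤ] M') (hf : ∀ i : b.support, f (P.root i) = P'.root (u i))
    (hu : ∀ i j : b.support, P.pairing (i : ι) (j : ι) = P'.pairing (u i : ι') (u j : ι'))
    (m : M) (hm : m ∈ range P.root) : f m ∈ range P'.root := by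
  have key (k : b.support) : (P.reflection k).trans f = f.trans (P'.reflection (u k)) := by
    suffices ∀ j : b.support,
        (P.reflection k).trans f (P.root j) = f.trans (P'.reflection (u k)) (P.root j) by
      rw [← LinearEquiv.toLinearMap_inj]
      exact (adjBasis b had).ext fun j ↦ by simpa using this j
    intro j
    simp [RootPairing.reflection_apply, hf, hu]
  obtain ⟨i, rfl⟩ := hm
  apply b.induction_reflect i
  · exact fun j ⟨k, hk⟩ ↦ ⟨P'.reflectionPerm k k, by simpa⟩
  · exact fun j hj ↦ ⟨u ⟨j, hj⟩, (hf _).symm⟩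
  · intro j k ⟨l, hl⟩ hk
    have this : f (P.reflection k (P.root j)) = (P'.reflection (u ⟨k, hk⟩)) (f (P.root j)) := by
      simpa using LinearEquiv.congr_fun (key ⟨k, hk⟩) (P.root j)
    rw [root_reflectionPerm, this, ← hl, ← root_reflectionPerm]
    exact mem_range_self _

end iso

end Groth.Agent.H3RootD
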