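import Mathlib
import Groth.Agent.Lib.helper3.RootIso
set_option autoImplicit false
open RootPairing Set Function Submodule Module

namespace Groth.Agent.H3RootD

section iso
variable {ι M N ι' M' N' : Type*} [AddCommGroup M] [AddCommGroup N] [AddCommGroup M'] [AddCommGroup N']

theorem ext_of_span_root_top [Finite ι] {P₁ P₂ : RootPairing ι ℤ M N}
    (h₁ : span ℤ (range P₁.root) = ⊤)
    (he : P₁.toLinearMap = P₂.toLinearMap) (hr : P₁.root = P₂.root) : P₁ = P₂ := by
  have : Module.IsReflexive ℤ M := .of_isPerfPair P₁.toLinearMap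
  suffices ∀ (P₁ P₂ : RootPairing ι ℤ M N), span ℤ (range P₁.root) = ⊤ →
      P₁.toLinearMap = P₂.toLinearMap → P₁.root = P₂.root → range P₁.coroot ⊆ range P₂.coroot by
    have h₁' := this P₁ P₂ h₁ he hr
    have h₂' := this P₂ P₁ (hr ▸ h₁) he.symm hr.symm
    exact RootPairing.ext he hr (le_antisymm h₁' h₂')
  clear! P₁ P₂
  rintro P₁ P₂ hP₁ he hr - ⟨i, rfl⟩
  use i
  apply P₁.flip.toPerfPair.injective
  apply Dual.eq_of_preReflection_mapsTo (finite_range P₁.root) hP₁
  · exact hr ▸ he ▸ P₂.coroot_root_two i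
  · change MapsTo (preReflection _ (P₁.toLinearMap.flip.toPerfPair _)) _ _
    simp_rw [hr, he]
    exact P₂.mapsTo_reflection_root i
  · exact P₁.coroot_root_two i
  · exact P₁.mapsTo_reflection_root i

variable {P : RootPairing ι ℤ M N} {P' : RootPairing ι' ℤ M' N'}

noncomputable def adjEquivMk [Finite ι] [Finite ι'] (had' : span ℤ (range P'.root) = ⊤)
    (f : M ≃ₗ[ℤ] M') (e : ι ≃ ι') (hf : ∀ i, f (P.root i) = P'.root (e i)) :
    P.Equiv P' where
  weightMap := f
  coweightMap := P'.flip.toPerfPair.trans (f.dualMap.trans P.flip.toPerfPair.symm)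
  indexEquiv := e
  weight_coweight_transpose := by ext; simp
  root_weightMap := by ext; simp [hf]
  coroot_coweightMap := by
    let g : N ≃ₗ[ℤ] N' := P.flip.toPerfPair.trans <| f.symm.dualMap.trans P'.flip.toPerfPair.symm
    suffices P' = P.map e f g by
      ext i
      rw [LinearEquiv.coe_coe, comp_apply, ← LinearEquiv.eq_symm_apply]
      conv_lhs => rw [this]
      rfl
    apply ext_of_span_root_top had' <;> ext
    · simp [RootPairing.map, RootPairing.map, g]
    · simp [hf, RootPairing.map, RootPairing.map]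
  bijective_weightMap := LinearEquiv.bijective _
  bijective_coweightMap := LinearEquiv.bijective _

end iso

end Groth.Agent.H3RootD
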