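import Mathlib
import Groth.Agent.Lib.helper3.RootIso2
set_option autoImplicit false
open RootPairing Set Function Submodule Module

namespace Groth.Agent.H3RootD

section iso
variable {ι M N ι' M' N' : Type*} [AddCommGroup M] [AddCommGroup N] [AddCommGroup M'] [AddCommGroup N']
  {P : RootPairing ι ℤ M N} {P' : RootPairing ι' ℤ M' N'}

theorem exists_adj_equiv [Finite ι] [Finite ι'] [P.IsReduced] [P'.IsReduced]
    (had : span ℤ (range P.root) = ⊤) (had' : span ℤ (range P'.root) = ⊤)
    (b : P.Base) (b' : P'.Base) (u : b.support ≃ b'.support)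
    (hu : ∀ i j : b.support, P.pairing (i : ι) (j : ι) = P'.pairing (u i : ι') (u j : ι')) :
    ∃ e : RootPairing.Equiv P P', ∀ i : b.support, e.indexEquiv (i : ι) = (u i : ι') := by
  classical
  let f : M ≃ₗ[ℤ] M' := (adjBasis b had).equiv (adjBasis b' had') u
  have hf0 : ∀ i : b.support, f (P.root i) = P'.root (u i) := by
    intro i
    have := (adjBasis b had).equiv_apply i (adjBasis b' had') u
    simpa using this
  have hf0' : ∀ i : b'.support, f.symm (P'.root i) = P.root (u.symm i) := by
    intro i
    rw [LinearEquiv.symm_apply_eq, hf0, Equiv.apply_symm_apply]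
  have hfr : ∀ m, f m ∈ range P'.root ↔ m ∈ range P.root := by
    refine fun m ↦ ⟨fun h ↦ ?_, fun h ↦ ?_⟩
    · have := adj_apply_mem_range_root b' had' b u.symm f.symm hf0'
        (fun i j => by rw [hu, Equiv.apply_symm_apply, Equiv.apply_symm_apply]) (f m) h
      simpa using this
    · exact adj_apply_mem_range_root b had b' u f hf0 hu m h
  let : Fintype ι := Fintype.ofFinite _
  let : Fintype ι' := Fintype.ofFinite _
  let e' : ι ≃ ι' := P.root.toEquivRange.trans <| (f.bijOn hfr).equiv.trans P'.root.toEquivRange.symm
  have he' (i : ι) : f (P.root i) = P'.root (e' i) := by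
    simp [e', BijOn.equiv, Embedding.toEquivRange]
  refine ⟨adjEquivMk had' f e' he', fun i => ?_⟩
  apply P'.root.injective
  change P'.root (e' i) = _
  rw [← he', hf0]

theorem adj_equiv_unique [Finite ι]
    (had : span ℤ (range P.root) = ⊤)
    (b : P.Base) (e₁ e₂ : RootPairing.Equiv P P')
    (h : ∀ i : b.support, e₁.indexEquiv (i : ι) = e₂.indexEquiv (i : ι)) : e₁ = e₂ := by
  have hw : e₁.weightMap = e₂.weightMap := by
    apply (adjBasis b had).ext
    intro i
    rw [adjBasis_apply, Hom.root_weightMap_apply, Hom.root_weightMap_apply, h]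
  have hc : e₁.coweightMap = e₂.coweightMap := by
    ext x
    apply P.flip.toPerfPair.injective
    rw [← Hom.weight_coweight_transpose_apply, ← Hom.weight_coweight_transpose_apply, hw]
  have hi : e₁.indexEquiv = e₂.indexEquiv := by
    ext i
    apply P'.root.injective
    rw [← Hom.root_weightMap_apply, ← Hom.root_weightMap_apply, hw]
  exact RootPairing.Equiv.ext hw hc hi

end iso

end Groth.Agent.H3RootD

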