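import Mathlib
import Groth.Agent.Lib.helper3.RootConj

namespace Groth.Agent.H3RootD

variable {ι M N : Type*} [AddCommGroup M] [AddCommGroup N] {P : RootPairing ι ℤ M N}

open RootPairing

theorem exists_weyl_not_orth [Finite ι]
    (hirr : ∀ R' : Set ι, RootD.IsClosedSub P R' → RootD.IsSymmSub P R' → RootD.IsClosedSub P R'ᶜ →
      RootD.IsSymmSub P R'ᶜ → R' = ∅ ∨ R' = Set.univ) (i j : ι) :
    ∃ w : P.Aut, w ∈ P.weylGroup ∧ ¬ P.IsOrthogonal (w • i) j := by
  set R'' : Set ι := {k | ∀ w : P.Aut, w ∈ P.weylGroup → P.IsOrthogonal (w • i) k} with hR''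
  have horth : ∀ b ∈ R'', ∀ a ∉ R'', P.IsOrthogonal b a := by
    intro b hb a ha
    simp only [hR'', Set.mem_ofPred_eq, not_forall] at ha
    obtain ⟨w, hw, hwa⟩ := ha
    have h1 := (hb (Equiv.reflection P a * w) (mul_mem (P.reflection_mem_weylGroup a) hw)).1
    rw [mul_smul, simple_reflection_smul_eq, pairing_reflectionPerm_left, (hb w hw).1, zero_sub,
      neg_eq_zero] at h1
    have hne : P.pairing (w • i) a ≠ 0 := fun h0 => hwa ⟨h0, (pairing_zero_symm P _ _).mp h0⟩
    have h2 : P.pairing a b = 0 := (mul_eq_zero.mp h1).resolve_left hne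
    exact ⟨(pairing_zero_symm P a b).mp h2, h2⟩
  obtain ⟨k1, k2, k3, k4⟩ := (closedSymm_iff_orth (P := P) R'').mpr horth
  have hi : i ∉ R'' := by
    intro h
    have := (h 1 (one_mem _)).1
    rw [one_smul, P.pairing_same] at this
    omega
  rcases hirr R'' k1 k2 k3 k4 with h | h
  · have hj : j ∉ R'' := by rw [h]; exact Set.notMem_empty j
    simp only [hR'', Set.mem_ofPred_eq, not_forall] at hj
    obtain ⟨w, hw, hwj⟩ := hj
    exact ⟨w, hw, hwj⟩
  · exact absurd (h ▸ Set.mem_univ i) hi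

theorem length_ratio [Finite ι] [Fintype ι] (i j : ι) (hno : ¬ P.IsOrthogonal i j) :
    (P.pairing i j, P.pairing j i) ∈
      ({(1, 1), (-1, -1), (1, 2), (2, 1), (-1, -2), (-2, -1), (1, 3), (3, 1), (-1, -3),
        (-3, -1), (4, 1), (1, 4), (-4, -1), (-1, -4), (2, 2), (-2, -2)} : Set (ℤ × ℤ)) ∧
    P.pairing j i * P.RootForm (P.root i) (P.root i) =
      P.pairing i j * P.RootForm (P.root j) (P.root j) := by
  have h1 := P.toInvariantForm.pairing_mul_eq_pairing_mul_swap i j
  simp only [RootPairing.toInvariantForm_form] at h1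
  refine ⟨?_, h1⟩
  have hne : P.pairing i j ≠ 0 := fun h0 => hno ⟨h0, (pairing_zero_symm P i j).mp h0⟩
  have hset := P.pairingIn_pairingIn_mem_set_of_isCrystallographic i j
  rw [pairingIn_int, pairingIn_int] at hset
  exact Set.mem_of_mem_insert_of_ne hset (fun h => hne (Prod.mk.inj h).1)

theorem length_ratio_red [Finite ι] [Fintype ι] [P.IsReduced] (i j : ι) (hno : ¬ P.IsOrthogonal i j) :
    (P.pairing i j, P.pairing j i) ∈
      ({(1, 1), (-1, -1), (1, 2), (2, 1), (-1, -2), (-2, -1), (1, 3), (3, 1), (-1, -3),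
        (-3, -1), (2, 2), (-2, -2)} : Set (ℤ × ℤ)) ∧
    P.pairing j i * P.RootForm (P.root i) (P.root i) =
      P.pairing i j * P.RootForm (P.root j) (P.root j) := by
  have h1 := P.toInvariantForm.pairing_mul_eq_pairing_mul_swap i j
  simp only [RootPairing.toInvariantForm_form] at h1
  refine ⟨?_, h1⟩
  have hne : P.pairing i j ≠ 0 := fun h0 => hno ⟨h0, (pairing_zero_symm P i j).mp h0⟩
  have hset := P.pairingIn_pairingIn_mem_set_of_isCrystal_of_isRed i j
  rw [pairingIn_int, pairingIn_int] at hset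
  exact Set.mem_of_mem_insert_of_ne hset (fun h => hne (Prod.mk.inj h).1)


end Groth.Agent.H3RootD
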