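import Mathlib
import Groth.Agent.Lib.helper3.RootLen
import Groth.Agent.Lib.helper3.RootExt

namespace Groth.Agent.H3RootD

variable {ι M N : Type*} [AddCommGroup M] [AddCommGroup N] {P : RootPairing ι ℤ M N}

open RootPairing

theorem min_length_dvd [Finite ι] [Fintype ι]
    (hirr : ∀ R' : Set ι, RootD.IsClosedSub P R' → RootD.IsSymmSub P R' → RootD.IsClosedSub P R'ᶜ →
      RootD.IsSymmSub P R'ᶜ → R' = ∅ ∨ R' = Set.univ)
    (i₀ : ι) (hmin : ∀ i : ι, P.RootForm (P.root i₀) (P.root i₀) ≤ P.RootForm (P.root i) (P.root i))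
    (i : ι) : P.RootForm (P.root i₀) (P.root i₀) ∣ P.RootForm (P.root i) (P.root i) := by
  have h0 : 0 < P.RootForm (P.root i₀) (P.root i₀) := rootForm_pos i₀
  obtain ⟨w, hw, hwi⟩ := exists_weyl_not_orth hirr i₀ i
  obtain ⟨hset, heq⟩ := length_ratio (w • i₀) i hwi
  rw [rootForm_weyl_smul w hw] at heq
  have hle := hmin i
  simp only [Set.mem_insert_iff, Set.mem_singleton_iff, Prod.mk.injEq] at hset
  rcases hset with h | h | h | h | h | h | h | h | h | h | h | h | h | h | h | h <;>
    rw [h.1, h.2] at heq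
  · exact ⟨1, by omega⟩
  · exact ⟨1, by omega⟩
  · exact ⟨2, by omega⟩
  · omega
  · exact ⟨2, by omega⟩
  · omega
  · exact ⟨3, by omega⟩
  · omega
  · exact ⟨3, by omega⟩
  · omega
  · omega
  · exact ⟨4, by omega⟩
  · omega
  · exact ⟨4, by omega⟩
  · exact ⟨1, by omega⟩
  · exact ⟨1, by omega⟩

theorem coroot_neg (i : ι) : P.coroot (P.reflectionPerm i i) = -P.coroot i := by
  rw [P.coroot_reflectionPerm, P.coreflection_apply_self]

theorem rootForm_neg [Fintype ι] (i : ι) :
    P.RootForm (P.root (P.reflectionPerm i i)) (P.root (P.reflectionPerm i i)) =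
      P.RootForm (P.root i) (P.root i) := by
  rw [neg_root]; simp


end Groth.Agent.H3RootD
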