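import Mathlib
import Groth.Agent.Lib.helper3.RootSimpTrans

namespace Groth.Agent.H3RootD

variable {ι M N : Type*} [AddCommGroup M] [AddCommGroup N] {P : RootPairing ι ℤ M N} {Δ : Set ι}

open RootPairing

/-- the property: `g` moves every root by an element of the rational span of `Δ'`. -/
def MovesIn (P : RootPairing ι ℤ M N) (Δ' : Set ι) (g : P.Aut) : Prop :=
  ∀ k : ι, ∃ n : ℕ, 0 < n ∧ n • (P.root (g • k) - P.root k) ∈ Submodule.span ℤ (P.root '' Δ')

theorem movesIn_reflection (Δ' : Set ι) {i : ι} (hi : i ∈ Δ') : MovesIn P Δ' (Equiv.reflection P i) := by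
  intro k
  refine ⟨1, one_pos, ?_⟩
  rw [one_smul, simple_reflection_smul_eq, P.root_reflectionPerm, P.reflection_apply_root,
    sub_sub_cancel_left]
  exact Submodule.neg_mem _ (Submodule.smul_mem _ _ (Submodule.subset_span ⟨i, hi, rfl⟩))

theorem movesIn_one (Δ' : Set ι) : MovesIn P Δ' 1 := by
  intro k
  exact ⟨1, one_pos, by simp⟩

theorem movesIn_mul (Δ' : Set ι) (x y : P.Aut) (hx : MovesIn P Δ' x) (hy : MovesIn P Δ' y) :
    MovesIn P Δ' (x * y) := by
  intro k
  obtain ⟨n1, hn1, h1⟩ := hx (y • k)
  obtain ⟨n2, hn2, h2⟩ := hy k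
  refine ⟨n1 * n2, Nat.mul_pos hn1 hn2, ?_⟩
  have : (n1 * n2) • (P.root ((x * y) • k) - P.root k) =
      n2 • (n1 • (P.root (x • y • k) - P.root (y • k))) + n1 • (n2 • (P.root (y • k) - P.root k)) := by
    have hk : (x * y) • k = x • y • k := mul_smul x y k
    rw [hk]
    module
  rw [this]
  exact Submodule.add_mem _ (Submodule.smul_of_tower_mem _ _ h1) (Submodule.smul_of_tower_mem _ _ h2)

theorem mem_closure_of_movesIn [Finite ι] (hΔ : RootD.IsSimpleSys P Δ) (Δ' : Set ι) (hsub : Δ' ⊆ Δ) :
    ∀ (n : ℕ) (l : List ι), (∀ a ∈ l, a ∈ Δ) → l.length = n → MovesIn P Δ' (wd P l) →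
      wd P l ∈ Subgroup.closure ((fun i : ι => Equiv.reflection P i) '' Δ') := by
  classical
  intro n
  induction n using Nat.strong_induction_on with
  | _ n ih =>
    intro l hl hlen hmv
    by_cases hnil : l = []
    · rw [hnil, wd_nil]; exact one_mem _
    by_cases hmin : ∀ l' : List ι, (∀ a ∈ l', a ∈ Δ) → wd P l' = wd P l → l.length ≤ l'.length
    · -- l is reduced
      have hneg := reduced_last_neg hΔ l hl hnil hmin
      set a := l.getLast hnil with ha
      have haΔ : a ∈ Δ := hl _ (List.getLast_mem hnil)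
      have haΔ' : a ∈ Δ' := by
        by_contra haΔ'
        obtain ⟨m, hm, hmem⟩ := hmv a
        obtain ⟨c, hc, hcsum⟩ := (Finsupp.mem_span_image_iff_linearCombination ℤ).mp hmem
        have hceq : c = (m : ℤ) • (coeff P Δ (wd P l • a) - Finsupp.single a 1) := by
          refine coeff_unique P Δ hΔ.linInd _ _ (Finsupp.supported_mono hsub hc)
            (Submodule.smul_mem _ _ (Submodule.sub_mem _ (coeff_mem hΔ _)
              (Finsupp.single_mem_supported ℤ 1 haΔ))) ?_
          rw [hcsum, LinearMap.map_smul, map_sub, coeff_sum hΔ, Finsupp.linearCombination_single,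
            one_smul, natCast_zsmul]
        have hca : c a = 0 := by
          by_contra hne
          exact haΔ' (hc (Finsupp.mem_support_iff.mpr hne))
        rw [hceq] at hca
        simp only [Finsupp.coe_smul, Finsupp.coe_sub, Pi.smul_apply, Pi.sub_apply,
          Finsupp.single_eq_same, smul_eq_mul] at hca
        have hm' : (m : ℤ) ≠ 0 := by exact_mod_cast hm.ne'
        have h1 : coeff P Δ (wd P l • a) a - 1 = 0 := (mul_eq_zero.mp hca).resolve_left hm'
        have h2 := (neg_mem_natSpan_iff hΔ (wd P l • a)).mp hneg a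
        omega
      have hl' : l = l.dropLast ++ [a] := (List.dropLast_append_getLast hnil).symm
      have hwd : wd P l = wd P l.dropLast * Equiv.reflection P a := by
        conv_lhs => rw [hl']
        rw [wd_append, wd_cons, wd_nil, mul_one]
      have hrefl2 : Equiv.reflection P a * Equiv.reflection P a = 1 := by
        rw [mul_eq_one_iff_inv_eq, Equiv.reflection_inv]
      have hwd' : wd P l.dropLast = wd P l * Equiv.reflection P a := by
        rw [hwd, mul_assoc, hrefl2, mul_one]
      have hmv' : MovesIn P Δ' (wd P l.dropLast) := by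
        rw [hwd']
        exact movesIn_mul Δ' _ _ hmv (movesIn_reflection Δ' haΔ')
      have hlen' : l.dropLast.length < n := by
        rw [List.length_dropLast, hlen]
        have : 0 < l.length := List.length_pos_iff.mpr hnil
        omega
      have := ih _ hlen' l.dropLast (fun x hx => hl x (List.mem_of_mem_dropLast hx)) rfl hmv'
      rw [hwd]
      exact mul_mem this (Subgroup.subset_closure ⟨a, haΔ', rfl⟩)
    · push Not at hmin
      obtain ⟨l', hl', hwl', hlt⟩ := hmin
      rw [← hwl']
      exact ih _ (hlen ▸ hlt) l' hl' rfl (hwl' ▸ hmv)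


end Groth.Agent.H3RootD
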