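import Mathlib
import Groth.Agent.Lib.helper3.RootInt5
import Groth.Agent.Lib.helper3.RootDual
set_option autoImplicit false
open RootPairing Set Function Submodule Module

namespace Groth.Agent.H3RootD

section pres
variable {ι : Type*} {R : Type*} {M : Type*} {N : Type*}
  [CommRing R] [IsDomain R] [CharZero R]
  [AddCommGroup M] [Module R M] [AddCommGroup N] [Module R N]
  (P : RootPairing ι R M N) [Finite ι] [P.IsCrystallographic] [P.IsReduced]

/-- the relation attached to a pair of roots -/
noncomputable def corel (p : ι × ι) : ι →₀ ℤ :=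
  Finsupp.single (P.reflectionPerm p.1 p.2) (1 : ℤ) - Finsupp.single p.2 1 +
    P.pairingIn ℤ p.1 p.2 • Finsupp.single p.1 1

omit [IsDomain R] [CharZero R] [Finite ι] [P.IsReduced] in
theorem corel_mem_ker (p : ι × ι) :
    Finsupp.linearCombination ℤ (fun i : ι => (P.coroot i : N)) (corel P p) = 0 := by
  unfold corel
  rw [map_add, map_sub, map_smul, Finsupp.linearCombination_single,
    Finsupp.linearCombination_single, Finsupp.linearCombination_single, one_smul, one_smul,
    one_smul, P.coroot_reflectionPerm, P.coreflection_apply_coroot,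
    ← Int.cast_smul_eq_zsmul R (P.pairingIn ℤ p.1 p.2)]
  have : ((P.pairingIn ℤ p.1 p.2 : ℤ) : R) = P.pairing p.1 p.2 := P.algebraMap_pairingIn ℤ p.1 p.2
  rw [this]
  abel

theorem coroot_linInd_of_simpleSys (Δ : Set ι) (hΔ : RootD.IsSimpleSys (intForm P) Δ)
    (c : ι →₀ ℤ) (hc : (c.support : Set ι) ⊆ Δ)
    (h0 : Finsupp.linearCombination ℤ (fun i : ι => (P.coroot i : N)) c = 0) : c = 0 := by
  have hli := linearIndepOn_coroot (P := intForm P) Δ hΔ.linInd
  rw [linearIndepOn_iff] at hli
  refine hli c ((Finsupp.mem_supported ℤ c).2 hc) ?_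
  ext x
  rw [LinearMap.zero_apply]
  have hcast : (((Finsupp.linearCombination ℤ (intForm P).coroot c) x : ℤ) : R)
      = P.toLinearMap (x : M) (Finsupp.linearCombination ℤ (fun i : ι => (P.coroot i : N)) c) := by
    rw [Finsupp.linearCombination_apply, Finsupp.linearCombination_apply, Finsupp.sum, Finsupp.sum,
      LinearMap.sum_apply, Int.cast_sum, map_sum]
    refine Finset.sum_congr rfl fun i _ => ?_
    rw [LinearMap.smul_apply, smul_eq_mul, Int.cast_mul, ← Int.cast_smul_eq_zsmul R (c i),
      map_smul, smul_eq_mul]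
    congr 1
    exact coroot'In_apply_cast P i x
  rw [h0, map_zero] at hcast
  exact_mod_cast hcast

theorem exists_simple_rep (Δ : Set ι) (hΔ : RootD.IsSimpleSys (intForm P) Δ) (β : ι) :
    ∃ c : ι →₀ ℤ, (c.support : Set ι) ⊆ Δ ∧
      Finsupp.single β (1 : ℤ) - c ∈ Submodule.span ℤ (Set.range (corel P)) := by
  classical
  obtain ⟨g, hg, j, hj, rfl⟩ := indiv_conj_simple hΔ β (intForm_indiv β)
  have key : ∀ β' : ι, (∃ c : ι →₀ ℤ, (c.support : Set ι) ⊆ Δ ∧
      Finsupp.single β' (1 : ℤ) - c ∈ Submodule.span ℤ (Set.range (corel P))) →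
      ∃ c : ι →₀ ℤ, (c.support : Set ι) ⊆ Δ ∧
        Finsupp.single (g • β') (1 : ℤ) - c ∈ Submodule.span ℤ (Set.range (corel P)) := by
    have hrefl : ∀ α ∈ Δ, ∀ β' : ι, (∃ c : ι →₀ ℤ, (c.support : Set ι) ⊆ Δ ∧
        Finsupp.single β' (1 : ℤ) - c ∈ Submodule.span ℤ (Set.range (corel P))) →
        ∃ c : ι →₀ ℤ, (c.support : Set ι) ⊆ Δ ∧
          Finsupp.single (P.reflectionPerm α β') (1 : ℤ) - c
            ∈ Submodule.span ℤ (Set.range (corel P)) := by
      rintro α hα β' ⟨c, hc, hmem⟩
      refine ⟨c - P.pairingIn ℤ α β' • Finsupp.single α 1, ?_, ?_⟩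
      · intro i hi
        have hi' := Finsupp.support_sub hi
        rcases Finset.mem_union.1 hi' with h | h
        · exact hc h
        · have h2 := Finsupp.support_smul h
          have h3 := Finsupp.support_single_subset h2
          rw [Finset.mem_singleton] at h3
          rw [h3]; exact hα
      · have e : Finsupp.single (P.reflectionPerm α β') (1 : ℤ)
            - (c - P.pairingIn ℤ α β' • Finsupp.single α 1)
            = corel P (α, β') + (Finsupp.single β' (1 : ℤ) - c) := by
          unfold corel
          abel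
        rw [e]
        exact Submodule.add_mem _ (Submodule.subset_span ⟨(α, β'), rfl⟩) hmem
    induction hg using Subgroup.closure_induction'' with
    | mem x hx =>
      obtain ⟨α, hα, rfl⟩ := hx
      intro β' h
      exact hrefl α hα β' h
    | inv_mem x hx =>
      obtain ⟨α, hα, rfl⟩ := hx
      intro β' h
      rw [Equiv.reflection_inv]
      exact hrefl α hα β' h
    | one =>
      intro β' h
      rw [one_smul]
      exact h
    | mul x y _ _ hx hy =>
      intro β' h
      rw [mul_smul]
      exact hx _ (hy _ h)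
  refine key j ⟨Finsupp.single j 1, ?_, ?_⟩
  · intro i hi
    have := Finsupp.support_single_subset hi
    rw [Finset.mem_singleton] at this
    rw [this]; exact hj
  · rw [sub_self]; exact Submodule.zero_mem _

theorem ker_coroot_presentation :
    LinearMap.ker (Finsupp.linearCombination ℤ (fun i : ι => (P.coroot i : N))) =
      Submodule.span ℤ (Set.range (corel P)) := by
  classical
  apply le_antisymm
  · intro x hx
    rw [LinearMap.mem_ker] at hx
    obtain ⟨Δ, hΔ⟩ := exists_simpleSys (P := intForm P)
    choose cf hcf1 hcf2 using exists_simple_rep P Δ hΔ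
    set c : ι →₀ ℤ := x.sum (fun β n => n • cf β) with hc
    have hxc : x - c ∈ Submodule.span ℤ (Set.range (corel P)) := by
      have : x - c = x.sum (fun β n => n • (Finsupp.single β (1 : ℤ) - cf β)) := by
        conv_lhs => rw [← Finsupp.sum_single x]
        rw [hc, ← Finsupp.sum_sub]
        refine Finsupp.sum_congr fun β _ => ?_
        rw [smul_sub, Finsupp.smul_single, smul_eq_mul, mul_one]
      rw [this]
      exact Submodule.sum_mem _ fun β _ => Submodule.smul_mem _ _ (hcf2 β)
    have hcsupp : (c.support : Set ι) ⊆ Δ := by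
      intro i hi
      rw [hc] at hi
      have h1 := Finsupp.support_sum hi
      obtain ⟨β, _, hβ⟩ := Finset.mem_biUnion.1 h1
      exact hcf1 β (Finsupp.support_smul hβ)
    have hker : Submodule.span ℤ (Set.range (corel P))
        ≤ LinearMap.ker (Finsupp.linearCombination ℤ (fun i : ι => (P.coroot i : N))) := by
      rw [Submodule.span_le]
      rintro _ ⟨p, rfl⟩
      exact corel_mem_ker P p
    have hLc : Finsupp.linearCombination ℤ (fun i : ι => (P.coroot i : N)) c = 0 := by
      have h1 := hker hxc
      rw [LinearMap.mem_ker, map_sub, hx, zero_sub, neg_eq_zero] at h1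
      exact h1
    have hc0 := coroot_linInd_of_simpleSys P Δ hΔ c hcsupp hLc
    rw [hc0, sub_zero] at hxc
    exact hxc
  · rw [Submodule.span_le]
    rintro _ ⟨p, rfl⟩
    exact corel_mem_ker P p

end pres

end Groth.Agent.H3RootD

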