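import Mathlib
set_option autoImplicit false
open RootPairing Set Function Submodule Module

namespace Groth.Agent.H3RootD

section quad
variable {ι : Type*} {R : Type*} {M : Type*} {N : Type*}
  [CommRing R] [IsDomain R] [CharZero R]
  [AddCommGroup M] [Module R M] [AddCommGroup N] [Module R N]
  (P : RootPairing ι R M N)

omit [IsDomain R] [CharZero R] in
theorem quad_coreflection (Q : QuadraticMap R N R) (i : ι) (y : N) :
    Q (P.coreflection i y) = Q y + P.root' i y * P.root' i y * Q (P.coroot i)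
      - P.root' i y * QuadraticMap.polar Q y (P.coroot i) := by
  rw [P.coreflection_apply, sub_eq_add_neg, ← neg_smul]
  have h := QuadraticMap.polar Q y (-(P.root' i y) • P.coroot i)
  have e : Q (y + -(P.root' i y) • P.coroot i) = Q y + Q (-(P.root' i y) • P.coroot i)
      + QuadraticMap.polar Q y (-(P.root' i y) • P.coroot i) := by
    unfold QuadraticMap.polar
    ring
  rw [e, QuadraticMap.map_smul, QuadraticMap.polar_smul_right]
  simp only [smul_eq_mul]
  ring

/-- invariance under a coreflection on a submodule containing the coroot pins down the polar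
form against the coroot. -/
theorem polar_coroot_of_invariant (Q : QuadraticMap R N R) (S : Submodule R N) (i : ι)
    (hi : P.coroot i ∈ S) (hinv : ∀ y ∈ S, Q (P.coreflection i y) = Q y) (y : N) (hy : y ∈ S) :
    QuadraticMap.polar Q y (P.coroot i) = P.root' i y * Q (P.coroot i) := by
  have h1 := hinv y hy
  have h2 := hinv (y + P.coroot i) (S.add_mem hy hi)
  rw [quad_coreflection] at h1 h2
  have hp : QuadraticMap.polar Q (y + P.coroot i) (P.coroot i)
      = QuadraticMap.polar Q y (P.coroot i) + 2 * Q (P.coroot i) := by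
    rw [QuadraticMap.polar_add_left, QuadraticMap.polar_self]
    simp
  have hr : P.root' i (y + P.coroot i) = P.root' i y + 2 := by
    rw [map_add]
    congr 1
    exact P.root_coroot_two i
  rw [hp, hr] at h2
  set c := P.root' i y with hc
  set q := Q (P.coroot i) with hq
  set p := QuadraticMap.polar Q y (P.coroot i) with hp'
  have e1 : c * (c * q - p) = 0 := by linear_combination h1
  have e2 : (c + 2) * (c * q - p) = 0 := by linear_combination h2
  have e3 : (2 : R) * (c * q - p) = 0 := by linear_combination e2 - e1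
  have h2ne : (2 : R) ≠ 0 := two_ne_zero
  have := (mul_eq_zero.1 e3).resolve_left h2ne
  linear_combination -this

/-- An invariant quadratic form vanishing on a coroot vanishes (irreducible case). -/
theorem quad_eq_zero_of_irreducible [P.IsIrreducible]
    (Q : QuadraticMap R N R) (hQ : ∀ (i : ι) (y : N), Q (P.coreflection i y) = Q y)
    (i₀ : ι) (h0 : Q (P.coroot i₀) = 0) : Q = 0 := by
  have hpol : ∀ (i : ι) (y : N),
      QuadraticMap.polar Q y (P.coroot i) = P.root' i y * Q (P.coroot i) := fun i y =>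
    polar_coroot_of_invariant P Q ⊤ i Submodule.mem_top (fun y _ => hQ i y) y Submodule.mem_top
  set Z : Set ι := {i | Q (P.coroot i) = 0} with hZ
  set q : Submodule R N := Submodule.span R (P.coroot '' Z) with hq
  have hinv : ∀ j, q ∈ Module.End.invtSubmodule (P.coreflection j).toLinearMap := by
    intro j
    rw [Module.End.mem_invtSubmodule, hq, Submodule.span_le]
    rintro _ ⟨i, hi, rfl⟩
    change P.coreflection j (P.coroot i) ∈ Submodule.span R (P.coroot '' Z)
    rw [P.coreflection_apply]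
    refine Submodule.sub_mem _ (Submodule.subset_span ⟨i, hi, rfl⟩) ?_
    by_cases hz : P.root' j (P.coroot i) = 0
    · rw [hz, zero_smul]; exact Submodule.zero_mem _
    · refine Submodule.smul_mem _ _ (Submodule.subset_span ⟨j, ?_, rfl⟩)
      have e1 := hpol j (P.coroot i)
      have e2 := hpol i (P.coroot j)
      rw [QuadraticMap.polar_comm] at e2
      have hi0 : Q (P.coroot i) = 0 := hi
      rw [hi0, mul_zero] at e2
      rw [e2] at e1
      exact (mul_eq_zero.1 e1.symm).resolve_left hz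
  have hne : q ≠ ⊥ := by
    intro hbot
    have : P.coroot i₀ ∈ q := Submodule.subset_span ⟨i₀, h0, rfl⟩
    rw [hbot, Submodule.mem_bot] at this
    exact P.flip.ne_zero i₀ this
  have htop : q = ⊤ := IsIrreducible.eq_top_of_invtSubmodule_coreflection q hinv hne
  have key : ∀ y ∈ q, Q y = 0 ∧ ∀ z, QuadraticMap.polar Q z y = 0 := by
    intro y hy
    refine Submodule.span_induction ?_ ?_ ?_ ?_ hy
    · rintro _ ⟨i, hi, rfl⟩
      refine ⟨hi, fun z => ?_⟩
      rw [hpol i z]
      have hi0 : Q (P.coroot i) = 0 := hi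
      rw [hi0, mul_zero]
    · exact ⟨QuadraticMap.map_zero Q, fun z => QuadraticMap.polar_zero_right Q z⟩
    · intro u v _ _ hu hv
      refine ⟨?_, fun z => ?_⟩
      · have : Q (u + v) = Q u + Q v + QuadraticMap.polar Q u v := by
          unfold QuadraticMap.polar; ring
        rw [this, hu.1, hv.1, hv.2 u]
        ring
      · rw [QuadraticMap.polar_add_right, hu.2 z, hv.2 z, add_zero]
    · intro a u _ hu
      refine ⟨?_, fun z => ?_⟩
      · rw [QuadraticMap.map_smul, hu.1, smul_zero]
      · rw [QuadraticMap.polar_smul_right, hu.2 z, smul_zero]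
  ext y
  have : y ∈ q := htop ▸ Submodule.mem_top
  exact (key y this).1

omit [IsDomain R] [CharZero R] in
theorem quad_sub_smul (Q : QuadraticMap R N R) (v z : N) (c : R) :
    Q (v - c • z) = Q v + c * c * Q z - c * QuadraticMap.polar Q v z := by
  rw [sub_eq_add_neg, ← neg_smul]
  have e : Q (v + -c • z) = Q v + Q (-c • z) + QuadraticMap.polar Q v (-c • z) := by
    unfold QuadraticMap.polar
    ring
  rw [e, QuadraticMap.map_smul, QuadraticMap.polar_smul_right]
  simp only [smul_eq_mul]
  ring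

omit [IsDomain R] [CharZero R] in
theorem quad_add (Q : QuadraticMap R N R) (u v : N) :
    Q (u + v) = Q u + Q v + QuadraticMap.polar Q u v := by
  unfold QuadraticMap.polar
  ring

/-- extension of an invariant form on `D` by a bilinear form. -/
theorem exists_invariant_extension (D Y₀ : Submodule R N) (hD : ∀ i : ι, P.coroot i ∈ D)
    (hc : IsCompl Y₀ D)
    (Qd : QuadraticMap R N R) (hQd : ∀ i : ι, ∀ y ∈ D, Qd (P.coreflection i y) = Qd y)
    (Φ : N →ₗ[R] N →ₗ[R] R) (hΦ : ∀ y₀ ∈ Y₀, ∀ i : ι,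
        Φ y₀ (P.coroot i) = P.root' i y₀ * Qd (P.coroot i)) :
    ∃ Q : QuadraticMap R N R, (∀ (i : ι) (y : N), Q (P.coreflection i y) = Q y) ∧
      ∀ y ∈ D, Q y = Qd y := by
  set p₀ : N →ₗ[R] N := Y₀.projection D hc with hp₀
  set pD : N →ₗ[R] N := D.projection Y₀ hc.symm with hpD
  have hsum : ∀ y : N, p₀ y + pD y = y := fun y =>
    Submodule.projection_add_projection_eq_self hc y
  have hp₀D : ∀ y ∈ D, p₀ y = 0 := fun y hy => Submodule.projection_apply_of_mem_right hc hy
  have hpDD : ∀ y ∈ D, pD y = y := fun y hy => Submodule.projection_apply_of_mem_left hc.symm hy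
  have hp₀mem : ∀ y, p₀ y ∈ Y₀ := fun y => Submodule.projection_apply_mem hc y
  have hpDmem : ∀ y, pD y ∈ D := fun y => Submodule.projection_apply_mem hc.symm y
  refine ⟨Qd.comp pD + LinearMap.BilinMap.toQuadraticMap (Φ.compl₁₂ p₀ pD), fun i y => ?_,
    fun y hy => ?_⟩
  · have hval : ∀ z : N, (Qd.comp pD + LinearMap.BilinMap.toQuadraticMap (Φ.compl₁₂ p₀ pD)) z
        = Qd (pD z) + Φ (p₀ z) (pD z) := fun z => rfl
    rw [hval, hval]
    have hco : P.coreflection i y = y - P.root' i y • P.coroot i := P.coreflection_apply i y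
    have h1 : p₀ (P.coreflection i y) = p₀ y := by
      rw [hco, map_sub, map_smul, hp₀D _ (hD i), smul_zero, sub_zero]
    have h2 : pD (P.coreflection i y) = pD y - P.root' i y • P.coroot i := by
      rw [hco, map_sub, map_smul, hpDD _ (hD i)]
    rw [h1, h2, quad_sub_smul, map_sub, map_smul, smul_eq_mul, hΦ _ (hp₀mem y) i,
      polar_coroot_of_invariant P Qd D i (hD i) (hQd i) _ (hpDmem y)]
    have : P.root' i y = P.root' i (p₀ y) + P.root' i (pD y) := by
      rw [← map_add, hsum]
    rw [this]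
    ring
  · have hval : ∀ z : N, (Qd.comp pD + LinearMap.BilinMap.toQuadraticMap (Φ.compl₁₂ p₀ pD)) z
        = Qd (pD z) + Φ (p₀ z) (pD z) := fun z => rfl
    rw [hval, hp₀D y hy, hpDD y hy, map_zero, LinearMap.zero_apply, add_zero]

theorem invariant_ext (D Y₀ : Submodule R N) (hD : ∀ i : ι, P.coroot i ∈ D)
    (hDsat : ∀ y ∈ D, ∃ n : ℕ, 0 < n ∧ n • y ∈ Submodule.span R (Set.range P.coroot))
    (hc : IsCompl Y₀ D) (Q₁ Q₂ : QuadraticMap R N R)
    (h₁ : ∀ (i : ι) (y : N), Q₁ (P.coreflection i y) = Q₁ y)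
    (h₂ : ∀ (i : ι) (y : N), Q₂ (P.coreflection i y) = Q₂ y)
    (hD12 : ∀ y ∈ D, Q₁ y = Q₂ y) (hY : ∀ y ∈ Y₀, Q₁ y = Q₂ y) : Q₁ = Q₂ := by
  have hpol : ∀ (Q : QuadraticMap R N R), (∀ (i : ι) (y : N), Q (P.coreflection i y) = Q y) →
      ∀ (i : ι) (y : N), QuadraticMap.polar Q y (P.coroot i) = P.root' i y * Q (P.coroot i) :=
    fun Q hQ i y =>
      polar_coroot_of_invariant P Q ⊤ i Submodule.mem_top (fun y _ => hQ i y) y Submodule.mem_top
  have hspan : ∀ (u z : N), z ∈ Submodule.span R (Set.range P.coroot) →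
      QuadraticMap.polar Q₁ u z = QuadraticMap.polar Q₂ u z := by
    intro u z hz
    refine Submodule.span_induction ?_ ?_ ?_ ?_ hz
    · rintro _ ⟨i, rfl⟩
      rw [hpol Q₁ h₁, hpol Q₂ h₂, hD12 _ (hD i)]
    · rw [QuadraticMap.polar_zero_right, QuadraticMap.polar_zero_right]
    · intro a b _ _ ha hb
      rw [QuadraticMap.polar_add_right, QuadraticMap.polar_add_right, ha, hb]
    · intro a b _ hb
      rw [QuadraticMap.polar_smul_right, QuadraticMap.polar_smul_right, hb]
  have hpolD : ∀ (u v : N), v ∈ D → QuadraticMap.polar Q₁ u v = QuadraticMap.polar Q₂ u v := by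
    intro u v hv
    obtain ⟨n, hn, hnv⟩ := hDsat v hv
    have h := hspan u _ hnv
    rw [← Nat.cast_smul_eq_nsmul R n v, QuadraticMap.polar_smul_right,
      QuadraticMap.polar_smul_right, smul_eq_mul, smul_eq_mul] at h
    exact mul_left_cancel₀ (Nat.cast_ne_zero.2 hn.ne') h
  ext y
  have hy : y ∈ Y₀ ⊔ D := by rw [hc.sup_eq_top]; exact Submodule.mem_top
  obtain ⟨u, hu, v, hv, rfl⟩ := Submodule.mem_sup.1 hy
  rw [quad_add, quad_add, hY u hu, hD12 v hv, hpolD u v hv]

theorem exists_invariant_with_restriction (D Y₀ : Submodule R N) (hD : ∀ i : ι, P.coroot i ∈ D)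
    (hc : IsCompl Y₀ D) (Q' : QuadraticMap R N R)
    (hQ' : ∀ (i : ι) (y : N), Q' (P.coreflection i y) = Q' y) (q₀ : QuadraticMap R Y₀ R) :
    ∃ Q : QuadraticMap R N R, (∀ (i : ι) (y : N), Q (P.coreflection i y) = Q y) ∧
      (∀ y ∈ D, Q y = Q' y) ∧ Q.comp Y₀.subtype = q₀ := by
  set π₀ : N →ₗ[R] Y₀ := Y₀.projectionOnto D hc with hπ₀
  set p₀ : N →ₗ[R] N := Y₀.projection D hc with hp₀
  have hp₀D : ∀ y ∈ D, p₀ y = 0 := fun y hy => Submodule.projection_apply_of_mem_right hc hy
  have hπ₀D : ∀ y ∈ D, π₀ y = 0 := fun y hy => Submodule.projectionOnto_apply_of_mem_right hc hy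
  refine ⟨Q' - Q'.comp p₀ + q₀.comp π₀, fun i y => ?_, fun y hy => ?_, ?_⟩
  · have hval : ∀ z : N, (Q' - Q'.comp p₀ + q₀.comp π₀) z = Q' z - Q' (p₀ z) + q₀ (π₀ z) :=
      fun z => rfl
    have hco : P.coreflection i y = y - P.root' i y • P.coroot i := P.coreflection_apply i y
    have h1 : p₀ (P.coreflection i y) = p₀ y := by
      rw [hco, map_sub, map_smul, hp₀D _ (hD i), smul_zero, sub_zero]
    have h2 : π₀ (P.coreflection i y) = π₀ y := by
      rw [hco, map_sub, map_smul, hπ₀D _ (hD i), smul_zero, sub_zero]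
    rw [hval, hval, h1, h2, hQ']
  · have hval : ∀ z : N, (Q' - Q'.comp p₀ + q₀.comp π₀) z = Q' z - Q' (p₀ z) + q₀ (π₀ z) :=
      fun z => rfl
    rw [hval, hp₀D y hy, hπ₀D y hy, QuadraticMap.map_zero, QuadraticMap.map_zero, sub_zero,
      add_zero]
  · ext y
    have hval : ∀ z : N, (Q' - Q'.comp p₀ + q₀.comp π₀) z = Q' z - Q' (p₀ z) + q₀ (π₀ z) :=
      fun z => rfl
    change (Q' - Q'.comp p₀ + q₀.comp π₀) (y : N) = q₀ y
    rw [hval, Submodule.projection_apply_left hc y, Submodule.projectionOnto_apply_left hc y,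
      sub_self, zero_add]

end quad

end Groth.Agent.H3RootD

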