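import Mathlib
import Groth.Agent.Lib.helper3.RootQuad
import Groth.Agent.Lib.helper3.RootInt5
set_option autoImplicit false
open RootPairing Set Function Submodule Module

namespace Groth.Agent.H3RootD

section quad2
variable {ι : Type*} {R : Type*} {M : Type*} {N : Type*}
  [CommRing R] [IsDomain R] [CharZero R]
  [AddCommGroup M] [Module R M] [AddCommGroup N] [Module R N]
  (P : RootPairing ι R M N)

omit [IsDomain R] [CharZero R] in
theorem root'_coreflection (k i : ι) (y : N) :
    P.root' i (P.coreflection k y) = P.root' (P.reflectionPerm k i) y := by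
  have h1 : P.root (P.reflectionPerm k i) = P.root i - P.pairing i k • P.root k := by
    rw [P.root_reflectionPerm, P.reflection_apply_root]
  change P.toLinearMap (P.root i) (P.coreflection k y) = P.toLinearMap (P.root (P.reflectionPerm k i)) y
  rw [h1, P.coreflection_apply, map_sub, map_sub, map_smul, map_smul, LinearMap.sub_apply,
    LinearMap.smul_apply, smul_eq_mul, smul_eq_mul]
  have h2 : P.toLinearMap (P.root i) (P.coroot k) = P.pairing i k := rfl
  rw [h2]
  change _ - P.toLinearMap (P.root k) y * _ = _
  ring

theorem invariant_of_simple [Finite ι] [P.IsCrystallographic] [P.IsReduced] (b : P.Base)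
    (Q : QuadraticMap R N R)
    (hs : ∀ i ∈ b.support, ∀ j ∈ b.support, i ≠ j →
      QuadraticMap.polar Q (P.coroot i) (P.coroot j) = P.pairing j i * Q (P.coroot j))
    (i : ι) (y : N) (hy : y ∈ Submodule.span R (Set.range P.coroot)) :
    Q (P.coreflection i y) = Q y := by
  set S := Submodule.span R (Set.range P.coroot) with hS
  have hcoS : ∀ l, P.coroot l ∈ S := fun l => Submodule.subset_span ⟨l, rfl⟩
  have hstab : ∀ k, ∀ y ∈ S, P.coreflection k y ∈ S := by
    intro k y hy
    rw [P.coreflection_apply]
    exact S.sub_mem hy (S.smul_mem _ (hcoS k))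
  -- the claim for simple roots
  have hsimple : ∀ k ∈ b.support, ∀ y ∈ S,
      QuadraticMap.polar Q y (P.coroot k) = P.root' k y * Q (P.coroot k) := by
    intro k hk y hy
    have hgen : ∀ l ∈ b.support,
        QuadraticMap.polar Q (P.coroot l) (P.coroot k) = P.root' k (P.coroot l) * Q (P.coroot k) := by
      intro l hl
      by_cases hlk : l = k
      · subst hlk
        rw [QuadraticMap.polar_self]
        have : P.root' l (P.coroot l) = 2 := P.root_coroot_two l
        rw [this]
        simp
      · exact hs l hl k hk hlk
    have hmon : ∀ z ∈ AddSubmonoid.closure (P.coroot '' (b.support : Set ι)),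
        QuadraticMap.polar Q z (P.coroot k) = P.root' k z * Q (P.coroot k) := by
      intro z hz
      refine AddSubmonoid.closure_induction ?_ ?_ ?_ hz
      · rintro _ ⟨l, hl, rfl⟩
        exact hgen l hl
      · rw [QuadraticMap.polar_zero_left, map_zero, zero_mul]
      · intro u v _ _ hu hv
        rw [QuadraticMap.polar_add_left, hu, hv, map_add, add_mul]
    refine Submodule.span_induction ?_ ?_ ?_ ?_ hy
    · rintro _ ⟨l, rfl⟩
      rcases b.coroot_mem_or_neg_mem l with h | h
      · exact hmon _ h
      · have := hmon _ h
        rw [QuadraticMap.polar_neg_left, map_neg, neg_mul] at this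
        exact neg_injective this
    · rw [QuadraticMap.polar_zero_left, map_zero, zero_mul]
    · intro u v _ _ hu hv
      rw [QuadraticMap.polar_add_left, hu, hv, map_add, add_mul]
    · intro a u _ hu
      rw [QuadraticMap.polar_smul_left, hu, map_smul, smul_eq_mul, smul_eq_mul, mul_assoc]
  have hinv_of : ∀ k, (∀ y ∈ S,
      QuadraticMap.polar Q y (P.coroot k) = P.root' k y * Q (P.coroot k)) →
      ∀ y ∈ S, Q (P.coreflection k y) = Q y := by
    intro k hk y hy
    rw [quad_coreflection, hk y hy]
    ring
  have hinvs : ∀ k ∈ b.support, ∀ y ∈ S, Q (P.coreflection k y) = Q y := fun k hk =>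
    hinv_of k (hsimple k hk)
  -- transport of the claim along simple reflections
  have hstep : ∀ k ∈ b.support, ∀ i', (∀ y ∈ S,
      QuadraticMap.polar Q y (P.coroot i') = P.root' i' y * Q (P.coroot i')) →
      ∀ y ∈ S, QuadraticMap.polar Q y (P.coroot (P.reflectionPerm k i'))
        = P.root' (P.reflectionPerm k i') y * Q (P.coroot (P.reflectionPerm k i')) := by
    intro k hk i' hi' y hy
    rw [P.coroot_reflectionPerm]
    set z := P.coroot i' with hz
    have hzS : z ∈ S := hcoS i'
    have e1 : QuadraticMap.polar Q y (P.coreflection k z)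
        = QuadraticMap.polar Q (P.coreflection k y) z := by
      unfold QuadraticMap.polar
      have e : P.coreflection k (P.coreflection k y + z) = y + P.coreflection k z := by
        rw [(P.coreflection k).map_add, P.coreflection_same]
      have a1 : Q (y + P.coreflection k z) = Q (P.coreflection k y + z) := by
        rw [← e, hinvs k hk (P.coreflection k y + z) (S.add_mem (hstab k y hy) hzS)]
      rw [a1, hinvs k hk y hy, hinvs k hk z hzS]
    rw [e1, hi' _ (hstab k y hy), hinvs k hk z hzS, root'_coreflection]
  have hall : ∀ i, ∀ y ∈ S,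
      QuadraticMap.polar Q y (P.coroot i) = P.root' i y * Q (P.coroot i) := by
    intro i
    obtain ⟨g, hg, j, hj, rfl⟩ := base_conj_simple b i
    rw [← base_reflections_closure b] at hg
    have key : ∀ i', (∀ y ∈ S,
        QuadraticMap.polar Q y (P.coroot i') = P.root' i' y * Q (P.coroot i')) →
        ∀ y ∈ S, QuadraticMap.polar Q y (P.coroot (g • i')) = P.root' (g • i') y * Q (P.coroot (g • i')) := by
      induction hg using Subgroup.closure_induction'' with
      | mem x hx =>
        obtain ⟨k, hk, rfl⟩ := hx
        intro i' hi'
        exact hstep k hk i' hi'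
      | inv_mem x hx =>
        obtain ⟨k, hk, rfl⟩ := hx
        intro i' hi'
        rw [Equiv.reflection_inv]
        exact hstep k hk i' hi'
      | one =>
        intro i' hi'
        rw [one_smul]
        exact hi'
      | mul x y _ _ hx hy =>
        intro i' hi'
        rw [mul_smul]
        exact hx _ (hy _ hi')
    exact key j (hsimple j hj)
  exact hinv_of i (hall i) y hy

end quad2

end Groth.Agent.H3RootD

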