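import Mathlib
import Groth.Agent.Lib.helper3.RootWeyl
import Groth.Agent.Lib.helper3.RootLong

namespace Groth.Agent.H3RootD

variable {ι M N : Type*} [AddCommGroup M] [AddCommGroup N] {P : RootPairing ι ℤ M N}

open RootPairing

theorem refl_neg (i : ι) : P.reflection (P.reflectionPerm i i) = P.reflection i := by
  ext x
  rw [P.reflection_apply, P.reflection_apply, neg_root]
  have : P.coroot' (P.reflectionPerm i i) x = -P.coroot' i x := by
    change P.toLinearMap x (P.coroot _) = -P.toLinearMap x (P.coroot i)
    rw [coroot_neg, map_neg]
  rw [this]
  simp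

theorem refl_two [Finite ι] (k k' : ι) (h : P.root k = (2 : ℤ) • P.root k') :
    P.reflection k = P.reflection k' := by
  have := congrArg (fun g : P.Aut => g.weightEquiv) (reflection_eq_of_two_smul k k' h)
  simpa using this


end Groth.Agent.H3RootD
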