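import Mathlib
import Groth.Agent.Lib.helper3.RootDual
set_option autoImplicit false
open RootPairing

namespace Groth.Agent.H3RootD

section func
variable {M : Type*} [AddCommGroup M]

/-- Avoidance: a submodule of functionals separating each of finitely many vectors from zero
contains a functional non-zero on all of them. -/
theorem exists_functional_avoid (V : Submodule ℤ (M →ₗ[ℤ] ℤ)) {κ : Type*} (s : Finset κ) (v : κ → M)
    (h : ∀ k ∈ s, ∃ f ∈ V, f (v k) ≠ 0) : ∃ f ∈ V, ∀ k ∈ s, f (v k) ≠ 0 := by
  classical
  induction s using Finset.induction_on with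
  | empty => exact ⟨0, V.zero_mem, by simp⟩
  | insert j s hj ih =>
    obtain ⟨f, hfV, hf⟩ := ih (fun k hk => h k (Finset.mem_insert_of_mem hk))
    by_cases hjf : f (v j) = 0
    · obtain ⟨fj, hfjV, hfj⟩ := h j (Finset.mem_insert_self j s)
      set B : ℤ := ∑ i ∈ s, |fj (v i)| + 1 with hB
      have hBpos : 0 < B := by positivity
      refine ⟨B • f + fj, V.add_mem (V.smul_mem _ hfV) hfjV, fun i hi => ?_⟩
      rw [LinearMap.add_apply, LinearMap.smul_apply, smul_eq_mul]
      rcases Finset.mem_insert.mp hi with rfl | his
      · rw [hjf, mul_zero, zero_add]; exact hfj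
      · have h1 : |fj (v i)| < B := by
          have := Finset.single_le_sum (f := fun i => |fj (v i)|) (fun i _ => abs_nonneg _) his
          omega
        have h2 : 1 ≤ |f (v i)| := Int.one_le_abs (hf i his)
        intro h0
        have : |B * f (v i)| = |fj (v i)| := by
          rw [show B * f (v i) = -fj (v i) by linarith, abs_neg]
        rw [abs_mul, abs_of_pos hBpos] at this
        nlinarith
    · refine ⟨f, hfV, fun i hi => ?_⟩
      rcases Finset.mem_insert.mp hi with rfl | his
      · exact hjf
      · exact hf i his

end func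

variable {ι M N : Type*} [AddCommGroup M] [AddCommGroup N] (P : RootPairing ι ℤ M N)

theorem perm_closure_root_sub (R' : Set ι) (σ : Equiv.Perm ι)
    (hσ : σ ∈ Subgroup.closure ((fun r => P.reflectionPerm r) '' R')) (l : ι) :
    P.root (σ l) - P.root l ∈ Submodule.span ℤ (P.root '' R') := by
  induction hσ using Subgroup.closure_induction generalizing l with
  | mem x hx =>
    obtain ⟨r, hr, rfl⟩ := hx
    rw [← P.reflectionPerm_root r l, sub_sub_cancel_left]
    exact Submodule.neg_mem _ (Submodule.smul_mem _ _ (Submodule.subset_span ⟨r, hr, rfl⟩))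
  | one => simp
  | mul x y _ _ hx hy =>
    have : P.root ((x * y) l) - P.root l =
        (P.root (x (y l)) - P.root (y l)) + (P.root (y l) - P.root l) := by
      rw [Equiv.Perm.mul_apply]; abel
    rw [this]
    exact Submodule.add_mem _ (hx (y l)) (hy l)
  | inv x _ hx =>
    have : P.root (x⁻¹ l) - P.root l = -(P.root (x (x⁻¹ l)) - P.root (x⁻¹ l)) := by
      simp
    rw [this]
    exact Submodule.neg_mem _ (hx _)

end Groth.Agent.H3RootD
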