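import Mathlib
import Groth.Agent.Lib.helper3.RootSat0
set_option autoImplicit false
open RootPairing

namespace Groth.Agent.H3RootD

variable {ι M N : Type*} [AddCommGroup M] [AddCommGroup N] (P : RootPairing ι ℤ M N)

theorem exists_functional_single [Finite ι] (R' : Set ι)
    (hsat : ∀ k : ι, (∃ n : ℕ, 0 < n ∧ n • P.root k ∈ Submodule.span ℤ (P.root '' R')) → k ∈ R')
    (k : ι) (hk : k ∉ R') :
    ∃ f : M →ₗ[ℤ] ℤ, (∀ r ∈ R', f (P.root r) = 0) ∧ f (P.root k) ≠ 0 := by
  classical
  have : Fintype ι := Fintype.ofFinite ι
  have : IsAddTorsionFree M := tfM P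
  have : Module.IsReflexive ℤ M := .of_isPerfPair P.toLinearMap
  set H := Subgroup.closure ((fun r => P.reflectionPerm r) '' R') with hH
  set O : Finset ι := Finset.univ.filter (fun l => ∃ σ ∈ H, σ k = l) with hO
  have hkO : k ∈ O := by
    rw [hO, Finset.mem_filter]
    exact ⟨Finset.mem_univ _, 1, one_mem _, rfl⟩
  set avg : M := ∑ l ∈ O, P.root l with havg
  have h_i : ∀ l ∈ O, P.root l - P.root k ∈ Submodule.span ℤ (P.root '' R') := by
    intro l hl
    rw [hO, Finset.mem_filter] at hl
    obtain ⟨-, σ, hσ, rfl⟩ := hl
    exact perm_closure_root_sub P R' σ hσ k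
  have h_ii : avg - O.card • P.root k ∈ Submodule.span ℤ (P.root '' R') := by
    have : avg - O.card • P.root k = ∑ l ∈ O, (P.root l - P.root k) := by
      rw [Finset.sum_sub_distrib, Finset.sum_const]
    rw [this]
    exact Submodule.sum_mem _ h_i
  have h_iii : ∀ r ∈ R', P.toLinearMap avg (P.coroot r) = 0 := by
    intro r hr
    have hsr : P.reflectionPerm r ∈ H := Subgroup.subset_closure ⟨r, hr, rfl⟩
    have hperm : ∀ l, l ∈ O ↔ P.reflectionPerm r l ∈ O := by
      intro l
      simp only [hO, Finset.mem_filter, Finset.mem_univ, true_and]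
      constructor
      · rintro ⟨σ, hσ, rfl⟩
        exact ⟨P.reflectionPerm r * σ, mul_mem hsr hσ, rfl⟩
      · rintro ⟨σ, hσ, h⟩
        refine ⟨P.reflectionPerm r * σ, mul_mem hsr hσ, ?_⟩
        rw [Equiv.Perm.mul_apply, h, P.reflectionPerm_self]
    have hfix : P.reflection r avg = avg := by
      rw [havg, map_sum]
      simp_rw [← P.root_reflectionPerm]
      exact Finset.sum_equiv (P.reflectionPerm r) (fun l => hperm l) (fun _ _ => rfl)
    rw [P.reflection_apply] at hfix
    have h0 : P.coroot' r avg • P.root r = 0 := by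
      have := sub_eq_self.mp hfix
      exact this
    rcases smul_eq_zero.mp h0 with h | h
    · exact h
    · exact absurd h (P.ne_zero r)
  have hsymm : ∀ x y : M, P.RootForm x y = P.RootForm y x := by
    intro x y; simp [P.rootForm_apply_apply, mul_comm]
  refine ⟨P.toLinearMap.flip (P.Polarization avg), ?_, ?_⟩
  · intro r hr
    rw [LinearMap.flip_apply, P.toLinearMap_apply_apply_Polarization, hsymm,
      ← P.toLinearMap_apply_apply_Polarization]
    have h2 : (2 : ℤ) * P.toLinearMap avg (P.Polarization (P.root r)) = 0 := by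
      have := P.rootForm_self_smul_coroot r
      rw [← smul_eq_mul, ← map_smul, ofNat_zsmul, ← this, map_smul, h_iii r hr, smul_zero]
    omega
  · intro h0
    have hvan : ∀ u ∈ Submodule.span ℤ (P.root '' R'),
        P.toLinearMap.flip (P.Polarization avg) u = 0 := by
      intro u hu
      induction hu using Submodule.span_induction with
      | mem y hy =>
        obtain ⟨r, hr, rfl⟩ := hy
        rw [LinearMap.flip_apply, P.toLinearMap_apply_apply_Polarization, hsymm,
          ← P.toLinearMap_apply_apply_Polarization]
        have h2 : (2 : ℤ) * P.toLinearMap avg (P.Polarization (P.root r)) = 0 := by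
          have := P.rootForm_self_smul_coroot r
          rw [← smul_eq_mul, ← map_smul, ofNat_zsmul, ← this, map_smul, h_iii r hr, smul_zero]
        omega
      | zero => simp
      | add a b _ _ ha hb => rw [map_add, ha, hb, add_zero]
      | smul c a _ ha => rw [map_smul, ha, smul_zero]
    have havg_eq : avg = (avg - O.card • P.root k) + O.card • P.root k := by abel
    have hself : P.RootForm avg avg = 0 := by
      rw [← P.toLinearMap_apply_apply_Polarization, ← LinearMap.flip_apply]
      nth_rewrite 2 [havg_eq]
      rw [map_add, hvan _ h_ii, map_nsmul, h0, smul_zero, add_zero]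
    have havg_span : avg ∈ Submodule.span ℤ (Set.range P.root) :=
      Submodule.sum_mem _ (fun l _ => Submodule.subset_span ⟨l, rfl⟩)
    have havg0 : avg = 0 := by
      by_contra hne
      have := P.rootForm_pos_of_ne_zero havg_span hne
      omega
    apply hk
    apply hsat k
    refine ⟨O.card, Finset.card_pos.mpr ⟨k, hkO⟩, ?_⟩
    have := Submodule.neg_mem _ h_ii
    rw [havg0, zero_sub, neg_neg] at this
    exact this

end Groth.Agent.H3RootD
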