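import Mathlib
import Groth.Agent.Lib.helper3.RootSat1
import Groth.Agent.Lib.helper3.RootTrans
set_option autoImplicit false
open RootPairing

namespace Groth.Agent.H3RootD

variable {ι M N : Type*} [AddCommGroup M] [AddCommGroup N] (P : RootPairing ι ℤ M N)

theorem exists_functional_of_sat [Finite ι] (R' : Set ι)
    (hsat : ∀ k : ι, (∃ n : ℕ, 0 < n ∧ n • P.root k ∈ Submodule.span ℤ (P.root '' R')) → k ∈ R') :
    ∃ f : M →ₗ[ℤ] ℤ, ∀ k, f (P.root k) = 0 ↔ k ∈ R' := by
  classical
  have : Fintype ι := Fintype.ofFinite ι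
  let V : Submodule ℤ (M →ₗ[ℤ] ℤ) :=
    { carrier := {f | ∀ r ∈ R', f (P.root r) = 0}
      add_mem' := fun {a b} ha hb r hr => by rw [LinearMap.add_apply, ha r hr, hb r hr, add_zero]
      zero_mem' := fun r _ => rfl
      smul_mem' := fun c a ha r hr => by rw [LinearMap.smul_apply, ha r hr, smul_zero] }
  obtain ⟨f, hfV, hf⟩ := exists_functional_avoid V (Finset.univ.filter (fun k => k ∉ R')) P.root
    (fun k hk => by
      rw [Finset.mem_filter] at hk
      obtain ⟨f, h1, h2⟩ := exists_functional_single P R' hsat k hk.2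
      exact ⟨f, h1, h2⟩)
  refine ⟨f, fun k => ⟨fun h0 => ?_, fun hk => hfV k hk⟩⟩
  by_contra hk
  exact hf k (by rw [Finset.mem_filter]; exact ⟨Finset.mem_univ _, hk⟩) h0

/-- Lexicographic extension of a positive system. -/
theorem isPosSys_lex (f : M →ₗ[ℤ] ℤ) (S₁ : Set ι)
    (ha : ∀ k ∈ S₁, f (P.root k) = 0)
    (hb : ∀ k, f (P.root k) = 0 → k ∈ S₁ ∨ P.reflectionPerm k k ∈ S₁)
    (hc : ∀ k ∈ S₁, P.reflectionPerm k k ∉ S₁)
    (hd : ∀ (k : ι) (n : ℕ), 0 < n → f (P.root k) = 0 → n • P.root k ∈ RootD.natSpan P S₁ → k ∈ S₁) :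
    RootD.IsPosSys P ({k | 0 < f (P.root k)} ∪ S₁) := by
  have hneg : ∀ k, f (P.root (P.reflectionPerm k k)) = - f (P.root k) := by
    intro k; rw [neg_root, map_neg]
  refine ⟨?_, ?_, ?_⟩
  · rintro k (hk | hk) (hk' | hk')
    · rw [Set.mem_ofPred_eq, hneg] at hk'
      rw [Set.mem_ofPred_eq] at hk
      omega
    · have := ha _ hk'
      rw [hneg] at this
      rw [Set.mem_ofPred_eq] at hk
      omega
    · have := ha _ hk
      rw [Set.mem_ofPred_eq, hneg] at hk'
      omega
    · exact hc k hk hk'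
  · intro k
    rcases lt_trichotomy (f (P.root k)) 0 with h | h | h
    · right; left
      rw [Set.mem_ofPred_eq, hneg]; omega
    · rcases hb k h with h' | h'
      · left; right; exact h'
      · right; right; exact h'
    · left; left; exact h
  · intro k n hn hk
    have key : ∀ x ∈ RootD.natSpan P ({k | 0 < f (P.root k)} ∪ S₁),
        0 ≤ f x ∧ (f x = 0 → x ∈ RootD.natSpan P S₁) := by
      intro x hx
      refine AddSubmonoid.closure_induction (motive := fun y _ =>
        0 ≤ f y ∧ (f y = 0 → y ∈ RootD.natSpan P S₁)) ?_ ?_ ?_ hx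
      · rintro _ ⟨l, (hl | hl), rfl⟩
        · rw [Set.mem_ofPred_eq] at hl
          exact ⟨hl.le, fun h0 => by omega⟩
        · exact ⟨(ha l hl).ge, fun _ => AddSubmonoid.subset_closure ⟨l, hl, rfl⟩⟩
      · exact ⟨by simp, fun _ => zero_mem _⟩
      · rintro a b _ _ ⟨ha1, ha2⟩ ⟨hb1, hb2⟩
        rw [map_add]
        exact ⟨by omega, fun h0 => add_mem (ha2 (by omega)) (hb2 (by omega))⟩
    obtain ⟨h1, h2⟩ := key _ hk
    rw [map_nsmul, nsmul_eq_mul] at h1 h2
    have hn' : (0 : ℤ) < n := by exact_mod_cast hn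
    rcases lt_trichotomy (f (P.root k)) 0 with h | h | h
    · exfalso; nlinarith
    · right
      exact hd k n hn h (h2 (by rw [h, mul_zero]))
    · left; exact h

end Groth.Agent.H3RootD
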