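import Mathlib
import Groth.Agent.Lib.helper3.RootSat2
import Groth.Agent.Lib.helper3.RootCone
set_option autoImplicit false
open RootPairing

namespace Groth.Agent.H3RootD

variable {ι M N : Type*} [AddCommGroup M] [AddCommGroup N] (P : RootPairing ι ℤ M N)

theorem natSpan_antisymm (Δ' : Set ι) (hli : LinearIndepOn ℤ P.root Δ') (x : M)
    (h1 : x ∈ RootD.natSpan P Δ') (h2 : -x ∈ RootD.natSpan P Δ') : x = 0 := by
  obtain ⟨c1, hc1, hp1, hs1⟩ := natSpan_exists_finsupp P Δ' x h1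
  obtain ⟨c2, hc2, hp2, hs2⟩ := natSpan_exists_finsupp P Δ' (-x) h2
  have h0 : c1 + c2 = 0 := coeff_unique P Δ' hli _ _ (add_mem hc1 hc2) (zero_mem _)
    (by rw [map_add, hs1, hs2, map_zero]; abel)
  have hc0 : c1 = 0 := by
    ext d
    have := DFunLike.congr_fun h0 d
    simp only [Finsupp.coe_add, Pi.add_apply, Finsupp.coe_zero, Pi.zero_apply] at this
    have := hp1 d
    have := hp2 d
    simp only [Finsupp.coe_zero, Pi.zero_apply]
    omega
  rw [← hs1, hc0, map_zero]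

theorem sat_extend [Finite ι] (R' : Set ι)
    (hsat : ∀ k : ι, (∃ n : ℕ, 0 < n ∧ n • P.root k ∈ Submodule.span ℤ (P.root '' R')) → k ∈ R')
    (Δ' : Set ι) (hΔ'R : Δ' ⊆ R') (hli : LinearIndepOn ℤ P.root Δ')
    (hgen : ∀ k ∈ R', P.root k ∈ RootD.natSpan P Δ' ∨ -P.root k ∈ RootD.natSpan P Δ') :
    ∃ Δ : Set ι, RootD.IsSimpleSys P Δ ∧ Δ' ⊆ Δ := by
  classical
  obtain ⟨f, hf⟩ := exists_functional_of_sat P R' hsat
  set S₁ : Set ι := {k | k ∈ R' ∧ P.root k ∈ RootD.natSpan P Δ'} with hS₁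
  have hnegR : ∀ k, k ∈ R' → P.reflectionPerm k k ∈ R' := by
    intro k hk
    rw [← hf, neg_root, map_neg, (hf k).mpr hk, neg_zero]
  have hle : RootD.natSpan P S₁ ≤ RootD.natSpan P Δ' :=
    AddSubmonoid.closure_le.mpr (by rintro _ ⟨l, hl, rfl⟩; exact hl.2)
  have hpos : RootD.IsPosSys P ({k | 0 < f (P.root k)} ∪ S₁) := by
    apply isPosSys_lex P f S₁
    · intro k hk; exact (hf k).mpr hk.1
    · intro k hk
      have hkR := (hf k).mp hk
      rcases hgen k hkR with h | h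
      · left; exact ⟨hkR, h⟩
      · right; exact ⟨hnegR k hkR, by rw [neg_root]; exact h⟩
    · intro k hk hk'
      have h2 := hk'.2
      rw [neg_root] at h2
      exact P.ne_zero k (natSpan_antisymm P Δ' hli _ hk.2 h2)
    · intro k n hn hk hmem
      have hkR := (hf k).mp hk
      refine ⟨hkR, ?_⟩
      rcases hgen k hkR with h | h
      · exact h
      · exfalso
        have h1 : n • P.root k ∈ RootD.natSpan P Δ' := hle hmem
        have h2 : -(n • P.root k) ∈ RootD.natSpan P Δ' := by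
          rw [← smul_neg]; exact AddSubmonoid.nsmul_mem _ h n
        exact nsmul_root_ne_zero k n hn (natSpan_antisymm P Δ' hli _ h1 h2)
  obtain ⟨Δ, hΔ, hposΔ⟩ := exists_simpleSys_of_isPosSys hpos
  refine ⟨Δ, hΔ, ?_⟩
  intro d hd
  have hdS₁ : d ∈ S₁ := ⟨hΔ'R hd, AddSubmonoid.subset_closure ⟨d, hd, rfl⟩⟩
  have hdpos : d ∈ RootD.posOf P Δ := by rw [hposΔ]; exact Or.inr hdS₁
  rw [Groth.Agent.S5450.result P Δ hΔ d hdpos]
  rintro ⟨i, j, hi, hj, hsum⟩
  rw [hposΔ] at hi hj
  have hfd : f (P.root d) = 0 := (hf d).mpr (hΔ'R hd)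
  have hfnn : ∀ l, l ∈ ({k | 0 < f (P.root k)} ∪ S₁) → 0 ≤ f (P.root l) := by
    rintro l (hl | hl)
    · exact le_of_lt hl
    · exact ((hf l).mpr hl.1).ge
  have hS1of : ∀ l, l ∈ ({k | 0 < f (P.root k)} ∪ S₁) → f (P.root l) = 0 → l ∈ S₁ := by
    rintro l (hl | hl) h0
    · rw [Set.mem_ofPred_eq] at hl; omega
    · exact hl
  have hfsum : f (P.root i) + f (P.root j) = 0 := by rw [← map_add, ← hsum, hfd]
  have hi0 : f (P.root i) = 0 := by have := hfnn i hi; have := hfnn j hj; omega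
  have hj0 : f (P.root j) = 0 := by have := hfnn i hi; have := hfnn j hj; omega
  have hiS := (hS1of i hi hi0).2
  have hjS := (hS1of j hj hj0).2
  obtain ⟨ci, hci, hpi, hsi⟩ := natSpan_exists_finsupp P Δ' _ hiS
  obtain ⟨cj, hcj, hpj, hsj⟩ := natSpan_exists_finsupp P Δ' _ hjS
  have hcs : Finsupp.single d 1 = ci + cj := coeff_unique P Δ' hli _ _
    (Finsupp.single_mem_supported ℤ 1 hd) (add_mem hci hcj)
    (by rw [map_add, hsi, hsj, ← hsum]; simp)
  have hzero : ∀ c : ι →₀ ℤ, (∀ e, 0 ≤ c e) → (∀ e, e ≠ d → c e = 0) → c d = 0 → c = 0 := by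
    intro c _ h2 h3
    ext e
    by_cases he : e = d
    · rw [he, h3]; rfl
    · rw [h2 e he]; rfl
  have hoff : ∀ e, e ≠ d → ci e = 0 ∧ cj e = 0 := by
    intro e he
    have := DFunLike.congr_fun hcs e
    simp only [Finsupp.coe_add, Pi.add_apply, Finsupp.single_apply, if_neg (Ne.symm he)] at this
    have := hpi e
    have := hpj e
    constructor <;> omega
  have hat : ci d + cj d = 1 := by
    have := DFunLike.congr_fun hcs d
    simp only [Finsupp.coe_add, Pi.add_apply, Finsupp.single_eq_same] at this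
    omega
  have hcases : ci d = 0 ∨ cj d = 0 := by
    have := hpi d
    have := hpj d
    omega
  rcases hcases with h | h
  · have := hzero ci hpi (fun e he => (hoff e he).1) h
    rw [this, map_zero] at hsi
    exact P.ne_zero i hsi.symm
  · have := hzero cj hpj (fun e he => (hoff e he).2) h
    rw [this, map_zero] at hsj
    exact P.ne_zero j hsj.symm

end Groth.Agent.H3RootD
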