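import Mathlib
import Groth.Agent.Lib.helper3.RootSat3
set_option autoImplicit false
open RootPairing

namespace Groth.Agent.H3RootD

variable {ι M N : Type*} [AddCommGroup M] [AddCommGroup N] {P : RootPairing ι ℤ M N} {Δ : Set ι}

theorem coeff_zero_of_level (hΔ : RootD.IsSimpleSys P Δ) (f : M →ₗ[ℤ] ℤ)
    (hf : ∀ d ∈ Δ, 0 ≤ f (P.root d)) (k : ι) (hk : f (P.root k) = 0) (d : ι)
    (hd : f (P.root d) ≠ 0) : coeff P Δ k d = 0 := by
  by_cases hdΔ : d ∈ Δ
  swap
  · exact coeff_apply_of_notMem hΔ k hdΔ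
  by_contra hne
  have hdsupp : d ∈ (coeff P Δ k).support := Finsupp.mem_support_iff.mpr hne
  have hexp : f (P.root k) = ∑ e ∈ (coeff P Δ k).support, coeff P Δ k e * f (P.root e) := by
    rw [← coeff_sum hΔ k, Finsupp.linearCombination_apply, Finsupp.sum, map_sum]
    refine Finset.sum_congr rfl (fun e _ => ?_)
    rw [map_smul, smul_eq_mul]
  rw [hk] at hexp
  have hfe : ∀ e ∈ (coeff P Δ k).support, 0 ≤ f (P.root e) := fun e he => hf e (coeff_mem hΔ k he)
  rcases coeff_sign hΔ k with hs | hs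
  · have := (Finset.sum_eq_zero_iff_of_nonneg (fun e he => mul_nonneg (hs e) (hfe e he))).mp
      hexp.symm d hdsupp
    rcases mul_eq_zero.mp this with h | h
    · exact hne h
    · exact hd h
  · have := (Finset.sum_eq_zero_iff_of_nonpos
      (fun e he => mul_nonpos_of_nonpos_of_nonneg (hs e) (hfe e he))).mp hexp.symm d hdsupp
    rcases mul_eq_zero.mp this with h | h
    · exact hne h
    · exact hd h

variable (P)

theorem sat_exists_simple [Finite ι] (R' : Set ι)
    (hsat : ∀ k : ι, (∃ n : ℕ, 0 < n ∧ n • P.root k ∈ Submodule.span ℤ (P.root '' R')) → k ∈ R') :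
    ∃ Δ Δ' : Set ι, RootD.IsSimpleSys P Δ ∧ Δ' ⊆ Δ ∧ R' = RootD.inSpan P Δ' := by
  obtain ⟨f, hf⟩ := exists_functional_of_sat P R' hsat
  obtain ⟨n, hn⟩ := exists_regular (P := P)
  set g : M →ₗ[ℤ] ℤ := P.toLinearMap.flip n with hg
  have hgne : ∀ k, g (P.root k) ≠ 0 := hn
  set S₁ : Set ι := {k | f (P.root k) = 0 ∧ 0 < g (P.root k)} with hS₁
  have hpos : RootD.IsPosSys P ({k | 0 < f (P.root k)} ∪ S₁) := by
    apply isPosSys_lex P f S₁
    · intro k hk; exact hk.1
    · intro k hk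
      rcases lt_trichotomy (g (P.root k)) 0 with h | h | h
      · right
        refine ⟨by rw [neg_root, map_neg, hk, neg_zero], ?_⟩
        rw [neg_root, map_neg]; omega
      · exact absurd h (hgne k)
      · left; exact ⟨hk, h⟩
    · intro k hk hk'
      have h1 := hk.2
      have h2 := hk'.2
      rw [neg_root, map_neg] at h2
      omega
    · intro k m hm hk hmem
      refine ⟨hk, ?_⟩
      have key : ∀ x ∈ RootD.natSpan P S₁, 0 ≤ g x := by
        intro x hx
        induction hx using AddSubmonoid.closure_induction with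
        | mem y hy =>
          obtain ⟨l, hl, rfl⟩ := hy
          exact hl.2.le
        | zero => simp
        | add a b _ _ ha hb => rw [map_add]; omega
      have h1 := key _ hmem
      rw [map_nsmul, nsmul_eq_mul] at h1
      have hm' : (0 : ℤ) < m := by exact_mod_cast hm
      rcases lt_trichotomy (g (P.root k)) 0 with h | h | h
      · exfalso; nlinarith
      · exact absurd h (hgne k)
      · exact h
  obtain ⟨Δ, hΔ, hposΔ⟩ := exists_simpleSys_of_isPosSys hpos
  have hfΔ : ∀ d ∈ Δ, 0 ≤ f (P.root d) := by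
    intro d hd
    have : d ∈ RootD.posOf P Δ := simple_subset_posOf Δ hd
    rw [hposΔ] at this
    rcases this with h | h
    · exact le_of_lt h
    · exact h.1.ge
  have hsub : Δ ∩ R' ⊆ Δ := Set.inter_subset_left
  refine ⟨Δ, Δ ∩ R', hΔ, hsub, ?_⟩
  ext k
  rw [mem_inSpan_iff hΔ hsub]
  constructor
  · intro hk d hd
    by_cases hdΔ : d ∈ Δ
    · apply coeff_zero_of_level hΔ f hfΔ k ((hf k).mpr hk) d
      intro h0
      exact hd ⟨hdΔ, (hf d).mp h0⟩
    · exact coeff_apply_of_notMem hΔ k hdΔ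
  · intro h
    rw [← hf, ← coeff_sum hΔ k, Finsupp.linearCombination_apply, Finsupp.sum, map_sum]
    refine Finset.sum_eq_zero (fun e he => ?_)
    have heΔ' : e ∈ Δ ∩ R' := by
      by_contra hne
      exact (Finsupp.mem_support_iff.mp he) (h e hne)
    rw [map_smul, (hf e).mpr heΔ'.2, smul_zero]

theorem inSpan_sat (hΔ : RootD.IsSimpleSys P Δ) (Δ' : Set ι) (hsub : Δ' ⊆ Δ) (k : ι)
    (h : ∃ n : ℕ, 0 < n ∧ n • P.root k ∈ Submodule.span ℤ (P.root '' RootD.inSpan P Δ')) :
    k ∈ RootD.inSpan P Δ' := by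
  obtain ⟨n, hn, hmem⟩ := h
  have hle : Submodule.span ℤ (P.root '' RootD.inSpan P Δ') ≤ Submodule.span ℤ (P.root '' Δ') := by
    rw [Submodule.span_le]
    rintro _ ⟨l, hl, rfl⟩
    exact hl
  obtain ⟨c', hc', hs'⟩ := (Finsupp.mem_span_image_iff_linearCombination ℤ).mp (hle hmem)
  have heq : (n : ℤ) • coeff P Δ k = c' := by
    refine coeff_unique P Δ hΔ.linInd _ _ (Submodule.smul_mem _ _ (coeff_mem hΔ k))
      (Finsupp.supported_mono hsub hc') ?_
    rw [map_smul, coeff_sum hΔ k, hs', natCast_zsmul]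
  rw [mem_inSpan_iff hΔ hsub]
  intro d hd
  have h1 := DFunLike.congr_fun heq d
  have h2 : c' d = 0 := by
    by_contra hne
    exact hd (hc' (Finsupp.mem_support_iff.mpr hne))
  rw [Finsupp.smul_apply, h2, smul_eq_mul] at h1
  have hn' : (n : ℤ) ≠ 0 := by exact_mod_cast hn.ne'
  exact (mul_eq_zero.mp h1).resolve_left hn'

end Groth.Agent.H3RootD

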