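import Mathlib
import Groth.Agent.Lib.helper3.RootSat4
set_option autoImplicit false
open RootPairing

namespace Groth.Agent.H3RootD

variable {ι M N : Type*} [AddCommGroup M] [AddCommGroup N] (P : RootPairing ι ℤ M N)

/-- roots having a positive multiple in a given submodule -/
def satOf (U : Submodule ℤ M) : Set ι := {l | ∃ n : ℕ, 0 < n ∧ n • P.root l ∈ U}

theorem satOf_sat (U : Submodule ℤ M) (k : ι)
    (h : ∃ n : ℕ, 0 < n ∧ n • P.root k ∈ Submodule.span ℤ (P.root '' satOf P U)) :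
    k ∈ satOf P U := by
  have key : ∀ x ∈ Submodule.span ℤ (P.root '' satOf P U), ∃ n : ℕ, 0 < n ∧ n • x ∈ U := by
    intro x hx
    induction hx using Submodule.span_induction with
    | mem y hy =>
      obtain ⟨l, hl, rfl⟩ := hy
      exact hl
    | zero => exact ⟨1, one_pos, by simp⟩
    | add a b _ _ ha hb =>
      obtain ⟨n1, h1, h1'⟩ := ha
      obtain ⟨n2, h2, h2'⟩ := hb
      refine ⟨n1 * n2, Nat.mul_pos h1 h2, ?_⟩
      have : (n1 * n2) • (a + b) = n2 • (n1 • a) + n1 • (n2 • b) := by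
        rw [smul_add, mul_smul, mul_smul, smul_comm n1 n2 a]
      rw [this]
      exact U.add_mem (U.smul_of_tower_mem n2 h1') (U.smul_of_tower_mem n1 h2')
    | smul c a _ ha =>
      obtain ⟨n1, h1, h1'⟩ := ha
      refine ⟨n1, h1, ?_⟩
      rw [smul_comm]
      exact U.smul_mem c h1'
  obtain ⟨n, hn, hmem⟩ := h
  obtain ⟨m, hm, hmem'⟩ := key _ hmem
  exact ⟨m * n, Nat.mul_pos hm hn, by rw [mul_smul]; exact hmem'⟩

theorem exists_functional_satOf [Finite ι] (U : Submodule ℤ M) :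
    ∃ f : M →ₗ[ℤ] ℤ, ∀ l, f (P.root l) = 0 ↔ l ∈ satOf P U :=
  exists_functional_of_sat P (satOf P U) (satOf_sat P U)

end Groth.Agent.H3RootD
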