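import Mathlib
import Groth.Agent.Lib.helper3.RootSat5
set_option autoImplicit false
open RootPairing

namespace Groth.Agent.H3RootD

variable {ι M N : Type*} [AddCommGroup M] [AddCommGroup N] (P : RootPairing ι ℤ M N) {Δ : Set ι}

theorem rank_two_aux (hΔ : RootD.IsSimpleSys P Δ) (i k β₁ β₂ : ι) (hi : i ∈ Δ) (h₁ : β₁ ∈ Δ)
    (h₂ : β₂ ∈ Δ) (h₁i : β₁ ≠ i) (h₂i : β₂ ≠ i) (h12 : β₁ ≠ β₂)
    (hU₁ : β₁ ∈ satOf P (Submodule.span ℤ {P.root i, P.root k}))
    (hU₂ : β₂ ∈ satOf P (Submodule.span ℤ {P.root i, P.root k})) : False := by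
  classical
  obtain ⟨n₁, hn₁, hm₁⟩ := hU₁
  obtain ⟨n₂, hn₂, hm₂⟩ := hU₂
  obtain ⟨x₁, y₁, e₁⟩ := Submodule.mem_span_pair.mp hm₁
  obtain ⟨x₂, y₂, e₂⟩ := Submodule.mem_span_pair.mp hm₂
  set c : ι →₀ ℤ := Finsupp.single β₁ (y₂ * n₁) - Finsupp.single β₂ (y₁ * n₂) -
    Finsupp.single i (y₂ * x₁ - y₁ * x₂) with hc
  have hcsupp : c ∈ Finsupp.supported ℤ ℤ Δ :=
    Submodule.sub_mem _ (Submodule.sub_mem _ (Finsupp.single_mem_supported ℤ _ h₁)
      (Finsupp.single_mem_supported ℤ _ h₂)) (Finsupp.single_mem_supported ℤ _ hi)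
  have hclc : Finsupp.linearCombination ℤ P.root c = 0 := by
    rw [hc, map_sub, map_sub, Finsupp.linearCombination_single, Finsupp.linearCombination_single,
      Finsupp.linearCombination_single, mul_smul, mul_smul, natCast_zsmul, natCast_zsmul,
      ← e₁, ← e₂]
    module
  have hc0 : c = 0 := coeff_unique P Δ hΔ.linInd c 0 hcsupp (zero_mem _) (by rw [hclc, map_zero])
  have hv1 := DFunLike.congr_fun hc0 β₁
  have hv2 := DFunLike.congr_fun hc0 β₂
  simp only [hc, Finsupp.coe_sub, Pi.sub_apply, Finsupp.single_apply, if_true,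
    if_neg h12.symm, if_neg h₁i.symm, if_neg h12, if_neg h₂i.symm, Finsupp.coe_zero,
    Pi.zero_apply] at hv1 hv2
  have hn₁' : (n₁ : ℤ) ≠ 0 := by exact_mod_cast hn₁.ne'
  have hn₂' : (n₂ : ℤ) ≠ 0 := by exact_mod_cast hn₂.ne'
  have hy₂ : y₂ = 0 := by
    have : y₂ * n₁ = 0 := by omega
    exact (mul_eq_zero.mp this).resolve_right hn₁'
  have hy₁ : y₁ = 0 := by
    have : y₁ * n₂ = 0 := by omega
    exact (mul_eq_zero.mp this).resolve_right hn₂'
  -- now n₁ • root β₁ = x₁ • root i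
  rw [hy₁, zero_smul, add_zero] at e₁
  set c' : ι →₀ ℤ := Finsupp.single β₁ (n₁ : ℤ) - Finsupp.single i x₁ with hc'
  have hc'supp : c' ∈ Finsupp.supported ℤ ℤ Δ :=
    Submodule.sub_mem _ (Finsupp.single_mem_supported ℤ _ h₁) (Finsupp.single_mem_supported ℤ _ hi)
  have hc'lc : Finsupp.linearCombination ℤ P.root c' = 0 := by
    rw [hc', map_sub, Finsupp.linearCombination_single, Finsupp.linearCombination_single,
      natCast_zsmul, e₁, sub_self]
  have hc'0 : c' = 0 := coeff_unique P Δ hΔ.linInd c' 0 hc'supp (zero_mem _) (by rw [hc'lc, map_zero])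
  have hv := DFunLike.congr_fun hc'0 β₁
  simp only [hc', Finsupp.coe_sub, Pi.sub_apply, Finsupp.single_apply, if_true,
    if_neg h₁i.symm, Finsupp.coe_zero, Pi.zero_apply] at hv
  omega

end Groth.Agent.H3RootD
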