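import Mathlib
import Groth.Agent.Lib.helper3.RootSat6
set_option autoImplicit false
open RootPairing

namespace Groth.Agent.H3RootD

variable {ι M N : Type*} [AddCommGroup M] [AddCommGroup N] (P : RootPairing ι ℤ M N)

theorem exists_adapted_pos [Finite ι] (i k : ι)
    (hli : LinearIndependent ℤ ![P.root i, P.root k]) :
    ∃ (f₀ f₁ : M →ₗ[ℤ] ℤ),
      (∀ l, f₀ (P.root l) = 0 ↔ l ∈ satOf P (Submodule.span ℤ {P.root i, P.root k})) ∧
      (∀ l, f₁ (P.root l) = 0 ↔ l ∈ satOf P (Submodule.span ℤ {P.root i})) ∧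
      0 < f₁ (P.root k) ∧
      RootD.IsPosSys P ({l | 0 < f₀ (P.root l)} ∪
        {l | f₀ (P.root l) = 0 ∧ (0 < f₁ (P.root l) ∨
          (f₁ (P.root l) = 0 ∧ 0 < P.coroot' i (P.root l)))}) := by
  classical
  have : IsAddTorsionFree M := tfM P
  obtain ⟨f₀, hf₀⟩ := exists_functional_satOf P (Submodule.span ℤ {P.root i, P.root k})
  obtain ⟨f₁', hf₁'⟩ := exists_functional_satOf P (Submodule.span ℤ {P.root i})
  have hpair := LinearIndependent.pair_iff.mp hli
  have hkU₁ : k ∉ satOf P (Submodule.span ℤ {P.root i}) := by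
    rintro ⟨n, hn, hmem⟩
    obtain ⟨c, hc⟩ := Submodule.mem_span_singleton.mp hmem
    have := hpair c (-(n : ℤ)) (by rw [hc, neg_smul, natCast_zsmul, add_neg_cancel])
    omega
  have hf₁k : f₁' (P.root k) ≠ 0 := fun h => hkU₁ ((hf₁' k).mp h)
  obtain ⟨f₁, hf₁, hf₁pos⟩ : ∃ f₁ : M →ₗ[ℤ] ℤ,
      (∀ l, f₁ (P.root l) = 0 ↔ l ∈ satOf P (Submodule.span ℤ {P.root i})) ∧
        0 < f₁ (P.root k) := by
    rcases lt_or_gt_of_ne hf₁k with h | h
    · refine ⟨-f₁', fun l => ?_, ?_⟩
      · rw [LinearMap.neg_apply, neg_eq_zero]; exact hf₁' l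
      · rw [LinearMap.neg_apply]; omega
    · exact ⟨f₁', hf₁', h⟩
  have hf₂i : P.coroot' i (P.root i) = 2 := P.root_coroot_two i
  have hb' : ∀ l, f₁ (P.root l) = 0 → P.coroot' i (P.root l) ≠ 0 := by
    intro l hl h0
    obtain ⟨n, hn, hmem⟩ := (hf₁ l).mp hl
    obtain ⟨c, hc⟩ := Submodule.mem_span_singleton.mp hmem
    have := congrArg (P.coroot' i) hc
    rw [map_smul, map_nsmul, hf₂i, h0, smul_zero, smul_eq_mul] at this
    have hc0 : c = 0 := by omega
    rw [hc0, zero_smul] at hc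
    exact nsmul_root_ne_zero l n hn hc.symm
  refine ⟨f₀, f₁, hf₀, hf₁, hf₁pos, ?_⟩
  have hnegl : ∀ (l : ι) (f : M →ₗ[ℤ] ℤ), f (P.root (P.reflectionPerm l l)) = - f (P.root l) := by
    intro l f; rw [neg_root, map_neg]
  apply isPosSys_lex P f₀
  · intro l hl; exact hl.1
  · intro l hl
    rcases lt_trichotomy (f₁ (P.root l)) 0 with h | h | h
    · right; exact ⟨by rw [hnegl, hl, neg_zero], Or.inl (by rw [hnegl]; omega)⟩
    · rcases lt_trichotomy (P.coroot' i (P.root l)) 0 with h2 | h2 | h2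
      · right
        exact ⟨by rw [hnegl, hl, neg_zero], Or.inr ⟨by rw [hnegl, h, neg_zero], by rw [hnegl]; omega⟩⟩
      · exact absurd h2 (hb' l h)
      · left; exact ⟨hl, Or.inr ⟨h, h2⟩⟩
    · left; exact ⟨hl, Or.inl h⟩
  · intro l hl hl'
    obtain ⟨-, h1⟩ := hl
    obtain ⟨-, h2⟩ := hl'
    rw [hnegl, hnegl] at h2
    rcases h1 with h1 | ⟨h1, h1'⟩ <;> rcases h2 with h2 | ⟨h2, h2'⟩ <;> omega
  · intro l m hm hl hmem
    refine ⟨hl, ?_⟩
    have key : ∀ x ∈ RootD.natSpan P {l | f₀ (P.root l) = 0 ∧ (0 < f₁ (P.root l) ∨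
          (f₁ (P.root l) = 0 ∧ 0 < P.coroot' i (P.root l)))},
        0 < f₁ x ∨ (f₁ x = 0 ∧ 0 ≤ P.coroot' i x) := by
      intro x hx
      induction hx using AddSubmonoid.closure_induction with
      | mem y hy =>
        obtain ⟨l', hl', rfl⟩ := hy
        rcases hl'.2 with h | ⟨h, h'⟩
        · left; exact h
        · right; exact ⟨h, h'.le⟩
      | zero => right; simp
      | add a b _ _ ha hb =>
        rw [map_add, map_add]
        rcases ha with ha | ⟨ha, ha'⟩ <;> rcases hb with hb | ⟨hb, hb'⟩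
        · left; omega
        · left; omega
        · left; omega
        · right; constructor <;> omega
    have h1 := key _ hmem
    rw [map_nsmul, map_nsmul, nsmul_eq_mul, nsmul_eq_mul] at h1
    have hm' : (0 : ℤ) < m := by exact_mod_cast hm
    rcases h1 with h1 | ⟨h1, h1'⟩
    · left
      by_contra hneg
      push Not at hneg
      nlinarith
    · have h10 : f₁ (P.root l) = 0 := by
        rcases mul_eq_zero.mp h1 with h | h
        · omega
        · exact h
      right
      refine ⟨h10, ?_⟩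
      have hne := hb' l h10
      by_contra hneg
      push Not at hneg
      have : P.coroot' i (P.root l) < 0 := lt_of_le_of_ne hneg hne
      nlinarith

end Groth.Agent.H3RootD
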