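import Mathlib
import Groth.Agent.Lib.helper3.RootSat7
set_option autoImplicit false
open RootPairing

namespace Groth.Agent.H3RootD

variable {ι M N : Type*} [AddCommGroup M] [AddCommGroup N] (P : RootPairing ι ℤ M N)

theorem exists_adapted [Finite ι] (i k : ι) (hα : RootD.IsIndiv P i)
    (hli : LinearIndependent ℤ ![P.root i, P.root k]) :
    ∃ Δ : Set ι, RootD.IsSimpleSys P Δ ∧ i ∈ Δ ∧
      ∃ j ∈ Δ, ∃ a b : ℕ, P.root k = a • P.root i + b • P.root j := by
  classical
  have : IsAddTorsionFree M := tfM P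
  obtain ⟨f₀, f₁, hf₀, hf₁, hf₁pos, hpos⟩ := exists_adapted_pos P i k hli
  have hpair := LinearIndependent.pair_iff.mp hli
  have hiU₁ : i ∈ satOf P (Submodule.span ℤ {P.root i}) :=
    ⟨1, one_pos, by rw [one_smul]; exact Submodule.mem_span_singleton_self _⟩
  have hiU₂ : i ∈ satOf P (Submodule.span ℤ {P.root i, P.root k}) :=
    ⟨1, one_pos, by rw [one_smul]; exact Submodule.subset_span (by simp)⟩
  have hkU₂ : k ∈ satOf P (Submodule.span ℤ {P.root i, P.root k}) :=
    ⟨1, one_pos, by rw [one_smul]; exact Submodule.subset_span (by simp)⟩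
  have hf₂i : P.coroot' i (P.root i) = 2 := P.root_coroot_two i
  set S₁ : Set ι := {l | f₀ (P.root l) = 0 ∧ (0 < f₁ (P.root l) ∨
          (f₁ (P.root l) = 0 ∧ 0 < P.coroot' i (P.root l)))} with hS₁
  obtain ⟨Δ, hΔ, hposΔ⟩ := exists_simpleSys_of_isPosSys hpos
  have hf₀i : f₀ (P.root i) = 0 := (hf₀ i).mpr hiU₂
  have hf₁i : f₁ (P.root i) = 0 := (hf₁ i).mpr hiU₁
  have hf₀k : f₀ (P.root k) = 0 := (hf₀ k).mpr hkU₂
  have hf₀nn : ∀ l, l ∈ ({l | 0 < f₀ (P.root l)} ∪ S₁) → 0 ≤ f₀ (P.root l) := by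
    rintro l (hl | hl)
    · exact le_of_lt hl
    · exact hl.1.ge
  have hS1of : ∀ l, l ∈ ({l | 0 < f₀ (P.root l)} ∪ S₁) → f₀ (P.root l) = 0 → l ∈ S₁ := by
    rintro l (hl | hl) h0
    · rw [Set.mem_ofPred_eq] at hl; omega
    · exact hl
  have hipos : i ∈ RootD.posOf P Δ := by
    rw [hposΔ]
    exact Or.inr ⟨hf₀i, Or.inr ⟨hf₁i, by rw [hf₂i]; norm_num⟩⟩
  have hiΔ : i ∈ Δ := by
    rw [Groth.Agent.S5450.result P Δ hΔ i hipos]
    rintro ⟨a, b, ha, hb, hsum⟩
    rw [hposΔ] at ha hb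
    have h0sum : f₀ (P.root a) + f₀ (P.root b) = 0 := by rw [← map_add, ← hsum, hf₀i]
    have ha0 : f₀ (P.root a) = 0 := by have := hf₀nn a ha; have := hf₀nn b hb; omega
    have hb0 : f₀ (P.root b) = 0 := by have := hf₀nn a ha; have := hf₀nn b hb; omega
    have haS := (hS1of a ha ha0).2
    have hbS := (hS1of b hb hb0).2
    have h1sum : f₁ (P.root a) + f₁ (P.root b) = 0 := by rw [← map_add, ← hsum, hf₁i]
    have ha1 : f₁ (P.root a) = 0 ∧ 0 < P.coroot' i (P.root a) := by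
      rcases haS with h | h <;> rcases hbS with h' | h' <;> omega
    have hb1 : f₁ (P.root b) = 0 ∧ 0 < P.coroot' i (P.root b) := by
      rcases haS with h | h <;> rcases hbS with h' | h' <;> omega
    have hmult : ∀ l, f₁ (P.root l) = 0 → 0 < P.coroot' i (P.root l) →
        ∃ t : ℤ, 0 < t ∧ P.root l = t • P.root i := by
      intro l hl hl2
      obtain ⟨n, hn, hmem⟩ := (hf₁ l).mp hl
      obtain ⟨c, hc⟩ := Submodule.mem_span_singleton.mp hmem
      have h2 := congrArg (P.coroot' i) hc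
      rw [map_smul, map_nsmul, hf₂i, smul_eq_mul, nsmul_eq_mul] at h2
      have hn' : (0 : ℤ) < n := by exact_mod_cast hn
      have hc0 : 0 ≤ c := by nlinarith
      exact pos_int_multiple_of_indiv i l hα n hn c hc0 hc.symm
    obtain ⟨ta, hta, hra⟩ := hmult a ha1.1 ha1.2
    obtain ⟨tb, htb, hrb⟩ := hmult b hb1.1 hb1.2
    have : (ta + tb - 1) • P.root i = 0 := by
      rw [sub_smul, add_smul, one_smul, ← hra, ← hrb, ← hsum, sub_self]
    rcases smul_eq_zero.mp this with h | h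
    · omega
    · exact P.ne_zero i h
  refine ⟨Δ, hΔ, hiΔ, ?_⟩
  have hkpos : k ∈ RootD.posOf P Δ := by
    rw [hposΔ]
    exact Or.inr ⟨hf₀k, Or.inl hf₁pos⟩
  have hcnn := (mem_posOf_iff hΔ k).mp hkpos
  have hfΔ : ∀ d ∈ Δ, 0 ≤ f₀ (P.root d) := by
    intro d hd
    have : d ∈ RootD.posOf P Δ := simple_subset_posOf Δ hd
    rw [hposΔ] at this
    exact hf₀nn d this
  have hsupp : ∀ d, coeff P Δ k d ≠ 0 →
      d ∈ Δ ∧ d ∈ satOf P (Submodule.span ℤ {P.root i, P.root k}) := by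
    intro d hd
    refine ⟨coeff_mem hΔ k (Finsupp.mem_support_iff.mpr hd), (hf₀ d).mp ?_⟩
    by_contra h
    exact hd (coeff_zero_of_level hΔ f₀ hfΔ k hf₀k d h)
  have hex : ∃ β, coeff P Δ k β ≠ 0 ∧ β ≠ i := by
    by_contra hno
    push Not at hno
    have hsingle : coeff P Δ k = Finsupp.single i (coeff P Δ k i) := by
      ext d
      by_cases hd : d = i
      · rw [hd, Finsupp.single_eq_same]
      · rw [Finsupp.single_apply, if_neg (Ne.symm hd)]
        by_contra h
        exact hd (hno d h)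
    have hr := coeff_sum hΔ k
    rw [hsingle, Finsupp.linearCombination_single] at hr
    have := hpair (coeff P Δ k i) (-1) (by rw [hr, neg_smul, one_smul, add_neg_cancel])
    omega
  obtain ⟨β, hβne, hβi⟩ := hex
  obtain ⟨hβΔ, hβU⟩ := hsupp β hβne
  have honly : ∀ d, coeff P Δ k d ≠ 0 → d = i ∨ d = β := by
    intro d hd
    by_contra hno
    push Not at hno
    obtain ⟨hdΔ, hdU⟩ := hsupp d hd
    exact rank_two_aux P hΔ i k β d hiΔ hβΔ hdΔ hβi hno.1 (Ne.symm hno.2) hβU hdU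
  have hdecomp : coeff P Δ k = Finsupp.single i (coeff P Δ k i) + Finsupp.single β (coeff P Δ k β) := by
    ext d
    rw [Finsupp.add_apply, Finsupp.single_apply, Finsupp.single_apply]
    by_cases hdi : d = i
    · rw [if_pos hdi.symm, if_neg (fun h => hβi (h.trans hdi)), hdi, add_zero]
    · by_cases hdβ : d = β
      · rw [if_neg (Ne.symm hdi), if_pos hdβ.symm, hdβ, zero_add]
      · rw [if_neg (Ne.symm hdi), if_neg (Ne.symm hdβ), add_zero]
        by_contra h
        rcases honly d h with h' | h'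
        · exact hdi h'
        · exact hdβ h'
  refine ⟨β, hβΔ, (coeff P Δ k i).toNat, (coeff P Δ k β).toNat, ?_⟩
  have hr := coeff_sum hΔ k
  rw [hdecomp, map_add, Finsupp.linearCombination_single, Finsupp.linearCombination_single] at hr
  rw [← hr, ← natCast_zsmul, ← natCast_zsmul, Int.toNat_of_nonneg (hcnn i),
    Int.toNat_of_nonneg (hcnn β)]

end Groth.Agent.H3RootD

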