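import Mathlib
import Groth.Agent.Lib.helper3.RootInt5
set_option autoImplicit false
open RootPairing Set Function Submodule Module

namespace Groth.Agent.H3RootD

section tits
variable {ι M N : Type*} [AddCommGroup M] [AddCommGroup N] {P : RootPairing ι ℤ M N} {Δ : Set ι}

theorem wd_mem_weyl (l : List ι) : wd P l ∈ P.weylGroup := by
  induction l with
  | nil => rw [wd_nil]; exact one_mem _
  | cons a l ih => rw [wd_cons]; exact mul_mem (P.reflection_mem_weylGroup a) ih

theorem wd_eq_one_of_simple_pos [Finite ι] (hΔ : RootD.IsSimpleSys P Δ) (l : List ι)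
    (h : ∀ γ ∈ Δ, wd P l • γ ∈ RootD.posOf P Δ) : wd P l = 1 := by
  obtain ⟨l₀, hl₀, hw, hmin⟩ := exists_min_word hΔ (wd P l) (wd_mem_weyl l)
  by_cases hne : l₀ = []
  · rw [← hw, hne, wd_nil]
  · exfalso
    have hneg := reduced_last_neg hΔ l₀ hl₀ hne hmin
    set a := l₀.getLast hne with ha
    have haΔ : a ∈ Δ := hl₀ _ (List.getLast_mem hne)
    have hpos := h a haΔ
    rw [← hw] at hpos
    refine not_pos_and_neg hΔ _ hpos ?_
    change P.root (P.reflectionPerm _ _) ∈ RootD.natSpan P Δ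
    rw [neg_root]
    exact hneg

theorem refl_mul_self (a : ι) : Equiv.reflection P a * Equiv.reflection P a = 1 := by
  rw [mul_eq_one_iff_inv_eq, Equiv.reflection_inv]

/-- descent along a rank two parabolic subgroup -/
theorem exists_dihedral_factor [Finite ι] (hΔ : RootD.IsSimpleSys P Δ) (α γ : ι) (hα : α ∈ Δ)
    (hγ : γ ∈ Δ) : ∀ (n : ℕ) (l : List ι), (∀ a ∈ l, a ∈ Δ) → l.length = n →
    ∃ (l' u : List ι), (∀ a ∈ l', a ∈ Δ) ∧ (∀ a ∈ u, a = α ∨ a = γ) ∧
      wd P l = wd P l' * wd P u ∧ l'.length ≤ n ∧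
      wd P l' • α ∈ RootD.posOf P Δ ∧ wd P l' • γ ∈ RootD.posOf P Δ ∧
      (wd P l • γ ∉ RootD.posOf P Δ → l'.length < n) := by
  intro n
  induction n using Nat.strong_induction_on with
  | _ n ih =>
  intro l hl hlen
  by_cases hpos : wd P l • α ∈ RootD.posOf P Δ ∧ wd P l • γ ∈ RootD.posOf P Δ
  · exact ⟨l, [], hl, fun a ha => absurd ha (List.not_mem_nil), by rw [wd_nil, mul_one], hlen.le,
      hpos.1, hpos.2, fun h => absurd hpos.2 h⟩
  · have hex : ∃ δ, (δ = α ∨ δ = γ) ∧ δ ∈ Δ ∧ wd P l • δ ∉ RootD.posOf P Δ := by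
      by_cases h1 : wd P l • α ∈ RootD.posOf P Δ
      · exact ⟨γ, Or.inr rfl, hγ, fun h2 => hpos ⟨h1, h2⟩⟩
      · exact ⟨α, Or.inl rfl, hα, h1⟩
    obtain ⟨δ, hδ, hδΔ, hneg⟩ := hex
    obtain ⟨l1, b, l2, hl0, hb⟩ := exists_deletion hΔ l hl δ hδΔ hneg
    have hdel := wd_deletion (P := P) l1 l2 δ b hb
    have hwl : wd P l = wd P (l1 ++ l2) * Equiv.reflection P δ := by
      rw [← hdel, ← hl0, wd_append, wd_cons, wd_nil, mul_one, mul_assoc, refl_mul_self, mul_one]
    have hl'' : ∀ a ∈ l1 ++ l2, a ∈ Δ := by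
      intro a ha
      rw [List.mem_append] at ha
      apply hl
      rw [hl0, List.mem_append]
      rcases ha with h | h
      · exact Or.inl h
      · exact Or.inr (List.mem_cons_of_mem _ h)
    have hlen'' : (l1 ++ l2).length + 1 = n := by
      rw [← hlen, hl0]
      simp only [List.length_append, List.length_cons]
      omega
    obtain ⟨l', u, hl', hu, hw, hle, hp1, hp2, -⟩ :=
      ih (l1 ++ l2).length (by omega) (l1 ++ l2) hl'' rfl
    refine ⟨l', u ++ [δ], hl', ?_, ?_, by omega, hp1, hp2, fun _ => by omega⟩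
    · intro a ha
      rw [List.mem_append, List.mem_singleton] at ha
      rcases ha with h | h
      · exact hu a h
      · rw [h]; exact hδ
    · rw [hwl, hw, wd_append, wd_cons, wd_nil, mul_one, mul_assoc]

theorem coeff_wd_of_ne (hΔ : RootD.IsSimpleSys P Δ) (Δ' : Set ι) (hsub : Δ' ⊆ Δ) (u : List ι)
    (hu : ∀ a ∈ u, a ∈ Δ') (k d : ι) (hd : d ∉ Δ') :
    coeff P Δ (wd P u • k) d = coeff P Δ k d := by
  induction u with
  | nil => rw [wd_nil, one_smul]
  | cons x u ih =>
    have hx : x ∈ Δ' := hu x List.mem_cons_self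
    rw [wd_cons, mul_smul, reflection_smul_idx,
      coeff_reflection_simple hΔ (hsub hx) _ d (fun h => hd (h ▸ hx))]
    exact ih fun a ha => hu a (List.mem_cons_of_mem _ ha)

theorem root_eq_of_coeff_eq (hΔ : RootD.IsSimpleSys P Δ) (k k' : ι)
    (h : coeff P Δ k = coeff P Δ k') : k = k' := by
  apply P.root.injective
  rw [← coeff_sum hΔ k, ← coeff_sum hΔ k', h]

theorem dihedral_image_simple [Finite ι] (hΔ : RootD.IsSimpleSys P Δ) (α γ : ι) (hα : α ∈ Δ)
    (hγ : γ ∈ Δ) (hne : α ≠ γ) (u : List ι) (hu : ∀ a ∈ u, a = α ∨ a = γ) (g : P.Aut)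
    (hp1 : g • α ∈ RootD.posOf P Δ) (hp2 : g • γ ∈ RootD.posOf P Δ) (β : ι) (hβ : β ∈ Δ)
    (h : g • (wd P u • α) = β) : wd P u • α = α ∨ wd P u • α = γ := by
  classical
  set α' := wd P u • α with hα'
  have hsub : ({α, γ} : Set ι) ⊆ Δ := by
    rintro x (rfl | rfl)
    · exact hα
    · exact hγ
  have hsupp : ∀ d, d ≠ α → d ≠ γ → coeff P Δ α' d = 0 := by
    intro d h1 h2
    rw [hα', coeff_wd_of_ne hΔ {α, γ} hsub u (fun a ha => hu a ha) α d
      (fun h => by rcases h with h | h; exact h1 h; exact h2 h), coeff_simple hΔ hα,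
      Finsupp.single_eq_of_ne h1]
  set p := coeff P Δ α' α with hp
  set q := coeff P Δ α' γ with hq
  have hco : coeff P Δ α' = p • Finsupp.single α 1 + q • Finsupp.single γ 1 := by
    ext d
    simp only [Finsupp.coe_add, Finsupp.coe_smul, Pi.add_apply, Pi.smul_apply, smul_eq_mul]
    by_cases h1 : d = α
    · subst h1
      rw [Finsupp.single_eq_same, Finsupp.single_eq_of_ne hne]
      simp [hp]
    · by_cases h2 : d = γ
      · subst h2
        rw [Finsupp.single_eq_same, Finsupp.single_eq_of_ne (fun h => hne h.symm)]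
        simp [hq]
      · rw [hsupp d h1 h2, Finsupp.single_eq_of_ne h1, Finsupp.single_eq_of_ne h2]
        simp
  have hroot : P.root α' = p • P.root α + q • P.root γ := by
    rw [← coeff_sum hΔ α', hco, map_add, map_smul, map_smul, Finsupp.linearCombination_single,
      Finsupp.linearCombination_single, one_smul, one_smul]
  have hβroot : P.root β = p • P.root (g • α) + q • P.root (g • γ) := by
    rw [← h, ← aut_smul_root, hroot, aut_smul_def, map_add, map_zsmul, map_zsmul,
      ← aut_smul_def, ← aut_smul_def, aut_smul_root, aut_smul_root]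
  set A := coeff P Δ (g • α) with hA
  set C := coeff P Δ (g • γ) with hC
  have hcoβ : coeff P Δ β = p • A + q • C := by
    refine coeff_eq hΔ β _ ?_ ?_
    · exact Submodule.add_mem _ (Submodule.smul_mem _ _ (coeff_mem hΔ _))
        (Submodule.smul_mem _ _ (coeff_mem hΔ _))
    · rw [map_add, map_smul, map_smul, coeff_sum hΔ, coeff_sum hΔ, hβroot]
  have hβ1 : ∀ d, (Finsupp.single β (1 : ℤ)) d = p * A d + q * C d := by
    intro d
    rw [← coeff_simple hΔ hβ, hcoβ]
    simp
  have hA0 : ∀ d, 0 ≤ A d := (mem_posOf_iff hΔ _).1 hp1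
  have hC0 : ∀ d, 0 ≤ C d := (mem_posOf_iff hΔ _).1 hp2
  have hAne : ∃ d, 0 < A d := by
    by_contra hcon
    push Not at hcon
    apply coeff_ne_zero hΔ (g • α)
    ext d
    exact le_antisymm (hcon d) (hA0 d)
  have hCne : ∃ d, 0 < C d := by
    by_contra hcon
    push Not at hcon
    apply coeff_ne_zero hΔ (g • γ)
    ext d
    exact le_antisymm (hcon d) (hC0 d)
  have hββ := hβ1 β
  rw [Finsupp.single_eq_same] at hββ
  have hpq0 : 0 ≤ p ∧ 0 ≤ q := by
    rcases coeff_sign hΔ α' with hs | hs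
    · exact ⟨hs α, hs γ⟩
    · exfalso
      have h1 : p ≤ 0 := hs α
      have h2 : q ≤ 0 := hs γ
      nlinarith [hA0 β, hC0 β, mul_nonpos_of_nonpos_of_nonneg h1 (hA0 β),
        mul_nonpos_of_nonpos_of_nonneg h2 (hC0 β)]
  obtain ⟨hp0, hq0⟩ := hpq0
  have hpA : 0 < p → p = 1 ∧ q * C β = 0 := by
    intro hppos
    obtain ⟨d₁, hd₁⟩ := hAne
    have hd : d₁ = β := by
      by_contra hne'
      have := hβ1 d₁
      rw [Finsupp.single_eq_of_ne hne'] at this
      nlinarith [mul_pos hppos hd₁, mul_nonneg hq0 (hC0 d₁)]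
    subst hd
    have h1 : 1 ≤ p := hppos
    have h2 : 1 ≤ A d₁ := hd₁
    have h3 : 0 ≤ q * C d₁ := mul_nonneg hq0 (hC0 d₁)
    constructor <;> nlinarith
  have hqC : 0 < q → q = 1 ∧ p * A β = 0 := by
    intro hqpos
    obtain ⟨d₁, hd₁⟩ := hCne
    have hd : d₁ = β := by
      by_contra hne'
      have := hβ1 d₁
      rw [Finsupp.single_eq_of_ne hne'] at this
      nlinarith [mul_pos hqpos hd₁, mul_nonneg hp0 (hA0 d₁)]
    subst hd
    have h1 : 1 ≤ q := hqpos
    have h2 : 1 ≤ C d₁ := hd₁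
    have h3 : 0 ≤ p * A d₁ := mul_nonneg hp0 (hA0 d₁)
    constructor <;> nlinarith
  rcases hp0.lt_or_eq with hppos | hp00
  · left
    obtain ⟨hp1', hq1⟩ := hpA hppos
    have hq00 : q = 0 := by
      by_contra hqne
      have hqpos : 0 < q := lt_of_le_of_ne hq0 (Ne.symm hqne)
      obtain ⟨-, h2⟩ := hqC hqpos
      rw [hp1', one_mul] at h2
      rw [h2, hq1] at hββ
      norm_num at hββ
    apply root_eq_of_coeff_eq hΔ
    rw [hco, hp1', hq00, coeff_simple hΔ hα]
    simp
  · right
    have hqpos : 0 < q := by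
      by_contra hq'
      have : q = 0 := le_antisymm (not_lt.1 hq') hq0
      rw [← hp00, this] at hββ
      norm_num at hββ
    obtain ⟨hq1, -⟩ := hqC hqpos
    apply root_eq_of_coeff_eq hΔ
    rw [hco, ← hp00, hq1, coeff_simple hΔ hγ]
    simp

theorem tits_int [Finite ι] (hΔ : RootD.IsSimpleSys P Δ) :
    ∀ (n : ℕ) (l : List ι), (∀ a ∈ l, a ∈ Δ) → l.length = n →
    ∀ α ∈ Δ, ∀ β ∈ Δ, wd P l • α = β →
    ∃ (m : ℕ) (a : Fin (m + 1) → ι) (us : Fin m → List ι),
      (∀ i, a i ∈ Δ) ∧ a 0 = α ∧ a (Fin.last m) = β ∧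
      wd P l = wd P (List.ofFn fun i : Fin m => us (Fin.rev i)).flatten ∧
      (∀ i : Fin m, wd P (us i) • a (Fin.castSucc i) = a (Fin.succ i)) ∧
      ∀ i : Fin m, ∃ γ ∈ Δ, (∀ x ∈ us i, x = a (Fin.castSucc i) ∨ x = γ) ∧
        (a (Fin.castSucc i) ≠ a (Fin.succ i) → γ = a (Fin.succ i)) := by
  intro n
  induction n using Nat.strong_induction_on with
  | _ n ih =>
  intro l hl hlen α hα β hβ hwα
  by_cases hall : ∀ γ ∈ Δ, wd P l • γ ∈ RootD.posOf P Δ
  · have h1 := wd_eq_one_of_simple_pos hΔ l hall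
    rw [h1, one_smul] at hwα
    refine ⟨0, fun _ => α, Fin.elim0, fun _ => hα, rfl, hwα, ?_, fun i => i.elim0, fun i => i.elim0⟩
    rw [h1]
    rfl
  · push Not at hall
    obtain ⟨γ, hγ, hγneg⟩ := hall
    have hne : α ≠ γ := by
      rintro rfl
      apply hγneg
      rw [hwα]
      exact simple_subset_posOf Δ hβ
    obtain ⟨l', u, hl', hu, hw, -, hp1, hp2, hlt⟩ :=
      exists_dihedral_factor hΔ α γ hα hγ n l hl hlen
    have hlt' := hlt hγneg
    have hβ' : wd P l' • (wd P u • α) = β := by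
      rw [← mul_smul, ← hw, hwα]
    have hcases := dihedral_image_simple hΔ α γ hα hγ hne u hu (wd P l') hp1 hp2 β hβ hβ'
    set α' := wd P u • α with hα'
    have hα'Δ : α' ∈ Δ := by
      rcases hcases with h | h
      · rw [h]; exact hα
      · rw [h]; exact hγ
    obtain ⟨m', a', us', ha'Δ, ha'0, ha'last, hwl', hstep', hγ'⟩ :=
      ih l'.length hlt' l' hl' rfl α' hα'Δ β hβ hβ'
    refine ⟨m' + 1, Fin.cons α a', Fin.cons u us', ?_, ?_, ?_, ?_, ?_, ?_⟩
    · intro i
      refine Fin.cases ?_ (fun j => ?_) i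
      · rw [Fin.cons_zero]; exact hα
      · rw [Fin.cons_succ]; exact ha'Δ j
    · rw [Fin.cons_zero]
    · rw [← Fin.succ_last, Fin.cons_succ]; exact ha'last
    · rw [List.ofFn_succ', List.concat_eq_append, List.flatten_append, wd_append, hw]
      congr 1
      · rw [hwl']
        congr 2
        refine List.ofFn_inj.2 (funext fun i => ?_)
        rw [Fin.rev_castSucc, Fin.cons_succ]
      · rw [Fin.rev_last, Fin.cons_zero]
        simp
    · intro i
      refine Fin.cases ?_ (fun j => ?_) i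
      · rw [Fin.cons_zero, Fin.castSucc_zero, Fin.cons_zero, Fin.cons_succ, ha'0]
      · rw [Fin.cons_succ, ← Fin.succ_castSucc, Fin.cons_succ, Fin.cons_succ]
        exact hstep' j
    · intro i
      refine Fin.cases ?_ (fun j => ?_) i
      · refine ⟨γ, hγ, ?_, ?_⟩
        · intro x hx
          rw [Fin.cons_zero] at hx
          rw [Fin.castSucc_zero, Fin.cons_zero]
          exact hu x hx
        · rw [Fin.castSucc_zero, Fin.cons_zero, Fin.cons_succ, ha'0]
          intro hne'
          rcases hcases with h | h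
          · exact absurd h.symm hne'
          · exact h.symm
      · obtain ⟨γ', hγ'Δ, h1, h2⟩ := hγ' j
        refine ⟨γ', hγ'Δ, ?_, ?_⟩
        · intro x hx
          rw [Fin.cons_succ] at hx
          rw [← Fin.succ_castSucc, Fin.cons_succ]
          exact h1 x hx
        · rw [← Fin.succ_castSucc, Fin.cons_succ, Fin.cons_succ]
          exact h2

end tits

end Groth.Agent.H3RootD

namespace Groth.Agent.H3RootD

section titsR
variable {ι R M N : Type*} [CommRing R] [CharZero R] [IsDomain R] [AddCommGroup M] [Module R M]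
  [AddCommGroup N] [Module R N] {P : RootPairing ι R M N} [Finite ι] [P.IsCrystallographic]

omit [CharZero R] [IsDomain R] [Finite ι] [P.IsCrystallographic] in
theorem wdR_flatten (L : List (List ι)) : wdR P L.flatten = (L.map (wdR P)).prod := by
  induction L with
  | nil => simp [wdR_nil]
  | cons x L ih => rw [List.flatten_cons, wdR_append, List.map_cons, List.prod_cons, ih]

theorem wd_int_flatten_smul (L : List (List ι)) (k : ι) :
    wd (intForm P) L.flatten • k = wdR P L.flatten • k := (wdR_smul_idx _ _).symm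

end titsR

end Groth.Agent.H3RootD

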