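import Mathlib
import Groth.Agent.Lib.helper3.RootTrans
import Groth.Agent.Lib.helper3.RootWord
import Groth.Agent.S5456

namespace Groth.Agent.H3RootD

variable {ι M N : Type*} [AddCommGroup M] [AddCommGroup N] {P : RootPairing ι ℤ M N}

open RootPairing

theorem multiset_sum_ne_zero [Finite ι] (S : Set ι) (hcl : RootD.IsClosedSub P S)
    (hP1 : ∀ i ∈ S, P.reflectionPerm i i ∉ S) (s : Multiset ι) (hs : ∀ a ∈ s, a ∈ S)
    (hne : s ≠ 0) : (s.map P.root).sum ≠ 0 := by
  classical
  intro h0
  obtain ⟨a, ha⟩ := Multiset.exists_mem_of_ne_zero hne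
  have hsum : ((s.erase a).map P.root).sum = P.root (P.reflectionPerm a a) := by
    have := Multiset.sum_map_erase (f := P.root) ha
    rw [h0] at this
    rw [neg_root]
    exact (neg_eq_of_add_eq_zero_right this).symm ▸ rfl
  exact hP1 a (hs a ha) (closed_multiset_sum_mem P S hcl _ (s.erase a) rfl
    (fun b hb => hs b (Multiset.mem_of_mem_erase hb)) _ hsum)


end Groth.Agent.H3RootD
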