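import Mathlib
import Groth.Agent.Lib.helper3.FlY

set_option autoImplicit false
universe u

namespace Groth.Agent.H3LocCrit

open RingTheory.Sequence

section
variable {A B : Type u} [CommRing A] [CommRing B] [Algebra A B]

/-- transport flatness along a `B`-linear equivalence -/
theorem flat_of_equivB {M N : Type u} [AddCommGroup M] [Module B M] [Module A M]
    [IsScalarTower A B M] [AddCommGroup N] [Module B N] [Module A N] [IsScalarTower A B N]
    (e : M ≃ₗ[B] N) [Module.Flat A M] : Module.Flat A N :=
  Module.Flat.of_linearEquiv (e.restrictScalars A).symm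

/-- `M ⧸ (take 0 fs) M ≃ M`. -/
noncomputable def quotNilEquiv (M : Type u) [AddCommGroup M] [Module B M] :
    (M ⧸ (Ideal.ofList ([] : List B) • (⊤ : Submodule B M))) ≃ₗ[B] M :=
  Submodule.quotEquivOfEqBot _ (by rw [Ideal.ofList_nil, Submodule.bot_smul])

theorem main5773 [IsNoetherianRing A] [IsNoetherianRing B] [IsLocalRing B]
    (fs : List B) : ∀ (M : Type u) [AddCommGroup M] [Module B M] [Module A M]
    [IsScalarTower A B M] [Module.Finite B M]
    (_ : ∀ f ∈ fs, f ∈ IsLocalRing.maximalIdeal B)
    (_ : IsWeaklyRegular M fs)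
    (_ : Module.Flat A (M ⧸ (Ideal.ofList fs • (⊤ : Submodule B M)))) (i : ℕ),
    Module.Flat A (M ⧸ (Ideal.ofList (fs.take i) • (⊤ : Submodule B M))) := by
  induction fs with
  | nil =>
    intro M _ _ _ _ _ _ _ hflat i
    rw [List.take_nil]
    exact hflat
  | cons f fs ih =>
    intro M _ _ _ _ _ hfs hreg hflat i
    obtain ⟨hf, hreg'⟩ := (isWeaklyRegular_cons_iff M f fs).mp hreg
    have hflat' : Module.Flat A
        (QuotSMulTop f M ⧸ (Ideal.ofList fs • (⊤ : Submodule B (QuotSMulTop f M)))) :=
      flat_of_equivB (A := A) (Submodule.quotOfListConsSMulTopEquivQuotSMulTopInner M f fs)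
    have ih' := ih (QuotSMulTop f M) (fun g hg => hfs g (List.mem_cons_of_mem _ hg)) hreg' hflat'
    cases i with
    | zero =>
      have h0 : Module.Flat A (QuotSMulTop f M) := by
        have := ih' 0
        rw [List.take_zero] at this
        exact flat_of_equivB (A := A) (B := B) (quotNilEquiv (B := B) (QuotSMulTop f M))
      have hM : Module.Flat A M := by
        refine main2361 f (hfs f List.mem_cons_self) M hf ?_
        rw [Submodule.ideal_span_singleton_smul]
        exact h0
      rw [List.take_zero]
      exact flat_of_equivB (A := A) (B := B) (quotNilEquiv (B := B) M).symm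
    | succ j =>
      rw [List.take_succ_cons]
      have := ih' j
      exact flat_of_equivB (A := A)
        (Submodule.quotOfListConsSMulTopEquivQuotSMulTopInner M f (fs.take j)).symm

end

end Groth.Agent.H3LocCrit
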