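import Mathlib
import Groth.Agent.Lib.helper3.FlO
import Groth.Agent.Lib.helper3.RsA

set_option autoImplicit false
universe u

namespace Groth.Agent.H3LocCrit

open RingTheory.Sequence TensorProduct Pointwise

section
variable {A B : Type u} [CommRing A] [CommRing B] [Algebra A B]

/-- the comparison `(A ⧸ I) ⊗[A] M → M ⧸ (I B) M`. -/
noncomputable def quotTensorToQuotMap (I : Ideal A) (M : Type u) [AddCommGroup M] [Module B M]
    [Module A M] [IsScalarTower A B M] :
    (A ⧸ I) ⊗[A] M ≃ₗ[A] M ⧸ (I.map (algebraMap A B) • (⊤ : Submodule B M)) :=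
  (TensorProduct.quotTensorEquivQuotSMul M I) ≪≫ₗ
    (Submodule.quotEquivOfEq _ _ (by
      rw [Ideal.smul_restrictScalars, Submodule.restrictScalars_top])) ≪≫ₗ
    (Submodule.Quotient.restrictScalarsEquiv A
      (I.map (algebraMap A B) • (⊤ : Submodule B M)))

lemma quotTensorToQuotMap_tmul (I : Ideal A) (M : Type u) [AddCommGroup M] [Module B M]
    [Module A M] [IsScalarTower A B M] (a : A) (x : M) :
    quotTensorToQuotMap (B := B) I M ((Ideal.Quotient.mk I a) ⊗ₜ[A] x) =
      Submodule.Quotient.mk (a • x) := by
  unfold quotTensorToQuotMap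
  simp only [LinearEquiv.trans_apply, TensorProduct.quotTensorEquivQuotSMul_mk_tmul]
  rfl

theorem step5774 [IsLocalRing A] [IsLocalRing B] [IsNoetherianRing B]
    [IsLocalHom (algebraMap A B)] (M : Type u) [AddCommGroup M] [Module B M] [Module A M]
    [IsScalarTower A B M] [Module.Finite B M] [Module.Flat A M] (f : B)
    (hreg : IsSMulRegular
      (M ⧸ ((IsLocalRing.maximalIdeal A).map (algebraMap A B) • (⊤ : Submodule B M))) f) :
    IsSMulRegular M f ∧ Module.Flat A (QuotSMulTop f M) := by
  set u : M →ₗ[A] M := (LinearMap.lsmul B M f).restrictScalars A with hu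
  set φ := quotTensorToQuotMap (B := B) (IsLocalRing.maximalIdeal A) M with hφ
  have hcomm : ∀ z, φ (LinearMap.lTensor (A ⧸ IsLocalRing.maximalIdeal A) u z) = f • φ z := by
    intro z
    induction z using TensorProduct.induction_on with
    | zero => simp
    | tmul a x =>
      obtain ⟨a, rfl⟩ := Ideal.Quotient.mk_surjective a
      rw [LinearMap.lTensor_tmul, hφ, quotTensorToQuotMap_tmul, quotTensorToQuotMap_tmul]
      simp only [hu, LinearMap.coe_restrictScalars, LinearMap.lsmul_apply]
      rw [smul_comm a f x]
      rfl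
    | add z w hz hw => rw [map_add, map_add, hz, hw, map_add, smul_add]
  have hinj : Function.Injective
      (LinearMap.lTensor (IsLocalRing.ResidueField A) u) := by
    change Function.Injective (LinearMap.lTensor (A ⧸ IsLocalRing.maximalIdeal A) u)
    rw [injective_iff_map_eq_zero]
    intro z hz
    have h1 : f • φ z = 0 := by rw [← hcomm, hz, map_zero]
    have h2 : φ z = 0 := hreg (by show f • φ z = f • 0; rw [h1, smul_zero])
    exact φ.injective (by rw [h2, map_zero])
  obtain ⟨h1, h2⟩ := main393 (R := A) (S := B) u hinj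
  refine ⟨h1, ?_⟩
  have heq : ((f • (⊤ : Submodule B M)).restrictScalars A) = LinearMap.range u := by
    ext x
    simp only [Submodule.restrictScalars_mem, Submodule.mem_smul_pointwise_iff_exists,
      LinearMap.mem_range, hu, LinearMap.coe_restrictScalars, LinearMap.lsmul_apply,
      Submodule.mem_top, true_and]
  exact Module.Flat.of_linearEquiv
    ((Submodule.Quotient.restrictScalarsEquiv A (f • (⊤ : Submodule B M))).symm ≪≫ₗ
      Submodule.quotEquivOfEq _ _ heq)

end

end Groth.Agent.H3LocCrit
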