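import Mathlib
import Groth.Agent.Lib.helper3.RsB

set_option autoImplicit false
universe u

namespace Groth.Agent.H3LocCrit

open RingTheory.Sequence TensorProduct Pointwise

section
variable {B : Type u} [CommRing B]

/-- `(M/fM)/J(M/fM) ≃ (M/JM)/f(M/JM)`. -/
noncomputable def quotSMulTopQuotComm (J : Ideal B) (f : B) (M : Type u) [AddCommGroup M]
    [Module B M] :
    (QuotSMulTop f M ⧸ (J • (⊤ : Submodule B (QuotSMulTop f M)))) ≃ₗ[B]
      QuotSMulTop f (M ⧸ (J • (⊤ : Submodule B M))) :=
  Submodule.quotEquivOfEq _ ((J • (⊤ : Submodule B M)).map (f • (⊤ : Submodule B M)).mkQ)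
      (by rw [Submodule.map_smul'', Submodule.map_top, Submodule.range_mkQ]) ≪≫ₗ
    Submodule.quotientQuotientEquivQuotientSup (f • (⊤ : Submodule B M)) (J • ⊤) ≪≫ₗ
    Submodule.quotEquivOfEq _ _ (sup_comm _ _) ≪≫ₗ
    (Submodule.quotientQuotientEquivQuotientSup (J • (⊤ : Submodule B M)) (f • ⊤)).symm ≪≫ₗ
    Submodule.quotEquivOfEq _ _
      (by rw [Submodule.map_pointwise_smul, Submodule.map_top, Submodule.range_mkQ])

end

section
variable {A B : Type u} [CommRing A] [CommRing B] [Algebra A B]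

theorem main5774 [IsLocalRing A] [IsLocalRing B] [IsNoetherianRing B]
    [IsLocalHom (algebraMap A B)]
    (fs : List B) : ∀ (M : Type u) [AddCommGroup M] [Module B M] [Module A M]
    [IsScalarTower A B M] [Module.Finite B M] [Module.Flat A M]
    (_ : IsWeaklyRegular
      (M ⧸ ((IsLocalRing.maximalIdeal A).map (algebraMap A B) • (⊤ : Submodule B M))) fs),
    IsWeaklyRegular M fs ∧
      ∀ i : ℕ, Module.Flat A (M ⧸ (Ideal.ofList (fs.take i) • (⊤ : Submodule B M))) := by
  induction fs with
  | nil =>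
    intro M _ _ _ _ _ _ _
    refine ⟨IsWeaklyRegular.nil B M, fun i => ?_⟩
    rw [List.take_nil]
    exact flat_of_equivB (A := A) (B := B) (quotNilEquiv (B := B) M).symm
  | cons f fs ih =>
    intro M _ _ _ _ _ _ hreg
    obtain ⟨hf, hreg'⟩ := (isWeaklyRegular_cons_iff _ f fs).mp hreg
    obtain ⟨hfM, hflat⟩ := step5774 (A := A) M f hf
    have hreg'' : IsWeaklyRegular
        (QuotSMulTop f M ⧸ ((IsLocalRing.maximalIdeal A).map (algebraMap A B) •
          (⊤ : Submodule B (QuotSMulTop f M)))) fs :=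
      (LinearEquiv.isWeaklyRegular_congr
        (quotSMulTopQuotComm ((IsLocalRing.maximalIdeal A).map (algebraMap A B)) f M) fs).mpr hreg'
    obtain ⟨ih1, ih2⟩ := ih (QuotSMulTop f M) hreg''
    refine ⟨(isWeaklyRegular_cons_iff M f fs).mpr ⟨hfM, ih1⟩, fun i => ?_⟩
    cases i with
    | zero =>
      rw [List.take_zero]
      exact flat_of_equivB (A := A) (B := B) (quotNilEquiv (B := B) M).symm
    | succ j =>
      rw [List.take_succ_cons]
      have := ih2 j
      exact flat_of_equivB (A := A)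
        (Submodule.quotOfListConsSMulTopEquivQuotSMulTopInner M f (fs.take j)).symm

end

end Groth.Agent.H3LocCrit
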