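import Mathlib

set_option autoImplicit false
universe u

namespace Groth.Agent.H3LocCrit

open RingTheory.Sequence TensorProduct Pointwise

theorem ofList_take_succ_smul_top {B : Type u} [CommRing B] (M : Type u) [AddCommGroup M]
    [Module B M] (fs : List B) (i : ℕ) (hi : i < fs.length) :
    Ideal.ofList (fs.take (i + 1)) • (⊤ : Submodule B M) =
      Ideal.ofList (fs.take i) • (⊤ : Submodule B M) ⊔ fs[i] • (⊤ : Submodule B M) := by
  rw [List.take_succ_eq_append_getElem hi, Ideal.ofList_append, Ideal.ofList_singleton,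
    Submodule.sup_smul, Submodule.ideal_span_singleton_smul]

theorem main5806 (A B : Type u) [CommRing A]
    [CommRing B] [Algebra A B] (M : Type u) [AddCommGroup M] [Module B M] [Module A M]
    [IsScalarTower A B M]
    (fs : List B) (hreg : IsWeaklyRegular M fs)
    (hflat : ∀ i : ℕ, i ≤ fs.length →
      Module.Flat A (M ⧸ (Ideal.ofList (fs.take i) • (⊤ : Submodule B M))))
    (A' : Type u) [CommRing A'] [Algebra A A'] (i : Fin fs.length) :
    Function.Injective (LinearMap.lTensor A'
        (((LinearMap.lsmul B (M ⧸ (Ideal.ofList (fs.take i) • (⊤ : Submodule B M))))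
          (fs.get i)).restrictScalars A)) ∧
      Module.Flat A' (A' ⊗[A] (M ⧸ (Ideal.ofList (fs.take i) • (⊤ : Submodule B M)))) := by
  have hN := ofList_take_succ_smul_top M fs i i.isLt
  have hle : Ideal.ofList (fs.take i) • (⊤ : Submodule B M) ≤
      Ideal.ofList (fs.take (i + 1)) • (⊤ : Submodule B M) := by
    rw [hN]; exact le_sup_left
  haveI := hflat (i + 1) (Nat.succ_le_of_lt i.isLt)
  haveI := hflat i (le_of_lt i.isLt)
  refine ⟨?_, inferInstance⟩
  set π : (M ⧸ (Ideal.ofList (fs.take i) • (⊤ : Submodule B M))) →ₗ[B]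
      (M ⧸ (Ideal.ofList (fs.take (i + 1)) • (⊤ : Submodule B M))) :=
    Submodule.mapQ _ _ LinearMap.id (by rw [Submodule.comap_id]; exact hle) with hπdef
  have hπmk : ∀ x : M, π (Submodule.Quotient.mk x) = Submodule.Quotient.mk x := fun x => rfl
  have hπ : Function.Surjective (π.restrictScalars A) := by
    intro y
    obtain ⟨x, rfl⟩ := Submodule.Quotient.mk_surjective _ y
    exact ⟨Submodule.Quotient.mk x, rfl⟩
  have hg : Function.Injective
      (((LinearMap.lsmul B (M ⧸ (Ideal.ofList (fs.take i) • (⊤ : Submodule B M))))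
          (fs.get i)).restrictScalars A) := by
    have := hreg.regular_mod_prev i i.isLt
    exact this
  have H : Function.Exact
      (((LinearMap.lsmul B (M ⧸ (Ideal.ofList (fs.take i) • (⊤ : Submodule B M))))
          (fs.get i)).restrictScalars A) (π.restrictScalars A) := by
    intro y
    obtain ⟨x, rfl⟩ := Submodule.Quotient.mk_surjective _ y
    simp only [LinearMap.coe_restrictScalars, hπmk, Set.mem_range, LinearMap.lsmul_apply]
    rw [Submodule.Quotient.mk_eq_zero, hN]
    constructor
    · intro hx
      obtain ⟨n, hn, m, hm, rfl⟩ := Submodule.mem_sup.mp hx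
      obtain ⟨m', -, rfl⟩ := (Submodule.mem_smul_pointwise_iff_exists _ _ _).mp hm
      refine ⟨Submodule.Quotient.mk m', ?_⟩
      rw [← Submodule.Quotient.mk_smul, eq_comm, Submodule.Quotient.eq]
      simpa [List.get_eq_getElem] using hn
    · rintro ⟨z, hz⟩
      obtain ⟨z', rfl⟩ := Submodule.Quotient.mk_surjective _ z
      rw [← Submodule.Quotient.mk_smul, Submodule.Quotient.eq] at hz
      have h1 : fs.get i • z' ∈ fs[(i : ℕ)] • (⊤ : Submodule B M) := by
        rw [List.get_eq_getElem]
        exact Submodule.smul_mem_pointwise_smul _ _ _ Submodule.mem_top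
      have h2 := Submodule.add_mem _ (Submodule.mem_sup_left (neg_mem hz))
        (Submodule.mem_sup_right h1)
      simpa using h2
  exact LinearMap.lTensor_injective_of_exact_of_flat (π.restrictScalars A) hπ _ hg H A'

end Groth.Agent.H3LocCrit
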