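import Mathlib
import Groth.Agent.Lib.helper3.FlJ

set_option autoImplicit false
universe u

namespace Groth.Agent.H3LocCrit

open RingTheory.Sequence TensorProduct Pointwise

section
variable {A : Type u} [CommRing A] (J : Ideal A) (M : Type u) [AddCommGroup M] [Module A M]

instance isScalarTower_quot_smul_top : IsScalarTower A (A ⧸ J) (M ⧸ J • (⊤ : Submodule A M)) :=
  (Module.isTorsionBySet_quotient_ideal_smul M J).isScalarTower

/-- `(A ⧸ J) ⊗ M ≃ M ⧸ J M`, linear over `A ⧸ J`. -/
noncomputable def quotTensorEquivQuotSMulQ :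
    (A ⧸ J) ⊗[A] M ≃ₗ[A ⧸ J] M ⧸ J • (⊤ : Submodule A M) :=
  LinearEquiv.extendScalarsOfSurjective Ideal.Quotient.mk_surjective
    (TensorProduct.quotTensorEquivQuotSMul M J)

end

end Groth.Agent.H3LocCrit
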