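import Mathlib

set_option autoImplicit false
universe u

namespace Groth.Agent.H3LocCrit

open RingTheory.Sequence TensorProduct Pointwise Function

section
variable {A : Type u} [CommRing A] {M : Type u} [AddCommGroup M] [Module A M]

theorem rTensor_sup_span_injective (J : Ideal A) (f : A)
    (hf : IsSMulRegular (M ⧸ J • (⊤ : Submodule A M)) f)
    (hJ : Injective (J.subtype.rTensor M)) :
    Injective ((J ⊔ Ideal.span {f}).subtype.rTensor M) := by
  set J' := J ⊔ Ideal.span {f} with hJ'
  have hle : J ≤ J' := le_sup_left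
  set f' : J' := ⟨f, Submodule.mem_sup_right (Ideal.mem_span_singleton_self f)⟩ with hf'
  set ι : ↥J ⊗[A] M →ₗ[A] ↥J' ⊗[A] M := (Submodule.inclusion hle).rTensor M with hι
  have hcomp : ∀ z₀, J'.subtype.rTensor M (ι z₀) = J.subtype.rTensor M z₀ := by
    intro z₀
    rw [hι, ← LinearMap.comp_apply, ← LinearMap.rTensor_comp, Submodule.subtype_comp_inclusion]
  have hdecomp : ∀ z : ↥J' ⊗[A] M, ∃ (z₀ : ↥J ⊗[A] M) (m : M), z = ι z₀ + f' ⊗ₜ[A] m := by
    intro z
    induction z using TensorProduct.induction_on with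
    | zero => exact ⟨0, 0, by simp⟩
    | tmul x m =>
      obtain ⟨j, hj, y, hy, hx⟩ := Submodule.mem_sup.mp x.2
      obtain ⟨a, rfl⟩ := Ideal.mem_span_singleton'.mp hy
      refine ⟨(⟨j, hj⟩ : J) ⊗ₜ[A] m, a • m, ?_⟩
      rw [hι, LinearMap.rTensor_tmul, ← TensorProduct.smul_tmul,
        ← TensorProduct.add_tmul]
      congr 1
      ext
      simp [hf', ← hx]
    | add z w hz hw =>
      obtain ⟨z₀, m, rfl⟩ := hz
      obtain ⟨w₀, n, rfl⟩ := hw
      exact ⟨z₀ + w₀, m + n, by rw [map_add, TensorProduct.tmul_add]; abel⟩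
  have himg : ∀ z₀ : ↥J ⊗[A] M,
      TensorProduct.lid A M (J.subtype.rTensor M z₀) ∈ J • (⊤ : Submodule A M) := by
    intro z₀
    induction z₀ using TensorProduct.induction_on with
    | zero => simp
    | tmul j m =>
      rw [LinearMap.rTensor_tmul, TensorProduct.lid_tmul]
      exact Submodule.smul_mem_smul j.2 Submodule.mem_top
    | add z w hz hw => rw [map_add, map_add]; exact Submodule.add_mem _ hz hw
  have hrange : ∀ m ∈ J • (⊤ : Submodule A M), f' ⊗ₜ[A] m ∈ LinearMap.range ι := by
    intro m hm
    refine Submodule.smul_induction_on hm ?_ ?_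
    · intro i hi n _
      refine ⟨(⟨i * f, J.mul_mem_right f hi⟩ : J) ⊗ₜ[A] n, ?_⟩
      rw [hι, LinearMap.rTensor_tmul, ← TensorProduct.smul_tmul]
      congr 1
    · intro x y hx hy
      rw [TensorProduct.tmul_add]
      exact Submodule.add_mem _ hx hy
  rw [injective_iff_map_eq_zero]
  intro z hz
  obtain ⟨z₀, m, rfl⟩ := hdecomp z
  have hz' := hz
  rw [map_add, hcomp, LinearMap.rTensor_tmul] at hz'
  have h1 : f • m ∈ J • (⊤ : Submodule A M) := by
    have h3 := congrArg (TensorProduct.lid A M) hz'
    rw [map_add, map_zero, Submodule.subtype_apply, TensorProduct.lid_tmul] at h3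
    have h4 : f • m = - (TensorProduct.lid A M (J.subtype.rTensor M z₀)) :=
      eq_neg_of_add_eq_zero_right h3
    rw [h4]
    exact neg_mem (himg z₀)
  have h2 : m ∈ J • (⊤ : Submodule A M) := by
    have h5 : f • (Submodule.Quotient.mk m : M ⧸ J • (⊤ : Submodule A M)) = 0 := by
      rw [← Submodule.Quotient.mk_smul, Submodule.Quotient.mk_eq_zero]
      exact h1
    have h6 : (Submodule.Quotient.mk m : M ⧸ J • (⊤ : Submodule A M)) = 0 :=
      hf (by show f • _ = f • 0; rw [h5, smul_zero])
    exact (Submodule.Quotient.mk_eq_zero _).mp h6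
  obtain ⟨z₁, hz₁⟩ := hrange m h2
  rw [← hz₁, ← map_add] at hz ⊢
  rw [hcomp] at hz
  rw [hJ (by rw [hz, map_zero] : J.subtype.rTensor M (z₀ + z₁) = J.subtype.rTensor M 0), map_zero]

theorem rTensor_ofList_take_injective (fs : List A) (hreg : IsWeaklyRegular M fs) :
    ∀ i : ℕ, i ≤ fs.length →
      Injective ((Ideal.ofList (fs.take i)).subtype.rTensor M) := by
  intro i
  induction i with
  | zero =>
    intro _
    rw [List.take_zero, Ideal.ofList_nil]
    haveI : Subsingleton (↥(⊥ : Ideal A) ⊗[A] M) := by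
      refine ⟨fun x y => ?_⟩
      have h0 : ∀ z : ↥(⊥ : Ideal A) ⊗[A] M, z = 0 := by
        intro z
        induction z using TensorProduct.induction_on with
        | zero => rfl
        | tmul a m =>
          have : a = 0 := Subsingleton.elim _ _
          rw [this, TensorProduct.zero_tmul]
        | add z w hz hw => rw [hz, hw, add_zero]
      rw [h0 x, h0 y]
    exact Function.injective_of_subsingleton _
  | succ i ih =>
    intro hi
    have hi' : i < fs.length := hi
    have h1 := ih (le_of_lt hi')
    have h2 := hreg.regular_mod_prev i hi'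
    have h3 := rTensor_sup_span_injective (Ideal.ofList (fs.take i)) fs[i] h2 h1
    have h4 : Ideal.ofList (fs.take (i + 1)) = Ideal.ofList (fs.take i) ⊔ Ideal.span {fs[i]} := by
      rw [List.take_succ_eq_append_getElem hi', Ideal.ofList_append, Ideal.ofList_singleton]
    rw [h4]
    exact h3

theorem rTensor_ofList_injective (fs : List A) (hreg : IsWeaklyRegular M fs) :
    Injective ((Ideal.ofList fs).subtype.rTensor M) := by
  have := rTensor_ofList_take_injective fs hreg fs.length le_rfl
  rwa [List.take_length] at this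

end

end Groth.Agent.H3LocCrit
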