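import Mathlib
import Groth.Agent.Lib.helper3.RsE
import Groth.Agent.Lib.helper3.RsF

set_option autoImplicit false
universe u

namespace Groth.Agent.H3LocCrit

open RingTheory.Sequence TensorProduct Pointwise Function

theorem main5777 (A B : Type u) [CommRing A] [CommRing B]
    [IsLocalRing A] [IsLocalRing B] [IsNoetherianRing A] [IsNoetherianRing B] [Algebra A B]
    [IsLocalHom (algebraMap A B)] (M : Type u) [AddCommGroup M] [Module B M] [Module A M]
    [IsScalarTower A B M] [Module.Finite B M] (fs : List A)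
    (hfs : ∀ f ∈ fs, f ∈ IsLocalRing.maximalIdeal A)
    (hA : IsWeaklyRegular A fs) :
    Module.Flat A M ↔
      Module.Flat (A ⧸ Ideal.ofList fs) (M ⧸ (Ideal.ofList fs • (⊤ : Submodule A M))) ∧
        IsWeaklyRegular M fs := by
  constructor
  · intro h
    refine ⟨Module.Flat.of_linearEquiv (quotTensorEquivQuotSMulQ (Ideal.ofList fs) M).symm, ?_⟩
    exact (LinearEquiv.isWeaklyRegular_congr (TensorProduct.lid A M) fs).mp
      hA.isWeaklyRegular_rTensor
  · rintro ⟨h1, h2⟩
    have hJ : Ideal.ofList fs ≠ ⊤ := by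
      intro h
      have h3 : Ideal.ofList fs ≤ IsLocalRing.maximalIdeal A :=
        Ideal.span_le.mpr (fun x hx => hfs x hx)
      rw [h] at h3
      exact (IsLocalRing.maximalIdeal.isMaximal A).ne_top (top_le_iff.mp h3)
    haveI : Module.Flat (A ⧸ Ideal.ofList fs) ((A ⧸ Ideal.ofList fs) ⊗[A] M) :=
      Module.Flat.of_linearEquiv (quotTensorEquivQuotSMulQ (Ideal.ofList fs) M)
    exact flat_of_local_criterion B (Ideal.ofList fs) hJ (rTensor_ofList_injective fs h2)

end Groth.Agent.H3LocCrit
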