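import Mathlib
import Groth.Agent.Lib.helper3.RsC

set_option autoImplicit false
universe u

namespace Groth.Agent.H3LocCrit

open RingTheory.Sequence TensorProduct Pointwise Function

section
variable {A : Type u} [CommRing A] {M : Type u} [AddCommGroup M] [Module A M]

/-- If `M ⧸ R` is flat then `R ∩ I M = I R`. -/
theorem inf_smul_top_le_of_flat_quot (I : Ideal A) (R : Submodule A M) [Module.Flat A (M ⧸ R)] :
    R ⊓ I • (⊤ : Submodule A M) ≤ I • R := by
  intro y hy
  obtain ⟨hyR, hyI⟩ := hy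
  -- the multiplication maps
  set μM : ↥I ⊗[A] M →ₗ[A] M := (TensorProduct.lid A M).toLinearMap ∘ₗ I.subtype.rTensor M
  set μQ : ↥I ⊗[A] (M ⧸ R) →ₗ[A] (M ⧸ R) :=
    (TensorProduct.lid A (M ⧸ R)).toLinearMap ∘ₗ I.subtype.rTensor (M ⧸ R)
  have hμQ : Injective μQ := by
    refine (TensorProduct.lid A (M ⧸ R)).injective.comp ?_
    exact Module.Flat.rTensor_preserves_injective_linearMap _ I.injective_subtype
  have hsurj : ∀ y ∈ I • (⊤ : Submodule A M), ∃ z : ↥I ⊗[A] M, μM z = y := by
    intro y hy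
    refine Submodule.smul_induction_on hy ?_ ?_
    · intro a ha m _
      exact ⟨(⟨a, ha⟩ : I) ⊗ₜ[A] m, by simp [μM]⟩
    · rintro x y ⟨z, rfl⟩ ⟨w, rfl⟩
      exact ⟨z + w, map_add _ _ _⟩
  obtain ⟨z, rfl⟩ := hsurj y hyI
  have hnat : ∀ z : ↥I ⊗[A] M, μQ (R.mkQ.lTensor ↥I z) = R.mkQ (μM z) := by
    intro z
    induction z using TensorProduct.induction_on with
    | zero => simp
    | tmul a m => simp [μQ, μM]
    | add z w hz hw => simp only [map_add, hz, hw]
  have h0 : R.mkQ.lTensor ↥I z = 0 := by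
    apply hμQ
    rw [hnat, map_zero]
    exact (Submodule.Quotient.mk_eq_zero R).mpr hyR
  have hex : Function.Exact (R.subtype.lTensor ↥I) (R.mkQ.lTensor ↥I) :=
    lTensor_exact ↥I (LinearMap.exact_subtype_mkQ R) (Submodule.mkQ_surjective R)
  obtain ⟨w, rfl⟩ := (hex z).mp h0
  have himg : ∀ w : ↥I ⊗[A] ↥R, μM (R.subtype.lTensor ↥I w) ∈ I • R := by
    intro w
    induction w using TensorProduct.induction_on with
    | zero => simp
    | tmul a r =>
      simp only [LinearMap.lTensor_tmul, Submodule.subtype_apply, μM, LinearMap.coe_comp,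
        LinearEquiv.coe_coe, Function.comp_apply, LinearMap.rTensor_tmul, TensorProduct.lid_tmul]
      exact Submodule.smul_mem_smul a.2 r.2
    | add z w hz hw => rw [map_add, map_add]; exact Submodule.add_mem _ hz hw
  exact himg w

end

end Groth.Agent.H3LocCrit

namespace Groth.Agent.H3LocCrit

open RingTheory.Sequence TensorProduct Pointwise Function

theorem main5775 (A B : Type u) [CommRing A] [CommRing B] [IsLocalRing A]
    [IsLocalRing B] [IsNoetherianRing B] [Algebra A B] [IsLocalHom (algebraMap A B)]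
    (M : Type u) [AddCommGroup M] [Module B M] [Module A M] [IsScalarTower A B M] [Module.Finite B M]
    [Module.Flat A M] (R : Submodule B M) (hR : Module.Flat A (M ⧸ R)) (fs : List B)
    (h1 : Ideal.ofList fs • (⊤ : Submodule B M) ≤ R)
    (h2 : IsWeaklyRegular
      (M ⧸ ((IsLocalRing.maximalIdeal A).map (algebraMap A B) • (⊤ : Submodule B M))) fs)
    (h3 : Ideal.ofList fs • (⊤ : Submodule B
        (M ⧸ ((IsLocalRing.maximalIdeal A).map (algebraMap A B) • (⊤ : Submodule B M)))) =
      R.map ((IsLocalRing.maximalIdeal A).map (algebraMap A B) • (⊤ : Submodule B M)).mkQ) :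
    IsWeaklyRegular M fs ∧ R = Ideal.ofList fs • (⊤ : Submodule B M) := by
  obtain ⟨hw, -⟩ := main5774 (A := A) fs M h2
  refine ⟨hw, le_antisymm ?_ h1⟩
  set 𝔪 := IsLocalRing.maximalIdeal A with h𝔪
  set N : Submodule B M := Ideal.ofList fs • (⊤ : Submodule B M) with hN
  haveI : Module.Flat A (M ⧸ R.restrictScalars A) :=
    Module.Flat.of_linearEquiv (Submodule.Quotient.restrictScalarsEquiv A R)
  have hinf := inf_smul_top_le_of_flat_quot 𝔪 (R.restrictScalars A)
  have hmB : 𝔪.map (algebraMap A B) ≤ (⊥ : Ideal B).jacobson := by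
    rw [IsLocalRing.jacobson_eq_maximalIdeal ⊥ bot_ne_top]
    exact ((IsLocalRing.local_hom_TFAE (algebraMap A B)).out 0 2).mp ‹_›
  haveI : IsNoetherian B M := isNoetherian_of_isNoetherianRing_of_finite B M
  have hfg : R.FG := IsNoetherian.noetherian R
  refine Submodule.le_of_le_smul_of_le_jacobson_bot hfg hmB ?_
  intro r hr
  have h4 : (𝔪.map (algebraMap A B) • (⊤ : Submodule B M)).mkQ r ∈
      R.map (𝔪.map (algebraMap A B) • (⊤ : Submodule B M)).mkQ := Submodule.mem_map_of_mem hr
  rw [← h3] at h4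
  have h5 : Ideal.ofList fs • (⊤ : Submodule B
        (M ⧸ (𝔪.map (algebraMap A B) • (⊤ : Submodule B M)))) =
      N.map (𝔪.map (algebraMap A B) • (⊤ : Submodule B M)).mkQ := by
    rw [hN, Submodule.map_smul'', Submodule.map_top, Submodule.range_mkQ]
  rw [h5] at h4
  obtain ⟨n, hn, hnr⟩ := h4
  have h6 : r - n ∈ 𝔪.map (algebraMap A B) • (⊤ : Submodule B M) := by
    rw [← Submodule.Quotient.mk_eq_zero, Submodule.Quotient.mk_sub]
    have : (Submodule.Quotient.mk n : M ⧸ (𝔪.map (algebraMap A B) • (⊤ : Submodule B M))) =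
      Submodule.Quotient.mk r := hnr
    rw [this, sub_self]
  have h7 : r - n ∈ R.restrictScalars A ⊓ 𝔪 • (⊤ : Submodule A M) := by
    refine ⟨R.sub_mem hr (h1 hn), ?_⟩
    have h8 : (𝔪.map (algebraMap A B) • (⊤ : Submodule B M)).restrictScalars A =
        𝔪 • (⊤ : Submodule A M) := by
      rw [Ideal.smul_restrictScalars, Submodule.restrictScalars_top]
    rw [← h8]
    exact h6
  have h9 : r - n ∈ 𝔪.map (algebraMap A B) • R := by
    have h10 := hinf h7
    refine Submodule.smul_induction_on h10 ?_ ?_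
    · intro a ha x hx
      rw [← algebraMap_smul B a x]
      exact Submodule.smul_mem_smul (Ideal.mem_map_of_mem _ ha) hx
    · intro x y hx hy
      exact Submodule.add_mem _ hx hy
  have : r = n + (r - n) := by abel
  rw [this]
  exact Submodule.add_mem _ (Submodule.mem_sup_left hn) (Submodule.mem_sup_right h9)

end Groth.Agent.H3LocCrit
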