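import Mathlib
import Groth.Agent.Lib.helper3.FlJ

set_option autoImplicit false
universe u v w x

namespace Groth.Agent.H3LocCrit

open TensorProduct Function

/-- local criterion, ideally separated version with the `Tor₁` condition -/
theorem flat_of_local_criterion_sep {R : Type u} {M : Type u} [CommRing R]
    [IsNoetherianRing R] [AddCommGroup M] [Module R M] (I : Ideal R)
    (hsep : ∀ a : Ideal R, IsHausdorff I (↥a ⊗[R] M))
    (h1 : Injective (LinearMap.rTensor M (Submodule.subtype I)))
    [Module.Flat (R ⧸ I) ((R ⧸ I) ⊗[R] M)] : Module.Flat R M := by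
  rw [Module.Flat.iff_lTensor_injective']
  intro 𝔞
  rw [injective_iff_map_eq_zero]
  intro x hx
  obtain ⟨c, hc⟩ := Ideal.exists_pow_inf_eq_pow_smul I (𝔞 : Submodule R R)
  have hmem : ∀ k : ℕ, x ∈ I ^ k • (⊤ : Submodule R (M ⊗[R] 𝔞)) := by
    intro k
    have h2 := mem_range_of_lTensor_subtype_eq_zero I h1 𝔞 (k + c) x hx
    refine range_lTensor_le_smul_top 𝔞 (I ^ k) _ ?_ h2
    intro b hb
    have h3 : (b : R) ∈ I ^ (k + c) • (⊤ : Submodule R R) ⊓ 𝔞 := by
      refine ⟨?_, b.2⟩
      rw [smul_eq_mul, Ideal.mul_top]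
      exact hb
    rw [hc (k + c) (by omega), Nat.add_sub_cancel] at h3
    exact Submodule.smul_mono le_rfl inf_le_right h3
  have hy : TensorProduct.comm R M 𝔞 x = 0 := by
    apply (hsep 𝔞).haus'
    intro k
    rw [SModEq.zero]
    refine Submodule.smul_induction_on (hmem k) ?_ ?_
    · intro r hr y _
      rw [map_smul]
      exact Submodule.smul_mem_smul hr trivial
    · intro y z hy hz
      rw [map_add]
      exact Submodule.add_mem _ hy hz
  exact (TensorProduct.comm R M 𝔞).injective (by rw [hy, map_zero])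

/-- an element of a flat `A ⧸ J`-module killed outside each associated prime of `A ⧸ J`
vanishes -/
theorem eq_zero_of_forall_ass {A : Type u} [CommRing A] [IsNoetherianRing A] (J : Ideal A)
    (X : Type v) [AddCommGroup X] [Module A X] [Module (A ⧸ J) X] [IsScalarTower A (A ⧸ J) X]
    [Module.Flat (A ⧸ J) X] (x : X)
    (h : ∀ q ∈ associatedPrimes A (A ⧸ J), ∃ s : A, s ∉ q ∧ s • x = 0) : x = 0 := by
  classical
  set 𝔞 : Ideal A := LinearMap.ker (LinearMap.toSpanSingleton A X x) with h𝔞
  have hfin : (associatedPrimes A (A ⧸ J)).Finite := associatedPrimes.finite A (A ⧸ J)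
  have hnot : ¬ ((𝔞 : Set A) ⊆ ⋃ q ∈ (↑hfin.toFinset : Set (Ideal A)), (id q : Ideal A)) := by
    rw [Ideal.subset_union_prime (⊥ : Ideal A) (⊥ : Ideal A)]
    · rintro ⟨q, hq, hle⟩
      rw [Set.Finite.mem_toFinset] at hq
      obtain ⟨s, hs, hsx⟩ := h q hq
      exact hs (hle (by rw [h𝔞, LinearMap.mem_ker, LinearMap.toSpanSingleton_apply]; exact hsx))
    · intro q hq _ _
      rw [Set.Finite.mem_toFinset] at hq
      exact IsAssociatedPrime.isPrime hq
  rw [Set.not_subset] at hnot
  obtain ⟨s, hs𝔞, hsU⟩ := hnot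
  have hsreg : IsSMulRegular (A ⧸ J) s := by
    have h2 := biUnion_associatedPrimes_eq_compl_regular A (A ⧸ J)
    by_contra hcon
    have : s ∈ ⋃ p ∈ associatedPrimes A (A ⧸ J), (p : Set A) := by
      rw [h2]; exact hcon
    apply hsU
    simp only [Set.mem_iUnion, Finset.mem_coe, Set.Finite.mem_toFinset, id] at this ⊢
    exact this
  have hnzd : Ideal.Quotient.mk J s ∈ nonZeroDivisors (A ⧸ J) := by
    rw [mem_nonZeroDivisors_iff_right]
    intro y hy
    apply hsreg
    show s • y = s • 0
    rw [smul_zero, Algebra.smul_def, Ideal.Quotient.algebraMap_eq, mul_comm]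
    exact hy
  have hreg := Module.Flat.isSMulRegular_of_nonZeroDivisors (M := X) hnzd
  apply hreg
  show Ideal.Quotient.mk J s • x = Ideal.Quotient.mk J s • 0
  rw [smul_zero, ← Ideal.Quotient.algebraMap_eq, algebraMap_smul]
  have := hs𝔞
  rw [h𝔞] at this
  simpa [LinearMap.toSpanSingleton_apply] using this

end Groth.Agent.H3LocCrit
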