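import Mathlib
import Groth.Agent.Lib.helper3.RtA

set_option autoImplicit false
universe u v w x

namespace Groth.Agent.H3LocCrit

open TensorProduct Function

section gr
variable {A : Type u} [CommRing A] (J : Ideal A)

/-- `x ∈ J^k` lies in `J • ⊤` iff it lies in `J^(k+1)`. -/
lemma mem_smul_top_pow_iff (k : ℕ) (x : ↥(J ^ k)) :
    x ∈ (J • (⊤ : Submodule A ↥(J ^ k))) ↔ (x : A) ∈ J ^ (k + 1) := by
  have h2 : J ^ (k + 1) = (J • (⊤ : Submodule A ↥(J ^ k))).map (J ^ k).subtype := by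
    rw [Submodule.map_smul'', Submodule.map_top, Submodule.range_subtype, pow_succ',
      Ideal.smul_eq_mul]
  rw [h2]
  constructor
  · intro hx
    exact ⟨x, hx, rfl⟩
  · rintro ⟨y, hy, hyx⟩
    have : y = x := Subtype.ext hyx
    rwa [← this]

/-- the inclusion `J^(k+1) → J^k` -/
def powInc (k : ℕ) : ↥(J ^ (k + 1)) →ₗ[A] ↥(J ^ k) :=
  Submodule.inclusion (Ideal.pow_le_pow_right (Nat.le_succ k))

/-- `J^k → (A ⧸ J) ⊗ J^k` -/
noncomputable def grProj (k : ℕ) : ↥(J ^ k) →ₗ[A] (A ⧸ J) ⊗[A] ↥(J ^ k) :=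
  TensorProduct.mk A (A ⧸ J) ↥(J ^ k) 1

/-- `(A ⧸ J) ⊗ J^k → A ⧸ J^(k+1)` -/
noncomputable def grIncl (k : ℕ) : (A ⧸ J) ⊗[A] ↥(J ^ k) →ₗ[A] A ⧸ J ^ (k + 1) :=
  (Submodule.mapQ (J • (⊤ : Submodule A ↥(J ^ k))) (J ^ (k + 1)) (J ^ k).subtype
    (fun x hx => by
      rw [Submodule.mem_comap]
      exact (mem_smul_top_pow_iff J k x).mp hx)) ∘ₗ
  (TensorProduct.quotTensorEquivQuotSMul ↥(J ^ k) J).toLinearMap

lemma grIncl_grProj (k : ℕ) (x : ↥(J ^ k)) :
    grIncl J k (grProj J k x) = Ideal.Quotient.mk (J ^ (k + 1)) (x : A) := by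
  unfold grIncl grProj
  simp only [LinearMap.coe_comp, LinearEquiv.coe_coe, Function.comp_apply, TensorProduct.mk_apply]
  rw [← map_one (Ideal.Quotient.mk J), TensorProduct.quotTensorEquivQuotSMul_mk_tmul, one_smul]
  rfl

lemma grIncl_comp_grProj (k : ℕ) :
    grIncl J k ∘ₗ grProj J k = (J ^ (k + 1)).mkQ ∘ₗ (J ^ k).subtype := by
  ext x
  exact grIncl_grProj J k x

lemma grIncl_injective (k : ℕ) : Injective (grIncl J k) := by
  unfold grIncl
  rw [LinearMap.coe_comp]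
  refine Injective.comp ?_ (LinearEquiv.injective _)
  rw [injective_iff_map_eq_zero]
  intro y hy
  obtain ⟨x, rfl⟩ := Submodule.Quotient.mk_surjective _ y
  rw [Submodule.mapQ_apply, Submodule.Quotient.mk_eq_zero] at hy
  rw [Submodule.Quotient.mk_eq_zero]
  exact (mem_smul_top_pow_iff J k x).mpr hy

lemma grProj_surjective (k : ℕ) : Surjective (grProj J k) :=
  TensorProduct.mk_surjective A ↥(J ^ k) (A ⧸ J) Ideal.Quotient.mk_surjective

lemma grProj_exact (k : ℕ) : Exact (powInc J k) (grProj J k) := by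
  intro x
  have h1 : grProj J k x = 0 ↔ x ∈ (J • (⊤ : Submodule A ↥(J ^ k))) := by
    rw [← (TensorProduct.quotTensorEquivQuotSMul ↥(J ^ k) J).map_eq_zero_iff]
    unfold grProj
    rw [TensorProduct.mk_apply, ← map_one (Ideal.Quotient.mk J),
      TensorProduct.quotTensorEquivQuotSMul_mk_tmul, one_smul, Submodule.Quotient.mk_eq_zero]
  rw [h1, mem_smul_top_pow_iff]
  constructor
  · intro hx
    exact ⟨⟨x, hx⟩, Subtype.ext rfl⟩
  · rintro ⟨y, rfl⟩
    exact y.2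

end gr

end Groth.Agent.H3LocCrit
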