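import Mathlib
import Groth.Agent.Lib.helper3.RtB

set_option autoImplicit false
universe u v w x

namespace Groth.Agent.H3LocCrit

open TensorProduct Function

section iter
variable {A : Type u} [CommRing A] (J : Ideal A) (M : Type u) [AddCommGroup M] [Module A M]

lemma subtype_comp_powInc (k : ℕ) :
    (J ^ k).subtype ∘ₗ powInc J k = (J ^ (k + 1)).subtype := by
  ext x
  rfl

/-- one step of the descent -/
lemma exists_lift_step (k : ℕ) (hψ : Injective ((grIncl J k).rTensor M))
    (t : ↥(J ^ k) ⊗[A] M) (ht : ((J ^ k).subtype.rTensor M) t = 0) :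
    ∃ t' : ↥(J ^ (k + 1)) ⊗[A] M, ((powInc J k).rTensor M) t' = t ∧
      ((J ^ (k + 1)).subtype.rTensor M) t' = 0 := by
  have h1 : ((grIncl J k).rTensor M) (((grProj J k).rTensor M) t) = 0 := by
    rw [← LinearMap.comp_apply, ← LinearMap.rTensor_comp, grIncl_comp_grProj,
      LinearMap.rTensor_comp, LinearMap.comp_apply, ht, map_zero]
  have h2 : ((grProj J k).rTensor M) t = 0 := hψ (by rw [h1, map_zero])
  have hex := rTensor_exact M (grProj_exact J k) (grProj_surjective J k)
  obtain ⟨t', ht'⟩ := (hex t).mp h2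
  refine ⟨t', ht', ?_⟩
  rw [← subtype_comp_powInc, LinearMap.rTensor_comp, LinearMap.comp_apply, ht', ht]

/-- iterated inclusion `J^(k+n) → J^k` -/
def powIncN (k n : ℕ) : ↥(J ^ (k + n)) →ₗ[A] ↥(J ^ k) :=
  Submodule.inclusion (Ideal.pow_le_pow_right (Nat.le_add_right k n))

lemma powIncN_succ (k n : ℕ) :
    powIncN J k (n + 1) = powIncN J k n ∘ₗ powInc J (k + n) := by
  ext x
  rfl

lemma exists_lift_iter (k : ℕ) (hψ : ∀ i, Injective ((grIncl J i).rTensor M))
    (t : ↥(J ^ k) ⊗[A] M) (ht : ((J ^ k).subtype.rTensor M) t = 0) (n : ℕ) :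
    ∃ t' : ↥(J ^ (k + n)) ⊗[A] M, ((powIncN J k n).rTensor M) t' = t ∧
      ((J ^ (k + n)).subtype.rTensor M) t' = 0 := by
  induction n with
  | zero =>
    refine ⟨t, ?_, ht⟩
    have : powIncN J k 0 = LinearMap.id := by ext x; rfl
    rw [this, LinearMap.rTensor_id, LinearMap.id_apply]
  | succ n ih =>
    obtain ⟨t₁, h1, h2⟩ := ih
    obtain ⟨t₂, h3, h4⟩ := exists_lift_step J M (k + n) (hψ (k + n)) t₁ h2
    refine ⟨t₂, ?_, h4⟩
    rw [powIncN_succ, LinearMap.rTensor_comp, LinearMap.comp_apply, h3, h1]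

lemma range_powIncN_le (k n : ℕ) :
    LinearMap.range ((powIncN J k n).rTensor M) ≤
      J ^ n • (⊤ : Submodule A (↥(J ^ k) ⊗[A] M)) := by
  rintro _ ⟨t, rfl⟩
  induction t using TensorProduct.induction_on with
  | zero => rw [map_zero]; exact Submodule.zero_mem _
  | add a b ha hb => rw [map_add]; exact Submodule.add_mem _ ha hb
  | tmul b m =>
    rw [LinearMap.rTensor_tmul]
    have h1 : ((powIncN J k n b : ↥(J ^ k)) : A) ∈ J ^ n • J ^ k := by
      have h0 : ((b : ↥(J ^ (k + n))) : A) ∈ J ^ n * J ^ k := by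
        have h00 : J ^ (k + n) = J ^ n * J ^ k := by rw [pow_add, mul_comm]
        exact h00 ▸ b.2
      exact h0
    have h2 : J ^ n • J ^ k = (J ^ n • (⊤ : Submodule A ↥(J ^ k))).map (J ^ k).subtype := by
      rw [Submodule.map_smul'', Submodule.map_top, Submodule.range_subtype]
    rw [h2] at h1
    obtain ⟨b', hb', hbb'⟩ := h1
    have h3 : b' = powIncN J k n b := Subtype.ext hbb'
    rw [← h3]
    refine Submodule.smul_induction_on hb' ?_ ?_
    · intro r hr a _
      rw [← TensorProduct.smul_tmul']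
      exact Submodule.smul_mem_smul hr trivial
    · intro y z hy hz
      rw [TensorProduct.add_tmul]
      exact Submodule.add_mem _ hy hz

/-- `Tor₁(A ⧸ J, M) = 0` from the injectivity on graded pieces -/
theorem rTensor_subtype_injective_of_gr
    (hsep : ∀ a : Ideal A, IsHausdorff J (↥a ⊗[A] M))
    (hψ : ∀ i, Injective ((grIncl J i).rTensor M)) :
    Injective (J.subtype.rTensor M) := by
  have key : Injective ((J ^ 1).subtype.rTensor M) := by
    rw [injective_iff_map_eq_zero]
    intro t ht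
    apply (hsep (J ^ 1)).haus'
    intro n
    rw [SModEq.zero]
    obtain ⟨t', h1, -⟩ := exists_lift_iter J M 1 hψ t ht n
    exact range_powIncN_le J M 1 n ⟨t', h1⟩
  rwa [pow_one] at key

end iter

end Groth.Agent.H3LocCrit
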