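import Mathlib
import Groth.Agent.Lib.helper3.RtC
import Groth.Agent.Lib.helper3.FmG

set_option autoImplicit false
universe u v w x

namespace Groth.Agent.H3LocCrit

open TensorProduct Function

section final
variable {A : Type u} [CommRing A] [IsNoetherianRing A] (J : Ideal A) (M : Type u)
  [AddCommGroup M] [Module A M]

theorem grIncl_rTensor_injective
    (hgr : ∀ k : ℕ, Module.Flat (A ⧸ J) ((A ⧸ J) ⊗[A] ↥(J ^ k)))
    [Module.Flat (A ⧸ J) ((A ⧸ J) ⊗[A] M)]
    (hloc : ∀ (q : Ideal A) [q.IsPrime], q ∈ associatedPrimes A (A ⧸ J) →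
      Module.Flat A (LocalizedModule q.primeCompl M))
    (k : ℕ) : Injective ((grIncl J k).rTensor M) := by
  rw [injective_iff_map_eq_zero]
  intro x hx
  haveI := hgr k
  haveI : Module.Flat (A ⧸ J) (((A ⧸ J) ⊗[A] ↥(J ^ k)) ⊗[A] M) :=
    Module.Flat.of_linearEquiv
      (AlgebraTensorModule.cancelBaseChange A (A ⧸ J) (A ⧸ J) ((A ⧸ J) ⊗[A] ↥(J ^ k)) M).symm
  apply eq_zero_of_forall_ass J (((A ⧸ J) ⊗[A] ↥(J ^ k)) ⊗[A] M) x
  intro q hq
  haveI : q.IsPrime := hq.isPrime
  haveI hflat := hloc q hq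
  set ℓ := LocalizedModule.mkLinearMap q.primeCompl M with hℓ
  set x' := TensorProduct.comm A ((A ⧸ J) ⊗[A] ↥(J ^ k)) M x with hx'
  haveI hlocm : IsLocalizedModule q.primeCompl (ℓ.rTensor ((A ⧸ J) ⊗[A] ↥(J ^ k))) :=
    IsLocalizedModule.rTensor (R := A) A (N := (A ⧸ J) ⊗[A] ↥(J ^ k)) q.primeCompl ℓ
  have hnat : ∀ y : ((A ⧸ J) ⊗[A] ↥(J ^ k)) ⊗[A] M,
      (grIncl J k).lTensor M (TensorProduct.comm A _ M y) =
        TensorProduct.comm A _ M ((grIncl J k).rTensor M y) := by
    intro y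
    induction y using TensorProduct.induction_on with
    | zero => simp
    | tmul a b => rfl
    | add a b ha hb => simp only [map_add, ha, hb]
  have h0 : (ℓ.rTensor ((A ⧸ J) ⊗[A] ↥(J ^ k))) x' = 0 := by
    apply Module.Flat.lTensor_preserves_injective_linearMap
      (M := LocalizedModule q.primeCompl M) (grIncl J k) (grIncl_injective J k)
    rw [map_zero, ← LinearMap.comp_apply, LinearMap.lTensor_comp_rTensor,
      ← LinearMap.rTensor_comp_lTensor, LinearMap.comp_apply, hx', hnat, hx, map_zero, map_zero]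
  obtain ⟨s, hs⟩ := (IsLocalizedModule.eq_zero_iff q.primeCompl
    (ℓ.rTensor ((A ⧸ J) ⊗[A] ↥(J ^ k)))).mp h0
  refine ⟨s.1, s.2, ?_⟩
  apply (TensorProduct.comm A ((A ⧸ J) ⊗[A] ↥(J ^ k)) M).injective
  rw [map_smul, map_zero]
  exact hs

theorem main5912 
    (hsep : ∀ a : Ideal A, IsHausdorff J (↥a ⊗[A] M))
    (hgr : ∀ k : ℕ, Module.Flat (A ⧸ J) ((A ⧸ J) ⊗[A] ↥(J ^ k))) :
    Module.Flat A M ↔
      Module.Flat (A ⧸ J) ((A ⧸ J) ⊗[A] M) ∧
        ∀ q : associatedPrimes A (A ⧸ J),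
          haveI : q.1.IsPrime := IsAssociatedPrime.isPrime q.2
          Module.Flat (Localization.AtPrime q.1) (LocalizedModule q.1.primeCompl M) := by
  constructor
  · intro h
    refine ⟨inferInstance, fun q => ?_⟩
    haveI : q.1.IsPrime := IsAssociatedPrime.isPrime q.2
    infer_instance
  · rintro ⟨h1, h2⟩
    have hloc : ∀ (q : Ideal A) [q.IsPrime], q ∈ associatedPrimes A (A ⧸ J) →
        Module.Flat A (LocalizedModule q.primeCompl M) := by
      intro q _ hq
      haveI := h2 ⟨q, hq⟩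
      haveI : Module.Flat A (Localization.AtPrime q) := IsLocalization.flat _ q.primeCompl
      exact Module.Flat.trans A (Localization.AtPrime q) (LocalizedModule q.primeCompl M)
    exact flat_of_local_criterion_sep J hsep
      (rTensor_subtype_injective_of_gr J M hsep (grIncl_rTensor_injective J M hgr hloc))

end final

end Groth.Agent.H3LocCrit
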