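import Mathlib

namespace Groth.Agent.H3Sc

universe u

variable (P : Type u) [AddCommGroup P]

noncomputable def eps : (P →₀ ℤ) →ₗ[ℤ] P := Finsupp.linearCombination ℤ (fun p : P => p)

noncomputable def d0 : (P × P →₀ ℤ) →ₗ[ℤ] (P →₀ ℤ) := Finsupp.linearCombination ℤ
  (fun pq : P × P => Finsupp.single (pq.1 + pq.2) 1 - Finsupp.single pq.1 1 - Finsupp.single pq.2 1)

noncomputable def d1 : (P × P × P →₀ ℤ) →ₗ[ℤ] (P × P →₀ ℤ) := Finsupp.linearCombination ℤ
  (fun t : P × P × P => Finsupp.single (t.1 + t.2.1, t.2.2) 1 - Finsupp.single (t.1, t.2.1 + t.2.2) 1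
    + Finsupp.single (t.1, t.2.1) 1 - Finsupp.single (t.2.1, t.2.2) 1)

noncomputable def d1' : (P × P →₀ ℤ) →ₗ[ℤ] (P × P →₀ ℤ) := Finsupp.linearCombination ℤ
  (fun pq : P × P => Finsupp.single pq 1 - Finsupp.single (pq.2, pq.1) 1)

theorem eps_single (p : P) : eps P (Finsupp.single p 1) = p := by
  rw [eps, Finsupp.linearCombination_single, one_smul]

theorem d0_single (p q : P) : d0 P (Finsupp.single (p, q) 1) =
    Finsupp.single (p + q) 1 - Finsupp.single p 1 - Finsupp.single q 1 := by
  rw [d0, Finsupp.linearCombination_single, one_smul]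

theorem d1_single (p q r : P) : d1 P (Finsupp.single (p, q, r) 1) =
    Finsupp.single (p + q, r) 1 - Finsupp.single (p, q + r) 1
    + Finsupp.single (p, q) 1 - Finsupp.single (q, r) 1 := by
  rw [d1, Finsupp.linearCombination_single, one_smul]

theorem d1'_single (p q : P) : d1' P (Finsupp.single (p, q) 1) =
    Finsupp.single (p, q) 1 - Finsupp.single (q, p) 1 := by
  rw [d1', Finsupp.linearCombination_single, one_smul]

theorem eps_surj : Function.Surjective (eps P) := fun p => ⟨_, eps_single P p⟩

theorem eps_d0 : (eps P) ∘ₗ (d0 P) = 0 := by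
  apply Finsupp.lhom_ext
  rintro ⟨p, q⟩ n
  have : (Finsupp.single (p, q) n : P × P →₀ ℤ) = n • Finsupp.single (p, q) 1 := by
    rw [Finsupp.smul_single, smul_eq_mul, mul_one]
  rw [this, map_smul, LinearMap.comp_apply, d0_single, map_sub, map_sub, eps_single, eps_single,
    eps_single, LinearMap.zero_apply]
  rw [show p + q - p - q = 0 by abel, smul_zero]

theorem d0_d1 : (d0 P) ∘ₗ (d1 P) = 0 := by
  apply Finsupp.lhom_ext
  rintro ⟨p, q, r⟩ n
  have : (Finsupp.single (p, q, r) n : P × P × P →₀ ℤ) = n • Finsupp.single (p, q, r) 1 := by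
    rw [Finsupp.smul_single, smul_eq_mul, mul_one]
  rw [this, map_smul, LinearMap.comp_apply, d1_single, map_sub, map_add, map_sub, d0_single,
    d0_single, d0_single, d0_single, LinearMap.zero_apply, add_assoc p q r]
  rw [show (Finsupp.single (p + (q + r)) (1:ℤ) - Finsupp.single (p + q) 1 - Finsupp.single r 1 -
      (Finsupp.single (p + (q + r)) 1 - Finsupp.single p 1 - Finsupp.single (q + r) 1) +
      (Finsupp.single (p + q) 1 - Finsupp.single p 1 - Finsupp.single q 1) -
      (Finsupp.single (q + r) 1 - Finsupp.single q 1 - Finsupp.single r 1) : P →₀ ℤ) = 0 by abel,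
    smul_zero]

theorem d0_d1' : (d0 P) ∘ₗ (d1' P) = 0 := by
  apply Finsupp.lhom_ext
  rintro ⟨p, q⟩ n
  have : (Finsupp.single (p, q) n : P × P →₀ ℤ) = n • Finsupp.single (p, q) 1 := by
    rw [Finsupp.smul_single, smul_eq_mul, mul_one]
  rw [this, map_smul, LinearMap.comp_apply, d1'_single, map_sub, d0_single, d0_single,
    LinearMap.zero_apply, add_comm q p]
  rw [show (Finsupp.single (p + q) (1:ℤ) - Finsupp.single p 1 - Finsupp.single q 1 -
      (Finsupp.single (p + q) 1 - Finsupp.single q 1 - Finsupp.single p 1) : P →₀ ℤ) = 0 by abel,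
    smul_zero]

/-- elements congruent to their class -/
theorem sub_single_mem (x : P →₀ ℤ) :
    x - Finsupp.single (eps P x) 1 ∈ LinearMap.range (d0 P) := by
  let X : AddSubgroup (P →₀ ℤ) :=
    { carrier := {x | x - Finsupp.single (eps P x) 1 ∈ LinearMap.range (d0 P)}
      zero_mem' := by
        refine ⟨Finsupp.single (0, 0) 1, ?_⟩
        rw [d0_single, map_zero, add_zero]
        abel
      add_mem' := by
        intro x y hx hy
        have h3 : Finsupp.single (eps P x) (1:ℤ) + Finsupp.single (eps P y) 1 -
            Finsupp.single (eps P x + eps P y) 1 ∈ LinearMap.range (d0 P) := by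
          refine ⟨-Finsupp.single (eps P x, eps P y) 1, ?_⟩
          rw [map_neg, d0_single]
          abel
        have := (LinearMap.range (d0 P)).add_mem ((LinearMap.range (d0 P)).add_mem hx hy) h3
        rw [Set.mem_ofPred_eq, map_add]
        convert this using 1
        abel
      neg_mem' := by
        intro x hx
        have h3 : Finsupp.single (eps P x) (1:ℤ) + Finsupp.single (-eps P x) 1
            ∈ LinearMap.range (d0 P) := by
          refine ⟨-Finsupp.single (eps P x, -eps P x) 1 - Finsupp.single (0, 0) 1, ?_⟩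
          rw [map_sub, map_neg, d0_single, d0_single, add_neg_cancel, add_zero]
          abel
        have := (LinearMap.range (d0 P)).sub_mem ((LinearMap.range (d0 P)).neg_mem hx) h3
        rw [Set.mem_ofPred_eq, map_neg]
        convert this using 1
        abel }
  have hall : ∀ x : P →₀ ℤ, x ∈ X := by
    intro x
    induction x using Finsupp.induction_linear with
    | zero => exact X.zero_mem
    | add x y hx hy => exact X.add_mem hx hy
    | single p n =>
      have h1 : (Finsupp.single p (1 : ℤ)) ∈ X := by
        change Finsupp.single p (1:ℤ) - Finsupp.single (eps P (Finsupp.single p 1)) 1 ∈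
          LinearMap.range (d0 P)
        rw [eps_single, sub_self]
        exact zero_mem _
      have : (Finsupp.single p n : P →₀ ℤ) = n • Finsupp.single p 1 := by
        rw [Finsupp.smul_single, smul_eq_mul, mul_one]
      rw [this]
      exact X.zsmul_mem h1 n
  exact hall x

theorem ker_eps : LinearMap.ker (eps P) = LinearMap.range (d0 P) := by
  apply le_antisymm
  · intro x hx
    have h1 := sub_single_mem P x
    rw [LinearMap.mem_ker.1 hx] at h1
    have h2 : (Finsupp.single (0 : P) (1 : ℤ)) ∈ LinearMap.range (d0 P) := by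
      refine ⟨-Finsupp.single (0, 0) 1, ?_⟩
      rw [map_neg, d0_single, add_zero]
      abel
    have := (LinearMap.range (d0 P)).add_mem h1 h2
    rwa [sub_add_cancel] at this
  · exact LinearMap.range_le_ker_iff.2 (eps_d0 P)

end Groth.Agent.H3Sc
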