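import Mathlib
import Groth.Agent.Lib.helper3.ScA

namespace Groth.Agent.H3Sc

universe u

variable (P : Type u) [AddCommGroup P]

noncomputable def B : Submodule ℤ (P × P →₀ ℤ) := LinearMap.range (d1 P) ⊔ LinearMap.range (d1' P)

abbrev Q := (P × P →₀ ℤ) ⧸ B P

noncomputable def br (p q : P) : Q P := (B P).mkQ (Finsupp.single (p, q) 1)

theorem br_cocycle (p q r : P) :
    br P (p + q) r - br P p (q + r) + br P p q - br P q r = 0 := by
  unfold br
  rw [← map_sub, ← map_add, ← map_sub, ← d1_single, Submodule.mkQ_apply,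
    Submodule.Quotient.mk_eq_zero]
  exact Submodule.mem_sup_left ⟨_, rfl⟩

theorem br_symm (p q : P) : br P p q = br P q p := by
  rw [← sub_eq_zero]
  unfold br
  rw [← map_sub, ← d1'_single, Submodule.mkQ_apply, Submodule.Quotient.mk_eq_zero]
  exact Submodule.mem_sup_right ⟨_, rfl⟩

theorem br_zero_left (r : P) : br P 0 r = br P 0 0 := by
  have := br_cocycle P 0 0 r
  rw [add_zero, zero_add] at this
  have h2 : br P 0 0 - br P 0 r = 0 := by
    rw [← this]; abel
  exact (sub_eq_zero.1 h2).symm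

theorem br_zero_right (r : P) : br P r 0 = br P 0 0 := by
  rw [br_symm, br_zero_left]

/-- the extension of `P` by `Q` -/
@[ext] structure E where
  a : Q P
  p : P

noncomputable instance : Add (E P) :=
  ⟨fun u v => ⟨u.a + v.a + br P u.p v.p - br P 0 0, u.p + v.p⟩⟩
noncomputable instance : Zero (E P) := ⟨⟨0, 0⟩⟩
noncomputable instance : Neg (E P) :=
  ⟨fun u => ⟨-u.a - br P u.p (-u.p) + br P 0 0, -u.p⟩⟩

theorem E_add_a (u v : E P) : (u + v).a = u.a + v.a + br P u.p v.p - br P 0 0 := rfl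
theorem E_add_p (u v : E P) : (u + v).p = u.p + v.p := rfl
theorem E_zero_a : (0 : E P).a = 0 := rfl
theorem E_zero_p : (0 : E P).p = 0 := rfl
theorem E_neg_a (u : E P) : (-u).a = -u.a - br P u.p (-u.p) + br P 0 0 := rfl
theorem E_neg_p (u : E P) : (-u).p = -u.p := rfl

theorem E_add_assoc (u v w : E P) : u + v + w = u + (v + w) := by
  apply E.ext
  · rw [E_add_a, E_add_a, E_add_a, E_add_a, E_add_p, E_add_p]
    have := br_cocycle P u.p v.p w.p
    have h2 : br P (u.p + v.p) w.p + br P u.p v.p = br P u.p (v.p + w.p) + br P v.p w.p := by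
      rw [← sub_eq_zero, ← this]; abel
    calc u.a + v.a + br P u.p v.p - br P 0 0 + w.a + br P (u.p + v.p) w.p - br P 0 0
        = u.a + v.a + w.a + (br P (u.p + v.p) w.p + br P u.p v.p) - br P 0 0 - br P 0 0 := by
          abel
      _ = u.a + v.a + w.a + (br P u.p (v.p + w.p) + br P v.p w.p) - br P 0 0 - br P 0 0 := by
          rw [h2]
      _ = _ := by abel
  · rw [E_add_p, E_add_p, E_add_p, E_add_p, add_assoc]

theorem E_zero_add (u : E P) : 0 + u = u := by
  apply E.ext
  · rw [E_add_a, E_zero_a, E_zero_p, br_zero_left P u.p]; abel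
  · rw [E_add_p, E_zero_p, zero_add]

theorem E_neg_add_cancel (u : E P) : -u + u = 0 := by
  apply E.ext
  · rw [E_add_a, E_neg_a, E_neg_p, E_zero_a, br_symm P (-u.p) u.p]; abel
  · rw [E_add_p, E_neg_p, E_zero_p, neg_add_cancel]

theorem E_add_comm (u v : E P) : u + v = v + u := by
  apply E.ext
  · rw [E_add_a, E_add_a, br_symm P u.p v.p]; abel
  · rw [E_add_p, E_add_p, add_comm]

noncomputable instance : AddCommGroup (E P) :=
  { AddGroup.ofLeftAxioms (E_add_assoc P) (E_zero_add P) (E_neg_add_cancel P) with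
    add_comm := E_add_comm P }

/-- inclusion of `Q` -/
noncomputable def iota : Q P →+ E P where
  toFun a := ⟨a, 0⟩
  map_zero' := rfl
  map_add' a b := by
    apply E.ext
    · rw [E_add_a]; change a + b = a + b + br P 0 0 - br P 0 0; abel
    · rw [E_add_p]; change (0 : P) = 0 + 0; rw [add_zero]

theorem iota_inj : Function.Injective (iota P) := by
  intro a b h
  exact congrArg E.a h

noncomputable def phi : (P →₀ ℤ) →ₗ[ℤ] E P :=
  Finsupp.linearCombination ℤ (fun p : P => (⟨0, p⟩ : E P))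

theorem phi_single (p : P) : phi P (Finsupp.single p 1) = ⟨0, p⟩ := by
  rw [phi, Finsupp.linearCombination_single, one_smul]

noncomputable def aug2 : (P × P →₀ ℤ) →ₗ[ℤ] ℤ := Finsupp.linearCombination ℤ (fun _ => (1 : ℤ))
noncomputable def aug1 : (P →₀ ℤ) →ₗ[ℤ] ℤ := Finsupp.linearCombination ℤ (fun _ => (1 : ℤ))

theorem aug1_d0 : (aug1 P) ∘ₗ (d0 P) = - aug2 P := by
  apply Finsupp.lhom_ext
  rintro ⟨p, q⟩ n
  have : (Finsupp.single (p, q) n : P × P →₀ ℤ) = n • Finsupp.single (p, q) 1 := by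
    rw [Finsupp.smul_single, smul_eq_mul, mul_one]
  rw [this, map_smul, map_smul, LinearMap.comp_apply, d0_single, map_sub, map_sub,
    LinearMap.neg_apply]
  unfold aug1 aug2
  simp only [Finsupp.linearCombination_single, one_smul]
  norm_num

theorem key_pt (p q : P) :
    phi P (d0 P (Finsupp.single (p, q) 1)) = - iota P (br P p q - br P 0 0) := by
  rw [d0_single, map_sub, map_sub, phi_single, phi_single, phi_single]
  have h : (⟨0, p⟩ : E P) + ⟨0, q⟩ = iota P (br P p q - br P 0 0) + ⟨0, p + q⟩ := by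
    apply E.ext
    · rw [E_add_a, E_add_a]
      change (0 : Q P) + 0 + br P p q - br P 0 0 =
        (br P p q - br P 0 0) + 0 + br P 0 (p + q) - br P 0 0
      rw [br_zero_left P (p + q)]; abel
    · rw [E_add_p, E_add_p]
      change p + q = 0 + (p + q)
      rw [zero_add]
  have h2 : (⟨0, p + q⟩ : E P) = (⟨0, p⟩ : E P) + ⟨0, q⟩ - iota P (br P p q - br P 0 0) := by
    rw [h]; abel
  rw [h2]; abel

theorem key (y : P × P →₀ ℤ) :
    phi P (d0 P y) = - iota P ((B P).mkQ y - aug2 P y • br P 0 0) := by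
  induction y using Finsupp.induction_linear with
  | zero => simp
  | add x y hx hy =>
    have e1 : (B P).mkQ (x + y) - aug2 P (x + y) • br P 0 0 =
        ((B P).mkQ x - aug2 P x • br P 0 0) + ((B P).mkQ y - aug2 P y • br P 0 0) := by
      rw [map_add, map_add, add_smul]; abel
    rw [map_add (d0 P), map_add (phi P), hx, hy, e1, map_add (iota P), neg_add]
  | single pq n =>
    obtain ⟨p, q⟩ := pq
    have : (Finsupp.single (p, q) n : P × P →₀ ℤ) = n • Finsupp.single (p, q) 1 := by
      rw [Finsupp.smul_single, smul_eq_mul, mul_one]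
    have haug : aug2 P (Finsupp.single (p, q) 1) = 1 := by
      unfold aug2
      rw [Finsupp.linearCombination_single, one_smul]
    have e2 : (B P).mkQ (n • Finsupp.single (p, q) 1) -
        aug2 P (n • Finsupp.single (p, q) 1) • br P 0 0 = n • (br P p q - br P 0 0) := by
      rw [map_smul, map_smul, haug, smul_eq_mul, mul_one, smul_sub]; rfl
    rw [this, map_smul (d0 P), map_smul (phi P), key_pt, e2, map_zsmul, smul_neg]

theorem ker_d0 : LinearMap.ker (d0 P) = LinearMap.range (d1 P) ⊔ LinearMap.range (d1' P) := by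
  apply le_antisymm
  · intro y hy
    rw [LinearMap.mem_ker] at hy
    have h1 := key P y
    rw [hy, map_zero] at h1
    have haug : aug2 P y = 0 := by
      have := LinearMap.congr_fun (aug1_d0 P) y
      rw [LinearMap.comp_apply, hy, map_zero, LinearMap.neg_apply] at this
      exact neg_eq_zero.1 this.symm
    rw [haug, zero_smul, sub_zero] at h1
    have h2 : iota P ((B P).mkQ y) = 0 := neg_eq_zero.1 h1.symm
    have h3 : (B P).mkQ y = 0 := iota_inj P (h2.trans (map_zero _).symm)
    rw [Submodule.mkQ_apply, Submodule.Quotient.mk_eq_zero] at h3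
    exact h3
  · rw [sup_le_iff]
    exact ⟨LinearMap.range_le_ker_iff.2 (d0_d1 P), LinearMap.range_le_ker_iff.2 (d0_d1' P)⟩

theorem main8705 :
    letI ε : (P →₀ ℤ) →ₗ[ℤ] P := Finsupp.linearCombination ℤ (fun p : P => p)
    letI d₀ : (P × P →₀ ℤ) →ₗ[ℤ] (P →₀ ℤ) := Finsupp.linearCombination ℤ
      (fun pq : P × P => Finsupp.single (pq.1 + pq.2) 1 - Finsupp.single pq.1 1 - Finsupp.single pq.2 1)
    letI d₁ : (P × P × P →₀ ℤ) →ₗ[ℤ] (P × P →₀ ℤ) := Finsupp.linearCombination ℤ
      (fun t : P × P × P => Finsupp.single (t.1 + t.2.1, t.2.2) 1 - Finsupp.single (t.1, t.2.1 + t.2.2) 1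
        + Finsupp.single (t.1, t.2.1) 1 - Finsupp.single (t.2.1, t.2.2) 1)
    letI d₁' : (P × P →₀ ℤ) →ₗ[ℤ] (P × P →₀ ℤ) := Finsupp.linearCombination ℤ
      (fun pq : P × P => Finsupp.single pq 1 - Finsupp.single (pq.2, pq.1) 1)
    Function.Surjective ε ∧ LinearMap.ker ε = LinearMap.range d₀ ∧
      LinearMap.ker d₀ = LinearMap.range d₁ ⊔ LinearMap.range d₁' :=
  ⟨eps_surj P, ker_eps P, ker_d0 P⟩

end Groth.Agent.H3Sc
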