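import Mathlib

set_option autoImplicit false
universe u

namespace Groth.Agent.H3Sf

open Module

theorem sf_prod {R : Type u} [CommRing R] {A B : Type u}
    [AddCommGroup A] [Module R A] [AddCommGroup B] [Module R B]
    (hA : IsStablyFree R A) (hB : IsStablyFree R B) : IsStablyFree R (A × B) := by
  obtain ⟨NA, _, _, _, _, hAf⟩ := IsStablyFree.exist_free_prod R A
  obtain ⟨NB, _, _, _, _, hBf⟩ := IsStablyFree.exist_free_prod R B
  haveI : Free R ((A × B) × (NA × NB)) :=
    Free.of_equiv (LinearEquiv.prodProdProdComm R A NA B NB)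
  exact IsStablyFree.of_free_prod R (A × B) (NA × NB)

theorem sf_cancel {R : Type u} [CommRing R] {A B : Type u}
    [AddCommGroup A] [Module R A] [AddCommGroup B] [Module R B] [Module.Finite R B]
    (hAB : IsStablyFree R (A × B)) (hB : IsStablyFree R B) : IsStablyFree R A := by
  obtain ⟨N, _, _, _, _, hABf⟩ := IsStablyFree.exist_free_prod R (A × B)
  obtain ⟨NB, _, _, _, _, hBf⟩ := IsStablyFree.exist_free_prod R B
  -- A × ((B × NB) × N) ≃ ((A × B) × N) × NB
  let e1 : (((A × B) × N) × NB) ≃ₗ[R] (A × ((B × NB) × N)) :=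
    { toFun := fun x => (x.1.1.1, ((x.1.1.2, x.2), x.1.2))
      invFun := fun y => (((y.1, y.2.1.1), y.2.2), y.2.1.2)
      map_add' := fun x y => rfl
      map_smul' := fun r x => rfl
      left_inv := fun x => rfl
      right_inv := fun y => rfl }
  haveI : Free R (A × ((B × NB) × N)) := Free.of_equiv e1
  exact IsStablyFree.of_free_prod R A ((B × NB) × N)

theorem two_of_three {R : Type u} [CommRing R] {P' P P'' : Type u}
    [AddCommGroup P'] [Module R P'] [Module.Finite R P'] [Module.Projective R P']
    [AddCommGroup P] [Module R P] [Module.Finite R P] [Module.Projective R P]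
    [AddCommGroup P''] [Module R P''] [Module.Finite R P''] [Module.Projective R P'']
    (f : P' →ₗ[R] P) (g : P →ₗ[R] P'') (hf : Function.Injective f) (hg : Function.Surjective g)
    (hfg : Function.Exact f g) :
    (Module.IsStablyFree R P' → Module.IsStablyFree R P → Module.IsStablyFree R P'') ∧
    (Module.IsStablyFree R P' → Module.IsStablyFree R P'' → Module.IsStablyFree R P) ∧
    (Module.IsStablyFree R P → Module.IsStablyFree R P'' → Module.IsStablyFree R P') := by
  obtain ⟨l, hl⟩ := Module.projective_lifting_property g LinearMap.id hg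
  obtain ⟨e, -⟩ := hfg.splitSurjectiveEquiv hf ⟨l, hl⟩
  refine ⟨fun h1 h2 => ?_, fun h1 h2 => ?_, fun h1 h2 => ?_⟩
  · have h3 : IsStablyFree R (P' × P'') := h2.equiv e
    have h4 : IsStablyFree R (P'' × P') := h3.equiv (LinearEquiv.prodComm R P' P'')
    exact sf_cancel h4 h1
  · have h3 : IsStablyFree R (P' × P'') := sf_prod h1 h2
    exact h3.equiv e.symm
  · have h3 : IsStablyFree R (P' × P'') := h1.equiv e
    exact sf_cancel h3 h2

end Groth.Agent.H3Sf
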