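import Mathlib

set_option autoImplicit false
open TensorProduct

namespace Groth.Agent.H3Locus

universe u

section
variable {R : Type u} [CommRing R] {P₁ P₂ : Type u} [AddCommGroup P₁] [Module R P₁]
  [AddCommGroup P₂] [Module R P₂]

lemma surj_iff_notMem_support [Module.Finite R P₂] (φ : P₁ →ₗ[R] P₂) (p : PrimeSpectrum R) :
    Function.Surjective (φ.lTensor p.asIdeal.ResidueField) ↔
      p ∉ Module.support R (P₂ ⧸ LinearMap.range φ) := by
  rw [Module.mem_support_iff_nontrivial_residueField_tensorProduct, not_nontrivial_iff_subsingleton]
  have hsurj : Function.Surjective ((LinearMap.range φ).mkQ.lTensor p.asIdeal.ResidueField) :=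
    LinearMap.lTensor_surjective _ (Submodule.mkQ_surjective _)
  have hex : Function.Exact (φ.lTensor p.asIdeal.ResidueField)
      ((LinearMap.range φ).mkQ.lTensor p.asIdeal.ResidueField) :=
    lTensor_exact _ (φ.exact_map_mkQ_range) (Submodule.mkQ_surjective _)
  constructor
  · intro h
    refine ⟨fun a b => ?_⟩
    obtain ⟨a', rfl⟩ := hsurj a
    obtain ⟨b', rfl⟩ := hsurj b
    rw [(hex a').mpr (h a'), (hex b').mpr (h b')]
  · intro h y
    exact (hex y).mp (Subsingleton.elim _ _)

theorem main330 [Module.Finite R P₁] [Module.Projective R P₁] [Module.Finite R P₂]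
    [Module.Projective R P₂] (φ : P₁ →ₗ[R] P₂) :
    IsOpen {p : PrimeSpectrum R | Function.Surjective (φ.lTensor p.asIdeal.ResidueField)} ∧
    ∀ f : R, (↑(PrimeSpectrum.basicOpen f) : Set (PrimeSpectrum R)) ⊆
      {p : PrimeSpectrum R | Function.Surjective (φ.lTensor p.asIdeal.ResidueField)} →
      Function.Surjective (LocalizedModule.map (Submonoid.powers f) φ) ∧
      Module.Finite (Localization.Away f) (LocalizedModule (Submonoid.powers f) (LinearMap.ker φ)) ∧
      Module.Projective (Localization.Away f)
        (LocalizedModule (Submonoid.powers f) (LinearMap.ker φ)) := by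
  have hset : {p : PrimeSpectrum R | Function.Surjective (φ.lTensor p.asIdeal.ResidueField)} =
      (Module.support R (P₂ ⧸ LinearMap.range φ))ᶜ := by
    ext p
    exact surj_iff_notMem_support φ p
  constructor
  · rw [hset, Module.support_eq_zeroLocus]
    exact (PrimeSpectrum.isClosed_zeroLocus _).isOpen_compl
  · intro f hf
    rw [hset] at hf
    have hsub : Subsingleton (LocalizedModule (Submonoid.powers f) (P₂ ⧸ LinearMap.range φ)) := by
      rw [LocalizedModule.subsingleton_iff_support_subset]
      intro q hq
      by_contra hfq
      have : q ∈ (↑(PrimeSpectrum.basicOpen f) : Set (PrimeSpectrum R)) := by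
        intro hmem
        apply hfq
        simpa [PrimeSpectrum.mem_zeroLocus] using hmem
      exact hf this hq
    have hex : Function.Exact (LocalizedModule.map (Submonoid.powers f) φ)
        (LocalizedModule.map (Submonoid.powers f) (LinearMap.range φ).mkQ) :=
      LocalizedModule.map_exact (Submonoid.powers f) φ _ (φ.exact_map_mkQ_range)
    have hsurj : Function.Surjective (LocalizedModule.map (Submonoid.powers f) φ) := by
      intro y
      exact (hex y).mp (Subsingleton.elim _ _)
    refine ⟨hsurj, ?_⟩
    -- kernel
    have hinjK : Function.Injective (LocalizedModule.map (Submonoid.powers f)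
        (LinearMap.ker φ).subtype) :=
      LocalizedModule.map_injective _ _ (LinearMap.ker φ).subtype_injective
    have hexK : Function.Exact (LocalizedModule.map (Submonoid.powers f) (LinearMap.ker φ).subtype)
        (LocalizedModule.map (Submonoid.powers f) φ) :=
      LocalizedModule.map_exact (Submonoid.powers f) _ φ (LinearMap.exact_subtype_ker_map φ)
    have t := (Function.Exact.split_tfae hexK hinjK hsurj).out 0 1
    obtain ⟨l, hl⟩ := t.mp (Module.projective_lifting_property _ _ hsurj)
    constructor
    · refine Module.Finite.of_surjective l ?_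
      exact Function.HasRightInverse.surjective ⟨_, LinearMap.congr_fun hl⟩
    · exact Module.Projective.of_split _ _ hl

end

end Groth.Agent.H3Locus
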