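import Mathlib

open Matrix Polynomial

namespace Groth.Agent.H3Sl

universe u

section
variable {K : Type u} [Field K] {n : Type} [Fintype n] [DecidableEq n]

def Pth (A : Matrix n n K) : Prop :=
  ∃ M : Matrix n n K[X], M.det = 1 ∧ (evalRingHom (0 : K)).mapMatrix M = 1 ∧
    (evalRingHom (1 : K)).mapMatrix M = A

theorem pth_one : Pth (1 : Matrix n n K) :=
  ⟨1, det_one, map_one _, map_one _⟩

theorem Pth.mul {A B : Matrix n n K} (hA : Pth A) (hB : Pth B) : Pth (A * B) := by
  obtain ⟨M, hM, hM0, hM1⟩ := hA
  obtain ⟨N, hN, hN0, hN1⟩ := hB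
  exact ⟨M * N, by rw [det_mul, hM, hN, one_mul], by rw [map_mul, hM0, hN0, one_mul],
    by rw [map_mul, hM1, hN1]⟩

theorem mapMatrix_transvection {R S : Type*} [CommRing R] [CommRing S] (f : R →+* S) (i j : n)
    (p : R) : f.mapMatrix (Matrix.transvection i j p) = Matrix.transvection i j (f p) := by
  ext a b
  rw [RingHom.mapMatrix_apply, Matrix.map_apply]
  simp only [Matrix.transvection, Matrix.add_apply, Matrix.one_apply, Matrix.single_apply, map_add]
  congr 1
  · split_ifs <;> simp
  · split_ifs <;> simp

theorem pth_transvection (i j : n) (hij : i ≠ j) (c : K) : Pth (Matrix.transvection i j c) := by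
  refine ⟨Matrix.transvection i j (C c * X), det_transvection_of_ne i j hij _, ?_, ?_⟩
  · rw [mapMatrix_transvection]
    simp
  · rw [mapMatrix_transvection]
    simp

theorem pth_list (L : List (TransvectionStruct n K)) :
    Pth (L.map TransvectionStruct.toMatrix).prod := by
  induction L with
  | nil => simpa using pth_one
  | cons t L ih =>
    rw [List.map_cons, List.prod_cons]
    exact (pth_transvection t.i t.j t.hij t.c).mul ih

def dg (i j : n) (a : K) : n → K := fun x => if x = i then a else if x = j then a⁻¹ else 1

theorem dg_i (i j : n) (a : K) : dg i j a i = a := if_pos rfl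

theorem dg_j (i j : n) (hij : i ≠ j) (a : K) : dg i j a j = a⁻¹ := by
  unfold dg
  rw [if_neg hij.symm, if_pos rfl]

theorem dg_other (i j : n) (a : K) (x : n) (hxi : x ≠ i) (hxj : x ≠ j) : dg i j a x = 1 := by
  unfold dg
  rw [if_neg hxi, if_neg hxj]

theorem six_id (i j : n) (hij : i ≠ j) (a : K) (ha : a ≠ 0) :
    Matrix.transvection i j a * (Matrix.transvection j i (-a⁻¹) * (Matrix.transvection i j a *
      (Matrix.transvection i j (-1) * (Matrix.transvection j i 1 *
        (Matrix.transvection i j (-1) * (1 : Matrix n n K)))))) = diagonal (dg i j a) := by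
  have hji : j ≠ i := hij.symm
  ext x y
  by_cases hxi : x = i
  · subst hxi
    simp only [transvection_mul_apply_same, transvection_mul_apply_of_ne _ _ _ _ hij,
      transvection_mul_apply_of_ne _ _ _ _ hji]
    by_cases hy : y = x
    · subst hy
      have h1 : (1 : Matrix n n K) y y = 1 := one_apply_eq y
      have h2 : (1 : Matrix n n K) j y = 0 := one_apply_ne hji
      rw [diagonal_apply_eq, dg_i]
      simp only [h1, h2]
      field_simp
      ring
    · by_cases hyj : y = j
      · subst hyj
        have h1 : (1 : Matrix n n K) x y = 0 := one_apply_ne hij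
        have h2 : (1 : Matrix n n K) y y = 1 := one_apply_eq y
        rw [diagonal_apply_ne _ hij]
        simp only [h1, h2]
        field_simp
        ring
      · have h1 : (1 : Matrix n n K) x y = 0 := one_apply_ne (Ne.symm hy)
        have h2 : (1 : Matrix n n K) j y = 0 := one_apply_ne (Ne.symm hyj)
        rw [diagonal_apply_ne _ (Ne.symm hy)]
        simp only [h1, h2]
        ring
  · by_cases hxj : x = j
    · subst hxj
      simp only [transvection_mul_apply_same, transvection_mul_apply_of_ne _ _ _ _ hij,
        transvection_mul_apply_of_ne _ _ _ _ hji]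
      by_cases hy : y = x
      · subst hy
        have h1 : (1 : Matrix n n K) y y = 1 := one_apply_eq y
        have h2 : (1 : Matrix n n K) i y = 0 := one_apply_ne hij
        rw [diagonal_apply_eq, dg_j i y hij]
        simp only [h1, h2]
        field_simp
        ring
      · by_cases hyi : y = i
        · subst hyi
          have h1 : (1 : Matrix n n K) x y = 0 := one_apply_ne hji
          have h2 : (1 : Matrix n n K) y y = 1 := one_apply_eq y
          rw [diagonal_apply_ne _ hji]
          simp only [h1, h2]
          field_simp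
          ring
        · have h1 : (1 : Matrix n n K) x y = 0 := one_apply_ne (Ne.symm hy)
          have h2 : (1 : Matrix n n K) i y = 0 := one_apply_ne (Ne.symm hyi)
          rw [diagonal_apply_ne _ (Ne.symm hy)]
          simp only [h1, h2]
          ring
    · simp only [transvection_mul_apply_of_ne _ _ _ _ hxi, transvection_mul_apply_of_ne _ _ _ _ hxj]
      by_cases hy : x = y
      · subst hy
        rw [one_apply_eq, diagonal_apply_eq, dg_other i j a x hxi hxj]
      · rw [one_apply_ne hy, diagonal_apply_ne _ hy]

theorem pth_dg (i j : n) (hij : i ≠ j) (a : K) (ha : a ≠ 0) : Pth (diagonal (dg i j a)) := by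
  rw [← six_id i j hij a ha]
  exact (pth_transvection i j hij a).mul ((pth_transvection j i hij.symm _).mul
    ((pth_transvection i j hij a).mul ((pth_transvection i j hij _).mul
      ((pth_transvection j i hij.symm _).mul ((pth_transvection i j hij _).mul pth_one)))))

def eS (D : n → K) (i0 : n) (S : Finset n) : n → K := fun x =>
  (if x ∈ S then D x else 1) * (if x = i0 then ∏ s ∈ S, (D s)⁻¹ else 1)

theorem pth_eS (D : n → K) (hD : ∀ x, D x ≠ 0) (i0 : n) (S : Finset n) (hS : i0 ∉ S) :
    Pth (diagonal (eS D i0 S)) := by
  induction S using Finset.induction_on with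
  | empty =>
    have h1 : eS D i0 ∅ = fun _ => 1 := by
      funext x
      simp [eS]
    rw [h1, diagonal_one]
    exact pth_one
  | insert s S hs ih =>
    have hsi : s ≠ i0 := fun h => hS (by rw [← h]; exact Finset.mem_insert_self s S)
    have hS' : i0 ∉ S := fun h => hS (Finset.mem_insert_of_mem h)
    have h1 : eS D i0 (insert s S) = fun x => eS D i0 S x * dg s i0 (D s) x := by
      funext x
      by_cases hxs : x = s
      · subst hxs
        rw [dg_i]
        simp only [eS, Finset.mem_insert, true_or, if_true, if_neg hs, if_neg hsi, mul_one, one_mul]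
      · by_cases hxi : x = i0
        · subst hxi
          rw [dg_j s x hsi]
          simp only [eS, if_neg hS, if_neg hS', if_true, Finset.prod_insert hs, one_mul]
          ring
        · rw [dg_other s i0 (D s) x hxs hxi]
          simp only [eS, Finset.mem_insert, hxs, false_or, if_neg hxi, mul_one]
    rw [h1, ← diagonal_mul_diagonal]
    exact (ih hS').mul (pth_dg s i0 hsi (D s) (hD s))

theorem pth_diag (D : n → K) (hprod : ∏ x, D x = 1) (i0 : n) : Pth (diagonal D) := by
  have hD : ∀ x, D x ≠ 0 := by
    intro x hx
    have h0 : ∏ x, D x = 0 := Finset.prod_eq_zero (Finset.mem_univ x) hx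
    rw [hprod] at h0
    exact one_ne_zero h0
  have h1 : D = eS D i0 (Finset.univ.erase i0) := by
    funext x
    by_cases hxi : x = i0
    · subst hxi
      have h2 : D x * ∏ s ∈ Finset.univ.erase x, D s = 1 := by
        rw [Finset.mul_prod_erase _ _ (Finset.mem_univ x)]; exact hprod
      simp only [eS, Finset.mem_erase, ne_eq, not_true_eq_false, false_and, if_false, if_true,
        one_mul]
      rw [Finset.prod_inv_distrib]
      exact eq_inv_of_mul_eq_one_left h2
    · simp only [eS, Finset.mem_erase, ne_eq, hxi, not_false_eq_true, Finset.mem_univ, and_self,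
        if_true, if_false, mul_one]
  rw [h1]
  exact pth_eS D hD i0 _ (Finset.notMem_erase i0 _)

theorem pth_all [Nonempty n] (A : Matrix n n K) (hA : A.det = 1) : Pth A := by
  obtain ⟨L, L', D, h⟩ := Matrix.Pivot.exists_list_transvec_mul_diagonal_mul_list_transvec A
  have hdet : ∏ x, D x = 1 := by
    have h1 := congrArg det h
    rw [det_mul, det_mul, TransvectionStruct.det_toMatrix_prod,
      TransvectionStruct.det_toMatrix_prod, det_diagonal, hA, one_mul, mul_one] at h1
    exact h1.symm
  rw [h]
  exact ((pth_list L).mul (pth_diag D hdet (Classical.arbitrary n))).mul (pth_list L')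

end

theorem main15083
    (K : Type u) [Field K] (r : ℕ) (_hr : 1 ≤ r)
    (A : Matrix.SpecialLinearGroup (Fin (r + 1)) K) :
    ∃ M : Matrix.SpecialLinearGroup (Fin (r + 1)) (Polynomial K),
      Matrix.SpecialLinearGroup.map (Polynomial.evalRingHom (0 : K)) M = 1 ∧
      Matrix.SpecialLinearGroup.map (Polynomial.evalRingHom (1 : K)) M = A := by
  obtain ⟨M, hM, hM0, hM1⟩ := pth_all (A : Matrix (Fin (r + 1)) (Fin (r + 1)) K) A.2
  refine ⟨⟨M, hM⟩, ?_, ?_⟩
  · apply Subtype.ext
    exact hM0
  · apply Subtype.ext
    exact hM1

end Groth.Agent.H3Sl
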