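import Mathlib
import Groth.Agent.Lib.helper3.SnC

namespace Groth.Agent.H3Sn

universe u
open Function
open scoped Pointwise TensorProduct

variable (R : Type u) [CommRing R] [IsDomain R] [IsDiscreteValuationRing R]

theorem finrank_residue_tensor (ϖ : R) (hϖ : Irreducible ϖ)
    (X : Type u) [AddCommGroup X] [Module R X] [Module.Finite R X] :
    (Module.finrank (IsLocalRing.ResidueField R) (IsLocalRing.ResidueField R ⊗[R] X) : ℕ∞) =
      Module.length R (QuotSMulTop ϖ X) := by
  have hm : IsLocalRing.maximalIdeal R = Ideal.span {ϖ} := hϖ.maximalIdeal_eq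
  let e₁ : (IsLocalRing.ResidueField R ⊗[R] X) ≃ₗ[R]
      X ⧸ (IsLocalRing.maximalIdeal R • ⊤ : Submodule R X) :=
    TensorProduct.quotTensorEquivQuotSMul X (IsLocalRing.maximalIdeal R)
  let e₂ : (X ⧸ (IsLocalRing.maximalIdeal R • ⊤ : Submodule R X)) ≃ₗ[R] QuotSMulTop ϖ X :=
    Submodule.quotEquivOfEq _ _ (by rw [hm, Submodule.ideal_span_singleton_smul])
  rw [← (e₁.trans e₂).length_eq,
    Module.length_eq_of_surjective (S := R) (R := IsLocalRing.ResidueField R)
      (M := IsLocalRing.ResidueField R ⊗[R] X) IsLocalRing.residue_surjective,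
    Module.length_eq_finrank]

theorem main11550 (ϖ : R) (hϖ : Irreducible ϖ) (M : Type u) [AddCommGroup M]
    [Module R M] [Module.Finite R M] :
    Module.finrank (IsLocalRing.ResidueField R) (IsLocalRing.ResidueField R ⊗[R] M) =
      Module.finrank (IsLocalRing.ResidueField R)
          (IsLocalRing.ResidueField R ⊗[R] ↥(Submodule.torsionBy R M ϖ)) +
        Module.finrank (FractionRing R) (FractionRing R ⊗[R] M) := by
  have hdim : ringKrullDim R = 1 := IsDiscreteValuationRing.ringKrullDim_eq_one R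
  have ht : ϖ ∈ nonZeroDivisors R := mem_nonZeroDivisors_of_ne_zero hϖ.ne_zero
  have htm : ϖ ∈ IsLocalRing.maximalIdeal R := (IsLocalRing.mem_maximalIdeal _).mpr hϖ.not_isUnit
  have hm : IsLocalRing.maximalIdeal R = Ideal.span {ϖ} := hϖ.maximalIdeal_eq
  set n := Module.finrank (FractionRing R) (FractionRing R ⊗[R] M) with hn
  have hfree : Nonempty (LocalizedModule (nonZeroDivisors R) M ≃ₗ[Localization (nonZeroDivisors R)]
      (Fin n → Localization (nonZeroDivisors R))) :=
    ⟨(LocalizedModule.equivTensorProduct (nonZeroDivisors R) M).trans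
      (Module.finBasis (FractionRing R) (FractionRing R ⊗[R] M)).equivFun⟩
  have key := main2856 hdim ϖ ht htm M n hfree
  have h1 : Module.length R (R ⧸ Ideal.span {ϖ}) = 1 := by
    rw [← hm]; exact length_quot_max
  rw [h1, mul_one] at key
  have hA := finrank_residue_tensor R ϖ hϖ M
  have hB := finrank_residue_tensor R ϖ hϖ (Submodule.torsionBy R M ϖ)
  -- QuotSMulTop ϖ (torsionBy) ≃ torsionBy ≃ ker
  have hbot : ϖ • (⊤ : Submodule R (Submodule.torsionBy R M ϖ)) = ⊥ := by
    rw [eq_bot_iff]
    intro x hx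
    rw [Submodule.mem_smul_pointwise_iff_exists] at hx
    obtain ⟨b, _, rfl⟩ := hx
    rw [Submodule.mem_bot]
    apply Subtype.ext
    exact b.2
  have hker : Submodule.torsionBy R M ϖ = LinearMap.ker (ϖ • (LinearMap.id : M →ₗ[R] M)) := by
    ext x
    rw [Submodule.mem_torsionBy_iff, LinearMap.mem_ker]
    rfl
  have hC : Module.length R (QuotSMulTop ϖ (Submodule.torsionBy R M ϖ)) =
      Module.length R (LinearMap.ker (ϖ • (LinearMap.id : M →ₗ[R] M))) :=
    ((Submodule.quotEquivOfEqBot _ hbot).trans (LinearEquiv.ofEq _ _ hker)).length_eq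
  rw [hC] at hB
  rw [← hA, ← hB] at key
  have : ((Module.finrank (IsLocalRing.ResidueField R) (IsLocalRing.ResidueField R ⊗[R] M) : ℕ) : ℕ∞) =
      ((Module.finrank (IsLocalRing.ResidueField R)
          (IsLocalRing.ResidueField R ⊗[R] ↥(Submodule.torsionBy R M ϖ)) + n : ℕ) : ℕ∞) := by
    rw [key]; push_cast; rfl
  exact_mod_cast this

end Groth.Agent.H3Sn
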