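import Mathlib
import Groth.Agent.Lib.helper3.SnG

namespace Groth.Agent.H3Sn

universe u
open Function
open scoped Pointwise

variable {A : Type u} [CommRing A] [IsLocalRing A]

theorem c_pow_ge (q : Ideal A) [q.IsPrime] (a : A) (ham : a ∈ IsLocalRing.maximalIdeal A)
    (haq : a ∉ q) (m : ℕ) :
    (m : ℕ∞) ≤ Module.length A (A ⧸ (q ⊔ Ideal.span {a ^ m})) := by
  induction m with
  | zero => simp
  | succ m ih =>
    rw [Module.length_quotient] at ih ⊢
    have hlt : q ⊔ Ideal.span {a ^ (m + 1)} < q ⊔ Ideal.span {a ^ m} := by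
      refine lt_of_le_of_ne (sup_le le_sup_left ?_) ?_
      · rw [Ideal.span_le, Set.singleton_subset_iff, pow_succ]
        exact Ideal.mem_sup_right (Ideal.mul_mem_right _ _ (Ideal.mem_span_singleton_self _))
      · intro heq
        have hmem : a ^ m ∈ q ⊔ Ideal.span {a ^ (m + 1)} := by
          rw [heq]; exact Ideal.mem_sup_right (Ideal.mem_span_singleton_self _)
        obtain ⟨x, hx, y, hy, hxy⟩ := Submodule.mem_sup.mp hmem
        obtain ⟨r, rfl⟩ := Ideal.mem_span_singleton'.mp hy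
        have h1 : a ^ m * (1 - r * a) ∈ q := by
          have : a ^ m * (1 - r * a) = x := by linear_combination (-1 : A) * hxy
          rw [this]; exact hx
        rcases Ideal.IsPrime.mem_or_mem ‹q.IsPrime› h1 with h | h
        · exact haq (Ideal.IsPrime.mem_of_pow_mem ‹q.IsPrime› _ h)
        · have hq : q ≤ IsLocalRing.maximalIdeal A :=
            IsLocalRing.le_maximalIdeal (Ideal.IsPrime.ne_top ‹q.IsPrime›)
          have h2 : (1 : A) ∈ IsLocalRing.maximalIdeal A := by
            have : (1 : A) = (1 - r * a) + r * a := by ring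
            rw [this]
            exact Ideal.add_mem _ (hq h) (Ideal.mul_mem_left _ _ ham)
          exact (Ideal.ne_top_iff_one _).mp (IsLocalRing.maximalIdeal.isMaximal A).ne_top h2
    have h3 := Order.coheight_add_one_le hlt
    calc ((m + 1 : ℕ) : ℕ∞) = (m : ℕ∞) + 1 := by push_cast; rfl
      _ ≤ Order.coheight (q ⊔ Ideal.span {a ^ m}) + 1 := by gcongr
      _ ≤ _ := h3

theorem main1835 (R : Type u) [CommRing R] [IsNoetherianRing R] [IsLocalRing R]
    (hR : ringKrullDim R = 1) (a b : R) (ha : a ∈ nonZeroDivisors R)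
    (ham : a ∈ IsLocalRing.maximalIdeal R) (hb : b ∈ nonZeroDivisors R) :
    ∃ n : ℕ, ∀ (R' : Type u) [CommRing R'] [Algebra R R'], Function.Injective (algebraMap R R') →
      Module.Finite R R' → ∀ (m : ℕ) (c : R'),
        algebraMap R R' b = algebraMap R R' a ^ m * c → m ≤ n := by
  have hnz : ∀ t ∈ nonZeroDivisors R, ∀ p ∈ minimalPrimes R, t ∉ p := fun t ht p hp htp =>
    Set.disjoint_iff.mp (Ideal.disjoint_nonZeroDivisors_of_mem_minimalPrimes hp) ⟨htp, ht⟩
  have hata := hnz a ha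
  have hatb := hnz b hb
  set s := (minSet_finite (A := R)).toFinset with hs
  set cc : R → PrimeSpectrum R → ℕ∞ := fun t q =>
    Module.length R (R ⧸ (q.asIdeal ⊔ Ideal.span {t})) with hcc
  have hcfin : ∀ t, (∀ p ∈ minimalPrimes R, t ∉ p) → ∀ q, cc t q ≠ ⊤ := fun t hat q =>
    fl_of_notMem hR t hat _ (fun x => by
      induction x using Submodule.Quotient.induction_on with
      | H x =>
        rw [← Submodule.Quotient.mk_smul, Submodule.Quotient.mk_eq_zero, smul_eq_mul]
        exact Ideal.mul_mem_right _ _ (Ideal.mem_sup_right (Ideal.mem_span_singleton_self t)))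
  refine ⟨∑ q ∈ s, (cc b q).toNat, ?_⟩
  intro R' _ _ hinj hfin m c hbc
  obtain ⟨q₀, hq₀, -⟩ :=
    Ideal.exists_minimalPrimes_le (bot_le : (⊥ : Ideal R) ≤ IsLocalRing.maximalIdeal R)
  haveI : q₀.IsPrime := hq₀.1.1
  haveI : Algebra.IsIntegral R R' := Algebra.IsIntegral.of_finite R R'
  obtain ⟨q', -, hq'prime, hq'⟩ := Ideal.exists_ideal_over_prime_of_isIntegral q₀ (⊥ : Ideal R') (by
    rw [← RingHom.ker_eq_comap_bot, (RingHom.injective_iff_ker_eq_bot _).mp hinj]; exact bot_le)
  haveI := hq'prime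
  haveI : Module.Finite R (R' ⧸ q') :=
    Module.Finite.of_surjective (Ideal.Quotient.mkₐ R q').toLinearMap
      (Ideal.Quotient.mkₐ_surjective R q')
  have hmemq : ∀ r : R, algebraMap R R' r ∈ q' → r ∈ q₀ := by
    intro r hr
    rw [← hq']; exact hr
  have hkerb : LinearMap.ker (b • (LinearMap.id : (R' ⧸ q') →ₗ[R] (R' ⧸ q'))) = ⊥ := by
    rw [eq_bot_iff]
    intro x hx
    rw [LinearMap.mem_ker, LinearMap.smul_apply, LinearMap.id_apply] at hx
    rw [Submodule.mem_bot]
    obtain ⟨y, rfl⟩ := Ideal.Quotient.mk_surjective x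
    rw [Algebra.smul_def, ← Ideal.Quotient.mk_algebraMap, ← map_mul,
      Ideal.Quotient.eq_zero_iff_mem] at hx
    rcases Ideal.IsPrime.mem_or_mem ‹q'.IsPrime› hx with h | h
    · exact absurd (hmemq b h) (hatb q₀ hq₀)
    · exact Ideal.Quotient.eq_zero_iff_mem.mpr h
  have hsub : b • (⊤ : Submodule R (R' ⧸ q')) ≤ (a ^ m) • (⊤ : Submodule R (R' ⧸ q')) := by
    intro x hx
    obtain ⟨y, -, rfl⟩ := (Submodule.mem_smul_pointwise_iff_exists _ _ _).mp hx
    rw [Submodule.mem_smul_pointwise_iff_exists]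
    refine ⟨Ideal.Quotient.mk q' c * y, trivial, ?_⟩
    simp only [Algebra.smul_def, ← Ideal.Quotient.mk_algebraMap, hbc, map_pow, map_mul, mul_assoc]
  have hle1 : Module.length R (QuotSMulTop (a ^ m) (R' ⧸ q')) ≤
      Module.length R (QuotSMulTop b (R' ⧸ q')) :=
    Module.length_le_of_surjective (Submodule.factor hsub) (Submodule.factor_surjective hsub)
  have keyb := main0616 hR (R' ⧸ q') b hatb
  have keyam := main0616 hR (R' ⧸ q') (a ^ m) (hnz _ (pow_mem ha m))
  have keya := main0616 hR (R' ⧸ q') a hata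
  rw [hkerb, Module.length_bot, zero_add] at keyb
  set L : PrimeSpectrum R → ℕ∞ := fun q => Module.length (Localization.AtPrime q.asIdeal)
    (LocalizedModule q.asIdeal.primeCompl (R' ⧸ q')) with hLdef
  have hrho : ∀ t : R, rho t (R' ⧸ q') = ∑ q ∈ s, L q * cc t q := by
    intro t
    unfold rho
    rw [finsum_mem_eq_finite_toFinset_sum _ minSet_finite]
  -- finiteness of L
  have hc1 : ∀ q : PrimeSpectrum R, 1 ≤ cc a q := by
    intro q
    have hne : q.asIdeal ⊔ Ideal.span {a} ≠ ⊤ := by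
      intro htop
      have hle : q.asIdeal ⊔ Ideal.span {a} ≤ IsLocalRing.maximalIdeal R :=
        sup_le (IsLocalRing.le_maximalIdeal q.2.ne_top)
          (by rw [Ideal.span_le]; intro x hx; rw [Set.mem_singleton_iff] at hx; rw [hx]; exact ham)
      rw [htop] at hle
      exact (IsLocalRing.maximalIdeal.isMaximal R).ne_top (top_le_iff.mp hle)
    haveI : Nontrivial (R ⧸ (q.asIdeal ⊔ Ideal.span {a})) := Ideal.Quotient.nontrivial_iff.mpr hne
    exact Order.one_le_iff_pos.mpr Module.length_pos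
  have hCfin : Module.length R (QuotSMulTop a (R' ⧸ q')) ≠ ⊤ :=
    fl_of_notMem hR a hata _ (fun x => by
      induction x using Submodule.Quotient.induction_on with
      | H x =>
        rw [← Submodule.Quotient.mk_smul, Submodule.Quotient.mk_eq_zero]
        exact Submodule.smul_mem_pointwise_smul _ _ _ trivial)
  rw [keya, hrho] at hCfin
  have hsumfin : ∑ q ∈ s, L q * cc a q ≠ ⊤ := fun h => hCfin (by rw [h, add_top])
  have hLfin : ∀ q ∈ s, L q ≠ ⊤ := by
    intro q hq
    have h1 := (ENat.sum_ne_top.mp hsumfin) q hq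
    intro htop
    apply h1
    rw [htop]
    exact ENat.top_mul (fun h0 => by have := hc1 q; rw [h0] at this; simp at this)
  have hTfin : ∑ q ∈ s, L q ≠ ⊤ := ENat.sum_ne_top.mpr hLfin
  -- positivity
  have hq₀s : (⟨q₀, inferInstance⟩ : PrimeSpectrum R) ∈ s := by
    rw [hs, Set.Finite.mem_toFinset]; exact hq₀
  have hLpos : L ⟨q₀, inferInstance⟩ ≠ 0 := by
    intro h0
    rw [Module.length_eq_zero_iff, LocalizedModule.subsingleton_iff] at h0
    obtain ⟨r, hr, hr1⟩ := h0 (1 : R' ⧸ q')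
    rw [Algebra.smul_def, mul_one, ← Ideal.Quotient.mk_algebraMap,
      Ideal.Quotient.eq_zero_iff_mem] at hr1
    exact hr (hmemq r hr1)
  have hTpos : ∑ q ∈ s, L q ≠ 0 := by
    intro h0
    exact hLpos ((Finset.sum_eq_zero_iff.mp h0) _ hq₀s)
  -- chain of inequalities
  have h1 : (∑ q ∈ s, L q) * (m : ℕ∞) ≤ ∑ q ∈ s, L q * cc (a ^ m) q := by
    rw [Finset.sum_mul]
    refine Finset.sum_le_sum fun q hq => ?_
    haveI := q.2
    have hqmin : q ∈ minSet R := (Set.Finite.mem_toFinset _).mp hq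
    exact mul_le_mul' le_rfl (c_pow_ge q.asIdeal a ham (hata _ hqmin) m)
  have h2 : ∑ q ∈ s, L q * cc (a ^ m) q ≤ ∑ q ∈ s, L q * cc b q := by
    rw [← hrho, ← hrho, ← keyb]
    refine le_trans ?_ hle1
    rw [keyam]
    exact le_add_self
  have h3 : ∑ q ∈ s, L q * cc b q ≤ (∑ q ∈ s, L q) * ((∑ q ∈ s, (cc b q).toNat : ℕ) : ℕ∞) := by
    rw [Finset.sum_mul]
    refine Finset.sum_le_sum fun q hq => ?_
    refine mul_le_mul' le_rfl ?_
    rw [← ENat.coe_toNat (hcfin b hatb q)]
    exact_mod_cast Finset.single_le_sum (f := fun q => (cc b q).toNat) (fun _ _ => Nat.zero_le _) hq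
  have h4 := (h1.trans h2).trans h3
  rw [ENat.mul_le_mul_left_iff hTpos hTfin] at h4
  exact_mod_cast h4

end Groth.Agent.H3Sn
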