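import Mathlib

namespace Groth.Agent.H3Sp

variable {R : Type*} [CommRing R] {S : Type*} [CommRing S] [Algebra R S]

/-- canonical map `S_g → A` when `g` becomes a unit in `A` -/
noncomputable def cmap (A : Type*) [CommRing A] [Algebra S A] [Algebra R A] [IsScalarTower R S A]
    (g : S) (hg : IsUnit (algebraMap S A g)) : Localization.Away g →ₐ[R] A :=
  IsLocalization.Away.liftAlgHom (S := Localization.Away g) g
    (f := IsScalarTower.toAlgHom R S A) hg

theorem cmap_alg (A : Type*) [CommRing A] [Algebra S A] [Algebra R A] [IsScalarTower R S A]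
    (g : S) (hg : IsUnit (algebraMap S A g)) (x : S) :
    cmap (R := R) A g hg (algebraMap S (Localization.Away g) x) = algebraMap S A x := by
  unfold cmap
  rw [IsLocalization.Away.liftAlgHom_apply]
  exact IsLocalization.Away.lift_eq g _ x

theorem ext_away {P : Type*} [CommRing P] (g : S) (f1 f2 : Localization.Away g →+* P)
    (h : ∀ x, f1 (algebraMap S _ x) = f2 (algebraMap S _ x)) : f1 = f2 :=
  IsLocalization.ringHom_ext (Submonoid.powers g) (RingHom.ext h)

theorem algHom_ext_away {P : Type*} [CommRing P] [Algebra R P] (g : S)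
    (f1 f2 : Localization.Away g →ₐ[R] P)
    (h : ∀ x, f1 (algebraMap S _ x) = f2 (algebraMap S _ x)) : f1 = f2 := by
  apply AlgHom.coe_ringHom_injective
  exact ext_away g _ _ h

theorem unit_of_dvd (g h : S) (hgh : g ∣ h) :
    IsUnit (algebraMap S (Localization.Away h) g) := by
  obtain ⟨a, rfl⟩ := hgh
  have := IsLocalization.Away.algebraMap_isUnit (S := Localization.Away (g * a)) (g * a)
  rw [map_mul] at this
  exact isUnit_of_mul_isUnit_left this

/-- a map out of `S_g` composed with a map compatible with `S`-structures -/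
theorem cmap_comp (A B : Type*) [CommRing A] [Algebra S A] [Algebra R A] [IsScalarTower R S A]
    [CommRing B] [Algebra S B] [Algebra R B] [IsScalarTower R S B]
    (g : S) (hgA : IsUnit (algebraMap S A g)) (hgB : IsUnit (algebraMap S B g))
    (ψ : A →ₐ[R] B) (hψ : ∀ x, ψ (algebraMap S A x) = algebraMap S B x) :
    ψ.comp (cmap (R := R) A g hgA) = cmap (R := R) B g hgB := by
  apply algHom_ext_away
  intro x
  rw [AlgHom.comp_apply, cmap_alg, cmap_alg, hψ]

section AtPrime

variable (q : Ideal S) [q.IsPrime] (A : Type*) [CommRing A] [Algebra S A] [Algebra R A]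
  [IsScalarTower R S A] [IsLocalization.AtPrime A q]

include q in
theorem unit_A (g : S) (hg : g ∉ q) : IsUnit (algebraMap S A g) :=
  (IsLocalization.AtPrime.isUnit_to_map_iff A q g).2 hg

/-- (V): spreading out units -/
theorem unit_spread (g : S) (hg : g ∉ q) (z : Localization.Away g)
    (hz : IsUnit (cmap (R := R) A g (unit_A q A g hg) z)) :
    ∃ (a : S) (n : ℕ), a ∉ q ∧ z * algebraMap S _ g ^ n = algebraMap S _ a ∧
      IsUnit (cmap (R := R) (Localization.Away (g * a)) g (unit_of_dvd g (g * a) ⟨a, rfl⟩) z) := by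
  obtain ⟨n, a, hna⟩ := IsLocalization.Away.surj g z
  have haq : a ∉ q := by
    have h1 := congrArg (cmap (R := R) A g (unit_A q A g hg)) hna
    rw [map_mul, map_pow, cmap_alg, cmap_alg] at h1
    have : IsUnit (algebraMap S A a) := by
      rw [← h1]
      exact hz.mul ((unit_A q A g hg).pow n)
    exact (IsLocalization.AtPrime.isUnit_to_map_iff A q a).1 this
  refine ⟨a, n, haq, hna, ?_⟩
  have h2 := congrArg (cmap (R := R) (Localization.Away (g * a)) g
    (unit_of_dvd g (g * a) ⟨a, rfl⟩)) hna
  rw [map_mul, map_pow, cmap_alg, cmap_alg] at h2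
  have hua : IsUnit (algebraMap S (Localization.Away (g * a)) a) :=
    unit_of_dvd a (g * a) ⟨g, mul_comm _ _⟩
  have hug : IsUnit (algebraMap S (Localization.Away (g * a)) g) :=
    unit_of_dvd g (g * a) ⟨a, rfl⟩
  have h3 : IsUnit (cmap (R := R) (Localization.Away (g * a)) g
      (unit_of_dvd g (g * a) ⟨a, rfl⟩) z * algebraMap S (Localization.Away (g * a)) g ^ n) := by
    rw [h2]; exact hua
  exact isUnit_of_mul_isUnit_left h3

/-- kernel elements die after a further localization -/
theorem zero_spread (g : S) (hg : g ∉ q) (z : Localization.Away g)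
    (hz : cmap (R := R) A g (unit_A q A g hg) z = 0) :
    ∃ u : S, u ∉ q ∧ ∀ h : S, ∀ (hgh : g ∣ h), u ∣ h →
      cmap (R := R) (Localization.Away h) g (unit_of_dvd g h hgh) z = 0 := by
  obtain ⟨n, a, hna⟩ := IsLocalization.Away.surj g z
  have h1 := congrArg (cmap (R := R) A g (unit_A q A g hg)) hna
  rw [map_mul, map_pow, cmap_alg, cmap_alg, hz, zero_mul] at h1
  obtain ⟨u, hu⟩ := (IsLocalization.map_eq_zero_iff q.primeCompl A a).1 h1.symm
  refine ⟨u.1, u.2, fun h hgh huh => ?_⟩
  have h2 := congrArg (cmap (R := R) (Localization.Away h) g (unit_of_dvd g h hgh)) hna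
  rw [map_mul, map_pow, cmap_alg, cmap_alg] at h2
  have hua : algebraMap S (Localization.Away h) a = 0 := by
    have hunit : IsUnit (algebraMap S (Localization.Away h) u.1) := unit_of_dvd u.1 h huh
    have : algebraMap S (Localization.Away h) u.1 * algebraMap S (Localization.Away h) a = 0 := by
      rw [← map_mul, hu, map_zero]
    exact (hunit.mul_right_eq_zero).1 this
  rw [hua] at h2
  exact ((unit_of_dvd g h hgh).pow n).mul_left_eq_zero.1 h2

end AtPrime

end Groth.Agent.H3Sp
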