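import Mathlib
import Groth.Agent.Lib.helper3.SpA

namespace Groth.Agent.H3Sp

variable {R : Type*} [CommRing R] {S : Type*} [CommRing S] [Algebra R S]

variable (q : Ideal S) [q.IsPrime] (A : Type*) [CommRing A] [Algebra S A] [Algebra R A]
  [IsScalarTower R S A] [IsLocalization.AtPrime A q]

include q in
theorem prod_notMem {ι : Type*} (F : Finset ι) (u : ι → S) (hu : ∀ i ∈ F, u i ∉ q) :
    ∏ i ∈ F, u i ∉ q := by
  intro h
  obtain ⟨i, hi, hiq⟩ := (Ideal.IsPrime.prod_mem_iff).1 h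
  exact hu i hi hiq

/-- (U): spreading out equalities -/
theorem eq_spread {S0 : Type*} [CommRing S0] [Algebra R S0] [Algebra.FiniteType R S0]
    (g : S) (hg : g ∉ q) (α1 α2 : S0 →ₐ[R] Localization.Away g)
    (hc : (cmap (R := R) A g (unit_A q A g hg)).comp α1 =
      (cmap (R := R) A g (unit_A q A g hg)).comp α2) :
    ∃ (h : S) (hgh : g ∣ h), h ∉ q ∧
      (cmap (R := R) (Localization.Away h) g (unit_of_dvd g h hgh)).comp α1 =
        (cmap (R := R) (Localization.Away h) g (unit_of_dvd g h hgh)).comp α2 := by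
  classical
  obtain ⟨F, hF⟩ := Algebra.FiniteType.out (R := R) (A := S0)
  have hz : ∀ x : S0, cmap (R := R) A g (unit_A q A g hg) (α1 x - α2 x) = 0 := by
    intro x
    rw [map_sub, sub_eq_zero]
    exact AlgHom.congr_fun hc x
  choose u huq hu using fun x : S0 => zero_spread q A g hg (α1 x - α2 x) (hz x)
  refine ⟨g * ∏ x ∈ F, u x, ⟨_, rfl⟩, ?_, ?_⟩
  · exact Ideal.IsPrime.mul_notMem ‹_› hg (prod_notMem q F u fun x _ => huq x)
  · apply AlgHom.ext_of_adjoin_eq_top hF
    intro x hx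
    have := hu x (g * ∏ x ∈ F, u x) ⟨_, rfl⟩
      (dvd_mul_of_dvd_right (Finset.dvd_prod_of_mem u hx) g)
    rw [map_sub, sub_eq_zero] at this
    exact this

/-- (Z): spreading out homomorphisms -/
theorem lift_spread {S0 : Type*} [CommRing S0] [Algebra R S0] [Algebra.FinitePresentation R S0]
    (φ : S0 →ₐ[R] A) :
    ∃ (g : S) (hg : g ∉ q) (α : S0 →ₐ[R] Localization.Away g),
      (cmap (R := R) A g (unit_A q A g hg)).comp α = φ := by
  classical
  obtain ⟨n, f, hf, hker⟩ := Algebra.FinitePresentation.out (R := R) (A := S0)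
  have hex : ∀ i : Fin n, ∃ (a : S) (s : q.primeCompl),
      φ (f (MvPolynomial.X i)) = IsLocalization.mk' A a s := fun i => by
    obtain ⟨a, s, h⟩ := IsLocalization.exists_mk'_eq q.primeCompl (φ (f (MvPolynomial.X i)))
    exact ⟨a, s, h.symm⟩
  choose a s has using hex
  set g0 : S := ∏ i, (s i : S) with hg0def
  have hg0 : g0 ∉ q := prod_notMem q Finset.univ (fun i => (s i : S)) fun i _ => (s i).2
  have hus : ∀ i, IsUnit (algebraMap S (Localization.Away g0) (s i : S)) := fun i =>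
    unit_of_dvd _ _ (Finset.dvd_prod_of_mem (fun i => (s i : S)) (Finset.mem_univ i))
  set y : Fin n → Localization.Away g0 := fun i =>
    algebraMap S _ (a i) * ↑(hus i).unit⁻¹ with hy
  set α0 : MvPolynomial (Fin n) R →ₐ[R] Localization.Away g0 := MvPolynomial.aeval y with hα0
  have hc0 : (cmap (R := R) A g0 (unit_A q A g0 hg0)).comp α0 = φ.comp f := by
    apply MvPolynomial.algHom_ext
    intro i
    rw [AlgHom.comp_apply, AlgHom.comp_apply, hα0, MvPolynomial.aeval_X, has i,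
      IsLocalization.eq_mk'_iff_mul_eq, ← cmap_alg (R := R) A g0 (unit_A q A g0 hg0) (s i : S),
      ← map_mul, ← cmap_alg (R := R) A g0 (unit_A q A g0 hg0) (a i)]
    congr 1
    rw [hy]
    simp only
    rw [mul_assoc, IsUnit.val_inv_mul, mul_one]
  obtain ⟨G, hG⟩ := hker
  have hz : ∀ P : RingHom.ker f.toRingHom,
      cmap (R := R) A g0 (unit_A q A g0 hg0) (α0 P.1) = 0 := by
    intro P
    have h1 := AlgHom.congr_fun hc0 P.1
    rw [AlgHom.comp_apply, AlgHom.comp_apply] at h1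
    rw [h1]
    have : f P.1 = 0 := P.2
    rw [this, map_zero]
  choose u huq hu using fun P : RingHom.ker f.toRingHom =>
    zero_spread q A g0 hg0 (α0 P.1) (hz P)
  have hmemG : ∀ P ∈ G, P ∈ RingHom.ker f.toRingHom := fun P hP => by
    rw [← hG]; exact Ideal.subset_span hP
  set g : S := g0 * ∏ P ∈ G.attach, u ⟨P.1, hmemG P.1 P.2⟩ with hgdef
  have hgq : g ∉ q := Ideal.IsPrime.mul_notMem ‹_› hg0
    (prod_notMem q G.attach _ fun P _ => huq _)
  have hg0g : g0 ∣ g := ⟨_, rfl⟩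
  set α1 : MvPolynomial (Fin n) R →ₐ[R] Localization.Away g :=
    (cmap (R := R) (Localization.Away g) g0 (unit_of_dvd g0 g hg0g)).comp α0 with hα1
  have hle : RingHom.ker f.toRingHom ≤ RingHom.ker α1.toRingHom := by
    rw [← hG, Ideal.span_le]
    intro P hP
    have := hu ⟨P, hmemG P hP⟩ g hg0g
      (dvd_mul_of_dvd_right (Finset.dvd_prod_of_mem (fun P : {x // x ∈ G} => u ⟨P.1, hmemG P.1 P.2⟩)
        (Finset.mem_attach G ⟨P, hP⟩)) g0)
    exact this
  refine ⟨g, hgq, AlgHom.liftOfSurjective f hf α1 hle, ?_⟩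
  apply AlgHom.ext
  intro x
  obtain ⟨P, rfl⟩ := hf x
  rw [AlgHom.comp_apply, AlgHom.liftOfSurjective_apply, hα1, AlgHom.comp_apply]
  have h2 := cmap_comp (R := R) (Localization.Away g) A g0 (unit_of_dvd g0 g hg0g)
    (unit_A q A g0 hg0) (cmap (R := R) A g (unit_A q A g hgq)) (cmap_alg (R := R) A g _)
  have h3 := AlgHom.congr_fun h2 (α0 P)
  rw [AlgHom.comp_apply] at h3
  rw [h3]
  have h4 := AlgHom.congr_fun hc0 P
  rw [AlgHom.comp_apply, AlgHom.comp_apply] at h4
  exact h4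

end Groth.Agent.H3Sp
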