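import Mathlib
import Groth.Agent.Lib.helper3.SpB

namespace Groth.Agent.H3Sp

section
variable {R : Type*} [CommRing R] {S : Type*} [CommRing S] [Algebra R S]

/-- extension of an algebra map to a localization -/
noncomputable def lift1 {P : Type*} [CommRing P] [Algebra R P] (β : S →ₐ[R] P) (g : S)
    (hu : IsUnit (β g)) : Localization.Away g →ₐ[R] P :=
  IsLocalization.Away.liftAlgHom (S := Localization.Away g) g (f := β) hu

theorem lift1_alg {P : Type*} [CommRing P] [Algebra R P] (β : S →ₐ[R] P) (g : S)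
    (hu : IsUnit (β g)) (x : S) : lift1 β g hu (algebraMap S _ x) = β x := by
  unfold lift1
  rw [IsLocalization.Away.liftAlgHom_apply]
  exact IsLocalization.Away.lift_eq g _ x

/-- transition maps -/
noncomputable abbrev rho (g h : S) (hgh : g ∣ h) : Localization.Away g →ₐ[R] Localization.Away h :=
  cmap (R := R) (Localization.Away h) g (unit_of_dvd g h hgh)

theorem rho_alg (g h : S) (hgh : g ∣ h) (x : S) :
    rho (R := R) g h hgh (algebraMap S _ x) = algebraMap S _ x := cmap_alg _ _ _ _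

variable (q : Ideal S) [q.IsPrime] (A : Type*) [CommRing A] [Algebra S A] [Algebra R A]
  [IsScalarTower R S A] [IsLocalization.AtPrime A q]

theorem c_rho (g h : S) (hgh : g ∣ h) (hg : g ∉ q) (hh : h ∉ q) (z : Localization.Away g) :
    cmap (R := R) A h (unit_A q A h hh) (rho (R := R) g h hgh z) =
      cmap (R := R) A g (unit_A q A g hg) z := by
  have := cmap_comp (R := R) (Localization.Away h) A g (unit_of_dvd g h hgh) (unit_A q A g hg)
    (cmap (R := R) A h (unit_A q A h hh)) (cmap_alg (R := R) A h _)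
  exact AlgHom.congr_fun this z

end

universe u

theorem main2145 {R S S' : Type u} [CommRing R] [CommRing S] [CommRing S'] [Algebra R S]
    [Algebra R S'] [Algebra.FinitePresentation R S] [Algebra.FinitePresentation R S']
    (q : Ideal S) [q.IsPrime] (q' : Ideal S') [q'.IsPrime]
    (e : Localization.AtPrime q ≃ₐ[R] Localization.AtPrime q') :
    ∃ (g : S) (g' : S'), g ∉ q ∧ g' ∉ q' ∧
      Nonempty (Localization.Away g ≃ₐ[R] Localization.Away g') := by
  set A := Localization.AtPrime q with hA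
  set A' := Localization.AtPrime q' with hA'
  -- Step 1
  obtain ⟨g1', hg1', α1, hα1⟩ := lift_spread (R := R) q' A'
    (e.toAlgHom.comp (IsScalarTower.toAlgHom R S A))
  have hα1' : ∀ x : S, cmap (R := R) A' g1' (unit_A q' A' g1' hg1') (α1 x) =
      e (algebraMap S A x) := fun x => AlgHom.congr_fun hα1 x
  -- Step 2
  obtain ⟨g1, hg1, β1, hβ1⟩ := lift_spread (R := R) q A
    (e.symm.toAlgHom.comp (IsScalarTower.toAlgHom R S' A'))
  have hβ1' : ∀ x : S', cmap (R := R) A g1 (unit_A q A g1 hg1) (β1 x) =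
      e.symm (algebraMap S' A' x) := fun x => AlgHom.congr_fun hβ1 x
  -- Step 3
  have hz3 : IsUnit (cmap (R := R) A g1 (unit_A q A g1 hg1) (β1 g1')) := by
    rw [hβ1']
    exact (unit_A q' A' g1' hg1').map e.symm
  obtain ⟨a2, n2, ha2, -, hu2⟩ := unit_spread (R := R) q A g1 hg1 (β1 g1') hz3
  have hg2 : g1 * a2 ∉ q := Ideal.IsPrime.mul_notMem ‹_› hg1 ha2
  have hd12 : g1 ∣ g1 * a2 := ⟨a2, rfl⟩
  obtain ⟨β2, hβ2⟩ : ∃ β2 : S' →ₐ[R] Localization.Away (g1 * a2),
      β2 = (rho (R := R) g1 (g1 * a2) hd12).comp β1 := ⟨_, rfl⟩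
  have hu2' : IsUnit (β2 g1') := by rw [hβ2, AlgHom.comp_apply]; exact hu2
  obtain ⟨βt2, hβt2⟩ : ∃ βt2, βt2 = lift1 β2 g1' hu2' := ⟨_, rfl⟩
  have factA : ∀ w : Localization.Away g1',
      cmap (R := R) A (g1 * a2) (unit_A q A _ hg2) (βt2 w) =
        e.symm (cmap (R := R) A' g1' (unit_A q' A' g1' hg1') w) := by
    have : (cmap (R := R) A (g1 * a2) (unit_A q A _ hg2)).comp βt2 =
        e.symm.toAlgHom.comp (cmap (R := R) A' g1' (unit_A q' A' g1' hg1')) := by
      apply algHom_ext_away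
      intro x
      rw [AlgHom.comp_apply, AlgHom.comp_apply, hβt2, lift1_alg, hβ2, AlgHom.comp_apply,
        c_rho q A g1 (g1 * a2) hd12 hg1 hg2, hβ1', cmap_alg]
      rfl
    exact fun w => AlgHom.congr_fun this w
  -- Step 4
  have hc4 : (cmap (R := R) A (g1 * a2) (unit_A q A _ hg2)).comp (βt2.comp α1) =
      (cmap (R := R) A (g1 * a2) (unit_A q A _ hg2)).comp
        (IsScalarTower.toAlgHom R S (Localization.Away (g1 * a2))) := by
    apply AlgHom.ext
    intro x
    rw [AlgHom.comp_apply, AlgHom.comp_apply, factA, hα1', AlgEquiv.symm_apply_apply,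
      AlgHom.comp_apply, IsScalarTower.toAlgHom_apply, cmap_alg]
  obtain ⟨g3, hd23, hg3, h4⟩ := eq_spread (R := R) q A (g1 * a2) hg2 (βt2.comp α1)
    (IsScalarTower.toAlgHom R S (Localization.Away (g1 * a2))) hc4
  obtain ⟨β3, hβ3⟩ : ∃ β3 : S' →ₐ[R] Localization.Away g3,
      β3 = (rho (R := R) (g1 * a2) g3 hd23).comp β2 := ⟨_, rfl⟩
  have hu3 : IsUnit (β3 g1') := by
    rw [hβ3, AlgHom.comp_apply]; exact hu2'.map (rho (R := R) (g1 * a2) g3 hd23)
  obtain ⟨βt3, hβt3d⟩ : ∃ βt3, βt3 = lift1 β3 g1' hu3 := ⟨_, rfl⟩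
  have hβt3 : βt3 = (rho (R := R) (g1 * a2) g3 hd23).comp βt2 := by
    apply algHom_ext_away
    intro x
    rw [AlgHom.comp_apply, hβt3d, hβt2, lift1_alg, lift1_alg, hβ3, AlgHom.comp_apply]
  have star : ∀ x : S, βt3 (α1 x) = algebraMap S (Localization.Away g3) x := by
    intro x
    have := AlgHom.congr_fun h4 x
    rw [AlgHom.comp_apply, AlgHom.comp_apply, AlgHom.comp_apply, IsScalarTower.toAlgHom_apply,
      cmap_alg] at this
    rw [hβt3, AlgHom.comp_apply]
    exact this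
  have hd13 : g1 ∣ g3 := dvd_trans hd12 hd23
  have hcβ3 : ∀ x : S', cmap (R := R) A g3 (unit_A q A g3 hg3) (β3 x) =
      e.symm (algebraMap S' A' x) := by
    intro x
    rw [hβ3, AlgHom.comp_apply, c_rho q A (g1 * a2) g3 hd23 hg2 hg3, hβ2, AlgHom.comp_apply,
      c_rho q A g1 (g1 * a2) hd12 hg1 hg2, hβ1']
  -- Step 5
  have hz5 : IsUnit (cmap (R := R) A' g1' (unit_A q' A' g1' hg1') (α1 g3)) := by
    rw [hα1']
    exact (unit_A q A g3 hg3).map e
  obtain ⟨a2', n2', ha2', -, hu5⟩ := unit_spread (R := R) q' A' g1' hg1' (α1 g3) hz5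
  have hg2' : g1' * a2' ∉ q' := Ideal.IsPrime.mul_notMem ‹_› hg1' ha2'
  have hd12' : g1' ∣ g1' * a2' := ⟨a2', rfl⟩
  obtain ⟨α2, hα2⟩ : ∃ α2 : S →ₐ[R] Localization.Away (g1' * a2'),
      α2 = (rho (R := R) g1' (g1' * a2') hd12').comp α1 := ⟨_, rfl⟩
  have hu5' : IsUnit (α2 g3) := by rw [hα2, AlgHom.comp_apply]; exact hu5
  obtain ⟨αt2, hαt2⟩ : ∃ αt2, αt2 = lift1 α2 g3 hu5' := ⟨_, rfl⟩
  have factB : ∀ w : Localization.Away g3,
      cmap (R := R) A' (g1' * a2') (unit_A q' A' _ hg2') (αt2 w) =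
        e (cmap (R := R) A g3 (unit_A q A g3 hg3) w) := by
    have : (cmap (R := R) A' (g1' * a2') (unit_A q' A' _ hg2')).comp αt2 =
        e.toAlgHom.comp (cmap (R := R) A g3 (unit_A q A g3 hg3)) := by
      apply algHom_ext_away
      intro x
      rw [AlgHom.comp_apply, AlgHom.comp_apply, hαt2, lift1_alg, hα2, AlgHom.comp_apply,
        c_rho q' A' g1' (g1' * a2') hd12' hg1' hg2', hα1', cmap_alg]
      rfl
    exact fun w => AlgHom.congr_fun this w
  -- Step 6
  have hc6 : (cmap (R := R) A' (g1' * a2') (unit_A q' A' _ hg2')).comp (αt2.comp β3) =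
      (cmap (R := R) A' (g1' * a2') (unit_A q' A' _ hg2')).comp
        (IsScalarTower.toAlgHom R S' (Localization.Away (g1' * a2'))) := by
    apply AlgHom.ext
    intro x
    rw [AlgHom.comp_apply, AlgHom.comp_apply, factB, hcβ3, AlgEquiv.apply_symm_apply,
      AlgHom.comp_apply, IsScalarTower.toAlgHom_apply, cmap_alg]
  obtain ⟨g3', hd23', hg3', h6⟩ := eq_spread (R := R) q' A' (g1' * a2') hg2' (αt2.comp β3)
    (IsScalarTower.toAlgHom R S' (Localization.Away (g1' * a2'))) hc6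
  obtain ⟨α3, hα3⟩ : ∃ α3 : S →ₐ[R] Localization.Away g3',
      α3 = (rho (R := R) (g1' * a2') g3' hd23').comp α2 := ⟨_, rfl⟩
  have hu6 : IsUnit (α3 g3) := by
    rw [hα3, AlgHom.comp_apply]; exact hu5'.map (rho (R := R) (g1' * a2') g3' hd23')
  obtain ⟨αt3, hαt3⟩ : ∃ αt3, αt3 = lift1 α3 g3 hu6 := ⟨_, rfl⟩
  have hαt3' : αt3 = (rho (R := R) (g1' * a2') g3' hd23').comp αt2 := by
    apply algHom_ext_away
    intro x
    rw [AlgHom.comp_apply, hαt3, hαt2, lift1_alg, lift1_alg, hα3, AlgHom.comp_apply]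
  have star2 : ∀ x : S', αt3 (β3 x) = algebraMap S' (Localization.Away g3') x := by
    intro x
    have := AlgHom.congr_fun h6 x
    rw [AlgHom.comp_apply, AlgHom.comp_apply, AlgHom.comp_apply, IsScalarTower.toAlgHom_apply,
      cmap_alg] at this
    rw [hαt3', AlgHom.comp_apply]
    exact this
  -- Step 7
  have hz7 : IsUnit (cmap (R := R) A g3 (unit_A q A g3 hg3) (β3 g3')) := by
    rw [hcβ3]
    exact (unit_A q' A' g3' hg3').map e.symm
  obtain ⟨a4, n4, ha4, hza4, hu7⟩ := unit_spread (R := R) q A g3 hg3 (β3 g3') hz7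
  have hg4 : g3 * a4 ∉ q := Ideal.IsPrime.mul_notMem ‹_› hg3 ha4
  have hd34 : g3 ∣ g3 * a4 := ⟨a4, rfl⟩
  obtain ⟨β4, hβ4⟩ : ∃ β4 : S' →ₐ[R] Localization.Away (g3 * a4),
      β4 = (rho (R := R) g3 (g3 * a4) hd34).comp β3 := ⟨_, rfl⟩
  have hu7' : IsUnit (β4 g3') := by rw [hβ4, AlgHom.comp_apply]; exact hu7
  obtain ⟨βt4, hβt4⟩ : ∃ βt4, βt4 = lift1 β4 g3' hu7' := ⟨_, rfl⟩
  have hua4 : IsUnit (α3 a4) := by
    have h1 := congrArg αt3 hza4
    rw [map_mul, map_pow, star2, hαt3, lift1_alg, lift1_alg] at h1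
    rw [← h1]
    exact (IsLocalization.Away.algebraMap_isUnit (S := Localization.Away g3') g3').mul (hu6.pow n4)
  have hu8 : IsUnit (α3 (g3 * a4)) := by
    rw [map_mul]; exact hu6.mul hua4
  obtain ⟨αt4, hαt4⟩ : ∃ αt4, αt4 = lift1 α3 (g3 * a4) hu8 := ⟨_, rfl⟩
  -- Step 8
  have h81 : βt4.comp αt4 = AlgHom.id R _ := by
    apply algHom_ext_away
    intro x
    rw [AlgHom.comp_apply, hαt4, lift1_alg, AlgHom.id_apply]
    have hcomm : βt4.comp ((rho (R := R) (g1' * a2') g3' hd23').comp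
        (rho (R := R) g1' (g1' * a2') hd12')) =
        (rho (R := R) g3 (g3 * a4) hd34).comp βt3 := by
      apply algHom_ext_away
      intro x'
      rw [AlgHom.comp_apply, AlgHom.comp_apply, AlgHom.comp_apply, rho_alg, rho_alg, hβt4,
        hβt3d, lift1_alg, lift1_alg, hβ4, AlgHom.comp_apply]
    have h1 := AlgHom.congr_fun hcomm (α1 x)
    rw [AlgHom.comp_apply, AlgHom.comp_apply, AlgHom.comp_apply, star, rho_alg] at h1
    rw [hα3, AlgHom.comp_apply, hα2, AlgHom.comp_apply]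
    exact h1
  have h82 : αt4.comp βt4 = AlgHom.id R _ := by
    apply algHom_ext_away
    intro x'
    rw [AlgHom.comp_apply, hβt4, lift1_alg, AlgHom.id_apply, hβ4, AlgHom.comp_apply]
    have hcomm : αt4.comp (rho (R := R) g3 (g3 * a4) hd34) = αt3 := by
      apply algHom_ext_away
      intro x
      rw [AlgHom.comp_apply, rho_alg, hαt4, hαt3, lift1_alg, lift1_alg]
    have h1 := AlgHom.congr_fun hcomm (β3 x')
    rw [AlgHom.comp_apply, star2] at h1
    exact h1
  exact ⟨g3 * a4, g3', hg4, hg3', ⟨AlgEquiv.ofAlgHom αt4 βt4 h82 h81⟩⟩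

end Groth.Agent.H3Sp
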