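import Mathlib
import Groth.Agent.Lib.helper3.SpC
import Groth.Agent.Lib.helper3.LzB

namespace Groth.Agent.H3Sp

universe u

/-- product decomposition from a surjection whose kernel is cut out by an idempotent -/
theorem algEquiv_of_idem {Rf Sf : Type u} [CommRing Rf] [CommRing Sf] [Algebra Rf Sf]
    (π : Sf →+* Rf) (hπ : ∀ r : Rf, π (algebraMap Rf Sf r) = r)
    (e : Sf) (hee : e * e = e) (he : ∀ x, x ∈ RingHom.ker π ↔ e * x = 0) :
    ∃ (C : Type u) (_ : CommRing C) (_ : Algebra Rf C), Nonempty (Sf ≃ₐ[Rf] (Rf × C)) := by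
  have hsurj : Function.Surjective π := fun r => ⟨_, hπ r⟩
  have h1e : π (1 - e) = 0 := by
    have : (1 - e) ∈ RingHom.ker π := by
      rw [he]
      calc e * (1 - e) = e - e * e := by ring
        _ = 0 := by rw [hee]; ring
    exact this
  have he1 : π e = 1 := by
    have : π (1 - e) = 1 - π e := by simp
    rw [this] at h1e
    exact (sub_eq_zero.1 h1e).symm
  let φ : Sf →ₐ[Rf] Rf × (Sf ⧸ Ideal.span {e}) :=
    { toRingHom := RingHom.prod π (Ideal.Quotient.mk (Ideal.span {e}))
      commutes' := fun r => by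
        refine Prod.ext ?_ ?_
        · exact hπ r
        · rfl }
  have hφ1 : ∀ x, (φ x).1 = π x := fun x => rfl
  have hφ2 : ∀ x, (φ x).2 = Ideal.Quotient.mk (Ideal.span {e}) x := fun x => rfl
  have hinj : Function.Injective φ := by
    rw [injective_iff_map_eq_zero]
    intro x hx
    have hx1 : π x = 0 := by rw [← hφ1, hx]; rfl
    have hx2 : Ideal.Quotient.mk (Ideal.span {e}) x = 0 := by rw [← hφ2, hx]; rfl
    rw [Ideal.Quotient.eq_zero_iff_mem, Ideal.mem_span_singleton'] at hx2
    obtain ⟨r, rfl⟩ := hx2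
    have : e * (r * e) = 0 := (he _).1 hx1
    calc r * e = r * (e * e) := by rw [hee]
      _ = e * (r * e) := by ring
      _ = 0 := this
  have hsur : Function.Surjective φ := by
    rintro ⟨a, c⟩
    obtain ⟨x, rfl⟩ := hsurj a
    obtain ⟨r, rfl⟩ := Ideal.Quotient.mk_surjective c
    refine ⟨e * x + (1 - e) * r, ?_⟩
    refine Prod.ext ?_ ?_
    · rw [hφ1, map_add, map_mul, map_mul, h1e, he1]; ring
    · rw [hφ2]
      change _ = Ideal.Quotient.mk _ r
      rw [Ideal.Quotient.eq, Ideal.mem_span_singleton']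
      exact ⟨x - r, by ring⟩
  exact ⟨Sf ⧸ Ideal.span {e}, inferInstance, inferInstance,
    ⟨AlgEquiv.ofBijective φ ⟨hinj, hsur⟩⟩⟩

theorem main2146 {R S : Type u} [CommRing R] [CommRing S] [Algebra R S]
    [Algebra.FinitePresentation R S] (q : Ideal S) [q.IsPrime] (p : Ideal R) [p.IsPrime] [q.LiesOver p]
    (h : Function.Bijective (Localization.localRingHom p q (algebraMap R S) (q.over_def p))) :
    ∃ f : R, f ∉ p ∧ ∀ (Rf Sf : Type u) [CommRing Rf] [CommRing Sf] [Algebra R Rf] [IsLocalization.Away f Rf]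
      [Algebra S Sf] [IsLocalization.Away (algebraMap R S f) Sf] [Algebra Rf Sf] [Algebra R Sf] [IsScalarTower R S Sf]
      [IsScalarTower R Rf Sf],
      ∃ (C : Type u) (_ : CommRing C) (_ : Algebra Rf C), Nonempty (Sf ≃ₐ[Rf] (Rf × C)) := by
  -- the iso of local rings as an `R`-algebra iso
  let l : Localization.AtPrime p →ₐ[R] Localization.AtPrime q :=
    { toRingHom := Localization.localRingHom p q (algebraMap R S) (q.over_def p)
      commutes' := fun r => by
        change Localization.localRingHom p q (algebraMap R S) (q.over_def p)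
          (algebraMap R (Localization.AtPrime p) r) = _
        rw [Localization.localRingHom_to_map, ← IsScalarTower.algebraMap_apply] }
  let e : Localization.AtPrime q ≃ₐ[R] Localization.AtPrime p := (AlgEquiv.ofBijective l h).symm
  obtain ⟨g, f, hg, hf, ⟨E⟩⟩ := main2145 (R := R) (S := S) (S' := R) q p e
  refine ⟨f, hf, ?_⟩
  intro Rf Sf _ _ _ _ _ _ _ _ _ _
  let θ : Localization.Away f ≃ₐ[R] Rf := IsLocalization.algEquiv (Submonoid.powers f) _ _
  let ψ : S →ₐ[R] Rf := (θ.toAlgHom.comp E.toAlgHom).comp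
    (IsScalarTower.toAlgHom R S (Localization.Away g))
  have hψ : ∀ s, ψ s = θ (E (algebraMap S (Localization.Away g) s)) := fun s => rfl
  have hunit : IsUnit (ψ.toRingHom (algebraMap R S f)) := by
    change IsUnit (ψ (algebraMap R S f))
    rw [ψ.commutes]
    exact IsLocalization.Away.algebraMap_isUnit f
  set π : Sf →+* Rf := IsLocalization.Away.lift (algebraMap R S f) hunit with hπdef
  have hπalg : ∀ s : S, π (algebraMap S Sf s) = ψ s := fun s =>
    IsLocalization.Away.lift_eq (algebraMap R S f) hunit s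
  have hπ : ∀ r : Rf, π (algebraMap Rf Sf r) = r := by
    have : π.comp (algebraMap Rf Sf) = RingHom.id Rf := by
      apply IsLocalization.ringHom_ext (Submonoid.powers f)
      ext r
      rw [RingHom.comp_apply, RingHom.comp_apply, ← IsScalarTower.algebraMap_apply R Rf Sf,
        IsScalarTower.algebraMap_apply R S Sf, hπalg, ψ.commutes]
      rfl
    exact fun r => RingHom.congr_fun this r
  have hsurj : Function.Surjective π := fun r => ⟨_, hπ r⟩
  set γ : Sf := algebraMap S Sf g with hγ
  have hπγ : IsUnit (π γ) := by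
    rw [hγ, hπalg, hψ]
    exact ((IsLocalization.Away.algebraMap_isUnit (S := Localization.Away g) g).map E).map θ
  have hfunit : IsUnit (algebraMap S Sf (algebraMap R S f)) :=
    IsLocalization.Away.algebraMap_isUnit _
  have hker : ∀ x, x ∈ RingHom.ker π ↔ ∃ s ∈ Submonoid.powers γ, s * x = 0 := by
    intro x
    constructor
    · intro hx
      obtain ⟨k, s, hxs⟩ := IsLocalization.Away.surj (algebraMap R S f) x
      have h1 := congrArg π hxs
      rw [map_mul, (RingHom.mem_ker).1 hx, zero_mul, hπalg, hψ] at h1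
      have h2 : algebraMap S (Localization.Away g) s = 0 := by
        have h3 : E (algebraMap S (Localization.Away g) s) = 0 :=
          θ.injective (h1.symm.trans (map_zero θ).symm)
        exact E.injective (h3.trans (map_zero E).symm)
      obtain ⟨⟨_, m, rfl⟩, hm⟩ := (IsLocalization.map_eq_zero_iff (Submonoid.powers g) _ s).1 h2
      refine ⟨γ ^ m, ⟨m, rfl⟩, ?_⟩
      have h4 : γ ^ m * x * algebraMap S Sf (algebraMap R S f) ^ k = 0 := by
        rw [mul_assoc, hxs, hγ, ← map_pow, ← map_mul, hm, map_zero]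
      exact ((hfunit.pow k).mul_left_eq_zero).1 h4
    · rintro ⟨_, ⟨m, rfl⟩, hm⟩
      rw [RingHom.mem_ker]
      have := congrArg π hm
      rw [map_mul, map_pow, map_zero] at this
      exact ((hπγ.pow m).mul_right_eq_zero).1 this
  have hb : ∀ s ∈ Submonoid.powers γ, ∃ c, 1 - c * s ∈ RingHom.ker π := by
    rintro _ ⟨m, rfl⟩
    obtain ⟨u, hu⟩ := hπγ.pow m
    obtain ⟨c, hc⟩ := hsurj ↑u⁻¹
    refine ⟨c, ?_⟩
    rw [RingHom.mem_ker, map_sub, map_one, map_mul, hc, map_pow, ← hu, Units.inv_mul, sub_self]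
  have hc := Groth.Agent.H3Lz.hc_fg (Submonoid.powers γ) (RingHom.ker π) hker hb
    (Submonoid.powers_fg γ)
  obtain ⟨ε, hεε, hε⟩ := Groth.Agent.H3Lz.idem_of (RingHom.ker π) (Submonoid.powers γ) hker hb hc
  exact algEquiv_of_idem π hπ ε hεε hε

end Groth.Agent.H3Sp
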