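import Mathlib

namespace Groth.Agent.H3Sq

universe u

theorem field_sq_cube {K : Type*} [Field K] {a b : K} (h2 : a ^ 2 = b ^ 2) (h3 : a ^ 3 = b ^ 3) :
    a = b := by
  by_cases ha : a = 0
  · subst ha
    have h0 : b ^ 2 = 0 := by rw [← h2]; ring
    exact ((pow_eq_zero_iff two_ne_zero).mp h0).symm
  · have hb : b ≠ 0 := by
      intro hb
      subst hb
      apply ha
      have h0 : a ^ 2 = 0 := by rw [h2]; ring
      exact (pow_eq_zero_iff two_ne_zero).mp h0
    have h4 : a * a ^ 2 = b * b ^ 2 := by
      have e1 : a * a ^ 2 = a ^ 3 := by ring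
      have e2 : b * b ^ 2 = b ^ 3 := by ring
      rw [e1, e2, h3]
    rw [h2] at h4
    exact mul_right_cancel₀ (pow_ne_zero 2 hb) h4

variable {R S : Type u} [CommRing R] [CommRing S] [Algebra R S]

theorem isIntegral_of_gen
    (hgen : Algebra.adjoin R {x : S | x ^ 2 ∈ Set.range (algebraMap R S) ∧
      x ^ 3 ∈ Set.range (algebraMap R S)} = ⊤) : Algebra.IsIntegral R S := by
  refine ⟨fun s => ?_⟩
  have hle : Algebra.adjoin R {x : S | x ^ 2 ∈ Set.range (algebraMap R S) ∧
      x ^ 3 ∈ Set.range (algebraMap R S)} ≤ integralClosure R S := by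
    apply Algebra.adjoin_le
    rintro x ⟨⟨r, hr⟩, -⟩
    have h1 : IsIntegral R (x ^ 2) := hr ▸ isIntegral_algebraMap
    exact IsIntegral.of_pow (by norm_num) h1
  have hs : s ∈ Algebra.adjoin R {x : S | x ^ 2 ∈ Set.range (algebraMap R S) ∧
      x ^ 3 ∈ Set.range (algebraMap R S)} := by
    rw [hgen]
    exact Algebra.mem_top
  exact hle hs

theorem res_surj
    (hgen : Algebra.adjoin R {x : S | x ^ 2 ∈ Set.range (algebraMap R S) ∧
      x ^ 3 ∈ Set.range (algebraMap R S)} = ⊤)
    (q : Ideal S) [q.IsPrime] (p : Ideal R) [p.IsPrime] (h : p = q.comap (algebraMap R S)) :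
    Function.Surjective (Ideal.ResidueField.map p q (algebraMap R S) h) := by
  have himg : ∀ s : S, algebraMap S q.ResidueField s ∈
      (Ideal.ResidueField.map p q (algebraMap R S) h).fieldRange := by
    intro s
    have hs : s ∈ Algebra.adjoin R {x : S | x ^ 2 ∈ Set.range (algebraMap R S) ∧
        x ^ 3 ∈ Set.range (algebraMap R S)} := by
      rw [hgen]
      exact Algebra.mem_top
    induction hs using Algebra.adjoin_induction with
    | mem x hx =>
      obtain ⟨⟨r2, hr2⟩, ⟨r3, hr3⟩⟩ := hx
      by_cases h0 : algebraMap S q.ResidueField x = 0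
      · rw [h0]
        exact zero_mem _
      · have e2 : (algebraMap S q.ResidueField x) ^ 2 =
            Ideal.ResidueField.map p q (algebraMap R S) h (algebraMap R p.ResidueField r2) := by
          rw [Ideal.ResidueField.map_algebraMap, hr2, map_pow]
        have e3 : (algebraMap S q.ResidueField x) ^ 3 =
            Ideal.ResidueField.map p q (algebraMap R S) h (algebraMap R p.ResidueField r3) := by
          rw [Ideal.ResidueField.map_algebraMap, hr3, map_pow]
        have e4 : algebraMap S q.ResidueField x =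
            Ideal.ResidueField.map p q (algebraMap R S) h (algebraMap R p.ResidueField r3) /
            Ideal.ResidueField.map p q (algebraMap R S) h (algebraMap R p.ResidueField r2) := by
          rw [← e2, ← e3]
          field_simp
        rw [e4]
        exact div_mem ⟨_, rfl⟩ ⟨_, rfl⟩
    | algebraMap r =>
      refine ⟨algebraMap R p.ResidueField r, ?_⟩
      rw [Ideal.ResidueField.map_algebraMap]
    | add x y _ _ hx hy =>
      rw [map_add]
      exact add_mem hx hy
    | mul x y _ _ hx hy =>
      rw [map_mul]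
      exact mul_mem hx hy
  intro z
  obtain ⟨a, b, -, rfl⟩ := IsFractionRing.div_surjective (A := S ⧸ q) z
  obtain ⟨a0, rfl⟩ := Ideal.Quotient.mk_surjective a
  obtain ⟨b0, rfl⟩ := Ideal.Quotient.mk_surjective b
  have ha : algebraMap (S ⧸ q) q.ResidueField (Ideal.Quotient.mk q a0) =
      algebraMap S q.ResidueField a0 :=
    (IsScalarTower.algebraMap_apply S (S ⧸ q) q.ResidueField a0).symm
  have hb : algebraMap (S ⧸ q) q.ResidueField (Ideal.Quotient.mk q b0) =
      algebraMap S q.ResidueField b0 :=
    (IsScalarTower.algebraMap_apply S (S ⧸ q) q.ResidueField b0).symm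
  rw [ha, hb]
  exact RingHom.mem_fieldRange.mp (div_mem (himg a0) (himg b0))

theorem comap_inj
    (hgen : Algebra.adjoin R {x : S | x ^ 2 ∈ Set.range (algebraMap R S) ∧
      x ^ 3 ∈ Set.range (algebraMap R S)} = ⊤)
    (q q' : PrimeSpectrum S)
    (h : PrimeSpectrum.comap (algebraMap R S) q = PrimeSpectrum.comap (algebraMap R S) q') :
    q = q' := by
  have hp' : q.asIdeal.comap (algebraMap R S) = q'.asIdeal.comap (algebraMap R S) :=
    congrArg PrimeSpectrum.asIdeal h
  let e : (q.asIdeal.comap (algebraMap R S)).ResidueField ≃+* q.asIdeal.ResidueField :=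
    RingEquiv.ofBijective (Ideal.ResidueField.map _ q.asIdeal (algebraMap R S) rfl)
      ⟨RingHom.injective _, res_surj hgen _ _ rfl⟩
  let e' : (q.asIdeal.comap (algebraMap R S)).ResidueField ≃+* q'.asIdeal.ResidueField :=
    RingEquiv.ofBijective (Ideal.ResidueField.map _ q'.asIdeal (algebraMap R S) hp')
      ⟨RingHom.injective _, res_surj hgen _ _ hp'⟩
  let ψ : S →ₐ[R] (q.asIdeal.comap (algebraMap R S)).ResidueField :=
    { toRingHom := e.symm.toRingHom.comp (algebraMap S q.asIdeal.ResidueField)
      commutes' := by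
        intro r
        change e.symm (algebraMap S q.asIdeal.ResidueField (algebraMap R S r)) = _
        rw [RingEquiv.symm_apply_eq]
        exact (Ideal.ResidueField.map_algebraMap _ q.asIdeal (algebraMap R S) rfl r).symm }
  let ψ' : S →ₐ[R] (q.asIdeal.comap (algebraMap R S)).ResidueField :=
    { toRingHom := e'.symm.toRingHom.comp (algebraMap S q'.asIdeal.ResidueField)
      commutes' := by
        intro r
        change e'.symm (algebraMap S q'.asIdeal.ResidueField (algebraMap R S r)) = _
        rw [RingEquiv.symm_apply_eq]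
        exact (Ideal.ResidueField.map_algebraMap _ q'.asIdeal (algebraMap R S) hp' r).symm }
  have hψ : ψ = ψ' := by
    apply AlgHom.ext_of_adjoin_eq_top hgen
    rintro x ⟨⟨r2, hr2⟩, ⟨r3, hr3⟩⟩
    apply field_sq_cube
    · rw [← map_pow, ← map_pow, ← hr2, AlgHom.commutes, AlgHom.commutes]
    · rw [← map_pow, ← map_pow, ← hr3, AlgHom.commutes, AlgHom.commutes]
  apply PrimeSpectrum.ext
  ext s
  have h1 : s ∈ q.asIdeal ↔ ψ s = 0 := by
    change _ ↔ e.symm (algebraMap S q.asIdeal.ResidueField s) = 0
    rw [map_eq_zero_iff _ e.symm.injective, Ideal.algebraMap_residueField_eq_zero]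
  have h2 : s ∈ q'.asIdeal ↔ ψ' s = 0 := by
    change _ ↔ e'.symm (algebraMap S q'.asIdeal.ResidueField s) = 0
    rw [map_eq_zero_iff _ e'.symm.injective, Ideal.algebraMap_residueField_eq_zero]
  rw [h1, h2, hψ]

theorem main9606
    (hgen : Algebra.adjoin R {x : S | x ^ 2 ∈ Set.range (algebraMap R S) ∧
      x ^ 3 ∈ Set.range (algebraMap R S)} = ⊤)
    (hker : ∀ r : R, algebraMap R S r = 0 → IsNilpotent r) :
    IsHomeomorph (PrimeSpectrum.comap (algebraMap R S)) ∧
      ∀ (q : Ideal S) [q.IsPrime], Function.Bijective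
        (Ideal.ResidueField.map (q.comap (algebraMap R S)) q (algebraMap R S) rfl) := by
  haveI := isIntegral_of_gen hgen
  refine ⟨?_, fun q _ => ⟨RingHom.injective _, res_surj hgen q _ rfl⟩⟩
  rw [isHomeomorph_iff_continuous_isClosedMap_bijective]
  refine ⟨PrimeSpectrum.continuous_comap _,
    PrimeSpectrum.isClosedMap_comap_of_isIntegral _ (algebraMap_isIntegral_iff.mpr inferInstance),
    fun q q' h => comap_inj hgen q q' h, ?_⟩
  intro p
  have hle : (⊥ : Ideal S).comap (algebraMap R S) ≤ p.asIdeal := by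
    intro r hr
    have h0 : algebraMap R S r = 0 := hr
    obtain ⟨n, hn⟩ := hker r h0
    exact p.2.mem_of_pow_mem n (hn ▸ zero_mem _)
  obtain ⟨Q, -, hQ, hQp⟩ := Ideal.exists_ideal_over_prime_of_isIntegral p.asIdeal (⊥ : Ideal S) hle
  exact ⟨⟨Q, hQ⟩, PrimeSpectrum.ext hQp⟩

end Groth.Agent.H3Sq
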