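import Mathlib

open Polynomial

namespace Groth.Agent.H3Sq

universe u

theorem pi_of_gen {F E : Type*} [Field F] [Field E] [Algebra F E] {S : Type*} [CommRing S]
    (g : S →+* E) (hfrac : ∀ z : E, ∃ a b : S, z = g a / g b)
    (hmem : ∀ s : S, g s ∈ perfectClosure F E) : IsPurelyInseparable F E := by
  rw [isPurelyInseparable_iff_perfectClosure_eq_top]
  apply top_unique
  intro z _
  obtain ⟨a, b, rfl⟩ := hfrac z
  exact div_mem (hmem a) (hmem b)

theorem mem_pc_of_pow {F E : Type*} [Field F] [Field E] [Algebra F E] (a : E) (n : ℕ)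
    (hn : 0 < n) (P : F[X]) (hP : P.map (algebraMap F E) = (X - C a) ^ n) :
    a ∈ perfectClosure F E := by
  rw [mem_perfectClosure_iff_natSepDegree_eq_one]
  have hP0 : P ≠ 0 := by
    intro h
    rw [h, Polynomial.map_zero] at hP
    exact (pow_ne_zero n (X_sub_C_ne_zero a)) hP.symm
  have hroot : aeval a P = 0 := by
    rw [aeval_def, ← eval_map, hP]
    simp [hn.ne']
  have hdvd : minpoly F a ∣ P := minpoly.dvd F a hroot
  have h1 : P.natSepDegree = 1 := by
    rw [← natSepDegree_map (f := P) (i := algebraMap F E), hP, natSepDegree_X_sub_C_pow, if_neg hn.ne']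
  have hle : (minpoly F a).natSepDegree ≤ 1 := h1 ▸ natSepDegree_le_of_dvd _ _ hdvd hP0
  have halg : IsAlgebraic F a := ⟨P, hP0, hroot⟩
  have hge : (minpoly F a).natSepDegree ≠ 0 := by
    rw [natSepDegree_ne_zero_iff]
    exact (minpoly.natDegree_pos halg.isIntegral).ne'
  omega

variable {R S : Type u} [CommRing R] [CommRing S] [Algebra R S]

theorem gen_integral [Nontrivial S] (x : S) (n : ℕ) (P : R[X]) (hn : 0 < n)
    (hP : P.map (algebraMap R S) = (X - C x) ^ n) : IsIntegral R x := by
  obtain ⟨P', hP'map, -, hP'monic⟩ :=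
    lifts_and_natDegree_eq_and_monic (f := algebraMap R S) (p := (X - C x) ^ n)
      ((mem_lifts _).mpr ⟨P, hP⟩) ((monic_X_sub_C x).pow n)
  refine ⟨P', hP'monic, ?_⟩
  rw [← eval_map, hP'map]
  simp [hn.ne']

theorem isIntegral_of_gen2 (G : Set S) (hG : Algebra.adjoin R G = ⊤)
    (hpow : ∀ x ∈ G, ∃ (n : ℕ) (P : Polynomial R), 0 < n ∧
      Polynomial.map (algebraMap R S) P = (Polynomial.X - Polynomial.C x) ^ n) :
    Algebra.IsIntegral R S := by
  rcases subsingleton_or_nontrivial S with hS | hS
  · exact ⟨fun s => by rw [Subsingleton.elim s 0]; exact isIntegral_zero⟩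
  refine ⟨fun s => ?_⟩
  have hle : Algebra.adjoin R G ≤ integralClosure R S := by
    apply Algebra.adjoin_le
    intro x hx
    obtain ⟨n, P, hn, hP⟩ := hpow x hx
    exact gen_integral x n P hn hP
  have hs : s ∈ Algebra.adjoin R G := by
    rw [hG]
    exact Algebra.mem_top
  exact hle hs

theorem res_pi (G : Set S) (hG : Algebra.adjoin R G = ⊤)
    (hpow : ∀ x ∈ G, ∃ (n : ℕ) (P : Polynomial R), 0 < n ∧
      Polynomial.map (algebraMap R S) P = (Polynomial.X - Polynomial.C x) ^ n)
    (q : Ideal S) [q.IsPrime] (p : Ideal R) [p.IsPrime] (h : p = q.comap (algebraMap R S)) :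
    @IsPurelyInseparable p.ResidueField q.ResidueField _ _
      (Ideal.ResidueField.map p q (algebraMap R S) h).toAlgebra := by
  letI : Algebra p.ResidueField q.ResidueField :=
    (Ideal.ResidueField.map p q (algebraMap R S) h).toAlgebra
  have hcomp : (algebraMap p.ResidueField q.ResidueField).comp (algebraMap R p.ResidueField) =
      (algebraMap S q.ResidueField).comp (algebraMap R S) := by
    ext r
    exact Ideal.ResidueField.map_algebraMap p q (algebraMap R S) h r
  apply pi_of_gen (algebraMap S q.ResidueField)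
  · intro z
    obtain ⟨a, b, -, rfl⟩ := IsFractionRing.div_surjective (A := S ⧸ q) z
    obtain ⟨a0, rfl⟩ := Ideal.Quotient.mk_surjective a
    obtain ⟨b0, rfl⟩ := Ideal.Quotient.mk_surjective b
    refine ⟨a0, b0, ?_⟩
    rw [IsScalarTower.algebraMap_apply S (S ⧸ q) q.ResidueField a0,
      IsScalarTower.algebraMap_apply S (S ⧸ q) q.ResidueField b0]
    rfl
  · intro s
    have hs : s ∈ Algebra.adjoin R G := by
      rw [hG]
      exact Algebra.mem_top
    induction hs using Algebra.adjoin_induction with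
    | mem x hx =>
      obtain ⟨n, P, hn, hP⟩ := hpow x hx
      apply mem_pc_of_pow _ n hn (P.map (algebraMap R p.ResidueField))
      rw [Polynomial.map_map, hcomp, ← Polynomial.map_map, hP, Polynomial.map_pow,
        Polynomial.map_sub, Polynomial.map_X, Polynomial.map_C]
    | algebraMap r =>
      have h2 : algebraMap S q.ResidueField (algebraMap R S r) =
          algebraMap p.ResidueField q.ResidueField (algebraMap R p.ResidueField r) :=
        (RingHom.congr_fun hcomp r).symm
      rw [h2]
      exact algebraMap_mem _ _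
    | add x y _ _ hx hy =>
      rw [map_add]
      exact add_mem hx hy
    | mul x y _ _ hx hy =>
      rw [map_mul]
      exact mul_mem hx hy

theorem comap_inj2 (G : Set S) (hG : Algebra.adjoin R G = ⊤)
    (hpow : ∀ x ∈ G, ∃ (n : ℕ) (P : Polynomial R), 0 < n ∧
      Polynomial.map (algebraMap R S) P = (Polynomial.X - Polynomial.C x) ^ n)
    (q q' : PrimeSpectrum S)
    (h : PrimeSpectrum.comap (algebraMap R S) q = PrimeSpectrum.comap (algebraMap R S) q') :
    q = q' := by
  have hp' : q.asIdeal.comap (algebraMap R S) = q'.asIdeal.comap (algebraMap R S) :=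
    congrArg PrimeSpectrum.asIdeal h
  have key : ∀ (Q : Ideal S) [Q.IsPrime] (hQ : q.asIdeal.comap (algebraMap R S) =
      Q.comap (algebraMap R S)),
      ∃ ψ : S →ₐ[R] AlgebraicClosure (q.asIdeal.comap (algebraMap R S)).ResidueField,
        ∀ s, ψ s = 0 ↔ s ∈ Q := by
    intro Q _ hQ
    letI : Algebra (q.asIdeal.comap (algebraMap R S)).ResidueField Q.ResidueField :=
      (Ideal.ResidueField.map _ Q (algebraMap R S) hQ).toAlgebra
    haveI : IsPurelyInseparable (q.asIdeal.comap (algebraMap R S)).ResidueField Q.ResidueField :=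
      res_pi G hG hpow Q _ hQ
    haveI : Algebra.IsAlgebraic (q.asIdeal.comap (algebraMap R S)).ResidueField Q.ResidueField :=
      inferInstance
    let l : Q.ResidueField →ₐ[(q.asIdeal.comap (algebraMap R S)).ResidueField]
        AlgebraicClosure (q.asIdeal.comap (algebraMap R S)).ResidueField :=
      IsAlgClosed.lift
    refine ⟨{ toRingHom := l.toRingHom.comp (algebraMap S Q.ResidueField)
              commutes' := ?_ }, ?_⟩
    · intro r
      change l (algebraMap S Q.ResidueField (algebraMap R S r)) = _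
      have h2 : algebraMap S Q.ResidueField (algebraMap R S r) =
          algebraMap (q.asIdeal.comap (algebraMap R S)).ResidueField Q.ResidueField
            (algebraMap R _ r) :=
        (Ideal.ResidueField.map_algebraMap _ Q (algebraMap R S) hQ r).symm
      rw [h2, AlgHom.commutes]
      exact (IsScalarTower.algebraMap_apply R _ _ r).symm
    · intro s
      change l (algebraMap S Q.ResidueField s) = 0 ↔ _
      rw [map_eq_zero, Ideal.algebraMap_residueField_eq_zero]
  obtain ⟨ψ, hψ⟩ := key q.asIdeal rfl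
  obtain ⟨ψ', hψ'⟩ := key q'.asIdeal hp'
  have hψe : ψ = ψ' := by
    apply AlgHom.ext_of_adjoin_eq_top hG
    intro x hx
    obtain ⟨n, P, hn, hP⟩ := hpow x hx
    have e1 : (P.map (algebraMap R S)).map ψ.toRingHom = (X - C (ψ x)) ^ n := by
      rw [hP, Polynomial.map_pow, Polynomial.map_sub, Polynomial.map_X, Polynomial.map_C]
      rfl
    have e2 : (P.map (algebraMap R S)).map ψ'.toRingHom = (X - C (ψ' x)) ^ n := by
      rw [hP, Polynomial.map_pow, Polynomial.map_sub, Polynomial.map_X, Polynomial.map_C]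
      rfl
    have e3 : (P.map (algebraMap R S)).map ψ.toRingHom =
        (P.map (algebraMap R S)).map ψ'.toRingHom := by
      rw [Polynomial.map_map, Polynomial.map_map]
      congr 1
      ext r
      change ψ (algebraMap R S r) = ψ' (algebraMap R S r)
      rw [AlgHom.commutes, AlgHom.commutes]
    rw [e1, e2] at e3
    have e4 := congrArg (Polynomial.eval (ψ x)) e3
    simp only [eval_pow, eval_sub, eval_X, eval_C, sub_self, zero_pow hn.ne'] at e4
    have e5 : ψ x - ψ' x = 0 := (pow_eq_zero_iff hn.ne').mp e4.symm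
    exact sub_eq_zero.mp e5
  apply PrimeSpectrum.ext
  ext s
  rw [← hψ s, ← hψ' s, hψe]

theorem main2161 (hker : ∀ r : R, algebraMap R S r = 0 → IsNilpotent r) (G : Set S)
    (hG : Algebra.adjoin R G = ⊤)
    (hpow : ∀ x ∈ G, ∃ (n : ℕ) (P : Polynomial R), 0 < n ∧
      Polynomial.map (algebraMap R S) P = (Polynomial.X - Polynomial.C x) ^ n) :
    IsHomeomorph (PrimeSpectrum.comap (algebraMap R S)) ∧
      ∀ (q : Ideal S) [q.IsPrime] (p : Ideal R) [p.IsPrime] [q.LiesOver p],
        @IsPurelyInseparable p.ResidueField q.ResidueField _ _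
          (Ideal.ResidueField.mapₐ p q (Algebra.ofId R S) (q.over_def p)).toRingHom.toAlgebra := by
  haveI := isIntegral_of_gen2 G hG hpow
  refine ⟨?_, fun q _ p _ _ => res_pi G hG hpow q p (q.over_def p)⟩
  rw [isHomeomorph_iff_continuous_isClosedMap_bijective]
  refine ⟨PrimeSpectrum.continuous_comap _,
    PrimeSpectrum.isClosedMap_comap_of_isIntegral _ (algebraMap_isIntegral_iff.mpr inferInstance),
    fun q q' h => comap_inj2 G hG hpow q q' h, ?_⟩
  intro p
  have hle : (⊥ : Ideal S).comap (algebraMap R S) ≤ p.asIdeal := by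
    intro r hr
    have h0 : algebraMap R S r = 0 := hr
    obtain ⟨n, hn⟩ := hker r h0
    exact p.2.mem_of_pow_mem n (hn ▸ zero_mem _)
  obtain ⟨Q, -, hQ, hQp⟩ := Ideal.exists_ideal_over_prime_of_isIntegral p.asIdeal (⊥ : Ideal S) hle
  exact ⟨⟨Q, hQ⟩, PrimeSpectrum.ext hQp⟩

end Groth.Agent.H3Sq
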