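import Mathlib

namespace Groth.Agent.H3Ss

universe u

variable (R : Type u) [CommRing R] (M : Type u) [AddCommGroup M] [Module R M]
  (x : Ideal R)

/-- the submodule of elements all of whose linear forms lie in `x` -/
def T : Submodule R M where
  carrier := {m : M | ∀ φ : M →ₗ[R] R, φ m ∈ x}
  add_mem' := fun ha hb φ => by rw [map_add]; exact x.add_mem (ha φ) (hb φ)
  zero_mem' := fun φ => by rw [map_zero]; exact x.zero_mem
  smul_mem' := fun c m hm φ => by rw [map_smul]; exact x.mul_mem_left c (hm φ)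

theorem smul_top_le_T : (x • ⊤ : Submodule R M) ≤ T R M x := by
  rw [Submodule.smul_le]
  intro a ha m _ φ
  rw [map_smul, smul_eq_mul]
  exact x.mul_mem_right _ ha

theorem mem_Bx (m : M) :
    (x • ⊤ : Submodule R M).mkQ m ∈
      Submodule.span (R ⧸ x) ((x • ⊤ : Submodule R M).mkQ '' {m : M | ∀ φ : M →ₗ[R] R, φ m ∈ x}) ↔
      ∀ φ : M →ₗ[R] R, φ m ∈ x := by
  constructor
  · intro h
    have key : ∀ y ∈ Submodule.span (R ⧸ x)
        ((x • ⊤ : Submodule R M).mkQ '' {m : M | ∀ φ : M →ₗ[R] R, φ m ∈ x}),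
        ∃ t ∈ T R M x, (x • ⊤ : Submodule R M).mkQ t = y := by
      intro y hy
      induction hy using Submodule.span_induction with
      | mem y hy =>
        obtain ⟨t, ht, rfl⟩ := hy
        exact ⟨t, ht, rfl⟩
      | zero => exact ⟨0, (T R M x).zero_mem, map_zero _⟩
      | add a b _ _ iha ihb =>
        obtain ⟨t1, ht1, rfl⟩ := iha
        obtain ⟨t2, ht2, rfl⟩ := ihb
        exact ⟨t1 + t2, (T R M x).add_mem ht1 ht2, map_add _ _ _⟩
      | smul c a _ iha =>
        obtain ⟨t, ht, rfl⟩ := iha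
        obtain ⟨c, rfl⟩ := Ideal.Quotient.mk_surjective c
        exact ⟨c • t, (T R M x).smul_mem c ht, rfl⟩
    obtain ⟨t, ht, hte⟩ := key _ h
    have hsub : t - m ∈ (x • ⊤ : Submodule R M) := by
      rw [← Submodule.Quotient.mk_eq_zero, Submodule.Quotient.mk_sub]
      exact sub_eq_zero.2 hte
    have hmT : m ∈ T R M x := by
      have : m = t - (t - m) := by abel
      rw [this]
      exact (T R M x).sub_mem ht (smul_top_le_T R M x hsub)
    exact hmT
  · intro h
    exact Submodule.subset_span ⟨m, h, rfl⟩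



theorem li_iff (r : ℕ) (s : Fin r → M) :
    LinearIndependent (R ⧸ x) (fun i =>
      (Submodule.span (R ⧸ x)
        ((x • ⊤ : Submodule R M).mkQ '' {m : M | ∀ φ : M →ₗ[R] R, φ m ∈ x})).mkQ
          ((x • ⊤ : Submodule R M).mkQ (s i))) ↔
      ∀ a : Fin r → R, (∀ φ : M →ₗ[R] R, ∑ i, a i * φ (s i) ∈ x) → ∀ i, a i ∈ x := by
  rw [Fintype.linearIndependent_iff]
  have hsum : ∀ a : Fin r → R,
      (∑ i, Ideal.Quotient.mk x (a i) • (Submodule.span (R ⧸ x)
        ((x • ⊤ : Submodule R M).mkQ '' {m : M | ∀ φ : M →ₗ[R] R, φ m ∈ x})).mkQ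
          ((x • ⊤ : Submodule R M).mkQ (s i))) =
      (Submodule.span (R ⧸ x)
        ((x • ⊤ : Submodule R M).mkQ '' {m : M | ∀ φ : M →ₗ[R] R, φ m ∈ x})).mkQ
          ((x • ⊤ : Submodule R M).mkQ (∑ i, a i • s i)) := by
    intro a
    rw [map_sum, map_sum]
    refine Finset.sum_congr rfl fun i _ => ?_
    rw [← map_smul]
    rfl
  have hzero : ∀ a : Fin r → R,
      (∑ i, Ideal.Quotient.mk x (a i) • (Submodule.span (R ⧸ x)
        ((x • ⊤ : Submodule R M).mkQ '' {m : M | ∀ φ : M →ₗ[R] R, φ m ∈ x})).mkQ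
          ((x • ⊤ : Submodule R M).mkQ (s i))) = 0 ↔
      ∀ φ : M →ₗ[R] R, ∑ i, a i * φ (s i) ∈ x := by
    intro a
    rw [hsum, Submodule.mkQ_apply, Submodule.Quotient.mk_eq_zero, mem_Bx]
    refine forall_congr' fun φ => ?_
    rw [map_sum]
    simp only [map_smul, smul_eq_mul]
  constructor
  · intro h a ha i
    have h1 := h (fun i => Ideal.Quotient.mk x (a i)) ((hzero a).2 ha) i
    exact Ideal.Quotient.eq_zero_iff_mem.1 h1
  · intro h c hc i
    obtain ⟨a, rfl⟩ : ∃ a : Fin r → R, c = fun i => Ideal.Quotient.mk x (a i) := by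
      choose a ha using fun i => Ideal.Quotient.mk_surjective (c i)
      exact ⟨a, funext fun i => (ha i).symm⟩
    exact Ideal.Quotient.eq_zero_iff_mem.2 (h a ((hzero a).1 hc) i)

end Groth.Agent.H3Ss
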