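import Mathlib
import Groth.Agent.Lib.helper3.SsA

namespace Groth.Agent.H3Ss

universe u

variable (R : Type u) [CommRing R] (M : Type u) [AddCommGroup M] [Module R M]
  (x : Ideal R)

theorem fwd [Module.FinitePresentation R M] [x.IsPrime] (r : ℕ) (s : Fin r → M)
    (h : ∃ f : R, f ∉ x ∧
      ∃ g : LocalizedModule (Submonoid.powers f) M →ₗ[Localization.Away f]
          (Fin r → Localization.Away f),
        g ∘ₗ Fintype.linearCombination (Localization.Away f)
            (fun i => LocalizedModule.mkLinearMap (Submonoid.powers f) M (s i)) = LinearMap.id) :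
    ∀ a : Fin r → R, (∀ φ : M →ₗ[R] R, ∑ i, a i * φ (s i) ∈ x) → ∀ i, a i ∈ x := by
  classical
  obtain ⟨f, hfx, g, hg⟩ := h
  intro a ha j
  have hgs : ∀ i, g (LocalizedModule.mkLinearMap (Submonoid.powers f) M (s i)) = Pi.single i 1 := by
    intro i
    have := LinearMap.congr_fun hg (Pi.single i 1)
    rw [LinearMap.comp_apply, Fintype.linearCombination_apply_single, one_smul,
      LinearMap.id_apply] at this
    exact this
  -- the j-th coordinate as an R-linear map M → R_f
  set γ : M →ₗ[R] Localization.Away f :=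
    ((LinearMap.proj j : (Fin r → Localization.Away f) →ₗ[Localization.Away f] _).restrictScalars R)
      ∘ₗ (g.restrictScalars R) ∘ₗ (LocalizedModule.mkLinearMap (Submonoid.powers f) M) with hγ
  have hγs : ∀ i, γ (s i) = (Pi.single i 1 : Fin r → Localization.Away f) j := by
    intro i
    rw [hγ]
    simp only [LinearMap.comp_apply, LinearMap.restrictScalars_apply, LinearMap.proj_apply]
    rw [hgs]
  obtain ⟨φ, t, hφ⟩ := Module.FinitePresentation.exists_lift_of_isLocalizedModule
    (Submonoid.powers f) (Algebra.linearMap R (Localization.Away f)) γ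
  have hφs : ∀ i, algebraMap R (Localization.Away f) (φ (s i)) =
      t • (Pi.single i 1 : Fin r → Localization.Away f) j := by
    intro i
    have := LinearMap.congr_fun hφ (s i)
    rw [LinearMap.comp_apply, Algebra.linearMap_apply, LinearMap.smul_apply, hγs] at this
    exact this
  have hmap : algebraMap R (Localization.Away f) (∑ i, a i * φ (s i)) =
      algebraMap R (Localization.Away f) ((t : R) * a j) := by
    rw [map_sum]
    simp only [map_mul, hφs]
    rw [Finset.sum_eq_single j]
    · rw [Pi.single_eq_same, Submonoid.smul_def, Algebra.smul_def, mul_one, mul_comm]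
    · intro i _ hij
      rw [Pi.single_eq_of_ne hij.symm, smul_zero, mul_zero]
    · intro h; exact absurd (Finset.mem_univ j) h
  obtain ⟨c, hc⟩ := (IsLocalization.eq_iff_exists (Submonoid.powers f) _).1 hmap
  have h1 : (c : R) * ((t : R) * a j) ∈ x := by
    rw [← hc]
    exact x.mul_mem_left _ (ha φ)
  have hpow : ∀ c : Submonoid.powers f, (c : R) ∉ x := by
    rintro ⟨_, n, rfl⟩ hmem
    exact hfx (Ideal.IsPrime.mem_of_pow_mem ‹_› n hmem)
  have h2 := (Ideal.IsPrime.mem_or_mem ‹_› h1).resolve_left (hpow c)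
  exact (Ideal.IsPrime.mem_or_mem ‹_› h2).resolve_left (hpow t)

theorem bwd [x.IsMaximal] (r : ℕ) (s : Fin r → M)
    (h : ∀ a : Fin r → R, (∀ φ : M →ₗ[R] R, ∑ i, a i * φ (s i) ∈ x) → ∀ i, a i ∈ x) :
    ∃ f : R, f ∉ x ∧
      ∃ g : LocalizedModule (Submonoid.powers f) M →ₗ[Localization.Away f]
          (Fin r → Localization.Away f),
        g ∘ₗ Fintype.linearCombination (Localization.Away f)
            (fun i => LocalizedModule.mkLinearMap (Submonoid.powers f) M (s i)) = LinearMap.id := by
  classical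
  letI := Ideal.Quotient.field x
  -- the subspace of residue vectors of linear forms
  let W0 : Submodule (R ⧸ x) (Fin r → R ⧸ x) :=
    { carrier := {w | ∃ φ : M →ₗ[R] R, ∀ i, w i = Ideal.Quotient.mk x (φ (s i))}
      add_mem' := by
        rintro w1 w2 ⟨φ1, h1⟩ ⟨φ2, h2⟩
        exact ⟨φ1 + φ2, fun i => by
          rw [Pi.add_apply, h1, h2, LinearMap.add_apply, map_add]⟩
      zero_mem' := ⟨0, fun i => by simp⟩
      smul_mem' := by
        rintro c w ⟨φ, hφ⟩
        obtain ⟨c, rfl⟩ := Ideal.Quotient.mk_surjective c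
        exact ⟨c • φ, fun i => by
          rw [Pi.smul_apply, hφ, LinearMap.smul_apply, smul_eq_mul, smul_eq_mul, map_mul]⟩ }
  have hW0 : W0 = ⊤ := by
    by_contra hne
    obtain ⟨F, hF0, hFle⟩ := W0.exists_le_ker_of_lt_top (lt_top_iff_ne_top.2 hne)
    choose a ha using fun i : Fin r =>
      Ideal.Quotient.mk_surjective (F (fun j => if i = j then 1 else 0))
    have hall : ∀ φ : M →ₗ[R] R, ∑ i, a i * φ (s i) ∈ x := by
      intro φ
      have hw : (fun i => Ideal.Quotient.mk x (φ (s i))) ∈ W0 := ⟨φ, fun i => rfl⟩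
      have h0 := hFle hw
      rw [LinearMap.mem_ker, LinearMap.pi_apply_eq_sum_univ] at h0
      rw [← Ideal.Quotient.eq_zero_iff_mem, map_sum, ← h0]
      refine Finset.sum_congr rfl fun i _ => ?_
      rw [map_mul, ha, smul_eq_mul, mul_comm]
    have hai := h a hall
    apply hF0
    apply LinearMap.ext
    intro w
    rw [LinearMap.pi_apply_eq_sum_univ, LinearMap.zero_apply]
    refine Finset.sum_eq_zero fun i _ => ?_
    rw [← ha i, Ideal.Quotient.eq_zero_iff_mem.2 (hai i), smul_zero]
  have hφex : ∀ j : Fin r, ∃ φ : M →ₗ[R] R, ∀ i,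
      (Pi.single j 1 : Fin r → R ⧸ x) i = Ideal.Quotient.mk x (φ (s i)) := by
    intro j
    have : (Pi.single j 1 : Fin r → R ⧸ x) ∈ W0 := by rw [hW0]; trivial
    exact this
  choose φ hφ using hφex
  set N : Matrix (Fin r) (Fin r) R := Matrix.of fun j i => φ j (s i) with hN
  have hNmap : N.map (Ideal.Quotient.mk x) = 1 := by
    ext j i
    rw [Matrix.map_apply, hN, Matrix.of_apply, ← hφ j i, Matrix.one_apply, Pi.single_apply]
    by_cases hij : i = j
    · rw [if_pos hij, if_pos hij.symm]
    · rw [if_neg hij, if_neg (Ne.symm hij)]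
  have hdet : N.det ∉ x := by
    intro hmem
    have h1 : Ideal.Quotient.mk x N.det = 1 := by
      rw [RingHom.map_det, RingHom.mapMatrix_apply, hNmap, Matrix.det_one]
    rw [Ideal.Quotient.eq_zero_iff_mem.2 hmem] at h1
    exact zero_ne_one h1
  refine ⟨N.det, hdet, ?_⟩
  set S := Submonoid.powers N.det with hS
  set A := Localization.Away N.det with hA
  set Nd : Matrix (Fin r) (Fin r) A := N.map (algebraMap R A) with hNd
  have hNdunit : IsUnit Nd.det := by
    have : Nd.det = algebraMap R A N.det := by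
      rw [hNd, ← RingHom.mapMatrix_apply, ← RingHom.map_det]
    rw [this]
    exact IsLocalization.Away.algebraMap_isUnit N.det
  -- the map M_d → A^r
  let Φ1 : M →ₗ[R] (Fin r → A) := LinearMap.pi fun j => (Algebra.linearMap R A) ∘ₗ φ j
  have hunits : ∀ c : S, IsUnit (algebraMap R (Module.End R (Fin r → A)) c) := by
    intro c
    have hc : IsUnit (algebraMap R A c) := IsLocalization.map_units A c
    obtain ⟨u, hu⟩ := hc
    rw [Module.End.isUnit_iff]
    constructor
    · intro v w hvw
      have h1 : (c : R) • v = (c : R) • w := hvw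
      have h2 : (↑u⁻¹ : A) • ((c : R) • v) = (↑u⁻¹ : A) • ((c : R) • w) := by rw [h1]
      rw [← algebraMap_smul A (c : R) v, ← algebraMap_smul A (c : R) w, ← hu, smul_smul, smul_smul,
        Units.inv_mul, one_smul, one_smul] at h2
      exact h2
    · intro v
      refine ⟨(↑u⁻¹ : A) • v, ?_⟩
      change (c : R) • ((↑u⁻¹ : A) • v) = v
      rw [← algebraMap_smul A (c : R), ← hu, smul_smul, Units.mul_inv, one_smul]
  let Φ0 : LocalizedModule S M →ₗ[R] (Fin r → A) := LocalizedModule.lift S Φ1 hunits
  let Φ : LocalizedModule S M →ₗ[A] (Fin r → A) := Φ0.extendScalarsOfIsLocalization S A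
  have hΦmk : ∀ m : M, Φ (LocalizedModule.mkLinearMap S M m) = Φ1 m := by
    intro m
    change Φ0 (LocalizedModule.mkLinearMap S M m) = Φ1 m
    exact LocalizedModule.lift_mk_one S Φ1 hunits m
  have hcomp : Φ ∘ₗ Fintype.linearCombination A
      (fun i => LocalizedModule.mkLinearMap S M (s i)) = Matrix.mulVecLin Nd := by
    apply LinearMap.pi_ext'
    intro i
    apply LinearMap.ext_ring
    show (Φ ∘ₗ Fintype.linearCombination A
      (fun i => LocalizedModule.mkLinearMap S M (s i))) (Pi.single i 1) =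
        Matrix.mulVecLin Nd (Pi.single i 1)
    rw [LinearMap.comp_apply, Fintype.linearCombination_apply_single, one_smul, hΦmk,
      Matrix.mulVecLin_apply, Matrix.mulVec_single_one]
    ext j
    rfl
  refine ⟨(Matrix.mulVecLin Nd⁻¹) ∘ₗ Φ, ?_⟩
  rw [LinearMap.comp_assoc, hcomp, ← Matrix.mulVecLin_mul, Matrix.nonsing_inv_mul _ hNdunit,
    Matrix.mulVecLin_one]

end Groth.Agent.H3Ss
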