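import Mathlib

set_option autoImplicit false
universe u v w
open TensorProduct

namespace Groth.Agent.H3Stz

section LemmaS
variable {R : Type u} [CommRing R] {L : Type v} {L' : Type w} [AddCommGroup L] [Module R L]
  [AddCommGroup L'] [Module R L']

theorem prod_equiv_of_coprime (f : L →ₗ[R] R) (g : L' →ₗ[R] R) (hf : Function.Injective f)
    (hg : Function.Injective g) (x₀ : L) (y₀ : L') (h1 : f x₀ + g y₀ = 1) :
    Nonempty ((L × L') ≃ₗ[R] (R × (L ⊗[R] L'))) := by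
  have hfs : ∀ x x' : L, f x • x' = f x' • x := by
    intro x x'
    apply hf
    simp [mul_comm]
  have hgs : ∀ y y' : L', g y • y' = g y' • y := by
    intro y y'
    apply hg
    simp [mul_comm]
  let κ₁ : L ⊗[R] L' →ₗ[R] L := TensorProduct.lift (LinearMap.lsmul R L ∘ₗ g).flip
  let κ₂ : L ⊗[R] L' →ₗ[R] L' := TensorProduct.lift (-(LinearMap.lsmul R L' ∘ₗ f))
  have hκ₁ : ∀ x y, κ₁ (x ⊗ₜ y) = g y • x := fun x y => by simp [κ₁]
  have hκ₂ : ∀ x y, κ₂ (x ⊗ₜ y) = -(f x • y) := fun x y => by simp [κ₂]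
  let Φ : L × L' →ₗ[R] R × (L ⊗[R] L') :=
    (f.coprod g).prod ((TensorProduct.mk R L L').flip y₀ ∘ₗ LinearMap.fst R L L' -
      (TensorProduct.mk R L L' x₀) ∘ₗ LinearMap.snd R L L')
  let Ψ : R × (L ⊗[R] L') →ₗ[R] L × L' :=
    ((LinearMap.toSpanSingleton R L x₀).coprod κ₁).prod
      ((LinearMap.toSpanSingleton R L' y₀).coprod κ₂)
  have hΦ : ∀ x y, Φ (x, y) = (f x + g y, x ⊗ₜ y₀ - x₀ ⊗ₜ y) := fun x y => by
    simp [Φ]
  have hΨ : ∀ r t, Ψ (r, t) = (r • x₀ + κ₁ t, r • y₀ + κ₂ t) := fun r t => by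
    simp [Ψ]
  have h2 : ∀ (r : R) (t : L ⊗[R] L'), Φ (Ψ (r, t)) = (r, t) := by
    intro r t
    induction t using TensorProduct.induction_on generalizing r with
    | zero =>
      rw [hΨ, map_zero, map_zero, add_zero, add_zero, hΦ]
      ext
      · simp only [map_smul, smul_eq_mul]
        rw [← mul_add, h1, mul_one]
      · simp only [TensorProduct.smul_tmul', TensorProduct.tmul_smul, sub_self]
    | tmul x y =>
      rw [hΨ, hκ₁, hκ₂, hΦ]
      ext
      · simp only [map_add, map_smul, map_neg, smul_eq_mul]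
        linear_combination r * h1
      · show (r • x₀ + g y • x) ⊗ₜ[R] y₀ - x₀ ⊗ₜ[R] (r • y₀ + -(f x • y)) = x ⊗ₜ[R] y
        have e1 : (g y • x) ⊗ₜ[R] y₀ = g y₀ • (x ⊗ₜ[R] y) := by
          rw [TensorProduct.smul_tmul, hgs, ← TensorProduct.tmul_smul]
        have e2 : x₀ ⊗ₜ[R] (f x • y) = f x₀ • (x ⊗ₜ[R] y) := by
          rw [← TensorProduct.smul_tmul, hfs, TensorProduct.smul_tmul']
        have e3 : f x₀ • (x ⊗ₜ[R] y) + g y₀ • (x ⊗ₜ[R] y) = x ⊗ₜ[R] y := by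
          rw [← add_smul, h1, one_smul]
        rw [TensorProduct.add_tmul, TensorProduct.tmul_add, TensorProduct.tmul_neg, e1, e2,
          ← TensorProduct.smul_tmul' r, TensorProduct.tmul_smul r]
        have e4 : r • x₀ ⊗ₜ[R] y₀ + g y₀ • x ⊗ₜ[R] y - (r • x₀ ⊗ₜ[R] y₀ + -(f x₀ • x ⊗ₜ[R] y)) =
            f x₀ • (x ⊗ₜ[R] y) + g y₀ • (x ⊗ₜ[R] y) := by abel
        rw [e4, e3]
    | add a b ha hb =>
      have := ha r
      have h0 := hb 0
      have e : ((r, a + b) : R × (L ⊗[R] L')) = (r, a) + (0, b) := by simp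
      rw [e, map_add, map_add, this, h0]
  have h3 : ∀ (x : L) (y : L'), Ψ (Φ (x, y)) = (x, y) := by
    intro x y
    rw [hΦ, hΨ, map_sub, map_sub, hκ₁, hκ₁, hκ₂, hκ₂]
    ext
    · show (f x + g y) • x₀ + (g y₀ • x - g y • x₀) = x
      have e3 : f x₀ • x + g y₀ • x = x := by rw [← add_smul, h1, one_smul]
      rw [add_smul, hfs x x₀]
      have e4 : f x₀ • x + g y • x₀ + (g y₀ • x - g y • x₀) = f x₀ • x + g y₀ • x := by abel
      rw [e4, e3]
    · show (f x + g y) • y₀ + (-(f x • y₀) - -(f x₀ • y)) = y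
      have e3 : f x₀ • y + g y₀ • y = y := by rw [← add_smul, h1, one_smul]
      rw [add_smul, hgs y y₀]
      have e4 : f x • y₀ + g y₀ • y + (-(f x • y₀) - -(f x₀ • y)) = f x₀ • y + g y₀ • y := by abel
      rw [e4, e3]
  exact ⟨LinearEquiv.ofLinearMap Φ Ψ (LinearMap.ext fun ⟨r, t⟩ => h2 r t)
    (LinearMap.ext fun ⟨x, y⟩ => h3 x y)⟩

end LemmaS

end Groth.Agent.H3Stz
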