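import Mathlib
import Groth.Agent.Lib.helper3.StA

set_option autoImplicit false
universe u v w
open TensorProduct

namespace Groth.Agent.H3Stz

theorem equiv_span_mul {R : Type u} [CommRing R] [IsDomain R] (I : Ideal R) (a : R) (ha : a ≠ 0) :
    Nonempty (I ≃ₗ[R] ↥(Ideal.span {a} * I)) := by
  let f : R →ₗ[R] R := LinearMap.mulLeft R a
  have hf : Function.Injective f := mul_right_injective₀ ha
  have h1 : Submodule.map f I = Ideal.span {a} * I := by
    ext x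
    rw [Submodule.mem_map, Ideal.mem_span_singleton_mul]
    rfl
  exact ⟨Submodule.equivMapOfInjective f hf I ≪≫ₗ LinearEquiv.ofEq _ _ h1⟩

theorem exists_coprime_rep {R : Type u} [CommRing R] [IsDedekindDomain R] (I J : Ideal R)
    (hI : I ≠ ⊥) (hJ : J ≠ ⊥) : ∃ K : Ideal R, Nonempty (I ≃ₗ[R] K) ∧ K ⊔ J = ⊤ := by
  obtain ⟨c, hcI, hc⟩ := Submodule.exists_mem_ne_zero_of_ne_bot hI
  obtain ⟨I', hI'⟩ : I ∣ Ideal.span {c} := by
    rw [Ideal.dvd_iff_le, Ideal.span_singleton_le_iff_mem]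
    exact hcI
  have hI'0 : I' ≠ ⊥ := by
    rintro rfl
    rw [Ideal.mul_bot, Ideal.span_singleton_eq_bot] at hI'
    exact hc hI'
  have h0 : I' * J ≠ 0 := mul_ne_zero hI'0 hJ
  obtain ⟨a, ha⟩ := IsDedekindDomain.exists_sup_span_eq (Ideal.mul_le_left : I' * J ≤ I') h0
  obtain ⟨K, hK⟩ : I' ∣ Ideal.span {a} := by
    rw [Ideal.dvd_iff_le, ← ha]
    exact le_sup_right
  have h2 : J ⊔ K = ⊤ := by
    have h3 : I' * (J ⊔ K) = I' * ⊤ := by
      rw [Ideal.mul_sup, ← hK, ha, Ideal.mul_top]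
    exact mul_left_cancel₀ hI'0 h3
  by_cases ha0 : a = 0
  · subst ha0
    have h4 : I' * K = ⊥ := by
      rw [← hK]
      simp
    have hK0 : K = ⊥ := by
      rcases mul_eq_zero.mp h4 with h | h
      · exact absurd h hI'0
      · exact h
    rw [hK0, sup_bot_eq] at h2
    exact ⟨I, ⟨LinearEquiv.refl R I⟩, by rw [h2, sup_top_eq]⟩
  · refine ⟨K, ?_, by rw [sup_comm]; exact h2⟩
    have h5 : Ideal.span {a} * I = Ideal.span {c} * K := by
      rw [hK, hI']
      ring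
    obtain ⟨e1⟩ := equiv_span_mul I a ha0
    obtain ⟨e2⟩ := equiv_span_mul K c hc
    exact ⟨e1 ≪≫ₗ LinearEquiv.ofEq _ _ h5 ≪≫ₗ e2.symm⟩

end Groth.Agent.H3Stz
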