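import Mathlib
import Groth.Agent.Lib.helper3.StB

set_option autoImplicit false
universe u v w
open TensorProduct CommRing

namespace Groth.Agent.H3Stz

theorem nontrivial_of_invertible {R : Type u} [CommRing R] [Nontrivial R] (L : Type v)
    [AddCommGroup L] [Module R L] [Module.Invertible R L] : Nontrivial L := by
  by_contra h
  rw [not_nontrivial_iff_subsingleton] at h
  have : (1 : R) = 0 :=
    FaithfulSMul.eq_of_smul_eq_smul (M := R) (α := L) (fun x => Subsingleton.elim _ _)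
  exact one_ne_zero this

theorem steinitz {R : Type u} [CommRing R] [IsDedekindDomain R] (L : Type v) (L' : Type w)
    [AddCommGroup L] [Module R L] [Module.Invertible R L] [AddCommGroup L'] [Module R L']
    [Module.Invertible R L'] :
    Nonempty ((L × L') ≃ₗ[R] (R × (L ⊗[R] L'))) := by
  obtain ⟨I, ⟨eI⟩⟩ := Module.Invertible.exists_linearEquiv_ideal R L
  obtain ⟨J, ⟨eJ⟩⟩ := Module.Invertible.exists_linearEquiv_ideal R L'
  have hI : I ≠ ⊥ := by
    rintro rfl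
    haveI := nontrivial_of_invertible (R := R) L
    obtain ⟨x, hx⟩ := exists_ne (0 : L)
    apply hx
    apply eI.injective
    exact Subsingleton.elim _ _
  have hJ : J ≠ ⊥ := by
    rintro rfl
    haveI := nontrivial_of_invertible (R := R) L'
    obtain ⟨x, hx⟩ := exists_ne (0 : L')
    apply hx
    apply eJ.injective
    exact Subsingleton.elim _ _
  obtain ⟨K, ⟨eK⟩, hKJ⟩ := exists_coprime_rep I J hI hJ
  let f : L →ₗ[R] R := K.subtype ∘ₗ (eI ≪≫ₗ eK).toLinearMap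
  let g : L' →ₗ[R] R := J.subtype ∘ₗ eJ.toLinearMap
  have hf : Function.Injective f := Subtype.val_injective.comp (eI ≪≫ₗ eK).injective
  have hg : Function.Injective g := Subtype.val_injective.comp eJ.injective
  have h1 : (1 : R) ∈ K ⊔ J := by
    rw [hKJ]
    trivial
  obtain ⟨k, hk, j, hj, hkj⟩ := Submodule.mem_sup.mp h1
  refine prod_equiv_of_coprime f g hf hg ((eI ≪≫ₗ eK).symm ⟨k, hk⟩) (eJ.symm ⟨j, hj⟩) ?_
  simp only [f, g, LinearMap.comp_apply, LinearEquiv.coe_coe, LinearEquiv.apply_symm_apply,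
    Submodule.subtype_apply]
  exact hkj

theorem pow_equiv {R : Type u} [CommRing R] [IsDedekindDomain R] (N : Type v) [AddCommGroup N]
    [Module R N] [Module.Invertible R N] (k : ℕ) :
    Nonempty ((Fin (k + 1) → N) ≃ₗ[R] ((Fin k → R) × ↥((Pic.mk R N) ^ (k + 1)))) := by
  induction k with
  | zero =>
    obtain ⟨e1⟩ : Nonempty (N ≃ₗ[R] ↥((Pic.mk R N) ^ (0 + 1))) := by
      rw [zero_add, pow_one]
      exact ⟨(Pic.mk.linearEquiv R N).symm⟩
    exact ⟨LinearEquiv.funUnique (Fin 1) R N ≪≫ₗ e1 ≪≫ₗ (LinearEquiv.uniqueProd).symm⟩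
  | succ k ih =>
    obtain ⟨e⟩ := ih
    obtain ⟨st⟩ := steinitz (R := R) (↥((Pic.mk R N) ^ (k + 1))) N
    obtain ⟨t⟩ : Nonempty ((↥((Pic.mk R N) ^ (k + 1)) ⊗[R] N) ≃ₗ[R]
        ↥((Pic.mk R N) ^ (k + 1 + 1))) := by
      rw [← Pic.mk_eq_iff, Pic.mk_tensor, Pic.mk_eq_self, ← pow_succ]
    let e0 : (Fin (k + 1 + 1) → N) ≃ₗ[R] N × (Fin (k + 1) → N) :=
      (Fin.consLinearEquiv R (fun _ : Fin (k + 1 + 1) => N)).symm
    let e5 : ((Fin k → R) × R) ≃ₗ[R] (Fin (k + 1) → R) :=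
      LinearEquiv.prodComm R (Fin k → R) R ≪≫ₗ Fin.consLinearEquiv R (fun _ : Fin (k + 1) => R)
    exact ⟨e0 ≪≫ₗ LinearEquiv.prodCongr (LinearEquiv.refl R N) e ≪≫ₗ
      LinearEquiv.prodComm R _ _ ≪≫ₗ LinearEquiv.prodAssoc R _ _ _ ≪≫ₗ
      LinearEquiv.prodCongr (LinearEquiv.refl R _) st ≪≫ₗ
      (LinearEquiv.prodAssoc R _ _ _).symm ≪≫ₗ LinearEquiv.prodCongr e5 t⟩

theorem main16200 {R : Type u} [CommRing R]
    [IsDedekindDomain R] (N : Type v) [AddCommGroup N] [Module R N] [Module.Invertible R N]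
    (n : ℕ) (h : CommRing.Pic.mk R N ^ n = 1) :
    Nonempty ((Fin n → N) ≃ₗ[R] (Fin n → R)) := by
  cases n with
  | zero => exact ⟨LinearEquiv.ofSubsingleton _ _⟩
  | succ k =>
    obtain ⟨e⟩ := pow_equiv (R := R) N k
    obtain ⟨t⟩ : Nonempty (↥((Pic.mk R N) ^ (k + 1)) ≃ₗ[R] R) := by
      rw [← Pic.mk_eq_one_iff, Pic.mk_eq_self]
      exact h
    exact ⟨e ≪≫ₗ LinearEquiv.prodCongr (LinearEquiv.refl R _) t ≪≫ₗ
      LinearEquiv.prodComm R (Fin k → R) R ≪≫ₗ Fin.consLinearEquiv R (fun _ : Fin (k + 1) => R)⟩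

end Groth.Agent.H3Stz
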