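import Mathlib
import Groth.Prelude.Def_Fitting
import Groth.Agent.Lib.helper3.FittC

set_option autoImplicit false

namespace Groth.Agent.H3Fitt

universe u

theorem main285 (R : Type u) [CommRing R] (M : Type u) [AddCommGroup M] [Module R M]
    [Module.FinitePresentation R M] :
    IsClosed (Module.support R M) ∧ IsCompact (Module.support R M)ᶜ := by
  rw [← zeroLocus_ideal_zero]
  refine ⟨PrimeSpectrum.isClosed_zeroLocus _, ?_⟩
  exact (PrimeSpectrum.isCompact_isOpen_iff_ideal.mpr
    ⟨Fitt.ideal R M 0, ideal_fg 0, rfl⟩).1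

end Groth.Agent.H3Fitt
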