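import Mathlib

set_option autoImplicit false
universe u v w

namespace Groth.Agent.H3Swindle

open TensorProduct

section flatprod

variable {R : Type u} [CommRing R] {M N : Type v} [AddCommGroup M] [Module R M]
  [AddCommGroup N] [Module R N]

lemma flat_prod [Module.Flat R M] [Module.Flat R N] : Module.Flat R (M × N) := by
  rw [Module.Flat.iff_lTensor_preserves_injective_linearMap]
  intro P P' _ _ _ _ f hf
  have h1 : (TensorProduct.prodLeft R R M N P').toLinearMap ∘ₗ (f.lTensor (M × N))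
      = (LinearMap.prodMap (f.lTensor M) (f.lTensor N)) ∘ₗ
        (TensorProduct.prodLeft R R M N P).toLinearMap := by
    apply TensorProduct.ext'
    rintro ⟨m, n⟩ x
    simp
  have h2 : Function.Injective ((LinearMap.prodMap (f.lTensor M) (f.lTensor N)) ∘ₗ
        (TensorProduct.prodLeft R R M N P).toLinearMap) := by
    rw [LinearMap.coe_comp]
    apply Function.Injective.comp
    · rw [LinearMap.coe_prodMap]
      exact Function.Injective.prodMap (Module.Flat.lTensor_preserves_injective_linearMap f hf)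
        (Module.Flat.lTensor_preserves_injective_linearMap f hf)
    · exact (TensorProduct.prodLeft R R M N P).injective
  rw [← h1, LinearMap.coe_comp] at h2
  exact Function.Injective.of_comp h2

end flatprod

section swindle

variable {K : Type u} [CommRing K] (P : Type v) [AddCommGroup P] [Module K P]

/-- `ℕ →₀ (P × Q) ≃ (ℕ →₀ P) × (ℕ →₀ Q)` -/
noncomputable def finsuppProd (Q : Type w) [AddCommGroup Q] [Module K Q] :
    (ℕ →₀ (P × Q)) ≃ₗ[K] (ℕ →₀ P) × (ℕ →₀ Q) :=
  LinearEquiv.ofLinearMap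
    ((Finsupp.mapRange.linearMap (LinearMap.fst K P Q)).prod
      (Finsupp.mapRange.linearMap (LinearMap.snd K P Q)))
    ((Finsupp.mapRange.linearMap (LinearMap.inl K P Q)).coprod
      (Finsupp.mapRange.linearMap (LinearMap.inr K P Q)))
    (by
      apply LinearMap.ext
      rintro ⟨f, g⟩
      apply Prod.ext
      · ext n; simp
      · ext n; simp)
    (by
      apply LinearMap.ext
      intro f
      ext n <;> simp)

/-- `P × (ℕ →₀ P) ≃ (ℕ →₀ P)` -/
noncomputable def shiftEquiv : (P × (ℕ →₀ P)) ≃ₗ[K] (ℕ →₀ P) :=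
  ((Finsupp.uniqueLinearEquiv K P ()).symm.prodCongr (LinearEquiv.refl K (ℕ →₀ P))) ≪≫ₗ
    (Finsupp.sumFinsuppLEquivProdFinsupp K).symm ≪≫ₗ
    Finsupp.domLCongr (Equiv.sumComm _ _ |>.trans (Equiv.natSumPUnitEquivNat))

theorem swindle [Module.Projective K P] :
    Nonempty ((P × (ℕ × P →₀ K)) ≃ₗ[K] (ℕ × P →₀ K)) := by
  obtain ⟨s, hs⟩ := (Module.projective_def'.mp (inferInstance : Module.Projective K P))
  set π : (P →₀ K) →ₗ[K] P := Finsupp.linearCombination K id with hπ
  let Q := LinearMap.ker π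
  have hs' : ∀ p, π (s p) = p := fun p => LinearMap.congr_fun hs p
  let e₀ : (P →₀ K) ≃ₗ[K] P × Q :=
    LinearEquiv.ofLinearMap
      (π.prod (LinearMap.codRestrict Q (LinearMap.id - s ∘ₗ π) (by
        intro x
        simp [Q, hs'])))
      (s.coprod Q.subtype)
      (by
        apply LinearMap.ext
        rintro ⟨p, ⟨q, hq⟩⟩
        have hq' : π q = 0 := hq
        apply Prod.ext
        · simp [hs', hq']
        · apply Subtype.ext
          simp [hs', hq'])
      (by
        apply LinearMap.ext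
        intro x
        simp)
  let e₁ : (ℕ × P →₀ K) ≃ₗ[K] (ℕ →₀ P) × (ℕ →₀ Q) :=
    (Finsupp.curryLinearEquiv K) ≪≫ₗ (Finsupp.mapRange.linearEquiv e₀) ≪≫ₗ finsuppProd P Q
  refine ⟨(LinearEquiv.refl K P).prodCongr e₁ ≪≫ₗ (LinearEquiv.prodAssoc K P (ℕ →₀ P) (ℕ →₀ Q)).symm
    ≪≫ₗ ((shiftEquiv P).prodCongr (LinearEquiv.refl K (ℕ →₀ Q))) ≪≫ₗ e₁.symm⟩

end swindle

end Groth.Agent.H3Swindle
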