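import Mathlib
import Groth.Agent.Lib.helper3.SwA
import Groth.Agent.Lib.helper3.NilB

set_option autoImplicit false
universe u

namespace Groth.Agent.H3Swindle

open TensorProduct

theorem main270 {R : Type u} [CommRing R] (I : Ideal R) (hI : IsNilpotent I) (M : Type u)
    [AddCommGroup M] [Module R M] [Module.Flat R M]
    (hproj : Module.Projective (R ⧸ I) ((R ⧸ I) ⊗[R] M)) : Module.Projective R M := by
  classical
  let K := R ⧸ I
  let P := K ⊗[R] M
  let X := ℕ × P
  let F := X →₀ R
  haveI : Module.Flat R (M × F) := flat_prod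
  obtain ⟨esw⟩ := swindle (K := K) P
  let e : K ⊗[R] (M × F) ≃ₗ[K] (X →₀ K) :=
    (TensorProduct.prodRight R K K M F) ≪≫ₗ
      ((LinearEquiv.refl K P).prodCongr (TensorProduct.finsuppScalarRight R K K X)) ≪≫ₗ esw
  have hfreeJ : Module.Free K (K ⊗[R] (M × F)) := Module.Free.of_equiv e.symm
  have hfree : Module.Free R (M × F) := Groth.Agent.H3Nil.main563 I hI
    (fun _ : PUnit.{u+1} => R) (fun a ha => by simpa using ha PUnit.unit) (M × F)
    (fun _ => inferInstance) hfreeJ
  exact Module.Projective.of_split (LinearMap.inl R M F) (LinearMap.fst R M F) (by ext; simp)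

end Groth.Agent.H3Swindle
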