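import Mathlib
import Groth.Agent.Lib.helper3.FlC

set_option autoImplicit false
universe u

namespace Groth.Agent.H3LocCrit

open TensorProduct Function

section sym
variable {R S : Type u} [CommRing R] [CommRing S] [Algebra R S]

/-- membership in `I S` through the tensor product `(R ⧸ I) ⊗ S` -/
lemma one_tmul_eq_zero_iff (I : Ideal R) (y : S) :
    ((1 : R ⧸ I) ⊗ₜ[R] y = 0) ↔ y ∈ I.map (algebraMap R S) := by
  rw [← (TensorProduct.quotTensorEquivQuotSMul S I).map_eq_zero_iff,
    ← map_one (Ideal.Quotient.mk I), TensorProduct.quotTensorEquivQuotSMul_mk_tmul, one_smul,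
    Submodule.Quotient.mk_eq_zero, Ideal.smul_top_eq_map, Submodule.restrictScalars_mem]

lemma exists_one_tmul_eq (I : Ideal R) (z : (R ⧸ I) ⊗[R] S) : ∃ y : S, z = (1 : R ⧸ I) ⊗ₜ[R] y := by
  obtain ⟨y, hy⟩ := TensorProduct.mk_surjective R S (R ⧸ I) Ideal.Quotient.mk_surjective z
  exact ⟨y, hy.symm⟩

/-- `t ∉ q = p S` acts injectively on `(R ⧸ p) ⊗ S`. -/
lemma mulLeft_lTensor_quot_injective (p : Ideal R) [(p.map (algebraMap R S)).IsPrime] (t : S)
    (ht : t ∉ p.map (algebraMap R S)) :
    Injective ((LinearMap.mulLeft R t).lTensor (R ⧸ p)) := by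
  rw [injective_iff_map_eq_zero]
  intro z hz
  obtain ⟨y, rfl⟩ := exists_one_tmul_eq p z
  rw [LinearMap.lTensor_tmul, LinearMap.mulLeft_apply, one_tmul_eq_zero_iff] at hz
  rw [one_tmul_eq_zero_iff]
  exact (Ideal.IsPrime.mem_or_mem ‹_› hz).resolve_left ht

/-- `t ∉ p S` acts injectively on `κ(p) ⊗ S`. -/
lemma mulLeft_lTensor_residueField_injective (p : Ideal R) [p.IsPrime]
    [(p.map (algebraMap R S)).IsPrime] (t : S) (ht : t ∉ p.map (algebraMap R S)) :
    Injective ((LinearMap.mulLeft R t).lTensor p.ResidueField) := by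
  rw [← injective_lTensor_baseChange_iff (A := R) (B := R ⧸ p) (N := p.ResidueField)]
  haveI : Module.Flat (R ⧸ p) p.ResidueField :=
    IsLocalization.flat _ (nonZeroDivisors (R ⧸ p))
  apply Module.Flat.lTensor_preserves_injective_linearMap
  exact mulLeft_lTensor_quot_injective p t ht

/-- `t ∉ p S` acts injectively on `N ⊗ S` for every `κ(p)`-vector space `N`. -/
lemma mulLeft_lTensor_injective_of_residueField (p : Ideal R) [p.IsPrime]
    [(p.map (algebraMap R S)).IsPrime] (t : S) (ht : t ∉ p.map (algebraMap R S))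
    (N : Type u) [AddCommGroup N] [Module R N] [Module p.ResidueField N]
    [IsScalarTower R p.ResidueField N] :
    Injective ((LinearMap.mulLeft R t).lTensor N) := by
  rw [← injective_lTensor_baseChange_iff (A := R) (B := p.ResidueField) (N := N)]
  apply Module.Flat.lTensor_preserves_injective_linearMap
  exact mulLeft_lTensor_residueField_injective p t ht

end sym

end Groth.Agent.H3LocCrit
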