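import Mathlib
import Groth.Agent.Lib.helper3.SyA

set_option autoImplicit false
universe u

namespace Groth.Agent.H3LocCrit

open TensorProduct Function

section dev
variable {R S : Type u} [CommRing R] [CommRing S] [Algebra R S] [Module.Flat R S]
  (p : Ideal R) [p.IsPrime] [(p.map (algebraMap R S)).IsPrime] (t : S)
  (ht : t ∉ p.map (algebraMap R S))

include ht in
/-- dévissage: modules over `R_p` killed by a power of the maximal ideal -/
theorem mulLeft_lTensor_injective_of_pow_smul_eq_bot (n : ℕ) :
    ∀ (N : Type u) [AddCommGroup N] [Module (Localization.AtPrime p) N] [Module R N]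
      [IsScalarTower R (Localization.AtPrime p) N],
      (IsLocalRing.maximalIdeal (Localization.AtPrime p)) ^ n •
        (⊤ : Submodule (Localization.AtPrime p) N) = ⊥ →
      Injective ((LinearMap.mulLeft R t).lTensor N) := by
  induction n with
  | zero =>
    intro N _ _ _ _ h
    rw [pow_zero, Ideal.one_eq_top, Submodule.top_smul] at h
    haveI : Subsingleton N := by
      refine ⟨fun a b => ?_⟩
      have ha : a ∈ (⊤ : Submodule (Localization.AtPrime p) N) := trivial
      have hb : b ∈ (⊤ : Submodule (Localization.AtPrime p) N) := trivial
      rw [h] at ha hb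
      rw [(Submodule.mem_bot _).mp ha, (Submodule.mem_bot _).mp hb]
    haveI : Subsingleton (N ⊗[R] S) := by
      refine ⟨fun x y => ?_⟩
      have h0 : ∀ z : N ⊗[R] S, z = 0 := by
        intro z
        induction z using TensorProduct.induction_on with
        | zero => rfl
        | tmul a m =>
          have : a = 0 := Subsingleton.elim _ _
          rw [this, TensorProduct.zero_tmul]
        | add z w hz hw => rw [hz, hw, add_zero]
      rw [h0 x, h0 y]
    exact Function.injective_of_subsingleton _
  | succ n ih =>
    intro N _ _ _ _ h
    have h1 : (IsLocalRing.maximalIdeal (Localization.AtPrime p)) ^ n •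
        (⊤ : Submodule (Localization.AtPrime p)
          ↥((IsLocalRing.maximalIdeal (Localization.AtPrime p)) •
            (⊤ : Submodule (Localization.AtPrime p) N))) = ⊥ := by
      rw [eq_bot_iff]
      intro y hy
      rw [Submodule.mem_bot]
      refine Submodule.smul_induction_on hy ?_ ?_
      · intro a ha x _
        apply Subtype.ext
        rw [Submodule.coe_smul, Submodule.coe_zero]
        have hx : (x : N) ∈ (IsLocalRing.maximalIdeal (Localization.AtPrime p)) •
            (⊤ : Submodule (Localization.AtPrime p) N) := x.2
        have h2 : a • (x : N) ∈ (IsLocalRing.maximalIdeal (Localization.AtPrime p)) ^ n •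
            ((IsLocalRing.maximalIdeal (Localization.AtPrime p)) •
              (⊤ : Submodule (Localization.AtPrime p) N)) :=
          Submodule.smul_mem_smul ha hx
        rw [← Submodule.mul_smul, ← pow_succ, h] at h2
        exact (Submodule.mem_bot _).mp h2
      · intro x y hx hy
        rw [hx, hy, add_zero]
    have hC' := ih _ h1
    letI : Module p.ResidueField (N ⧸ (IsLocalRing.maximalIdeal (Localization.AtPrime p)) •
        (⊤ : Submodule (Localization.AtPrime p) N)) :=
      inferInstanceAs (Module ((Localization.AtPrime p) ⧸
        (IsLocalRing.maximalIdeal (Localization.AtPrime p)))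
        (N ⧸ (IsLocalRing.maximalIdeal (Localization.AtPrime p)) • (⊤ : Submodule _ N)))
    haveI : IsScalarTower (Localization.AtPrime p) p.ResidueField
        (N ⧸ (IsLocalRing.maximalIdeal (Localization.AtPrime p)) •
          (⊤ : Submodule (Localization.AtPrime p) N)) :=
      (Module.isTorsionBySet_quotient_ideal_smul N
        (IsLocalRing.maximalIdeal (Localization.AtPrime p))).isScalarTower
    haveI : IsScalarTower R p.ResidueField
        (N ⧸ (IsLocalRing.maximalIdeal (Localization.AtPrime p)) •
          (⊤ : Submodule (Localization.AtPrime p) N)) := by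
      refine IsScalarTower.of_algebraMap_smul (fun r x => ?_)
      rw [IsScalarTower.algebraMap_apply R (Localization.AtPrime p) p.ResidueField,
        algebraMap_smul, algebraMap_smul]
    have hC'' := mulLeft_lTensor_injective_of_residueField p t ht
      (N ⧸ (IsLocalRing.maximalIdeal (Localization.AtPrime p)) •
          (⊤ : Submodule (Localization.AtPrime p) N))
    exact inj_ext (LinearMap.mulLeft R t)
      (((IsLocalRing.maximalIdeal (Localization.AtPrime p)) •
          (⊤ : Submodule (Localization.AtPrime p) N)).subtype.restrictScalars R)
      (((IsLocalRing.maximalIdeal (Localization.AtPrime p)) •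
          (⊤ : Submodule (Localization.AtPrime p) N)).mkQ.restrictScalars R)
      (Submodule.injective_subtype _)
      (LinearMap.exact_subtype_mkQ _) (Submodule.mkQ_surjective _) hC' hC''

end dev

end Groth.Agent.H3LocCrit
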