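import Mathlib
import Groth.Agent.Lib.helper3.SyB

set_option autoImplicit false
universe u

namespace Groth.Agent.H3LocCrit

open TensorProduct Function

section main
variable {R S : Type u} [CommRing R] [CommRing S] [Algebra R S] [Module.Flat R S]
  (p : Ideal R) [p.IsPrime] [(p.map (algebraMap R S)).IsPrime]

/-- the symbolic power as a contraction -/
noncomputable def symPow (p : Ideal R) [p.IsPrime] (n : ℕ) : Ideal R :=
  ((p ^ n).map (algebraMap R (Localization.AtPrime p))).comap (algebraMap R (Localization.AtPrime p))

lemma mem_symPow_iff (n : ℕ) (x : R) : x ∈ symPow p n ↔ ∃ s, s ∉ p ∧ s * x ∈ p ^ n := by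
  unfold symPow
  rw [Ideal.mem_comap, IsLocalization.algebraMap_mem_map_algebraMap_iff p.primeCompl]
  rfl

/-- `R ⧸ p^(n) → R_p ⧸ p^n R_p` -/
noncomputable def symPowEmb (n : ℕ) :
    (R ⧸ symPow p n) →ₗ[R]
      (Localization.AtPrime p ⧸ (p ^ n).map (algebraMap R (Localization.AtPrime p))) :=
  Submodule.liftQ (symPow p n)
    ((((p ^ n).map (algebraMap R (Localization.AtPrime p))).mkQ.restrictScalars R) ∘ₗ
      (Algebra.linearMap R (Localization.AtPrime p)))
    (fun x hx => by
      rw [LinearMap.mem_ker, LinearMap.comp_apply, LinearMap.coe_restrictScalars,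
        Submodule.mkQ_apply, Submodule.Quotient.mk_eq_zero]
      exact hx)

lemma symPowEmb_injective (n : ℕ) : Injective (symPowEmb p n) := by
  unfold symPowEmb
  rw [← LinearMap.ker_eq_bot]
  apply Submodule.ker_liftQ_eq_bot
  intro x hx
  rw [LinearMap.mem_ker, LinearMap.comp_apply, LinearMap.coe_restrictScalars,
    Submodule.mkQ_apply, Submodule.Quotient.mk_eq_zero] at hx
  exact hx

include p in
theorem mulLeft_lTensor_symPow_injective (t : S) (ht : t ∉ p.map (algebraMap R S)) (n : ℕ) :
    Injective ((LinearMap.mulLeft R t).lTensor (R ⧸ symPow p n)) := by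
  have hkill : (IsLocalRing.maximalIdeal (Localization.AtPrime p)) ^ n •
      (⊤ : Submodule (Localization.AtPrime p)
        (Localization.AtPrime p ⧸ (p ^ n).map (algebraMap R (Localization.AtPrime p)))) = ⊥ := by
    rw [eq_bot_iff]
    intro y hy
    rw [Submodule.mem_bot]
    refine Submodule.smul_induction_on hy ?_ ?_
    · intro a ha x _
      obtain ⟨x, rfl⟩ := Submodule.Quotient.mk_surjective _ x
      rw [← Submodule.Quotient.mk_smul, Submodule.Quotient.mk_eq_zero, smul_eq_mul,
        Ideal.map_pow, Localization.AtPrime.map_eq_maximalIdeal]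
      exact Ideal.mul_mem_right _ _ ha
    · intro x y hx hy
      rw [hx, hy, add_zero]
  have hC := mulLeft_lTensor_injective_of_pow_smul_eq_bot p t ht n _ hkill
  -- restrict along the embedding
  have hflat : Injective ((symPowEmb p n).rTensor S) :=
    Module.Flat.rTensor_preserves_injective_linearMap _ (symPowEmb_injective p n)
  rw [injective_iff_map_eq_zero]
  intro z hz
  apply hflat
  rw [map_zero]
  apply hC
  rw [map_zero, ← LinearMap.comp_apply, LinearMap.lTensor_comp_rTensor,
    ← LinearMap.rTensor_comp_lTensor, LinearMap.comp_apply, hz, map_zero]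

end main

end Groth.Agent.H3LocCrit
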