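import Mathlib
import Groth.Agent.Lib.helper3.SyC

set_option autoImplicit false
universe u

namespace Groth.Agent.H3LocCrit

open TensorProduct Function

section main
variable {R S : Type u} [CommRing R] [CommRing S] [Algebra R S] [Module.Flat R S]
  (p : Ideal R) [p.IsPrime] [(p.map (algebraMap R S)).IsPrime]

include p in
lemma algebraMap_not_mem_map_of_not_mem (s : R) (hs : s ∉ p) :
    algebraMap R S s ∉ p.map (algebraMap R S) := by
  intro hmem
  have hν : Injective (LinearMap.lsmul R (R ⧸ p) s) := by
    rw [injective_iff_map_eq_zero]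
    intro x hx
    rw [LinearMap.lsmul_apply, Algebra.smul_def, Ideal.Quotient.algebraMap_eq] at hx
    rcases mul_eq_zero.mp hx with h | h
    · exact absurd (Ideal.Quotient.eq_zero_iff_mem.mp h) hs
    · exact h
  have h1 : Injective ((LinearMap.lsmul R (R ⧸ p) s).rTensor S) :=
    Module.Flat.rTensor_preserves_injective_linearMap _ hν
  have h2 : ((LinearMap.lsmul R (R ⧸ p) s).rTensor S) ((1 : R ⧸ p) ⊗ₜ[R] (1 : S)) = 0 := by
    rw [LinearMap.rTensor_tmul, LinearMap.lsmul_apply, TensorProduct.smul_tmul,
      Algebra.smul_def, mul_one, one_tmul_eq_zero_iff]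
    exact hmem
  have h3 : (1 : R ⧸ p) ⊗ₜ[R] (1 : S) = 0 := h1 (by rw [h2, map_zero])
  rw [one_tmul_eq_zero_iff] at h3
  exact (Ideal.IsPrime.ne_top ‹_›) ((Ideal.eq_top_iff_one _).mpr h3)

theorem main2138 (n : ℕ) :
    (((p ^ n).map (algebraMap R (Localization.AtPrime p))).comap
        (algebraMap R (Localization.AtPrime p))).map (algebraMap R S) =
      (((p.map (algebraMap R S)) ^ n).map
        (algebraMap S (Localization.AtPrime (p.map (algebraMap R S))))).comap
        (algebraMap S (Localization.AtPrime (p.map (algebraMap R S)))) := by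
  apply le_antisymm
  · rw [Ideal.map_le_iff_le_comap]
    intro x hx
    rw [Ideal.mem_comap, Ideal.mem_comap,
      IsLocalization.algebraMap_mem_map_algebraMap_iff (p.map (algebraMap R S)).primeCompl]
    obtain ⟨s, hs, hsx⟩ := (mem_symPow_iff p n x).mp hx
    refine ⟨algebraMap R S s, algebraMap_not_mem_map_of_not_mem p s hs, ?_⟩
    rw [← map_mul, ← Ideal.map_pow]
    exact Ideal.mem_map_of_mem _ hsx
  · intro y hy
    rw [Ideal.mem_comap,
      IsLocalization.algebraMap_mem_map_algebraMap_iff (p.map (algebraMap R S)).primeCompl] at hy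
    obtain ⟨t, ht, hty⟩ := hy
    have ht' : t ∉ p.map (algebraMap R S) := ht
    rw [← Ideal.map_pow] at hty
    have hle : p ^ n ≤ symPow p n := Ideal.le_comap_map
    have h1 : t * y ∈ (symPow p n).map (algebraMap R S) := Ideal.map_mono hle hty
    have h2 : ((LinearMap.mulLeft R t).lTensor (R ⧸ symPow p n))
        ((1 : R ⧸ symPow p n) ⊗ₜ[R] y) = 0 := by
      rw [LinearMap.lTensor_tmul, LinearMap.mulLeft_apply, one_tmul_eq_zero_iff]
      exact h1
    have h3 : (1 : R ⧸ symPow p n) ⊗ₜ[R] y = 0 :=
      mulLeft_lTensor_symPow_injective p t ht' n (by rw [h2, map_zero])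
    exact (one_tmul_eq_zero_iff (symPow p n) y).mp h3

end main

end Groth.Agent.H3LocCrit
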