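import Mathlib

set_option autoImplicit false
universe u v w

namespace Groth.Agent.H3Tft

theorem main8834 (A : Type u) [CommRing A] [IsNoetherianRing A] (I : Ideal A) [IsAdicComplete I A] (B : Type u) [CommRing B] [Algebra A B] [IsNoetherianRing B] (J : Ideal B) [IsAdicComplete J B] (hIJ : I.map (algebraMap A B) ≤ J.radical) (hft : Algebra.FiniteType A (B ⧸ J.radical)) : ∃ s : ℕ, ∃ b : Fin s → B, ∀ (y : B) (n : ℕ), ∃ p : MvPolynomial (Fin s) A, y - MvPolynomial.aeval b p ∈ J ^ n := by
  classical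
  set K : Ideal B := J.radical with hK
  obtain ⟨n₀, f, hf⟩ := Algebra.FiniteType.iff_quotient_mvPolynomial''.mp hft
  choose b' hb' using fun i => Ideal.Quotient.mk_surjective (f (MvPolynomial.X i))
  obtain ⟨l, c, hc⟩ := Submodule.fg_iff_exists_fin_generating_family.mp
    (IsNoetherian.noetherian K)
  have hc' : Ideal.span (Set.range c) = K := hc
  let b : Fin (n₀ + l) → B := Fin.append b' c
  refine ⟨n₀ + l, b, ?_⟩
  let S : Subalgebra A B := (MvPolynomial.aeval b).range
  have hbS : ∀ i, b i ∈ S := fun i => ⟨MvPolynomial.X i, MvPolynomial.aeval_X b i⟩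
  have hb'S : ∀ i, b' i ∈ S := fun i => by
    have := hbS (Fin.castAdd l i)
    simpa [b] using this
  have hcS : ∀ j, c j ∈ S := fun j => by
    have := hbS (Fin.natAdd n₀ j)
    simpa [b] using this
  have hT1 : ∀ y : B, ∃ z ∈ S, y - z ∈ K := by
    intro y
    obtain ⟨q, hq⟩ := hf (Ideal.Quotient.mk K y)
    have hmem : MvPolynomial.aeval b' q ∈ S := by
      have h1 : MvPolynomial.aeval b' q ∈ Algebra.adjoin A (Set.range b') := by
        rw [Algebra.adjoin_range_eq_range_aeval]
        exact ⟨q, rfl⟩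
      refine Algebra.adjoin_le ?_ h1
      rintro _ ⟨i, rfl⟩
      exact hb'S i
    refine ⟨_, hmem, ?_⟩
    have h2 : (Ideal.Quotient.mkₐ A K).comp (MvPolynomial.aeval b') = f := by
      apply MvPolynomial.algHom_ext
      intro i
      simp only [AlgHom.comp_apply, MvPolynomial.aeval_X, Ideal.Quotient.mkₐ_eq_mk]
      exact hb' i
    rw [← Ideal.Quotient.eq_zero_iff_mem, map_sub, sub_eq_zero, ← hq, ← h2]
    rfl
  have hTn : ∀ n (y : B), ∃ z ∈ S, y - z ∈ K ^ n := by
    intro n
    induction n with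
    | zero =>
      intro y
      exact ⟨0, S.zero_mem, by rw [pow_zero, Ideal.one_eq_top]; trivial⟩
    | succ n ih =>
      intro y
      obtain ⟨z₁, hz₁, hk⟩ := hT1 y
      rw [← hc'] at hk
      obtain ⟨a, ha⟩ := (Ideal.mem_span_range_iff_exists_fun).mp hk
      choose w hw hwa using fun j => ih (a j)
      refine ⟨z₁ + ∑ j, w j * c j, S.add_mem hz₁ (S.sum_mem fun j _ => S.mul_mem (hw j) (hcS j)), ?_⟩
      have e : y - (z₁ + ∑ j, w j * c j) = ∑ j, (a j - w j) * c j := by
        simp only [sub_mul, Finset.sum_sub_distrib]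
        rw [ha]
        ring
      rw [e, pow_succ]
      refine Ideal.sum_mem _ fun j _ => Ideal.mul_mem_mul (hwa j) ?_
      rw [← hc']
      exact Ideal.subset_span ⟨j, rfl⟩
  obtain ⟨N, hN⟩ := Ideal.exists_radical_pow_le_of_fg J (IsNoetherian.noetherian _)
  intro y n
  obtain ⟨z, ⟨p, hp⟩, hz⟩ := hTn (N * n) y
  refine ⟨p, ?_⟩
  have h3 : K ^ (N * n) ≤ J ^ n := by
    rw [pow_mul]
    exact Ideal.pow_right_mono hN n
  have : MvPolynomial.aeval b p = z := hp
  rw [this]
  exact h3 hz

end Groth.Agent.H3Tft
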