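import Mathlib

namespace Groth.Agent.H3Tr

universe u

section linalg
variable {k : Type*} [Field k] {W V U : Type*} [AddCommGroup W] [Module k W]
  [AddCommGroup V] [Module k V] [AddCommGroup U] [Module k U]
  [FiniteDimensional k W] [FiniteDimensional k V] [FiniteDimensional k U]

theorem trace_exact (i : W →ₗ[k] V) (g : V →ₗ[k] U) (hi : Function.Injective i)
    (hg : Function.Surjective g) (hex : Function.Exact i g)
    (fW : W →ₗ[k] W) (fV : V →ₗ[k] V) (fU : U →ₗ[k] U)
    (h1 : i ∘ₗ fW = fV ∘ₗ i) (h2 : g ∘ₗ fV = fU ∘ₗ g) :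
    LinearMap.trace k V fV = LinearMap.trace k W fW + LinearMap.trace k U fU := by
  obtain ⟨s, hs⟩ := LinearMap.exists_rightInverse_of_surjective g (LinearMap.range_eq_top.mpr hg)
  obtain ⟨r, hr⟩ := LinearMap.exists_leftInverse_of_injective i (LinearMap.ker_eq_bot.mpr hi)
  have hiq : i ∘ₗ (r ∘ₗ (LinearMap.id - s ∘ₗ g)) = LinearMap.id - s ∘ₗ g := by
    ext v
    have hv : g ((LinearMap.id - s ∘ₗ g : V →ₗ[k] V) v) = 0 := by
      have h3 := LinearMap.congr_fun hs (g v)
      simp only [LinearMap.sub_apply, LinearMap.id_apply, LinearMap.comp_apply, map_sub] at h3 ⊢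
      rw [h3, sub_self]
    obtain ⟨w, hw⟩ := (hex _).mp hv
    have hrw : r (i w) = w := LinearMap.congr_fun hr w
    simp only [LinearMap.comp_apply]
    rw [← hw, hrw]
  have hqi : (r ∘ₗ (LinearMap.id - s ∘ₗ g)) ∘ₗ i = LinearMap.id := by
    ext w
    have h0 : g (i w) = 0 := hex.apply_apply_eq_zero w
    have hrw : r (i w) = w := LinearMap.congr_fun hr w
    simp only [LinearMap.comp_apply, LinearMap.sub_apply, LinearMap.id_apply, h0, map_zero,
      sub_zero, hrw]
  have e1 : fV = fV ∘ₗ (LinearMap.id - s ∘ₗ g) + fV ∘ₗ (s ∘ₗ g) := by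
    rw [← LinearMap.comp_add, sub_add_cancel, LinearMap.comp_id]
  have t1 : LinearMap.trace k V (fV ∘ₗ (s ∘ₗ g)) = LinearMap.trace k U fU := by
    rw [← LinearMap.comp_assoc, LinearMap.trace_comp_comm', ← LinearMap.comp_assoc, h2,
      LinearMap.comp_assoc, hs, LinearMap.comp_id]
  have t2 : LinearMap.trace k V (fV ∘ₗ (LinearMap.id - s ∘ₗ g)) = LinearMap.trace k W fW := by
    rw [← hiq, ← LinearMap.comp_assoc, ← h1, LinearMap.comp_assoc, LinearMap.trace_comp_comm',
      LinearMap.comp_assoc, hqi, LinearMap.comp_id]
  conv_lhs => rw [e1]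
  rw [map_add, t1, t2]

end linalg

section main
variable (k : Type u) [Field k] (C : Type u) [CommRing C] [Algebra k C]

noncomputable def mulL (M : Type u) [AddCommGroup M] [Module C M] [Module k M]
    [IsScalarTower k C M] (c : C) : M →ₗ[k] M where
  toFun x := c • x
  map_add' := smul_add c
  map_smul' r x := smul_comm c r x

noncomputable def tau (M : Type u) [AddCommGroup M] [Module C M] [Module k M]
    [IsScalarTower k C M] (c : C) : k :=
  LinearMap.trace k M (mulL k C M c)

variable [IsLocalRing C] [Module.Finite k C]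

theorem tau_simple (S : Type u) [AddCommGroup S] [Module C S] [Module k S]
    [IsScalarTower k C S] [IsSimpleModule C S] (c : C) :
    tau k C S c =
      Algebra.trace k (IsLocalRing.ResidueField C) (IsLocalRing.residue C c) := by
  obtain ⟨I, hI, ⟨e⟩⟩ := isSimpleModule_iff_quot_maximal.mp (inferInstance : IsSimpleModule C S)
  obtain rfl := IsLocalRing.eq_maximalIdeal hI
  let e' : S ≃ₗ[k] IsLocalRing.ResidueField C := e.restrictScalars k
  rw [tau, Algebra.trace_apply, ← LinearMap.trace_conj' (mulL k C S c) e']
  congr 1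
  ext x
  change e (c • e.symm x) = IsLocalRing.residue C c * x
  rw [map_smul, e.apply_symm_apply, Algebra.smul_def]
  rfl

theorem tau_eq : ∀ (n : ℕ) (M : Type u) [AddCommGroup M] [Module C M] [Module k M]
    [IsScalarTower k C M] [Module.Finite C M], Module.length C M = n → ∀ c : C,
    tau k C M c =
      n • Algebra.trace k (IsLocalRing.ResidueField C) (IsLocalRing.residue C c) := by
  intro n
  induction n with
  | zero =>
    intro M _ _ _ _ _ hM c
    have hsub : Subsingleton M := Module.length_eq_zero_iff.mp (by simpa using hM)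
    have h0 : mulL k C M c = 0 := LinearMap.ext fun x => Subsingleton.elim _ _
    rw [zero_smul, tau, h0, map_zero]
  | succ n ih =>
    intro M _ _ _ _ _ hM c
    haveI : IsArtinianRing C := IsArtinianRing.of_finite k C
    haveI : Nontrivial M := by
      rw [← Module.length_pos_iff (R := C), hM]
      exact_mod_cast Nat.succ_pos n
    obtain ⟨N, hN⟩ : ∃ N : Submodule C M, IsCoatom N := by
      rcases eq_top_or_exists_le_coatom (⊥ : Submodule C M) with h | ⟨N, hN, -⟩
      · exact absurd h bot_ne_top
      · exact ⟨N, hN⟩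
    haveI : IsSimpleModule C (M ⧸ N) := isSimpleModule_iff_isCoatom.mpr hN
    haveI : IsNoetherian C M := inferInstance
    haveI : Module.Finite C N := inferInstance
    haveI : Module.Finite k M := Module.Finite.trans C M
    haveI : Module.Finite k N := Module.Finite.trans C N
    haveI : Module.Finite k (M ⧸ N) := Module.Finite.trans C (M ⧸ N)
    have hlen : Module.length C M = Module.length C N + Module.length C (M ⧸ N) :=
      Module.length_eq_add_of_exact N.subtype N.mkQ N.injective_subtype N.mkQ_surjective
        (LinearMap.exact_subtype_mkQ N)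
    rw [Module.length_eq_one (R := C) (M := M ⧸ N), hM] at hlen
    have hN' : Module.length C N = n := by
      have hne : Module.length C N ≠ ⊤ := by
        intro h
        rw [h] at hlen
        simp at hlen
      obtain ⟨m, hm⟩ := ENat.ne_top_iff_exists.mp hne
      rw [← hm] at hlen ⊢
      have h2 : n + 1 = m + 1 := by exact_mod_cast hlen
      have h3 : m = n := by omega
      rw [h3]
    have hadd := trace_exact (k := k) (N.subtype.restrictScalars k) (N.mkQ.restrictScalars k)
      N.injective_subtype N.mkQ_surjective (LinearMap.exact_subtype_mkQ N)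
      (mulL k C N c) (mulL k C M c) (mulL k C (M ⧸ N) c)
      (LinearMap.ext fun x => rfl) (LinearMap.ext fun x => rfl)
    rw [tau, hadd]
    change tau k C N c + tau k C (M ⧸ N) c = _
    rw [ih N hN' c, tau_simple k C (M ⧸ N) c, succ_nsmul]

theorem trace_eq (c : C) :
    Algebra.trace k C c = (Module.length C C).toNat •
      Algebra.trace k (IsLocalRing.ResidueField C) (IsLocalRing.residue C c) := by
  haveI : IsArtinianRing C := IsArtinianRing.of_finite k C
  have hne : Module.length C C ≠ ⊤ := Module.length_ne_top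
  obtain ⟨m, hm⟩ := ENat.ne_top_iff_exists.mp hne
  have h := tau_eq k C m C hm.symm c
  rw [← hm, ENat.toNat_natCast, ← h, tau, Algebra.trace_apply]
  congr 1

include k in
theorem length_toNat_ne_zero : (Module.length C C).toNat ≠ 0 := by
  haveI : IsArtinianRing C := IsArtinianRing.of_finite k C
  have hne : Module.length C C ≠ ⊤ := Module.length_ne_top
  have hpos : 0 < Module.length C C := Module.length_pos
  obtain ⟨m, hm⟩ := ENat.ne_top_iff_exists.mp hne
  rw [← hm] at hpos ⊢
  rw [ENat.toNat_natCast]
  have : 0 < m := by exact_mod_cast hpos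
  omega

end main

end Groth.Agent.H3Tr
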