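import Mathlib
import Groth.Agent.Lib.helper3.TrA

namespace Groth.Agent.H3Tr

universe u

theorem main11566 (k : Type u) [Field k] (C : Type u) [CommRing C] [Algebra k C]
    [IsLocalRing C] [Module.Finite k C] :
    Function.Surjective (Algebra.trace k C) ↔
      (Algebra.IsSeparable k (IsLocalRing.ResidueField C) ∧
        ((Module.length C C).toNat : k) ≠ 0) := by
  haveI : Module.Finite k (IsLocalRing.ResidueField C) :=
    Module.Finite.of_surjective
      (IsScalarTower.toAlgHom k C (IsLocalRing.ResidueField C)).toLinearMap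
      IsLocalRing.residue_surjective
  constructor
  · intro hs
    obtain ⟨c, hc⟩ := hs 1
    rw [trace_eq k C c, nsmul_eq_mul] at hc
    refine ⟨?_, ?_⟩
    · by_contra hsep
      rw [Algebra.trace_eq_zero_of_not_isSeparable hsep] at hc
      simp at hc
    · intro h0
      rw [h0, zero_mul] at hc
      exact zero_ne_one hc
  · rintro ⟨hsep, hl⟩ y
    obtain ⟨z, hz⟩ := Algebra.trace_surjective k (IsLocalRing.ResidueField C)
      (y / ((Module.length C C).toNat : k))
    obtain ⟨c, rfl⟩ := IsLocalRing.residue_surjective z
    refine ⟨c, ?_⟩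
    rw [trace_eq k C c, nsmul_eq_mul, hz]
    field_simp

theorem main2219 (k A : Type u) [Field k] [CommRing A]
    [Algebra k A] [FiniteDimensional k A] [IsLocalRing A] :
    Algebra.trace k A ≠ 0 ↔
      (Algebra.IsSeparable k (IsLocalRing.ResidueField A) ∧
        ∀ p : ℕ, p.Prime → CharP k p → ¬ p ∣ (Module.length A A).toNat) := by
  have h1 : Algebra.trace k A ≠ 0 ↔ Function.Surjective (Algebra.trace k A) := by
    constructor
    · intro h y
      obtain ⟨c, hc⟩ : ∃ c, Algebra.trace k A c ≠ 0 := by
        by_contra hcon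
        push Not at hcon
        exact h (LinearMap.ext hcon)
      refine ⟨(y / Algebra.trace k A c) • c, ?_⟩
      rw [map_smul, smul_eq_mul, div_mul_cancel₀ _ hc]
    · intro hs h0
      obtain ⟨c, hc⟩ := hs 1
      rw [h0] at hc
      simp at hc
  have h2 : ((Module.length A A).toNat : k) ≠ 0 ↔
      ∀ p : ℕ, p.Prime → CharP k p → ¬ p ∣ (Module.length A A).toNat := by
    constructor
    · intro h p _ hp hdvd
      exact h ((CharP.cast_eq_zero_iff k p _).mpr hdvd)
    · intro h h0
      have hp := CharP.char_is_prime_or_zero k (ringChar k)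
      have hdvd : ringChar k ∣ (Module.length A A).toNat :=
        (CharP.cast_eq_zero_iff k (ringChar k) _).mp h0
      rcases hp with hp | hp
      · exact h _ hp inferInstance hdvd
      · rw [hp, zero_dvd_iff] at hdvd
        exact length_toNat_ne_zero k A hdvd
  rw [h1, main11566 k A, h2]

end Groth.Agent.H3Tr
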