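import Mathlib

namespace Groth.Agent.H3Tt
universe u

section
variable {P : Type u} [CommRing P] (J : Ideal P)
variable {F : Type u} [AddCommGroup F] [Module P F] {F' : Type u} [AddCommGroup F'] [Module P F']

abbrev Tr (j : F →ₗ[P] P) : Submodule P F :=
  Submodule.span P {y : F | ∃ u v : F, y = j u • v - j v • u}

abbrev Res (j : F →ₗ[P] P) : Submodule P (↥(LinearMap.ker j) →ₗ[P] P ⧸ J) :=
  LinearMap.range (LinearMap.lcomp P (P ⧸ J) (LinearMap.ker j).subtype)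

abbrev Hh (j : F →ₗ[P] P) : Submodule P (↥(LinearMap.ker j) →ₗ[P] P ⧸ J) :=
  LinearMap.ker (LinearMap.lcomp P (P ⧸ J)
    (Submodule.comap (LinearMap.ker j).subtype (Tr j)).subtype)

abbrev T2 (j : F →ₗ[P] P) : Submodule P ((↥(LinearMap.ker j) →ₗ[P] P ⧸ J) ⧸ Res J j) :=
  Submodule.map (Res J j).mkQ (Hh J j)

lemma mem_Hh (j : F →ₗ[P] P) (φ : ↥(LinearMap.ker j) →ₗ[P] P ⧸ J) :
    φ ∈ Hh J j ↔ ∀ r : ↥(LinearMap.ker j), (r : F) ∈ Tr j → φ r = 0 := by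
  rw [LinearMap.mem_ker]
  constructor
  · intro h r hr
    exact LinearMap.congr_fun h ⟨r, hr⟩
  · intro h
    ext ⟨r, hr⟩
    exact h r hr

variable (j : F →ₗ[P] P) (j' : F' →ₗ[P] P)

noncomputable def aR (a : F →ₗ[P] F') (ha : j' ∘ₗ a = j) :
    ↥(LinearMap.ker j) →ₗ[P] ↥(LinearMap.ker j') :=
  a.restrict (fun x hx => by
    rw [LinearMap.mem_ker] at hx ⊢
    rw [← LinearMap.comp_apply, ha]; exact hx)

noncomputable def pb (a : F →ₗ[P] F') (ha : j' ∘ₗ a = j) :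
    (↥(LinearMap.ker j') →ₗ[P] P ⧸ J) →ₗ[P] (↥(LinearMap.ker j) →ₗ[P] P ⧸ J) :=
  LinearMap.lcomp P (P ⧸ J) (aR j j' a ha)

lemma pb_apply (a : F →ₗ[P] F') (ha : j' ∘ₗ a = j) (φ : ↥(LinearMap.ker j') →ₗ[P] P ⧸ J)
    (r : ↥(LinearMap.ker j)) : pb J j j' a ha φ r = φ (aR j j' a ha r) := rfl

lemma pb_Res (a : F →ₗ[P] F') (ha : j' ∘ₗ a = j) :
    Res J j' ≤ (Res J j).comap (pb J j j' a ha) := by
  rintro _ ⟨ψ, rfl⟩
  refine ⟨ψ ∘ₗ a, ?_⟩
  ext r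
  rfl

lemma tr_map (a : F →ₗ[P] F') (ha : j' ∘ₗ a = j) (y : F) (hy : y ∈ Tr j) : a y ∈ Tr j' := by
  have h1 : ∀ x, j' (a x) = j x := fun x => by rw [← LinearMap.comp_apply, ha]
  refine Submodule.span_induction ?_ ?_ ?_ ?_ hy
  · rintro _ ⟨u, v, rfl⟩
    refine Submodule.subset_span ⟨a u, a v, ?_⟩
    rw [map_sub, map_smul, map_smul, h1, h1]
  · simp
  · intro x y _ _ hx hy; rw [map_add]; exact add_mem hx hy
  · intro c x _ hx; rw [map_smul]; exact Submodule.smul_mem _ _ hx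

lemma pb_Hh (a : F →ₗ[P] F') (ha : j' ∘ₗ a = j) (φ : ↥(LinearMap.ker j') →ₗ[P] P ⧸ J)
    (hφ : φ ∈ Hh J j') : pb J j j' a ha φ ∈ Hh J j := by
  rw [mem_Hh] at hφ ⊢
  intro r hr
  rw [pb_apply]
  exact hφ _ (tr_map j j' a ha _ hr)

noncomputable def qmap (a : F →ₗ[P] F') (ha : j' ∘ₗ a = j) :
    ((↥(LinearMap.ker j') →ₗ[P] P ⧸ J) ⧸ Res J j') →ₗ[P]
      ((↥(LinearMap.ker j) →ₗ[P] P ⧸ J) ⧸ Res J j) :=
  Submodule.mapQ (Res J j') (Res J j) (pb J j j' a ha) (pb_Res J j j' a ha)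

lemma qmap_T2 (a : F →ₗ[P] F') (ha : j' ∘ₗ a = j) :
    ∀ x ∈ T2 J j', qmap J j j' a ha x ∈ T2 J j := by
  rintro _ ⟨φ, hφ, rfl⟩
  exact ⟨pb J j j' a ha φ, pb_Hh J j j' a ha φ hφ, rfl⟩

noncomputable def T2map (a : F →ₗ[P] F') (ha : j' ∘ₗ a = j) : ↥(T2 J j') →ₗ[P] ↥(T2 J j) :=
  (qmap J j j' a ha).restrict (qmap_T2 J j j' a ha)

lemma T2map_comp (a : F →ₗ[P] F') (ha : j' ∘ₗ a = j) (a' : F' →ₗ[P] F) (ha' : j ∘ₗ a' = j') :
    (T2map J j j' a ha) ∘ₗ (T2map J j' j a' ha') = LinearMap.id := by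
  refine LinearMap.ext fun ⟨x, hx⟩ => Subtype.ext ?_
  obtain ⟨φ, hφ, rfl⟩ := hx
  show (Res J j).mkQ (pb J j j' a ha (pb J j' j a' ha' φ)) = (Res J j).mkQ φ
  rw [← sub_eq_zero, ← map_sub, Submodule.mkQ_apply, Submodule.Quotient.mk_eq_zero]
  obtain ⟨dd, hdd⟩ : ∃ dd : F →ₗ[P] F, dd = a' ∘ₗ a - LinearMap.id := ⟨_, rfl⟩
  have hdx : ∀ x : F, dd x = a' (a x) - x := fun x => by rw [hdd]; rfl
  have hd : ∀ x : F, dd x ∈ LinearMap.ker j := by
    intro x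
    rw [LinearMap.mem_ker, hdx, map_sub,
      ← LinearMap.comp_apply, ha', ← LinearMap.comp_apply, ha, sub_self]
  refine ⟨φ ∘ₗ dd.codRestrict (LinearMap.ker j) hd, ?_⟩
  ext r
  show φ ((dd.codRestrict (LinearMap.ker j) hd) r) =
    φ (aR j' j a' ha' (aR j j' a ha r)) - φ r
  rw [← map_sub]
  congr 1
  apply Subtype.ext
  show dd r = a' (a r) - r
  exact hdx r

lemma exists_lift [Module.Projective P F] (hj : LinearMap.range j = J)
    (hj' : LinearMap.range j' = J) : ∃ a : F →ₗ[P] F', j' ∘ₗ a = j := by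
  have h1 : ∀ x, j x ∈ J := fun x => by rw [← hj]; exact LinearMap.mem_range_self j x
  have h2 : ∀ x, j' x ∈ J := fun x => by rw [← hj']; exact LinearMap.mem_range_self j' x
  have hs : Function.Surjective (j'.codRestrict J h2) := by
    rintro ⟨y, hy⟩
    have hy' : y ∈ LinearMap.range j' := by rw [hj']; exact hy
    obtain ⟨x, rfl⟩ := hy'
    exact ⟨x, rfl⟩
  obtain ⟨a, ha⟩ := Module.projective_lifting_property (j'.codRestrict J h2)
    (j.codRestrict J h1) hs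
  refine ⟨a, ?_⟩
  ext x
  exact congrArg Subtype.val (LinearMap.congr_fun ha x)

end

theorem main11299 (P : Type u) [CommRing P] (J : Ideal P)
    (F : Type u) [AddCommGroup F] [Module P F] [Module.Free P F] [Module.Finite P F]
    (F' : Type u) [AddCommGroup F'] [Module P F'] [Module.Free P F'] [Module.Finite P F']
    (j : F →ₗ[P] P) (j' : F' →ₗ[P] P) (hj : LinearMap.range j = J)
    (hj' : LinearMap.range j' = J) :
    Nonempty (↥(T2 J j) ≃ₗ[P] ↥(T2 J j')) := by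
  obtain ⟨a, ha⟩ := exists_lift J j j' hj hj'
  obtain ⟨a', ha'⟩ := exists_lift J j' j hj' hj
  exact ⟨LinearEquiv.ofLinearMap (T2map J j' j a' ha') (T2map J j j' a ha)
    (T2map_comp J j' j a' ha' a ha) (T2map_comp J j j' a ha a' ha')⟩

end Groth.Agent.H3Tt
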