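import Mathlib

namespace Groth.Agent.H3Ui
open TensorProduct

universe u

section gen
variable {A : Type u} [CommRing A] {A' : Type u} [CommRing A'] [Algebra A A']

noncomputable def toT (n : ℕ) (x : Fin n → A') : (Fin n → A) ⊗[A] A' :=
  ∑ k, (Pi.single k (1 : A) : Fin n → A) ⊗ₜ[A] x k

noncomputable def coord (n : ℕ) (k : Fin n) : (Fin n → A) ⊗[A] A' →ₗ[A] A' :=
  (TensorProduct.lid A A').toLinearMap ∘ₗ (LinearMap.proj k : (Fin n → A) →ₗ[A] A).rTensor A'

lemma coord_tmul (n : ℕ) (k : Fin n) (v : Fin n → A) (a : A') :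
    coord n k (v ⊗ₜ[A] a) = v k • a := by
  simp [coord]

lemma coord_toT (n : ℕ) (k : Fin n) (x : Fin n → A') :
    coord (A := A) n k (toT n x) = x k := by
  classical
  simp only [toT, map_sum, coord_tmul, Pi.single_apply]
  simp

lemma toT_coord (n : ℕ) (t : (Fin n → A) ⊗[A] A') : t = toT n (fun k => coord n k t) := by
  classical
  induction t using TensorProduct.induction_on with
  | zero => simp [toT]
  | tmul v a =>
    simp only [toT, coord_tmul]
    have : ∀ k : Fin n, (Pi.single k (1 : A) : Fin n → A) ⊗ₜ[A] (v k • a) =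
        (Pi.single k (v k) : Fin n → A) ⊗ₜ[A] a := by
      intro k
      rw [← TensorProduct.smul_tmul]
      congr 1
      ext j; simp [Pi.single_apply]
    simp only [this]
    rw [← TensorProduct.sum_tmul, Finset.univ_sum_single]
  | add x y hx hy =>
    have : toT (A := A) n (fun k => coord n k (x + y)) =
        toT n (fun k => coord n k x) + toT n (fun k => coord n k y) := by
      simp only [toT, map_add, TensorProduct.tmul_add, Finset.sum_add_distrib]
    rw [this, ← hx, ← hy]

variable {B : Type u} [CommRing B] [Algebra A B]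
variable {n m : ℕ} (π : (Fin n → A) →ₗ[A] B) (ρ : (Fin m → A) →ₗ[A] (Fin n → A))

noncomputable def E (x : Fin n → A') : B ⊗[A] A' := ∑ k, π (Pi.single k 1) ⊗ₜ[A] x k

lemma rTensor_toT (x : Fin n → A') : (π.rTensor A') (toT n x) = E π x := by
  simp [toT, E, map_sum]

lemma rTensor_toT' (z : Fin m → A') :
    (ρ.rTensor A') (toT m z) = ∑ l, ρ (Pi.single l 1) ⊗ₜ[A] z l := by
  simp [toT, map_sum]

lemma pi_apply (v : Fin n → A) : π v = ∑ k, v k • π (Pi.single k 1) := by
  classical
  conv_lhs => rw [← Finset.univ_sum_single v]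
  rw [map_sum]
  refine Finset.sum_congr rfl fun k _ => ?_
  rw [← map_smul]
  congr 1
  ext j; simp [Pi.single_apply]

lemma E_eq_zero_iff (hπ : Function.Surjective π) (hex : Function.Exact ρ π) (w : Fin n → A') :
    E π w = 0 ↔ ∃ z : Fin m → A', ∀ k, w k = ∑ l, ρ (Pi.single l 1) k • z l := by
  classical
  constructor
  · intro h
    have hex' := rTensor_exact A' hex hπ
    rw [← rTensor_toT] at h
    obtain ⟨s, hs⟩ := (hex' _).mp h
    obtain ⟨z, hz⟩ : ∃ z : Fin m → A', s = toT m z := ⟨_, toT_coord m s⟩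
    subst hz
    refine ⟨z, fun k => ?_⟩
    have h1 := congrArg (coord n k) hs
    rw [rTensor_toT', coord_toT, map_sum] at h1
    rw [← h1]
    refine Finset.sum_congr rfl fun l _ => ?_
    rw [coord_tmul]
  · rintro ⟨z, hz⟩
    have h0 : ∀ l, π (ρ (Pi.single l 1)) = 0 := fun l => (hex _).mpr ⟨_, rfl⟩
    simp only [E, hz, TensorProduct.tmul_sum, TensorProduct.tmul_smul]
    rw [Finset.sum_comm]
    refine Finset.sum_eq_zero fun l _ => ?_
    simp only [TensorProduct.smul_tmul', ← TensorProduct.sum_tmul]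
    rw [← pi_apply, h0, TensorProduct.zero_tmul]

lemma E_sub (u x : Fin n → A') : E π (fun k => u k - x k) = E π u - E π x := by
  simp only [E, TensorProduct.tmul_sub, Finset.sum_sub_distrib]

lemma E_mul_self (c : Fin n → Fin n → Fin n → A)
    (hc : ∀ i j, π (c i j) = π (Pi.single i 1) * π (Pi.single j 1)) (x : Fin n → A') :
    E π x * E π x - E π x = E π (fun k => (∑ i, ∑ j, c i j k • (x i * x j)) - x k) := by
  classical
  rw [E_sub]
  congr 1
  have h2 : ∀ i j, (π (Pi.single i 1) * π (Pi.single j 1)) ⊗ₜ[A] (x i * x j) =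
      ∑ k, π (Pi.single k 1) ⊗ₜ[A] (c i j k • (x i * x j)) := by
    intro i j
    rw [← hc, pi_apply π (c i j), TensorProduct.sum_tmul]
    refine Finset.sum_congr rfl fun k _ => ?_
    rw [TensorProduct.smul_tmul]
  calc E π x * E π x
      = ∑ i, ∑ j, (π (Pi.single i 1) * π (Pi.single j 1)) ⊗ₜ[A] (x i * x j) := by
        unfold E
        rw [Finset.sum_mul_sum]
        simp only [Algebra.TensorProduct.tmul_mul_tmul]
    _ = ∑ i, ∑ j, ∑ k, π (Pi.single k 1) ⊗ₜ[A] (c i j k • (x i * x j)) := by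
        simp only [h2]
    _ = ∑ i, ∑ k, ∑ j, π (Pi.single k 1) ⊗ₜ[A] (c i j k • (x i * x j)) :=
        Finset.sum_congr rfl fun i _ => Finset.sum_comm
    _ = ∑ k, ∑ i, ∑ j, π (Pi.single k 1) ⊗ₜ[A] (c i j k • (x i * x j)) := Finset.sum_comm
    _ = E π (fun k => ∑ i, ∑ j, c i j k • (x i * x j)) := by
        simp only [E, TensorProduct.tmul_sum]

end gen

theorem main1458 {A B : Type u} [CommRing A] [CommRing B] [Algebra A B] [Module.Finite A B]
    [Algebra.FinitePresentation A B] :
    ∃ (Au : Type u) (_ : CommRing Au) (_ : Algebra A Au) (eu : B ⊗[A] Au),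
      Algebra.FinitePresentation A Au ∧ IsIdempotentElem eu ∧
      ∀ (A' : Type u) [CommRing A'] [Algebra A A'] (e : B ⊗[A] A'), IsIdempotentElem e →
        ∃ φ : Au →ₐ[A] A', Algebra.TensorProduct.map (AlgHom.id A B) φ eu = e := by
  classical
  haveI : Module.FinitePresentation A B :=
    Module.FinitePresentation.of_finite_of_finitePresentation A B
  obtain ⟨n, m, π, ρ, hπ, hex⟩ := Module.FinitePresentation.exists_fin' A B
  have hc0 : ∀ i j : Fin n, ∃ v : Fin n → A, π v = π (Pi.single i 1) * π (Pi.single j 1) :=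
    fun i j => hπ _
  choose c hc using hc0
  let σ := Fin n ⊕ Fin m
  let rel : Fin n → MvPolynomial σ A := fun k =>
    (∑ i, ∑ j, MvPolynomial.C (c i j k) *
        (MvPolynomial.X (Sum.inl i) * MvPolynomial.X (Sum.inl j)))
      - MvPolynomial.X (Sum.inl k)
      - ∑ l, MvPolynomial.C (ρ (Pi.single l 1) k) * MvPolynomial.X (Sum.inr l)
  let I : Ideal (MvPolynomial σ A) := Ideal.span (Set.range rel)
  let xu : Fin n → MvPolynomial σ A ⧸ I := fun k => Ideal.Quotient.mk I (MvPolynomial.X (Sum.inl k))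
  let zu : Fin m → MvPolynomial σ A ⧸ I := fun l => Ideal.Quotient.mk I (MvPolynomial.X (Sum.inr l))
  have hsm : ∀ (a : A) (q : MvPolynomial σ A ⧸ I),
      a • q = Ideal.Quotient.mk I (MvPolynomial.C a) * q := fun a q => by
    obtain ⟨p, rfl⟩ := Ideal.Quotient.mk_surjective q
    rw [← map_mul, ← MvPolynomial.smul_eq_C_mul]; rfl
  refine ⟨MvPolynomial σ A ⧸ I, inferInstance, inferInstance, E π xu, ?_, ?_, ?_⟩
  · exact Algebra.FinitePresentation.quotient (Submodule.fg_span (Set.finite_range rel))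
  · have h := E_mul_self π c hc xu
    have h0 : E π (fun k => (∑ i, ∑ j, c i j k • (xu i * xu j)) - xu k) = 0 := by
      rw [E_eq_zero_iff π ρ hπ hex]
      refine ⟨zu, fun k => ?_⟩
      have hrel : Ideal.Quotient.mk I (rel k) = 0 :=
        Ideal.Quotient.eq_zero_iff_mem.mpr (Ideal.subset_span ⟨k, rfl⟩)
      simp only [rel, map_sub, map_sum, map_mul] at hrel
      rw [sub_eq_zero] at hrel
      simp only [hsm]
      exact hrel
    rw [h0, sub_eq_zero] at h
    exact h
  · intro A' _ _ e he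
    obtain ⟨t, ht⟩ := LinearMap.rTensor_surjective A' hπ e
    obtain ⟨x', hx'⟩ : ∃ x' : Fin n → A', t = toT n x' := ⟨_, toT_coord n t⟩
    subst hx'
    rw [rTensor_toT] at ht
    have h := E_mul_self π c hc x'
    rw [ht, he.eq, sub_self] at h
    obtain ⟨z', hz'⟩ := (E_eq_zero_iff π ρ hπ hex _).mp h.symm
    let φ0 : MvPolynomial σ A →ₐ[A] A' := MvPolynomial.aeval (Sum.elim x' z')
    have hφ0 : ∀ a ∈ I, φ0 a = 0 := by
      have hle : I ≤ RingHom.ker φ0.toRingHom := by
        rw [Ideal.span_le]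
        rintro _ ⟨k, rfl⟩
        show φ0 (rel k) = 0
        simp only [rel, map_sub, map_sum, map_mul, φ0, MvPolynomial.aeval_C, MvPolynomial.aeval_X,
          Sum.elim_inl, Sum.elim_inr]
        have := hz' k
        simp only [Algebra.smul_def] at this
        rw [this, sub_self]
      intro a ha
      exact hle ha
    refine ⟨Ideal.Quotient.liftₐ I φ0 hφ0, ?_⟩
    rw [← ht]
    simp only [E, map_sum, Algebra.TensorProduct.map_tmul, AlgHom.coe_id, id_eq]
    refine Finset.sum_congr rfl fun k _ => ?_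
    congr 1
    show Ideal.Quotient.liftₐ I φ0 hφ0 (Ideal.Quotient.mk I (MvPolynomial.X (Sum.inl k))) = x' k
    rw [Ideal.Quotient.liftₐ_apply, Ideal.Quotient.lift_mk]
    simp [φ0]

end Groth.Agent.H3Ui
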