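import Mathlib
universe u
namespace Groth.Agent.H3Vr
open IsLocalRing

section
variable {A K : Type u} [CommRing A] [IsDomain A] [ValuationRing A] [Field K] [Algebra A K]
  [IsFractionRing A K]

theorem le_total' (x y : K) :
    (∃ α : A, x = algebraMap A K α * y) ∨ (∃ α : A, y = algebraMap A K α * x) := by
  by_cases hx : x = 0
  · left; exact ⟨0, by simp [hx]⟩
  by_cases hy : y = 0
  · right; exact ⟨0, by simp [hy]⟩
  rcases ValuationRing.isInteger_or_isInteger A (x / y) with ⟨α, hα⟩ | ⟨α, hα⟩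
  · left
    refine ⟨α, ?_⟩
    rw [hα]; field_simp
  · right
    refine ⟨α, ?_⟩
    rw [hα]; field_simp

theorem min_exists {ι : Type*} (E : Finset ι) (hE : E.Nonempty) (x : ι → K) :
    ∃ i0 ∈ E, ∀ i ∈ E, ∃ α : A, x i = algebraMap A K α * x i0 := by
  induction hE using Finset.Nonempty.cons_induction with
  | singleton a =>
    exact ⟨a, Finset.mem_singleton_self a, fun i hi =>
      ⟨1, by rw [Finset.mem_singleton.mp hi]; simp⟩⟩
  | cons a s ha hs ih =>
    obtain ⟨m, hm, hall⟩ := ih
    rcases le_total' (A := A) (x a) (x m) with ⟨α, hα⟩ | ⟨α, hα⟩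
    · refine ⟨m, Finset.mem_cons.mpr (Or.inr hm), fun i hi => ?_⟩
      rcases Finset.mem_cons.mp hi with rfl | hi
      · exact ⟨α, hα⟩
      · exact hall i hi
    · refine ⟨a, Finset.mem_cons_self a s, fun i hi => ?_⟩
      rcases Finset.mem_cons.mp hi with rfl | hi
      · exact ⟨1, by simp⟩
      · obtain ⟨β, hβ⟩ := hall i hi
        exact ⟨β * α, by rw [hβ, hα, map_mul, mul_assoc]⟩

end

section
variable (A B K L : Type u) [CommRing A] [IsDomain A]
    [ValuationRing A] [CommRing B] [IsDomain B] [ValuationRing B] [Field K] [Field L]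
    [Algebra A K] [IsFractionRing A K] [Algebra B L] [IsFractionRing B L] [Algebra A B] [Algebra K L]
    [Algebra A L] [IsScalarTower A K L] [IsScalarTower A B L]
    [IsLocalHom (algebraMap A B)]

theorem stepA {ι : Type*} [Fintype ι] (b : ι → B)
    (hb : LinearIndependent (ResidueField A) (fun i => residue B (b i)))
    (g : ι → K) (hne : ∃ i, g i ≠ 0) :
    ∃ (a : K) (u : B), a ≠ 0 ∧ IsUnit u ∧
      ∑ i, algebraMap K L (g i) * algebraMap B L (b i) = algebraMap K L a * algebraMap B L u := by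
  classical
  obtain ⟨i1, hi1⟩ := hne
  obtain ⟨i0, -, hall⟩ := min_exists (A := A) Finset.univ ⟨i1, Finset.mem_univ i1⟩ g
  have h1 : ∀ i, ∃ α : A, g i = algebraMap A K α * g i0 := fun i => hall i (Finset.mem_univ i)
  choose α hα using h1
  have hg0 : g i0 ≠ 0 := by
    intro h0
    apply hi1
    rw [hα i1, h0, mul_zero]
  have hα0 : α i0 = 1 := by
    have := hα i0
    have h2 : algebraMap A K (α i0) = 1 := by
      have h3 : algebraMap A K (α i0) * g i0 = 1 * g i0 := by rw [one_mul]; exact this.symm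
      exact mul_right_cancel₀ hg0 h3
    exact IsFractionRing.injective A K (by rw [h2, map_one])
  refine ⟨g i0, ∑ i, algebraMap A B (α i) * b i, hg0, ?_, ?_⟩
  · rw [← IsLocalRing.notMem_maximalIdeal, ← IsLocalRing.residue_eq_zero_iff]
    intro h0
    rw [map_sum] at h0
    have h4 : ∑ i, (residue A (α i)) • residue B (b i) = 0 := by
      rw [← h0]
      refine Finset.sum_congr rfl (fun i _ => ?_)
      rw [Algebra.smul_def, map_mul]
      rfl
    have h5 := (Fintype.linearIndependent_iff.mp hb) (fun i => residue A (α i)) h4 i0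
    rw [hα0, map_one] at h5
    exact one_ne_zero h5
  · rw [map_sum, Finset.mul_sum]
    refine Finset.sum_congr rfl (fun i _ => ?_)
    rw [hα i, map_mul, map_mul, ← IsScalarTower.algebraMap_apply A K L,
      ← IsScalarTower.algebraMap_apply A B L]
    ring

theorem key {ι κ : Type*} [Fintype ι] [Fintype κ] (b : ι → B)
    (hb : LinearIndependent (ResidueField A) (fun i => residue B (b i)))
    (y : κ → L) (hy0 : ∀ j, y j ≠ 0)
    (hy : ∀ j j', (∃ (a : K) (u : B), a ≠ 0 ∧ IsUnit u ∧
      y j = y j' * algebraMap K L a * algebraMap B L u) → j = j') :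
    LinearIndependent K (fun ij : ι × κ => algebraMap B L (b ij.1) * y ij.2) := by
  classical
  rw [Fintype.linearIndependent_iff]
  intro g hg
  by_contra hcon
  rw [not_forall] at hcon
  obtain ⟨⟨i1, j1⟩, hij1⟩ := hcon
  let J : Finset κ := Finset.univ.filter (fun j => ∃ i, g (i, j) ≠ 0)
  have hJmem : ∀ j, j ∈ J ↔ ∃ i, g (i, j) ≠ 0 := fun j => by simp [J]
  have hJ1 : j1 ∈ J := (hJmem j1).mpr ⟨i1, hij1⟩
  let c : κ → L := fun j => ∑ i, algebraMap K L (g (i, j)) * algebraMap B L (b i)
  have hc0 : ∀ j, j ∉ J → c j = 0 := by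
    intro j hj
    rw [hJmem, not_exists] at hj
    apply Finset.sum_eq_zero
    intro i _
    rw [not_not.mp (hj i), map_zero, zero_mul]
  have hcJ : ∀ j ∈ J, ∃ (a : K) (u : B), a ≠ 0 ∧ IsUnit u ∧
      c j = algebraMap K L a * algebraMap B L u := by
    intro j hj
    exact stepA A B K L b hb (fun i => g (i, j)) ((hJmem j).mp hj)
  have hsum : ∑ j ∈ J, c j * y j = 0 := by
    have h1 : ∑ j, c j * y j = 0 := by
      rw [← hg, Fintype.sum_prod_type_right]
      refine Finset.sum_congr rfl (fun j _ => ?_)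
      simp only [c, Finset.sum_mul]
      refine Finset.sum_congr rfl (fun i _ => ?_)
      rw [Algebra.smul_def]; ring
    rw [← h1]
    exact Finset.sum_subset (Finset.subset_univ _) (fun j _ hj => by rw [hc0 j hj, zero_mul])
  obtain ⟨j0, hj0, hall⟩ := min_exists (A := B) (K := L) J ⟨j1, hJ1⟩ (fun j => c j * y j)
  have h2 : ∀ j : J, ∃ β : B, c j * y j = algebraMap B L β * (c j0 * y j0) :=
    fun j => hall j.1 j.2
  choose β hβ using h2
  have hz0 : c j0 * y j0 ≠ 0 := by
    obtain ⟨a, u, ha, hu, hc⟩ := hcJ j0 hj0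
    rw [hc]
    refine mul_ne_zero (mul_ne_zero ?_ ?_) (hy0 j0)
    · exact (map_ne_zero _).mpr ha
    · exact (hu.map (algebraMap B L)).ne_zero
  have hβnu : ∀ j : J, j.1 ≠ j0 → β j ∈ maximalIdeal B := by
    intro j hj
    by_contra hmem
    rw [IsLocalRing.notMem_maximalIdeal] at hmem
    apply hj
    apply hy
    obtain ⟨a, u, ha, hu, hc⟩ := hcJ j.1 j.2
    obtain ⟨a0, u0, ha0, hu0, hc0'⟩ := hcJ j0 hj0
    obtain ⟨uu, huu⟩ := hu
    have hui : u * ((uu⁻¹ : Bˣ) : B) = 1 := by rw [← huu]; exact Units.mul_inv uu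
    have hui' : IsUnit ((uu⁻¹ : Bˣ) : B) := Units.isUnit _
    refine ⟨a0 / a, β j * u0 * ((uu⁻¹ : Bˣ) : B), div_ne_zero ha0 ha, (hmem.mul hu0).mul hui', ?_⟩
    have h3 := hβ j
    rw [hc, hc0'] at h3
    have hua : algebraMap B L u * algebraMap B L ((uu⁻¹ : Bˣ) : B) = 1 := by
      rw [← map_mul, hui, map_one]
    have hane : algebraMap K L a ≠ 0 := (map_ne_zero _).mpr ha
    have hune : algebraMap B L u ≠ 0 := by
      rw [← huu]; exact ((Units.isUnit uu).map (algebraMap B L)).ne_zero
    have hui2 : algebraMap B L ((uu⁻¹ : Bˣ) : B) = (algebraMap B L u)⁻¹ :=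
      eq_inv_of_mul_eq_one_right hua
    have hyj : y j = (algebraMap B L (β j) * (algebraMap K L a0 * algebraMap B L u0 * y j0)) /
        (algebraMap K L a * algebraMap B L u) := by
      rw [eq_div_iff (mul_ne_zero hane hune), ← h3]; ring
    rw [map_div₀, map_mul, map_mul, hui2, hyj]
    field_simp
  have hβ0 : β ⟨j0, hj0⟩ = 1 := by
    have h3 := hβ ⟨j0, hj0⟩
    have h4 : algebraMap B L (β ⟨j0, hj0⟩) = 1 := by
      have h5 : algebraMap B L (β ⟨j0, hj0⟩) * (c j0 * y j0) = 1 * (c j0 * y j0) := by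
        rw [one_mul]; exact h3.symm
      exact mul_right_cancel₀ hz0 h5
    exact IsFractionRing.injective B L (by rw [h4, map_one])
  have hsum2 : ∑ j : J, β j = 0 := by
    apply IsFractionRing.injective B L
    rw [map_zero, map_sum]
    have h6 : (∑ j : J, algebraMap B L (β j)) * (c j0 * y j0) = 0 := by
      rw [Finset.sum_mul, ← hsum, ← Finset.sum_coe_sort J (fun j => c j * y j)]
      exact Finset.sum_congr rfl (fun j _ => (hβ j).symm)
    exact (mul_eq_zero.mp h6).resolve_right hz0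
  have h7 : (1 : B) ∈ maximalIdeal B := by
    rw [← Finset.add_sum_erase Finset.univ β (Finset.mem_univ ⟨j0, hj0⟩), hβ0] at hsum2
    have h8 : (1 : B) = - ∑ j ∈ Finset.univ.erase (⟨j0, hj0⟩ : J), β j := by
      linear_combination hsum2
    rw [h8]
    refine Ideal.neg_mem_iff _ |>.mpr (Ideal.sum_mem _ (fun j hj => hβnu j ?_))
    intro h
    exact (Finset.ne_of_mem_erase hj) (Subtype.ext h)
  exact (Ideal.ne_top_iff_one _).mp (IsLocalRing.maximalIdeal.isMaximal B).ne_top h7

end
end Groth.Agent.H3Vr
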