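import Mathlib
import Groth.Agent.Lib.helper3.VrA
universe u
namespace Groth.Agent.H3Vr
open IsLocalRing

theorem main7124 (A B K L : Type u) [CommRing A] [IsDomain A]
    [ValuationRing A] [CommRing B] [IsDomain B] [ValuationRing B] [Field K] [Field L]
    [Algebra A K] [IsFractionRing A K] [Algebra B L] [IsFractionRing B L] [Algebra A B] [Algebra K L]
    [Algebra A L] [IsScalarTower A K L] [IsScalarTower A B L] (hinj : Function.Injective (algebraMap A B))
    [IsLocalHom (algebraMap A B)] [FiniteDimensional K L] :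
    let UB : Subgroup Lˣ := (Units.map (algebraMap B L).toMonoidHom).range
    let ΓA : Subgroup (Lˣ ⧸ UB) := ((QuotientGroup.mk' UB).comp (Units.map (algebraMap K L).toMonoidHom)).range
    Module.Finite (IsLocalRing.ResidueField A) (IsLocalRing.ResidueField B) ∧ ΓA.index ≠ 0 ∧
      ΓA.index * Module.finrank (IsLocalRing.ResidueField A) (IsLocalRing.ResidueField B) ≤
        Module.finrank K L := by
  intro UB ΓA
  classical
  have ha : Module.Finite (ResidueField A) (ResidueField B) := by
    rw [← Module.rank_lt_aleph0_iff]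
    refine lt_of_le_of_lt (rank_le (n := Module.finrank K L) ?_) (Cardinal.natCast_lt_aleph0)
    intro s hs
    have h1 : ∀ x : s, ∃ b : B, residue B b = x.1 := fun x => residue_surjective x.1
    choose b hb using h1
    have hli : LinearIndependent (ResidueField A) (fun i : s => residue B (b i)) := by
      have : (fun i : s => residue B (b i)) = fun i : s => (i : ResidueField B) := funext hb
      rw [this]; exact hs
    have h2 := (key A B K L b hli (fun _ : Unit => (1 : L)) (fun _ => one_ne_zero)
      (fun _ _ _ => rfl)).fintype_card_le_finrank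
    simpa using h2
  have hrep : ∀ q : (Lˣ ⧸ UB) ⧸ ΓA, ∃ y : Lˣ,
      (QuotientGroup.mk (QuotientGroup.mk y : Lˣ ⧸ UB) : (Lˣ ⧸ UB) ⧸ ΓA) = q := by
    intro q
    obtain ⟨q1, rfl⟩ := QuotientGroup.mk_surjective q
    obtain ⟨y, rfl⟩ := QuotientGroup.mk_surjective q1
    exact ⟨y, rfl⟩
  choose rep hrep' using hrep
  have hsep : ∀ q q' : (Lˣ ⧸ UB) ⧸ ΓA, (∃ (a : K) (u : B), a ≠ 0 ∧ IsUnit u ∧
      (rep q : L) = rep q' * algebraMap K L a * algebraMap B L u) → q = q' := by
    rintro q q' ⟨a, u, ha0, hu, h⟩
    rw [← hrep' q, ← hrep' q']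
    symm
    rw [QuotientGroup.eq]
    refine ⟨Units.mk0 a ha0, ?_⟩
    change (QuotientGroup.mk (Units.map (algebraMap K L).toMonoidHom (Units.mk0 a ha0)) : Lˣ ⧸ UB) = _
    rw [← QuotientGroup.mk_inv, ← QuotientGroup.mk_mul, QuotientGroup.eq]
    refine ⟨hu.unit, ?_⟩
    apply Units.ext
    have hr : (rep q' : L) ≠ 0 := Units.ne_zero _
    have hane : algebraMap K L a ≠ 0 := (map_ne_zero _).mpr ha0
    simp only [Units.coe_map, RingHom.toMonoidHom_eq_coe, MonoidHom.coe_coe, IsUnit.unit_spec,
      Units.val_mul, Units.val_inv_eq_inv_val, Units.val_mk0, h]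
    field_simp
  have hfinQ : Finite ((Lˣ ⧸ UB) ⧸ ΓA) := by
    refine Fintype.finite (fintypeOfFinsetCardLe (Module.finrank K L) (fun s => ?_))
    have hli : LinearIndependent (ResidueField A) (fun _ : Unit => residue B (1 : B)) := by
      rw [linearIndependent_unique_iff, map_one]; exact one_ne_zero
    have h2 := (key A B K L (fun _ : Unit => (1 : B)) hli (fun j : s => (rep j.1 : L))
      (fun j => Units.ne_zero _) (fun j j' hjj => Subtype.ext (hsep j.1 j'.1 hjj))).fintype_card_le_finrank
    simpa using h2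
  refine ⟨ha, Subgroup.index_ne_zero_of_finite, ?_⟩
  haveI : Fintype ((Lˣ ⧸ UB) ⧸ ΓA) := Fintype.ofFinite _
  obtain ⟨f, hf⟩ : ∃ f, f = Module.finrank (ResidueField A) (ResidueField B) := ⟨_, rfl⟩
  let bs := Module.finBasis (ResidueField A) (ResidueField B)
  have h1 : ∀ i, ∃ b : B, residue B b = bs i := fun i => residue_surjective _
  choose b hb using h1
  have hli : LinearIndependent (ResidueField A) (fun i => residue B (b i)) := by
    have : (fun i => residue B (b i)) = bs := funext hb
    rw [this]; exact bs.linearIndependent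
  have h2 := (key A B K L b hli (fun q : (Lˣ ⧸ UB) ⧸ ΓA => (rep q : L))
    (fun j => Units.ne_zero _) hsep).fintype_card_le_finrank
  rw [Fintype.card_prod, Fintype.card_fin] at h2
  rw [Subgroup.index_eq_card, Nat.card_eq_fintype_card, mul_comm]
  exact h2

end Groth.Agent.H3Vr
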