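import Mathlib
universe u
namespace Groth.Agent.H3Wd

section
variable {A : Type u} [CommRing A]

theorem mk'_dvd_of_dvd (p : Ideal A) [p.IsPrime] (x y : A) (s t : p.primeCompl)
    (hxy : algebraMap A (Localization.AtPrime p) x ∣ algebraMap A (Localization.AtPrime p) y) :
    IsLocalization.mk' (Localization.AtPrime p) x s ∣ IsLocalization.mk' (Localization.AtPrime p) y t := by
  have hs := IsLocalization.map_units (Localization.AtPrime p) s
  have ht := IsLocalization.map_units (Localization.AtPrime p) t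
  rw [← IsLocalization.mk'_spec (Localization.AtPrime p) x s,
    ← IsLocalization.mk'_spec (Localization.AtPrime p) y t, hs.mul_right_dvd, ht.dvd_mul_right] at hxy
  exact hxy

/-- data from flatness of `(x, y)` -/
theorem pair_data (x y : A) (h : Module.Flat A (Ideal.span {x, y})) :
    ∃ α β γ δ : A, x = α * x + β * y ∧ y = γ * x + δ * y ∧ y * α = x * γ := by
  rw [Module.Flat.iff_forall_isTrivialRelation] at h
  have hx : x ∈ Ideal.span {x, y} := Ideal.subset_span (by simp)
  have hy : y ∈ Ideal.span {x, y} := Ideal.subset_span (by simp)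
  have hrel : ∑ i : Fin 2, (![y, -x] i) • (![⟨x, hx⟩, ⟨y, hy⟩] i : Ideal.span {x, y}) = 0 := by
    apply Subtype.ext
    simp [Fin.sum_univ_two]
    ring
  obtain ⟨k, a, yy, h1, h2⟩ := h hrel
  have h3 : ∀ j, ∃ u v : A, u * x + v * y = (yy j : A) := fun j =>
    Ideal.mem_span_pair.mp (yy j).2
  choose u v huv using h3
  have hx1 := congrArg Subtype.val (h1 0)
  have hy1 := congrArg Subtype.val (h1 1)
  simp only [Matrix.cons_val_zero, Matrix.cons_val_one, Submodule.coe_sum, Submodule.coe_smul,
    smul_eq_mul] at hx1 hy1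
  refine ⟨∑ j, a 0 j * u j, ∑ j, a 0 j * v j, ∑ j, a 1 j * u j, ∑ j, a 1 j * v j, ?_, ?_, ?_⟩
  · rw [Finset.sum_mul, Finset.sum_mul, ← Finset.sum_add_distrib]
    conv_lhs => rw [hx1]
    refine Finset.sum_congr rfl (fun j _ => ?_)
    rw [← huv j]; ring
  · rw [Finset.sum_mul, Finset.sum_mul, ← Finset.sum_add_distrib]
    conv_lhs => rw [hy1]
    refine Finset.sum_congr rfl (fun j _ => ?_)
    rw [← huv j]; ring
  · rw [Finset.mul_sum, Finset.mul_sum]
    refine Finset.sum_congr rfl (fun j _ => ?_)
    have := h2 j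
    simp only [Fin.sum_univ_two, Matrix.cons_val_zero, Matrix.cons_val_one] at this
    have h4 : y * a 0 j = x * a 1 j := by linear_combination this
    rw [← mul_assoc, h4, mul_assoc]

theorem single_data (x y' : A) (hxy : y' * x = 0) (h : Module.Flat A (Ideal.span {x})) :
    ∃ β : A, x = β * x ∧ y' * β = 0 := by
  rw [Module.Flat.iff_forall_isTrivialRelation] at h
  have hx : x ∈ Ideal.span {x} := Ideal.mem_span_singleton_self x
  have hrel : ∑ i : Fin 1, (![y'] i) • (![⟨x, hx⟩] i : Ideal.span {x}) = 0 := by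
    apply Subtype.ext
    simp [hxy]
  obtain ⟨k, a, yy, h1, h2⟩ := h hrel
  have h3 : ∀ j, ∃ u : A, u * x = (yy j : A) := fun j =>
    Ideal.mem_span_singleton'.mp (yy j).2
  choose u hu using h3
  have hx1 := congrArg Subtype.val (h1 0)
  simp only [Matrix.cons_val_zero, Submodule.coe_sum, Submodule.coe_smul,
    smul_eq_mul] at hx1
  refine ⟨∑ j, a 0 j * u j, ?_, ?_⟩
  · rw [Finset.sum_mul]
    conv_lhs => rw [hx1]
    refine Finset.sum_congr rfl (fun j _ => ?_)
    rw [← hu j]; ring
  · rw [Finset.mul_sum]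
    refine Finset.sum_eq_zero (fun j _ => ?_)
    have := h2 j
    simp only [Fin.sum_univ_one, Matrix.cons_val_zero] at this
    rw [← mul_assoc, this, zero_mul]

end
end Groth.Agent.H3Wd
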