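import Mathlib
import Groth.Agent.Lib.helper3.WdA
universe u
namespace Groth.Agent.H3Wd

section
variable {A : Type u} [CommRing A]

theorem flat_of_fg_flat (h : ∀ I : Ideal A, I.FG → Module.Flat A I) (I : Ideal A) :
    Module.Flat A I := by
  rw [Module.Flat.iff_forall_isTrivialRelation]
  intro l f x hx
  obtain ⟨I₀, hI₀⟩ : ∃ I₀ : Ideal A, I₀ = Ideal.span (Set.range (fun i => (x i : A))) := ⟨_, rfl⟩
  have hfg : I₀.FG := hI₀ ▸ Submodule.fg_span (Set.finite_range _)
  have hle : I₀ ≤ I := by
    rw [hI₀, Ideal.span_le]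
    rintro _ ⟨i, rfl⟩
    exact (x i).2
  have hmem : ∀ i, (x i : A) ∈ I₀ := fun i => hI₀ ▸ Ideal.subset_span ⟨i, rfl⟩
  have hflat := h I₀ hfg
  rw [Module.Flat.iff_forall_isTrivialRelation] at hflat
  have hrel : ∑ i, f i • (⟨(x i : A), hmem i⟩ : I₀) = 0 := by
    apply Subtype.ext
    have := congrArg Subtype.val hx
    simpa using this
  obtain ⟨k, a, y, h1, h2⟩ := hflat hrel
  refine ⟨k, a, fun j => Submodule.inclusion hle (y j), fun i => ?_, h2⟩
  have e1 : x i = Submodule.inclusion hle ⟨(x i : A), hmem i⟩ := Subtype.ext rfl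
  have h1' : (⟨(x i : A), hmem i⟩ : I₀) = ∑ j, a i j • y j := h1 i
  rw [e1, h1', map_sum]
  refine Finset.sum_congr rfl (fun j _ => ?_)
  rw [map_smul]

theorem val_of_flat (h : ∀ I : Ideal A, Module.Flat A I) (p : Ideal A) [p.IsPrime] :
    ∃ _ : IsDomain (Localization.AtPrime p), ValuationRing (Localization.AtPrime p) := by
  have hdom : NoZeroDivisors (Localization.AtPrime p) := by
    refine ⟨fun {a b} hab => ?_⟩
    obtain ⟨x, s, rfl⟩ := IsLocalization.exists_mk'_eq p.primeCompl a
    obtain ⟨y, t, rfl⟩ := IsLocalization.exists_mk'_eq p.primeCompl b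
    rw [← IsLocalization.mk'_mul, IsLocalization.mk'_eq_zero_iff] at hab
    obtain ⟨w, hw⟩ := hab
    obtain ⟨β, hβ1, hβ2⟩ := single_data x ((w : A) * y) (by rw [← hw]; ring) (h _)
    rcases IsLocalRing.isUnit_or_isUnit_one_sub_self (algebraMap A (Localization.AtPrime p) β) with hu | hu
    · right
      rw [IsLocalization.mk'_eq_zero_iff]
      have h0 : algebraMap A (Localization.AtPrime p) ((w : A) * y) = 0 := by
        have := congrArg (algebraMap A (Localization.AtPrime p)) hβ2
        rw [map_mul, map_zero] at this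
        exact (hu.mul_left_eq_zero).mp this
      obtain ⟨c, hc⟩ := (IsLocalization.map_eq_zero_iff p.primeCompl (Localization.AtPrime p) _).mp h0
      exact ⟨c * w, by rw [Submonoid.coe_mul, mul_assoc]; exact hc⟩
    · left
      rw [IsLocalization.mk'_eq_zero_iff]
      have h0 : algebraMap A (Localization.AtPrime p) x = 0 := by
        have h1 : (1 - β) * x = 0 := by rw [sub_mul, one_mul, ← hβ1, sub_self]
        have := congrArg (algebraMap A (Localization.AtPrime p)) h1
        rw [map_mul, map_sub, map_one, map_zero] at this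
        exact (hu.mul_right_eq_zero).mp this
      exact (IsLocalization.map_eq_zero_iff p.primeCompl (Localization.AtPrime p) _).mp h0
  haveI : IsDomain (Localization.AtPrime p) := NoZeroDivisors.to_isDomain _
  refine ⟨inferInstance, ?_⟩
  rw [ValuationRing.iff_dvd_total]
  refine ⟨fun a b => ?_⟩
  obtain ⟨x, s, rfl⟩ := IsLocalization.exists_mk'_eq p.primeCompl a
  obtain ⟨y, t, rfl⟩ := IsLocalization.exists_mk'_eq p.primeCompl b
  obtain ⟨α, β, γ, δ, h1, h2, h3⟩ := pair_data x y (h _)
  rcases IsLocalRing.isUnit_or_isUnit_one_sub_self (algebraMap A (Localization.AtPrime p) α) with hu | hu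
  · left
    apply mk'_dvd_of_dvd
    have := congrArg (algebraMap A (Localization.AtPrime p)) h3
    rw [map_mul, map_mul] at this
    rw [← hu.dvd_mul_right, this]
    exact Dvd.intro _ rfl
  · right
    apply mk'_dvd_of_dvd
    have h4 : (1 - α) * x = β * y := by rw [sub_mul, one_mul]; linear_combination h1
    have := congrArg (algebraMap A (Localization.AtPrime p)) h4
    rw [map_mul, map_mul, map_sub, map_one] at this
    rw [← hu.dvd_mul_left, this]
    exact Dvd.intro_left _ rfl

theorem sub_flat (h : ∀ (p : Ideal A) [p.IsPrime],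
      ∃ _ : IsDomain (Localization.AtPrime p), ValuationRing (Localization.AtPrime p))
    (M : Type u) [AddCommGroup M] [Module A M] (hM : Module.Flat A M) (N : Submodule A M) :
    Module.Flat A N := by
  apply Module.flat_of_localized_maximal
  intro P hP
  obtain ⟨hd, hv⟩ := h P
  haveI : Module.Flat (Localization.AtPrime P) (LocalizedModule P.primeCompl M) := inferInstance
  haveI : Module.IsTorsionFree (Localization.AtPrime P) (LocalizedModule P.primeCompl M) :=
    inferInstance
  haveI : Module.IsTorsionFree (Localization.AtPrime P) (LocalizedModule P.primeCompl N) :=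
    Function.Injective.moduleIsTorsionFree (LocalizedModule.map P.primeCompl N.subtype)
      (LocalizedModule.map_injective _ _ N.injective_subtype) (fun r m => map_smul _ r m)
  haveI : Module.Flat (Localization.AtPrime P) (LocalizedModule P.primeCompl N) :=
    (Module.Flat.flat_iff_torsion_eq_bot_of_isBezout).mpr
      (Submodule.isTorsionFree_iff_torsion_eq_bot.mp inferInstance)
  exact Module.Flat.trans A (Localization.AtPrime P) (LocalizedModule P.primeCompl N)

theorem main1969 (A : Type u) [CommRing A] :
    List.TFAE [∀ I : Ideal A, Module.Flat A I,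
      ∀ I : Ideal A, I.FG → Module.Flat A I,
      ∀ (M : Type u) [AddCommGroup M] [Module A M], Module.Flat A M → ∀ N : Submodule A M, Module.Flat A N,
      ∀ (p : Ideal A) [p.IsPrime], ∃ _ : IsDomain (Localization.AtPrime p), ValuationRing (Localization.AtPrime p)] := by
  tfae_have 1 → 2 := fun h I _ => h I
  tfae_have 2 → 1 := fun h I => flat_of_fg_flat h I
  tfae_have 3 → 1 := fun h I => h A inferInstance I
  tfae_have 1 → 4 := fun h p _ => val_of_flat h p
  tfae_have 4 → 3 := fun h M _ _ hM N => sub_flat h M hM N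
  tfae_finish

end
end Groth.Agent.H3Wd
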