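import Mathlib

namespace Groth.Agent.H3Zp

open Polynomial

universe u

theorem charpoly_row0 {R : Type*} [CommRing R] (m : ℕ)
    (M : Matrix (Fin (m + 1)) (Fin (m + 1)) R)
    (h0 : M 0 0 = 1) (hrow : ∀ i j, i ≠ 0 → M i j = 0) :
    M.charpoly = (X - 1) * X ^ m := by
  unfold Matrix.charpoly
  rw [Matrix.det_of_isUpperTriangular]
  · rw [Fin.prod_univ_succ, Matrix.charmatrix_apply_eq, h0, map_one]
    congr 1
    rw [Finset.prod_congr rfl (fun i _ => by
      rw [Matrix.charmatrix_apply_eq, hrow _ _ (Fin.succ_ne_zero i), map_zero, sub_zero])]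
    rw [Finset.prod_const, Finset.card_univ, Fintype.card_fin]
  · intro i j hij
    have hij' : j < i := hij
    have hi : i ≠ 0 := by
      intro h; rw [h] at hij'; exact absurd hij' (Fin.not_lt_zero _)
    rw [Matrix.charmatrix_apply_ne _ _ _ (ne_of_gt hij'), hrow i j hi, map_zero, neg_zero]

theorem main6887 (A B : Type u) [CommRing A] [CommRing B]
    [Algebra A B] [Module.Finite A B] (I : Ideal A)
    (B₁ B₂ : Type u) [CommRing B₁] [CommRing B₂] [Algebra A B₁] [Algebra A B₂]
    (e : (B ⧸ I.map (algebraMap A B)) ≃ₐ[A] B₁ × B₂)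
    (h₁ : Function.Surjective (algebraMap A B₁)) (b : B)
    (hb : e (Ideal.Quotient.mk (I.map (algebraMap A B)) b) = (1, 0)) :
    ∃ (f : A[X]) (d : ℕ), f.Monic ∧ Polynomial.aeval b f = 0 ∧ 1 ≤ d ∧
      f.map (Ideal.Quotient.mk I) = (X - 1) * X ^ d := by
  classical
  -- key congruence
  have hkey : ∀ y : B, ∃ a : A, b * y - a • b ∈ I.map (algebraMap A B) := by
    intro y
    obtain ⟨a, ha⟩ := h₁ (e (Ideal.Quotient.mk _ y)).1
    refine ⟨a, ?_⟩
    rw [← Ideal.Quotient.eq_zero_iff_mem, map_sub, sub_eq_zero]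
    apply e.injective
    have h1 : Ideal.Quotient.mk (I.map (algebraMap A B)) (a • b) =
        a • Ideal.Quotient.mk (I.map (algebraMap A B)) b := rfl
    rw [map_mul, map_mul, h1, map_smul, hb]
    ext
    · simp [ha, Algebra.smul_def]
    · simp
  have hsq : b * b - (1 : A) • b ∈ I.map (algebraMap A B) := by
    rw [← Ideal.Quotient.eq_zero_iff_mem, map_sub, sub_eq_zero, one_smul]
    apply e.injective
    rw [map_mul, map_mul, hb]
    ext <;> simp
  obtain ⟨n, s, hs⟩ := Module.Finite.exists_fin (R := A) (M := B)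
  let γ : Fin (n + 1 + 1) → B := Fin.cons b (Fin.cons 0 s)
  have hγ0 : γ 0 = b := rfl
  have hγ : Submodule.span A (Set.range γ) = ⊤ := by
    rw [eq_top_iff, ← hs]
    apply Submodule.span_mono
    rintro _ ⟨i, rfl⟩
    exact ⟨i.succ.succ, rfl⟩
  have hcoef : ∀ j : Fin (n + 1 + 1), ∃ a : A, (j = 0 → a = 1) ∧
      b * γ j - a • b ∈ I.map (algebraMap A B) := by
    intro j
    by_cases hj : j = 0
    · subst hj
      exact ⟨1, fun _ => rfl, hsq⟩
    · obtain ⟨a, ha⟩ := hkey (γ j)
      exact ⟨a, fun h => absurd h hj, ha⟩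
  choose ac hac1 hac using hcoef
  have hmem : ∀ j, b * γ j - ac j • b ∈ I • Submodule.span A (Set.range γ) := by
    intro j
    rw [hγ, Ideal.smul_top_eq_map]
    exact hac j
  have hex : ∀ j, ∃ c : Fin (n + 1 + 1) → A, (∀ i, c i ∈ I) ∧
      ∑ i, c i • γ i = b * γ j - ac j • b := by
    intro j
    obtain ⟨c, hcI, hc⟩ := (Submodule.mem_ideal_smul_span_iff_exists_sum I γ _).mp (hmem j)
    refine ⟨c, hcI, ?_⟩
    rw [← hc, Finsupp.sum_fintype]
    intro i; exact zero_smul _ _
  choose c hcI hc using hex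
  let Amat : Matrix (Fin (n + 1 + 1)) (Fin (n + 1 + 1)) A :=
    fun i j => (if i = 0 then ac j else 0) + c j i
  have hrep : Amat.Represents γ (Algebra.lmul A B b) := by
    rw [Matrix.represents_iff']
    intro j
    show ∑ i, ((if i = 0 then ac j else 0) + c j i) • γ i = b * γ j
    simp_rw [add_smul]
    rw [Finset.sum_add_distrib, hc j]
    simp only [ite_smul, zero_smul, Finset.sum_ite_eq', Finset.mem_univ, if_true]
    rw [hγ0]; abel
  let Arep : Matrix.isRepresentation A γ := ⟨Amat, ⟨_, hrep⟩⟩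
  have hto : Matrix.isRepresentation.toEnd A γ hγ Arep = Algebra.lmul A B b :=
    Matrix.isRepresentation.eq_toEnd_of_represents A γ hγ Arep hrep
  have hzero : Polynomial.aeval (Algebra.lmul A B b) Amat.charpoly = 0 := by
    rw [← hto, Polynomial.aeval_algHom_apply,
      ← map_zero (Matrix.isRepresentation.toEnd A γ hγ)]
    congr 1
    ext1
    rw [Polynomial.aeval_subalgebra_coe, Matrix.aeval_self_charpoly, Subalgebra.coe_zero]
  refine ⟨Amat.charpoly, n + 1, Matrix.charpoly_monic _, ?_, Nat.le_add_left 1 n, ?_⟩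
  · rw [Polynomial.aeval_algHom_apply] at hzero
    have := LinearMap.congr_fun hzero 1
    rw [LinearMap.zero_apply] at this
    rw [← this]
    exact (mul_one _).symm
  · rw [← Matrix.charpoly_map]
    apply charpoly_row0
    · show Ideal.Quotient.mk I ((if (0 : Fin (n + 1 + 1)) = 0 then ac 0 else 0) + c 0 0) = 1
      rw [if_pos rfl, hac1 0 rfl, map_add, map_one,
        Ideal.Quotient.eq_zero_iff_mem.mpr (hcI 0 0), add_zero]
    · intro i j hi
      show Ideal.Quotient.mk I ((if i = 0 then ac j else 0) + c j i) = 0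
      rw [if_neg hi, zero_add, Ideal.Quotient.eq_zero_iff_mem.mpr (hcI j i)]

end Groth.Agent.H3Zp
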